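import Mathlib
import Cfsg.Agent.H8.Perm2

set_option autoImplicit false

namespace CfsgH8
open Subgroup

/-- `T^(m+n) ≃ T^m × T^n` -/
def finAddMulEquiv (T : Type*) [Group T] (m n : ℕ) : (Fin (m + n) → T) ≃* (Fin m → T) × (Fin n → T) :=
  (MulEquiv.arrowCongr finSumFinEquiv.symm (MulEquiv.refl T)).trans
    { Equiv.sumArrowEquivProdArrow _ _ T with map_mul' := fun _ _ => rfl }

theorem sup_equiv_prod {N : Type*} [Group N] (A B : Subgroup N) (hc : ∀ a ∈ A, ∀ b ∈ B, a * b = b * a)
    (hd : A ⊓ B = ⊥) : Nonempty (↥(A ⊔ B) ≃* A × B) := by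
  have h0 : ∀ (a : A) (b : B), Commute (A.subtype a) (B.subtype b) := fun a b => hc a a.2 b b.2
  have h1 := (MonoidHom.noncommCoprod_injective A.subtype B.subtype h0).2 ⟨A.subtype_injective, B.subtype_injective, by
      simpa [disjoint_iff] using hd⟩
  exact ⟨((MonoidHom.ofInjective h1).trans (MulEquiv.subgroupCongr (by
    simp [MonoidHom.noncommCoprod_range]))).symm⟩

theorem eq_top_of_conjNormal {G : Type*} [Group G] {N : Subgroup G} [N.Normal]
    (hmin : ∀ M : Subgroup G, M.Normal → M ≤ N → M = ⊥ ∨ M = N) (L : Subgroup N) (hL : L ≠ ⊥)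
    (h : ∀ g : G, ∀ x ∈ L, MulAut.conjNormal g x ∈ L) : L = ⊤ := by
  rcases hmin (L.map N.subtype) ⟨by
    rintro _ ⟨x, hx, rfl⟩ g
    exact ⟨_, h g x hx, rfl⟩⟩ (map_subtype_le L) with h1 | h1
  · exact absurd ((map_eq_bot_iff_of_injective _ N.subtype_injective).1 h1) hL
  · exact map_injective N.subtype_injective (by rw [h1, ← MonoidHom.range_eq_map]; simp)

/-- a minimal normal subgroup is a power of a simple group -/
theorem min_normal_pow {H : Type*} [Group H] [Finite H] (N : Subgroup H) [N.Normal] (hN : N ≠ ⊥)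
    (hmin : ∀ M : Subgroup H, M.Normal → M ≤ N → M = ⊥ ∨ M = N) :
    ∃ (T : Type) (_ : Group T) (m : ℕ), IsSimpleGroup T ∧ 0 < m ∧ Nonempty (N ≃* (Fin m → T)) := by
  haveI : Nontrivial N := (nontrivial_iff_ne_bot N).2 hN
  obtain ⟨M, ⟨hM, hM1⟩, hm⟩ := Set.exists_min_image {M : Subgroup N | M.Normal ∧ M ≠ ⊥}
    (fun M => Nat.card M) (Set.toFinite _) ⟨⊤, inferInstance, top_ne_bot⟩
  let c : H → Subgroup N := fun g => M.map (MulAut.conjNormal g : MulAut N)
  have hcn : ∀ g, (c g).Normal := fun g => hM.map _ (MulEquiv.surjective _)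
  have hcc : ∀ g, Nat.card (c g) = Nat.card M := fun g => card_map_of_injective (MulEquiv.injective _)
  have hd : ∀ g (L : Subgroup N), L.Normal → ¬ c g ≤ L → L ⊓ c g = ⊥ := fun g L hL h => by
    by_contra h'
    have := hm (L ⊓ c g) ⟨haveI := hcn g; inferInstance, h'⟩
    exact h (inf_eq_right.1 (eq_of_le_of_card_ge inf_le_right (hcc g ▸ this)))
  have htop : ∀ L : Subgroup N, (∀ g, c g ≤ L) → L = ⊤ := fun L h => by
    refine top_le_iff.1 ((eq_top_of_conjNormal hmin (⨆ g, c g) (fun h => hM1 ?_) fun g x hx => ?_).ge.trans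
      (iSup_le h))
    · exact (map_eq_bot_iff_of_injective _ (MulEquiv.injective _)).1 (le_bot_iff.1 ((le_iSup c 1).trans h.le))
    · refine (show (⨆ g, c g) ≤ (⨆ g, c g).comap (MulAut.conjNormal g : MulAut N).toMonoidHom from
        iSup_le fun u => ?_) hx
      rintro _ ⟨y, hy, rfl⟩
      exact le_iSup c (g * u) ⟨y, hy, by simp⟩
  have hsimple : IsSimpleGroup M := by
    haveI := (nontrivial_iff_ne_bot M).2 hM1
    refine ⟨fun L hL => ?_⟩
    have h1 : normalizer (L.map M.subtype : Set N) = ⊤ := htop _ fun g => by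
      by_cases h : c g ≤ M
      · refine h.trans fun x hx => mem_normalizer_fintype ?_
        rintro _ ⟨y, hy, rfl⟩
        exact ⟨_, hL.conj_mem y hy ⟨x, hx⟩, rfl⟩
      · refine fun x hx => mem_normalizer_fintype ?_
        rintro _ ⟨y, hy, rfl⟩
        exact ⟨y, hy, eq_mul_inv_of_mul_eq (commute_of_normal_of_disjoint M (c g) hM (hcn g)
          (disjoint_iff.2 (hd g M hM h)) y x y.2 hx).eq⟩
    by_cases h : L = ⊥
    · exact Or.inl h
    have := hm _ ⟨normalizer_eq_top_iff.1 h1,
      fun h' => h ((map_eq_bot_iff_of_injective _ M.subtype_injective).1 h')⟩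
    simp only [card_map_of_injective M.subtype_injective] at this
    exact Or.inr (eq_of_le_of_card_ge le_top (by simpa using this))
  obtain ⟨L, ⟨hL, m, ⟨e⟩⟩, hmax⟩ := Set.exists_max_image
    {L : Subgroup N | L.Normal ∧ ∃ m, Nonempty (L ≃* (Fin m → M))} (fun L => Nat.card L) (Set.toFinite _)
    ⟨⊥, inferInstance, 0, ⟨MulEquiv.ofUnique⟩⟩
  obtain rfl := htop L fun g => by
    by_contra h
    haveI := hcn g
    obtain ⟨f⟩ := sup_equiv_prod L (c g) (fun a ha b hb => (commute_of_normal_of_disjoint L (c g) hL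
      (hcn g) (disjoint_iff.2 (hd g L hL h)) a b ha hb).eq) (hd g L hL h)
    have := hmax (L ⊔ c g) ⟨inferInstance, m + 1, ⟨f.trans ((e.prodCongr
      ((M.equivMapOfInjective _ (MulEquiv.injective _)).symm.trans (MulEquiv.funUnique (Fin 1) M).symm)).trans
      (finAddMulEquiv M m 1).symm)⟩⟩
    exact h (le_sup_right.trans (eq_of_le_of_card_ge le_sup_left this).ge)
  refine ⟨Shrink.{0} M, inferInstance, m, (Shrink.mulEquiv.{0} (α := M)).isSimpleGroup, ?_,
    ⟨topEquiv.symm.trans (e.trans (MulEquiv.arrowCongr (Equiv.refl _) (Shrink.mulEquiv.{0} (α := M)).symm))⟩⟩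
  rcases m with _ | m
  · exact absurd (topEquiv.symm.trans e).toEquiv.subsingleton (not_subsingleton N)
  · omega

section Simple
variable {T : Type*} [Group T] [IsSimpleGroup T] (hT : ¬ IsMulCommutative T)
include hT

theorem eq_one_of_central {t : T} (h : ∀ u, t * u = u * t) : t = 1 := by
  rcases (inferInstance : (center T).Normal).eq_bot_or_eq_top with h1 | h1
  · exact mem_bot.1 (h1 ▸ mem_center_iff.2 fun u => (h u).symm)
  · exact absurd ⟨⟨fun a b => mem_center_iff.1 (h1 ▸ mem_top b) a⟩⟩ hT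

theorem aut_pi {ι : Type*} [Fintype ι] [DecidableEq ι] (f : (ι → T) →* T) (hf : Function.Surjective f) :
    ∃ (i : ι) (α : T ≃* T), ∀ x, f x = α (x i) := by
  have hprod : ∀ (s : Finset ι) (x : ι → T), (∀ j ∉ s, x j = 1) → (∀ j ∈ s, ∀ t, f (Pi.mulSingle j t) = 1) →
      f x = 1 := by
    intro s
    induction s using Finset.induction_on with
    | empty => intro x h _; rw [show x = 1 from funext fun j => h j (by simp), map_one]
    | insert j s hj ih =>
      intro x h1 h2
      have : x = Pi.mulSingle j (x j) * Function.update x j 1 := funext fun k => by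
        by_cases hk : k = j <;> simp [hk]
      rw [this, map_mul, h2 j (by simp), ih _ (fun k hk => ?_) fun k hk => h2 k (by simp [hk]), one_mul]
      by_cases hkj : k = j
      · simp [hkj]
      · simp [hkj, h1 k (by simp [hk, hkj])]
  obtain ⟨i, t, ht⟩ : ∃ i t, f (Pi.mulSingle i t) ≠ 1 := by
    by_contra h
    push Not at h
    obtain ⟨t, ht⟩ := exists_ne (1 : T)
    obtain ⟨x, rfl⟩ := hf t
    exact ht (hprod Finset.univ x (by simp) fun j _ => h j)
  let g : T →* T := f.comp (MonoidHom.mulSingle (fun _ => T) i)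
  have hg : Function.Injective g := (MonoidHom.ker_eq_bot_iff g).1
    ((inferInstance : g.ker.Normal).eq_bot_or_eq_top.resolve_right fun h => ht (h ▸ mem_top t : t ∈ g.ker))
  have hs : Function.Surjective g := MonoidHom.range_eq_top.1 ((show g.range.Normal from ⟨by
    rintro _ ⟨u, rfl⟩ v
    obtain ⟨x, rfl⟩ := hf v
    refine ⟨x i * u * (x i)⁻¹, ?_⟩
    simp only [g, MonoidHom.comp_apply, MonoidHom.mulSingle_apply, ← map_inv, ← map_mul]
    congr 1
    ext k
    by_cases hk : k = i <;> simp [hk]⟩).eq_bot_or_eq_top.resolve_left fun h =>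
      ht (mem_bot.1 (h ▸ ⟨t, rfl⟩)))
  refine ⟨i, MulEquiv.ofBijective g ⟨hg, hs⟩, fun x => ?_⟩
  have : x = Pi.mulSingle i (x i) * Function.update x i 1 := funext fun k => by
    by_cases hk : k = i <;> simp [hk]
  nth_rw 1 [this]
  rw [map_mul, hprod (Finset.univ.erase i) (Function.update x i 1) (by simp) fun j hj u => ?_, mul_one]
  · rfl
  refine eq_one_of_central hT fun v => ?_
  obtain ⟨v, rfl⟩ := hs v
  simp only [g, MonoidHom.comp_apply, MonoidHom.mulSingle_apply, ← map_mul]
  rw [(Pi.mulSingle_commute (f := fun _ => T) (Finset.ne_of_mem_erase hj) u v).eq]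

/-- Chinese remainder theorem for non-abelian simple quotients -/
theorem crt_simple {R ι : Type*} [Group R] (f : ι → R →* T) (hf : ∀ i, Function.Surjective (f i))
    (s : Finset ι) (hs : ∀ i ∈ s, ∀ j ∈ s, (f i).ker = (f j).ker → i = j) (t : ι → T) :
    ∃ r, ∀ i ∈ s, f i r = t i := by
  classical
  have hle : ∀ i j, (f i).ker ≤ (f j).ker → (f i).ker = (f j).ker := fun i j h => by
    rcases ((inferInstance : (f j).ker.Normal).map _ (hf i)).eq_bot_or_eq_top with h1 | h1
    · exact le_antisymm h ((Subgroup.map_eq_bot_iff _).1 h1)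
    · obtain ⟨u, hu⟩ := exists_ne (1 : T)
      obtain ⟨r, rfl⟩ := hf j u
      obtain ⟨r', h2, h3⟩ : f i r ∈ (f j).ker.map (f i) := h1 ▸ mem_top _
      have := h (show r'⁻¹ * r ∈ (f i).ker by simp [h3])
      rw [MonoidHom.mem_ker, map_mul, map_inv, show f j r' = 1 from h2] at this
      exact absurd (by simpa using this) hu
  have key : ∀ i, ∀ s : Finset ι, (∀ j ∈ s, (f j).ker ≠ (f i).ker) →
      (s.inf fun j => (f j).ker).map (f i) = ⊤ := by
    intro i s
    induction s using Finset.induction_on with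
    | empty => intro _; simpa [← MonoidHom.range_eq_map, MonoidHom.range_eq_top] using hf i
    | insert j s hj ih =>
      intro h
      have h1 : (f j).ker.map (f i) = ⊤ :=
        ((inferInstance : (f j).ker.Normal).map _ (hf i)).eq_bot_or_eq_top.resolve_left fun h' =>
          h j (by simp) (hle j i ((Subgroup.map_eq_bot_iff _).1 h'))
      haveI : (s.inf fun j => (f j).ker).Normal := ⟨fun n hn g => by
        simp only [Finset.inf_eq_iInf, mem_iInf] at hn ⊢
        exact fun k hk => Normal.conj_mem inferInstance _ (hn k hk) g⟩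
      have h2 := map_mono (f := f i) (commutator_le_inf (f j).ker (s.inf fun j => (f j).ker))
      rw [map_commutator, h1, ih fun k hk => h k (by simp [hk])] at h2
      rw [Finset.inf_insert]
      refine top_le_iff.1 (le_trans ?_ h2)
      rcases (inferInstance : (_root_.commutator T).Normal).eq_bot_or_eq_top with h3 | h3
      · exact absurd ⟨⟨fun a b => commutatorElement_eq_one_iff_mul_comm.1
          (mem_bot.1 (h3 ▸ commutator_mem_commutator (mem_top a) (mem_top b)))⟩⟩ hT
      · exact h3.ge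
  induction s using Finset.induction_on with
  | empty => exact ⟨1, by simp⟩
  | insert i s hi ih =>
    obtain ⟨r, hr⟩ := ih fun a ha b hb => hs a (by simp [ha]) b (by simp [hb])
    obtain ⟨u, h1, h2⟩ : t i * (f i r)⁻¹ ∈ (s.inf fun j => (f j).ker).map (f i) := by
      rw [key i s fun j hj h => hi (hs j (by simp [hj]) i (by simp) h ▸ hj)]; trivial
    refine ⟨u * r, fun j hj => ?_⟩
    rcases Finset.mem_insert.1 hj with rfl | hj
    · simp [h2]
    · simp only [Finset.inf_eq_iInf, SetLike.mem_coe, mem_iInf] at h1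
      rw [map_mul, show f j u = 1 from h1 j hj, hr j hj, one_mul]

end Simple

section Two
variable {G α : Type*} [Group G] [MulAction G α] [FaithfulSMul G α] {M N : Subgroup G}
open MulAction

theorem mem_of_cent [IsPretransitive M α] [IsPretransitive N α] (a : α)
    (hc : ∀ x ∈ M, ∀ y ∈ N, x * y = y * x) {x : G} (hx : ∀ y ∈ M, y * x = x * y) : x ∈ N := by
  obtain ⟨y, hy⟩ := exists_smul_eq N a (x • a)
  have := centralizer_semiregular M (c := (y : G)⁻¹ * x) (a := a) (fun m hm => by
    rw [← mul_assoc, hc m hm _ (inv_mem y.2), mul_assoc, hx m hm, mul_assoc])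
    (by rw [mul_smul, ← hy]; exact inv_smul_smul _ _)
  exact inv_mul_eq_one.1 this ▸ y.2

theorem equiv_of_cent [hMt : IsPretransitive M α] [hNt : IsPretransitive N α] (a : α)
    (hc : ∀ x ∈ M, ∀ y ∈ N, x * y = y * x) : Nonempty (M ≃* N) := by
  have hrM : stabilizer M a = ⊥ := (eq_bot_iff_forall _).2 fun g hg => Subtype.ext
      (centralizer_semiregular N (fun m hm => (hc g g.2 m hm).symm) hg)
  have hrN : stabilizer N a = ⊥ := (eq_bot_iff_forall _).2 fun g hg => Subtype.ext
      (centralizer_semiregular M (fun m hm => hc m hm g g.2) hg)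
  have : ∀ m : M, ∃ n : N, ((n : G)⁻¹ • a : α) = (m : G) • a := fun m => by
    obtain ⟨n, hn⟩ := hNt.exists_smul_eq ((m : G) • a) a
    exact ⟨n, inv_smul_eq_iff.2 hn.symm⟩
  choose f hf using this
  have hu : ∀ (m : M) (n : N), ((n : G)⁻¹ • a : α) = (m : G) • a → f m = n := fun m n h =>
    Subtype.ext (inv_injective (eq_of_regular hrN (N.inv_mem (f m).2) (N.inv_mem n.2)
      ((hf m).trans h.symm)))
  refine ⟨MulEquiv.ofBijective (MonoidHom.mk' f fun x y => hu _ _ ?_) ⟨fun x y h => ?_, fun n => ?_⟩⟩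
  · rw [coe_mul, coe_mul, mul_inv_rev, mul_smul, hf, ← mul_smul,
      ← hc _ x.2 _ (N.inv_mem (f y).2), mul_smul, hf, mul_smul]
  · exact Subtype.ext (eq_of_regular hrM x.2 y.2 (by rw [← hf, ← hf, show f x = f y from h]))
  · obtain ⟨m, hm⟩ := hMt.exists_smul_eq a ((n : G)⁻¹ • a)
    exact ⟨m, hu m n hm.symm⟩

end Two

end CfsgH8
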