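import Mathlib
import Cfsg.Agent.H9.Syl

/-! Wreath products `C_p ≀ Q` inside symmetric groups; Sylow subgroups of symmetric groups. -/

set_option autoImplicit false
set_option linter.unusedSectionVars false

namespace CfsgH8

open Subgroup Equiv Equiv.Perm CfsgH9

variable {ι α : Type*} [Fintype ι] [DecidableEq ι] [Fintype α] [DecidableEq α] {p : ℕ} [hp : Fact p.Prime]

/-- translations in the blocks -/
def wtr (f : ι → ZMod p) : Perm (ι × ZMod p) := Equiv.prodCongrRight fun i => Equiv.addRight (f i)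

@[simp] theorem wtr_apply (f : ι → ZMod p) (i : ι) (x : ZMod p) : wtr f (i, x) = (i, x + f i) := rfl

theorem wtr_add (f g : ι → ZMod p) : wtr (f + g) = wtr f * wtr g := by
  ext ⟨i, x⟩ <;> simp [add_comm, add_left_comm]

theorem wtr_zero : wtr (0 : ι → ZMod p) = 1 := by
  ext ⟨i, x⟩ <;> simp

theorem wtr_neg (f : ι → ZMod p) : wtr (-f) = (wtr f)⁻¹ := by
  rw [eq_inv_iff_mul_eq_one, ← wtr_add, neg_add_cancel, wtr_zero]

theorem wtr_pow (f : ι → ZMod p) (n : ℕ) : wtr f ^ n = wtr (n • f) := by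
  induction n with
  | zero => simp [wtr_zero]
  | succ n ih => rw [pow_succ, ih, succ_nsmul, wtr_add]

theorem wtr_pow_p (f : ι → ZMod p) : wtr f ^ p = 1 := by
  rw [wtr_pow, ← wtr_zero]; congr 1; ext i; simp

theorem wtr_comm (f g : ι → ZMod p) : wtr f * wtr g = wtr g * wtr f := by
  rw [← wtr_add, ← wtr_add, add_comm]

/-- permutations of the blocks -/
def wdl (p : ℕ) : Perm ι →* Perm (ι × ZMod p) where
  toFun σ := Equiv.prodCongrLeft fun _ => σ
  map_one' := by ext ⟨i, x⟩ <;> rfl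
  map_mul' _ _ := by ext ⟨i, x⟩ <;> rfl

@[simp] theorem wdl_apply (σ : Perm ι) (i : ι) (x : ZMod p) : wdl p σ (i, x) = (σ i, x) := rfl

theorem sign_wdl (σ : Perm ι) : sign (wdl p σ) = sign σ ^ p := by
  have : NeZero p := ⟨hp.out.ne_zero⟩
  show sign (Equiv.prodCongrLeft fun _ : ZMod p => σ) = _
  rw [sign_prodCongrLeft]; simp

/-- scalings in the blocks -/
def wdg : (ι → (ZMod p)ˣ) →* Perm (ι × ZMod p) where
  toFun u := Equiv.prodCongrRight fun i => Units.mulLeft (u i)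
  map_one' := by ext ⟨i, x⟩ <;> simp
  map_mul' _ _ := by ext ⟨i, x⟩ <;> simp [mul_assoc]

@[simp] theorem wdg_apply (u : ι → (ZMod p)ˣ) (i : ι) (x : ZMod p) : wdg u (i, x) = (i, (u i : ZMod p) * x) := rfl

theorem wdl_wtr (σ : Perm ι) (f : ι → ZMod p) : wdl p σ * wtr f = wtr (fun i => f (σ⁻¹ i)) * wdl p σ := by
  ext ⟨i, x⟩ <;> simp

/-- the wreath product `C_p ≀ Q` -/
def Wr (p : ℕ) [Fact p.Prime] (Q : Subgroup (Perm ι)) : Subgroup (Perm (ι × ZMod p)) where
  carrier := {g | ∃ σ ∈ Q, ∃ f, g = wtr f * wdl p σ}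
  one_mem' := ⟨1, one_mem _, 0, by rw [wtr_zero, map_one, mul_one]⟩
  mul_mem' := by
    rintro _ _ ⟨σ, hσ, f, rfl⟩ ⟨τ, hτ, g, rfl⟩
    refine ⟨σ * τ, mul_mem hσ hτ, f + fun i => g (σ⁻¹ i), ?_⟩
    rw [wtr_add, map_mul, mul_assoc, ← mul_assoc (wdl p σ), wdl_wtr]; simp only [mul_assoc]
  inv_mem' := by
    rintro _ ⟨σ, hσ, f, rfl⟩
    refine ⟨σ⁻¹, inv_mem hσ, fun i => (-f) (σ⁻¹⁻¹ i), ?_⟩
    rw [← wdl_wtr, wtr_neg, map_inv, mul_inv_rev]

theorem mem_Wr {Q : Subgroup (Perm ι)} {g : Perm (ι × ZMod p)} :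
    g ∈ Wr p Q ↔ ∃ σ ∈ Q, ∃ f, g = wtr f * wdl p σ := Iff.rfl

theorem wtr_mem (Q : Subgroup (Perm ι)) (f : ι → ZMod p) : wtr f ∈ Wr p Q :=
  ⟨1, one_mem _, f, by rw [map_one, mul_one]⟩

theorem wdl_mem {Q : Subgroup (Perm ι)} {σ : Perm ι} (h : σ ∈ Q) : wdl p σ ∈ Wr p Q :=
  ⟨σ, h, 0, by rw [wtr_zero, one_mul]⟩

theorem mem_Wr_bot {g : Perm (ι × ZMod p)} : g ∈ Wr p ⊥ ↔ ∃ f, g = wtr f :=
  ⟨fun ⟨σ, hσ, f, e⟩ => ⟨f, by rw [e, mem_bot.1 hσ, map_one, mul_one]⟩, fun ⟨f, e⟩ => e ▸ wtr_mem _ f⟩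

theorem Wr_mono {Q Q' : Subgroup (Perm ι)} (h : Q ≤ Q') : Wr p Q ≤ Wr p Q' :=
  fun _ ⟨σ, hσ, f, e⟩ => ⟨σ, h hσ, f, e⟩

theorem card_Wr (Q : Subgroup (Perm ι)) : Nat.card (Wr p Q) = Nat.card Q * p ^ Fintype.card ι := by
  have : NeZero p := ⟨hp.out.ne_zero⟩
  have : Nat.card (Q × (ι → ZMod p)) = Nat.card (Wr p Q) := by
    refine Nat.card_eq_of_bijective (fun x => ⟨wtr x.2 * wdl p x.1, x.1.1, x.1.2, x.2, rfl⟩) ⟨?_, ?_⟩
    · rintro ⟨⟨σ, hσ⟩, f⟩ ⟨⟨τ, hτ⟩, g⟩ h
      have h1 : ∀ i, (wtr f * wdl p σ) (i, 0) = (wtr g * wdl p τ) (i, 0) := fun i => by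
        rw [show wtr f * wdl p σ = wtr g * wdl p τ from congrArg Subtype.val h]
      simp only [Perm.mul_apply, wdl_apply, wtr_apply, Prod.mk.injEq, zero_add] at h1
      have : σ = τ := Equiv.ext fun i => (h1 i).1
      subst this
      refine Prod.ext rfl (funext fun i => ?_)
      simpa using (h1 (σ⁻¹ i)).2
    · rintro ⟨_, σ, hσ, f, rfl⟩
      exact ⟨⟨⟨σ, hσ⟩, f⟩, rfl⟩
  rw [← this, Nat.card_prod, Nat.card_fun, Nat.card_zmod, Nat.card_eq_fintype_card (α := ι)]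

theorem sign_via {β : Type*} [Fintype β] [DecidableEq β] (φ : β ↪ α) (g : Perm β) :
    sign (viaEmbeddingHom φ g) = sign g := by
  classical
  rw [viaEmbeddingHom_apply, viaEmbedding]
  convert sign_extendDomain g (ofInjective φ.1 φ.2)

theorem via_apply {β : Type*} (φ : β ↪ α) (g : Perm β) (x : β) : viaEmbeddingHom φ g (φ x) = φ (g x) :=
  viaEmbedding_apply g φ x

theorem via_apply' {β : Type*} (φ : β ↪ α) (g : Perm β) {x : α} (hx : x ∉ Set.range φ) :
    viaEmbeddingHom φ g x = x := viaEmbedding_apply_of_notMem g φ x hx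

theorem support_via {β : Type*} [Fintype β] [DecidableEq β] (φ : β ↪ α) (g : Perm β) :
    (viaEmbeddingHom φ g).support.card = g.support.card := by
  classical
  rw [viaEmbeddingHom_apply, viaEmbedding]
  convert card_support_extend_domain (ofInjective φ.1 φ.2) (g := g)

theorem syl_Wr (φ : ι × ZMod p ↪ α) (h : Fintype.card α < p * Fintype.card ι + p) {Q : Subgroup (Perm ι)}
    (hQ : Syl p Q ⊤) : Syl p ((Wr p Q).map (viaEmbeddingHom φ)) ⊤ := by
  have : NeZero p := ⟨hp.out.ne_zero⟩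
  obtain ⟨P⟩ : Nonempty (Sylow p (Perm α)) := inferInstance
  obtain ⟨P', hP'⟩ := hQ.toSylowTop
  have h1 : p * Fintype.card ι ≤ Fintype.card α := by
    have := Fintype.card_le_of_embedding φ
    rwa [Fintype.card_prod, ZMod.card, mul_comm] at this
  have c1 : Nat.card Q = p ^ padicValNat p (Fintype.card ι).factorial := by
    rw [← hP', P'.card_eq_multiplicity, Nat.card_perm, Nat.factorization_def _ hp.out, Nat.card_eq_fintype_card]
  have c2 : Nat.card P = p ^ (padicValNat p (Fintype.card ι).factorial + Fintype.card ι) := by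
    rw [P.card_eq_multiplicity, Nat.card_perm, Nat.factorization_def _ hp.out, Nat.card_eq_fintype_card,
      ← padicValNat_factorial_mul, ← padicValNat_factorial_mul_add (n := Fintype.card α - p * Fintype.card ι) _ (by omega),
      Nat.add_sub_cancel' h1]
  have c3 : Nat.card ((Wr p Q).map (viaEmbeddingHom φ)) = p ^ (padicValNat p (Fintype.card ι).factorial + Fintype.card ι) := by
    rw [card_map_of_injective (viaEmbeddingHom_injective φ), card_Wr, c1, pow_add]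
  exact (syl_top P).of_card_le (IsPGroup.of_card c3) le_top (by rw [c2, c3])

theorem exists_frame (p : ℕ) [Fact p.Prime] (α : Type*) [Fintype α] :
    Nonempty (Fin (Fintype.card α / p) × ZMod p ↪ α) := by
  have : NeZero p := ⟨(Fact.out : p.Prime).ne_zero⟩
  refine Function.Embedding.nonempty_of_card_le ?_
  rw [Fintype.card_prod, ZMod.card, Fintype.card_fin]
  exact Nat.div_mul_le_self _ _

theorem frame_lt (p : ℕ) [Fact p.Prime] (α : Type*) [Fintype α] :
    Fintype.card α < p * Fintype.card (Fin (Fintype.card α / p)) + p := by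
  rw [Fintype.card_fin]
  have := Nat.div_add_mod (Fintype.card α) p
  have := Nat.mod_lt (Fintype.card α) (Fact.out : p.Prime).pos
  omega

/-- Sylow subgroups of symmetric groups are generated by elements of order `p`. -/
theorem syl_perm_gen (n : ℕ) : ∀ (α : Type) [Fintype α] [DecidableEq α], Fintype.card α = n →
    ∀ Q : Subgroup (Perm α), Syl p Q ⊤ → Q ≤ closure {g | g ∈ Q ∧ g ^ p = 1} := by
  induction n using Nat.strong_induction_on with
  | _ n ih =>
  intro α _ _ hn Q hQ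
  rcases Nat.eq_zero_or_pos n with rfl | h0
  · have := Fintype.card_eq_zero_iff.1 hn
    intro g _
    rw [Subsingleton.elim g 1]; exact one_mem _
  obtain ⟨φ⟩ := exists_frame p α
  obtain ⟨P⟩ : Nonempty (Sylow p (Perm (Fin (Fintype.card α / p)))) := inferInstance
  have h1 := syl_Wr φ (frame_lt p α) (syl_top P)
  have h2 := ih _ (by rw [hn]; exact Nat.div_lt_self h0 hp.out.one_lt) _ (Fintype.card_fin _) _ (syl_top P)
  obtain ⟨a, -, rfl⟩ := hQ.conj_eq h1
  set θ := (MulAut.conj a).toMonoidHom.comp (viaEmbeddingHom φ)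
  rw [map_map]
  rintro _ ⟨_, ⟨σ, hσ, f, rfl⟩, rfl⟩
  rw [map_mul]
  refine mul_mem (subset_closure ⟨mem_map_of_mem _ (wtr_mem _ f), by rw [← map_pow, wtr_pow_p, map_one]⟩) ?_
  have : closure {g | g ∈ P.1 ∧ g ^ p = 1} ≤ (closure {g | g ∈ (Wr p P.1).map θ ∧ g ^ p = 1}).comap (θ.comp (wdl p)) :=
    (closure_le _).2 fun g hg => subset_closure ⟨mem_map_of_mem _ (wdl_mem hg.1), by
      rw [← map_pow, hg.2, map_one]⟩
  exact this (h2 hσ)

theorem support_wtr (f : ι → ZMod p) :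
    (wtr f).support.card = (Finset.univ.filter fun i => f i ≠ 0).card * p := by
  have : NeZero p := ⟨hp.out.ne_zero⟩
  have : (wtr f).support = (Finset.univ.filter fun i => f i ≠ 0) ×ˢ Finset.univ := by
    ext ⟨i, x⟩; simp
  rw [this, Finset.card_product, Finset.card_univ, ZMod.card]

end CfsgH8
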