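import Cfsg.Agent.H8.Alt1
import Cfsg.Agent.FS.Crit

/-! Fusion in alternating groups, I: strongly closed subgroups. -/

set_option autoImplicit false
set_option linter.unusedSectionVars false

namespace CfsgH8

open Subgroup Equiv Equiv.Perm CfsgH9 CfsgFS Cfsg Cfsg.FusionSystem

section crit
variable {G : Type*} [Group G] [Finite G] {p : ℕ} [Fact p.Prime] {S : Subgroup G}

theorem simple_crit2 (hS : Syl p S ⊤) (h1 : S ≠ ⊥)
    (ha : ∀ T, GCl S T → ∀ z ∈ T, orderOf z = p → z ∈ CC(S) → S ≤ T)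
    (hb : ∀ H : Subgroup G → Subgroup G, (∀ P ≤ S, ∀ g ∈ NN(P), Pel p g → g ∈ H P) →
      (∀ P ≤ S, ∀ Q ≤ S, (∀ c ∈ CC(P), Pel p c → c ∈ P) → ∀ g ∈ H P, g ∈ NN(Q) → g ∈ H Q) → NN(S) ≤ H S)
    (P : Sylow p G) : (groupFusionSystem (P : Subgroup G)).IsSimple p := by
  have g := isGF_group S
  have k : Sat _ p := g.sat hS
  refine simple_sylow hS (simple_of k h1 (sc_cases hS.pg ha) fun E hE => ?_) P
  rw [g.autGroup le_rfl]
  intro α hα
  obtain ⟨a, -, a2, rfl⟩ := mem_autInducedBy'.1 hα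
  have m : ∀ (P : Subgroup G) (x : G), x ∈ ((E.autGroup P).comap P.normalizerMonoidHom).map NN(P).subtype ↔
      x ∈ NN(P) ∧ cj P x ∈ E.autGroup P := fun P x =>
    ⟨fun ⟨⟨b, hb⟩, b1, e⟩ => e ▸ ⟨hb, cj_eq hb ▸ b1⟩, fun h => ⟨⟨x, h.1⟩, mem_comap.2 (cj_eq h.1 ▸ h.2), rfl⟩⟩
  refine ((m S a).1 (hb (fun P => ((E.autGroup P).comap P.normalizerMonoidHom).map NN(P).subtype)
    (fun P l x hx ho => (m P x).2 ⟨hx, ?_⟩) (fun P l Q l' hc x hx hn => (m Q x).2 ⟨hn, ?_⟩) a2)).2
  · exact hE.ppr.aut P l _ ((g.autGroup l).symm ▸ cj_mem_autInducedBy (mem_top x))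
      (ho.imp fun k hk => by rw [← cj_pow hx, hk, cj_one])
  obtain ⟨x1, x2⟩ := (m P x).1 hx
  have n3 : x ∈ NN(P ⊔ Q) := mem_normalizer_of_finite fun y hy =>
    (sup_le (fun z hz => (le_sup_left : P ≤ P ⊔ Q) (conj_mem_of_mem_normalizer x1 hz))
      (fun z hz => (le_sup_right : Q ≤ P ⊔ Q) (conj_mem_of_mem_normalizer hn hz)) :
        P ⊔ Q ≤ (P ⊔ Q).comap (MulAut.conj x).toMonoidHom) hy
  have := k.mor_of_centric hE.sat (le_iff_sub.2 hE.sub) (g.mor (mem_top x) (sup_le l l')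
    fun y hy => sup_le l l' (conj_mem_of_mem_normalizer n3 hy)) le_sup_left (centric_of_pel hS.pg l hc)
    (((mem_autGroup l).1 x2).congr fun y hy => by rw [ap_cj x1 hy])
  exact ((this.restrict le_sup_right).congr fun y hy => by rw [ap_cj hn hy]).mem_autGroup

end crit

variable {ι α : Type*} [Fintype ι] [DecidableEq ι] [Fintype α] [DecidableEq α] {p : ℕ} [hp : Fact p.Prime]

theorem sign_of_pow_odd {β : Type*} [Fintype β] [DecidableEq β] (h2 : p ≠ 2) {g : Perm β} {k : ℕ}
    (h : g ^ p ^ k = 1) : sign g = 1 := by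
  have := congrArg sign h
  rw [map_pow, map_one] at this
  rcases Int.units_eq_one_or (sign g) with e | e
  · exact e
  · rw [e, ((hp.out.odd_of_ne_two h2).pow).neg_one_pow] at this; exact absurd this (by decide)

theorem sign_eq_sign_of_isConj {β : Type*} [Fintype β] [DecidableEq β] {x y : Perm β} (h : IsConj x y) :
    sign x = sign y := isConj_iff_eq.1 ((sign : Perm β →* ℤˣ).map_isConj h)

theorem sign_wtr_odd (h2 : p ≠ 2) (f : ι → ZMod p) : haveI : NeZero p := ⟨hp.out.ne_zero⟩; sign (wtr f) = 1 :=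
  sign_of_pow_odd h2 (k := 1) (by rw [pow_one, wtr_pow_p])

theorem conj_of_pow_p {β : Type*} [Fintype β] [DecidableEq β] {x y : Perm β} (hx : x ^ p = 1) (hy : y ^ p = 1)
    (h : x.support.card = y.support.card) : IsConj x y := by
  rw [← sum_cycleType, ← sum_cycleType, cycleType_of_pow_prime_eq_one hx, cycleType_of_pow_prime_eq_one hy,
    Multiset.sum_replicate, Multiset.sum_replicate, smul_eq_mul, smul_eq_mul] at h
  rw [isConj_iff_cycleType_eq, cycleType_of_pow_prime_eq_one hx, cycleType_of_pow_prime_eq_one hy,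
    Nat.eq_of_mul_eq_mul_right hp.out.pos h]

theorem dvd_support_of_pow_p {β : Type*} [Fintype β] [DecidableEq β] {x : Perm β} (hx : x ^ p = 1) :
    p ∣ x.support.card := by
  rw [← sum_cycleType, cycleType_of_pow_prime_eq_one hx, Multiset.sum_replicate, smul_eq_mul]
  exact Dvd.intro_left _ rfl

theorem alt_conj {x y : alternatingGroup α} (h : IsConj x.1 y.1) {c : Perm α} (h1 : sign c ≠ 1)
    (h2 : c * y.1 = y.1 * c) : IsConj x y := by
  obtain ⟨g, hg⟩ := isConj_iff.1 h
  by_cases e : sign g = 1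
  · exact isConj_iff.2 ⟨⟨g, e⟩, Subtype.ext hg⟩
  · refine isConj_iff.2 ⟨⟨c * g, ?_⟩, Subtype.ext ?_⟩
    · rw [mem_alternatingGroup, map_mul, (Int.units_eq_one_or _).resolve_left h1,
        (Int.units_eq_one_or _).resolve_left e]; rfl
    · show c * g * x.1 * (c * g)⁻¹ = y.1
      rw [mul_inv_rev, show c * g * x.1 * (g⁻¹ * c⁻¹) = c * (g * x.1 * g⁻¹) * c⁻¹ by group, hg, h2]; group

variable [NeZero p]

theorem support_wr (f : ι → ZMod p) (σ : Perm ι) :
    (wtr f * wdl p σ).support.card = (Finset.univ.filter fun i => σ i ≠ i ∨ f i ≠ 0).card * p := by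
  have : (wtr f * wdl p σ).support = (Finset.univ.filter fun i => σ i ≠ i ∨ f i ≠ 0) ×ˢ Finset.univ := by
    ext ⟨i, x⟩
    simp only [mem_support, Perm.mul_apply, wdl_apply, wtr_apply, ne_eq, Prod.mk.injEq, Finset.mem_product,
      Finset.mem_filter, Finset.mem_univ, true_and, and_true]
    by_cases e : σ i = i <;> simp [e]
  rw [this, Finset.card_product, Finset.card_univ, ZMod.card]

theorem sign_wtr_single (i j : ι) (c : ZMod p) :
    sign (wtr (Pi.single i c : ι → ZMod p)) = sign (wtr (Pi.single j c : ι → ZMod p)) := by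
  have := congrArg sign (wdl_wtr (swap i j) (Pi.single i c : ι → ZMod p))
  rw [map_mul, map_mul, mul_comm, mul_left_inj] at this
  rw [this]; congr 2; ext k
  by_cases e : k = j
  · subst e; simp
  · rw [Pi.single_eq_of_ne e, Pi.single_eq_of_ne]
    rw [swap_inv, Ne, swap_apply_eq_iff, swap_apply_left]; exact e

theorem sign_wtr_sub (i j : ι) (c : ZMod p) : sign (wtr (Pi.single i c - Pi.single j c : ι → ZMod p)) = 1 := by
  rw [sub_eq_add_neg, wtr_add, wtr_neg, map_mul, map_inv, sign_wtr_single i j, mul_inv_cancel]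

theorem sign_wtr_two (i : ι) : sign (wtr (Pi.single i 1 : ι → ZMod 2)) ≠ 1 := by
  have : wtr (Pi.single i 1 : ι → ZMod 2) = swap (i, 0) (i, 1) := by
    refine Equiv.ext fun ⟨j, x⟩ => ?_
    by_cases e : j = i
    · subst e
      rcases (by decide : ∀ x : ZMod 2, x = 0 ∨ x = 1) x with rfl | rfl
      · simp
      · rw [swap_apply_right, wtr_apply, Pi.single_eq_same]; rfl
    · rw [swap_apply_of_ne_of_ne (by simp [e]) (by simp [e]), wtr_apply, Pi.single_eq_of_ne e, add_zero]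
  rw [this, sign_swap (by simp)]; decide

theorem exists_third (h3 : 3 ≤ Fintype.card ι) (i j : ι) : ∃ k, k ≠ i ∧ k ≠ j := by
  by_contra h
  push Not at h
  have : (Finset.univ : Finset ι) ⊆ {i, j} := fun k _ => by
    by_cases e : k = i
    · simp [e]
    · simp [h k e]
  have := (Finset.card_le_card this).trans Finset.card_le_two
  rw [Finset.card_univ] at this; omega

theorem exists_even (h3 : 3 ≤ Fintype.card ι) {i j : ι} (h : i ≠ j) (c : ZMod p) :
    ∃ f : ι → ZMod p, f i = c ∧ f j = 0 ∧ sign (wtr f) = 1 := by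
  obtain ⟨k, k1, k2⟩ := exists_third h3 i j
  exact ⟨Pi.single i c - Pi.single k c, by simp [k1.symm], by simp [h.symm, k2.symm], sign_wtr_sub _ _ _⟩

/-- indicator -/
def wind (p : ℕ) (I : Finset ι) : ι → ZMod p := fun i => if i ∈ I then 1 else 0

theorem support_wind (I : Finset ι) : (wtr (wind p I)).support.card = I.card * p := by
  rw [support_wtr]; congr 2; ext i; simp [wind]

theorem exists_odd_cent (h3 : 3 ≤ Fintype.card ι) (I : Finset ι) :
    ∃ c : Perm (ι × ZMod p), sign c ≠ 1 ∧ c * wtr (wind p I) = wtr (wind p I) * c := by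
  have : Nonempty ι := Fintype.card_pos_iff.1 (by omega)
  by_cases h2 : p = 2
  · subst h2
    exact ⟨_, sign_wtr_two (Classical.arbitrary ι), wtr_comm _ _⟩
  obtain ⟨i, j, e, h⟩ := Fintype.exists_ne_map_eq_of_card_lt (fun i => decide (i ∈ I)) (by simp; omega)
  refine ⟨wdl p (swap i j), ?_, ?_⟩
  · rw [sign_wdl, sign_swap e, (hp.out.odd_of_ne_two h2).neg_one_pow]; decide
  · rw [wdl_wtr]; congr 2; ext k
    simp only [decide_eq_decide] at h
    rw [swap_inv, swap_apply_def]; unfold wind; split_ifs <;> simp_all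

variable (φ : ι × ZMod p ↪ α)

/-- even part of the image -/
noncomputable def hat (P : Subgroup (Perm (ι × ZMod p))) : Subgroup (alternatingGroup α) :=
  (P.map (viaEmbeddingHom φ)).comap (alternatingGroup α).subtype

/-- pull-back -/
noncomputable def unh (T : Subgroup (alternatingGroup α)) : Subgroup (Perm (ι × ZMod p)) :=
  (T.map (alternatingGroup α).subtype).comap (viaEmbeddingHom φ)

/-- even elements -/
noncomputable def wev (g : Perm (ι × ZMod p)) (h : sign g = 1) : alternatingGroup α :=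
  ⟨viaEmbeddingHom φ g, by rw [mem_alternatingGroup, sign_via, h]⟩

variable {φ}

theorem mem_hat {P : Subgroup (Perm (ι × ZMod p))} {x : alternatingGroup α} :
    x ∈ hat φ P ↔ ∃ g ∈ P, viaEmbeddingHom φ g = x.1 := Iff.rfl

theorem wev_mem_hat {P : Subgroup (Perm (ι × ZMod p))} {g : Perm (ι × ZMod p)} (h : sign g = 1) (hg : g ∈ P) :
    wev φ g h ∈ hat φ P := ⟨g, hg, rfl⟩

theorem mem_unh {T : Subgroup (alternatingGroup α)} {g : Perm (ι × ZMod p)} :
    g ∈ unh φ T ↔ ∃ h : sign g = 1, wev φ g h ∈ T :=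
  ⟨fun ⟨x, hx, e⟩ => have h : sign g = 1 := by rw [← sign_via φ, ← e]; exact x.2
    ⟨h, (Subtype.ext e : x = wev φ g h) ▸ hx⟩, fun ⟨h, hx⟩ => ⟨_, hx, rfl⟩⟩

theorem mem_of_unh {T : Subgroup (alternatingGroup α)} {g : Perm (ι × ZMod p)} {x : alternatingGroup α}
    (h : g ∈ unh φ T) (e : viaEmbeddingHom φ g = x.1) : x ∈ T := by
  obtain ⟨h, k⟩ := mem_unh.1 h
  exact (Subtype.ext e : wev φ g h = x) ▸ k

theorem syl_hat (h : Fintype.card α < p * Fintype.card ι + p) {Q : Subgroup (Perm ι)} (hQ : Syl p Q ⊤) :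
    Syl p (hat φ (Wr p Q)) ⊤ := by
  obtain ⟨R, hR⟩ := ((syl_Wr φ h hQ).inf_normal' (N := alternatingGroup α)
    (by rw [normalizer_eq_top]) le_top).toSylow
  rw [inf_subgroupOf_right] at hR
  exact (show hat φ (Wr p Q) = R.1 from hR.symm) ▸ syl_top R

theorem exists_ind (h : Fintype.card α < p * Fintype.card ι + p) {x : Perm α} (hx : x ^ p = 1) :
    ∃ I : Finset ι, x.support.card = I.card * p := by
  obtain ⟨m, hm⟩ := dvd_support_of_pow_p hx
  have h1 : x.support.card ≤ Fintype.card α := Finset.card_le_univ _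
  have h2 : m ≤ Fintype.card ι := by
    by_contra h3
    have := Nat.mul_le_mul_left p (not_le.1 h3 : Fintype.card ι + 1 ≤ m)
    rw [Nat.mul_succ] at this; omega
  obtain ⟨I, -, hI⟩ := Finset.exists_subset_card_eq (s := (Finset.univ : Finset ι)) (n := m) (by rwa [Finset.card_univ])
  exact ⟨I, by rw [hI, hm, mul_comm]⟩

theorem alt_conj_p (h : Fintype.card α < p * Fintype.card ι + p) (h3 : 3 ≤ Fintype.card ι) (φ : ι × ZMod p ↪ α)
    {x y : alternatingGroup α} (hx : x.1 ^ p = 1) (hy : y.1 ^ p = 1) (e : x.1.support.card = y.1.support.card) :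
    IsConj x y := by
  obtain ⟨I, hI⟩ := exists_ind h hx
  obtain ⟨c, c1, c2⟩ := exists_odd_cent (p := p) h3 I
  have w1 : viaEmbeddingHom φ (wtr (wind p I)) ^ p = 1 := by rw [← map_pow, wtr_pow_p, map_one]
  have k1 := conj_of_pow_p hx w1 (by rw [support_via, support_wind, hI])
  have k2 := conj_of_pow_p hy w1 (by rw [support_via, support_wind, ← hI, e])
  have s : sign (wtr (wind p I)) = 1 := by rw [← sign_via φ, ← sign_eq_sign_of_isConj k1]; exact x.2
  have c3 : sign (viaEmbeddingHom φ c) ≠ 1 := by rwa [sign_via]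
  have c4 : viaEmbeddingHom φ c * (wev φ _ s).1 = (wev φ _ s).1 * viaEmbeddingHom φ c := by
    show _ * viaEmbeddingHom φ _ = viaEmbeddingHom φ _ * _
    rw [← map_mul, c2, map_mul]
  exact (alt_conj (y := wev φ _ s) k1 c3 c4).trans (alt_conj (y := wev φ _ s) k2 c3 c4).symm

theorem fuse (h : Fintype.card α < p * Fintype.card ι + p) (h3 : 3 ≤ Fintype.card ι) {Q : Subgroup (Perm ι)}
    {T : Subgroup (alternatingGroup α)} (hT : GCl (hat φ (Wr p Q)) T) {z g : Perm (ι × ZMod p)}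
    (hz : z ∈ unh φ T) (z1 : z ^ p = 1) (hg : g ∈ Wr p Q) (g1 : g ^ p = 1) (e : z.support.card = g.support.card) :
    g ∈ unh φ T := by
  obtain ⟨s, k⟩ := mem_unh.1 hz
  have s' : sign g = 1 := by rw [← sign_eq_sign_of_isConj (conj_of_pow_p z1 g1 e), s]
  refine mem_unh.2 ⟨s', hT.conj k (wev_mem_hat s' hg) (alt_conj_p h h3 φ ?_ ?_ ?_)⟩
  · show viaEmbeddingHom φ _ ^ p = 1
    rw [← map_pow, z1, map_one]
  · show viaEmbeddingHom φ _ ^ p = 1
    rw [← map_pow, g1, map_one]
  · exact (support_via φ z).trans (e.trans (support_via φ g).symm)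

end CfsgH8
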