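import Cfsg.Agent.H8.Alt2

/-! Fusion in alternating groups, II: simplicity of the fusion system. -/

set_option autoImplicit false
set_option linter.unusedSectionVars false

namespace CfsgH8

open Subgroup Equiv Equiv.Perm CfsgH9 CfsgFS Cfsg Cfsg.FusionSystem

variable {ι α : Type} [Fintype ι] [DecidableEq ι] [Fintype α] [DecidableEq α] {p : ℕ} [hp : Fact p.Prime]
  [NeZero p] {φ : ι × ZMod p ↪ α} {Q : Subgroup (Perm ι)}

theorem wtr_mem_of {U : Subgroup (Perm (ι × ZMod p))} (i0 : ι)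
    (h1 : ∀ i, ∀ c : ZMod p, wtr (Pi.single i c - Pi.single i0 c) ∈ U)
    (h2 : ∀ c : ZMod p, sign (wtr (Pi.single i0 c : ι → ZMod p)) = 1 → wtr (Pi.single i0 c) ∈ U)
    (hU : ∀ g ∈ U, sign g = 1) (f : ι → ZMod p) (hf : sign (wtr f) = 1) : wtr f ∈ U := by
  let A : AddSubgroup (ι → ZMod p) :=
    { carrier := {f | wtr f ∈ U}
      zero_mem' := by show wtr 0 ∈ U; rw [wtr_zero]; exact one_mem _
      add_mem' := fun {a b} ha hb => by show wtr _ ∈ U; rw [wtr_add]; exact mul_mem ha hb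
      neg_mem' := fun {a} ha => by show wtr _ ∈ U; rw [wtr_neg]; exact inv_mem ha }
  have k : ∑ i, (Pi.single i (f i) - Pi.single i0 (f i) : ι → ZMod p) ∈ A := sum_mem fun i _ => h1 i _
  have e : f = ∑ i, (Pi.single i (f i) - Pi.single i0 (f i) : ι → ZMod p) + Pi.single i0 (∑ i, f i) := by
    rw [Finset.sum_sub_distrib, Finset.univ_sum_single]
    ext j; by_cases h : j = i0
    · subst h; simp [Finset.sum_apply]
    · simp [Finset.sum_apply, h]
  rw [e, wtr_add] at hf ⊢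
  rw [map_mul, hU _ k, one_mul] at hf
  exact mul_mem k (h2 _ hf)

theorem zmod_two_cases : ∀ x : ZMod 2, x = 0 ∨ x = 1 := by decide

theorem unh_sign {T : Subgroup (alternatingGroup α)} (g : Perm (ι × ZMod p)) (h : g ∈ unh φ T) : sign g = 1 :=
  (mem_unh.1 h).1

theorem filter_single (i : ι) {c : ZMod p} (hc : c ≠ 0) :
    (Finset.univ.filter fun j => (Pi.single i c : ι → ZMod p) j ≠ 0) = {i} := by
  ext j; by_cases e : j = i <;> simp [e, hc]

theorem base_mem (h : Fintype.card α < p * Fintype.card ι + p) (h3 : 3 ≤ Fintype.card ι)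
    (hτ : p = 2 → ∃ a b, a ≠ b ∧ swap a b ∈ Q)
    {T : Subgroup (alternatingGroup α)} (hT : GCl (hat φ (Wr p Q)) T) {z : alternatingGroup α} (hz : z ∈ T)
    (ho : orderOf z = p) (f : ι → ZMod p) (hf : sign (wtr f) = 1) : wtr f ∈ unh φ T := by
  obtain ⟨w, -, e⟩ := mem_hat.1 (hT.1 hz)
  have zp : z.1 ^ p = 1 := by rw [← Subgroup.coe_pow, ← ho, pow_orderOf_eq_one]; rfl
  have wp : w ^ p = 1 := viaEmbeddingHom_injective φ (by rw [map_pow, e, zp, map_one])
  have hw : w ∈ unh φ T := ⟨z, hz, e.symm⟩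
  obtain ⟨I, hI⟩ := exists_ind h zp
  rw [← e, support_via] at hI
  have hI0 : 0 < I.card := Nat.pos_of_ne_zero fun h0 => by
    rw [h0, zero_mul, card_support_eq_zero] at hI
    have : z = 1 := Subtype.ext (by rw [← e, hI, map_one]; rfl)
    rw [this, orderOf_one] at ho; exact hp.out.one_lt.ne ho
  have F := fun g (hg : g ∈ Wr p Q) (g1 : g ^ p = 1) (e : g.support.card = I.card * p) =>
    fuse h h3 hT hw wp hg g1 (hI.trans e.symm)
  obtain ⟨i0, hi0⟩ := Finset.card_pos.1 hI0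
  have F1 := F _ (wtr_mem Q _) (wtr_pow_p _) (support_wind I)
  by_cases h2 : p = 2
  · obtain ⟨a, b, ab, hab⟩ := hτ h2
    subst h2
    have I2 : 2 ≤ I.card := by
      by_contra h1
      obtain ⟨i, rfl⟩ := Finset.card_eq_one.1 (by omega : I.card = 1)
      refine sign_wtr_two i ?_
      convert unh_sign _ F1; ext j; by_cases e : j = i <;> simp [wind, e]
    obtain ⟨K, K1, -, K2⟩ := Finset.exists_subsuperset_card_eq (n := I.card) (Finset.subset_univ {a, b})
      (by rwa [Finset.card_pair ab]) (Finset.card_le_univ I)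
    have sq : ∀ f : ι → ZMod 2, f a = f b → (wtr f * wdl 2 (swap a b)) ^ 2 = 1 := fun f hf => by
      have : (fun i => f ((swap a b)⁻¹ i)) = f := by
        ext i; rw [swap_inv, swap_apply_def]; split_ifs <;> simp_all
      rw [Commute.mul_pow (by rw [Commute, SemiconjBy, wdl_wtr, this]), wtr_pow_p, ← map_pow, sq,
        swap_mul_self, map_one, mul_one]
    have aK : a ∈ K := K1 (by simp)
    have bK : b ∈ K := K1 (by simp)
    have mv : ∀ i, swap a b i ≠ i ↔ i = a ∨ i = b := fun i => by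
      rw [← mem_support, support_swap ab]; simp
    have F2 := F _ (wtr_mem Q (wind 2 K)) (wtr_pow_p _) (by rw [support_wind, K2])
    have F3 := F _ (mul_mem (wtr_mem Q (wind 2 K + wind 2 {a, b})) (wdl_mem hab)) (sq _ (by simp [wind, aK, bK])) (by
      rw [support_wr, ← K2]; congr 2; ext i
      simp only [mv, wind, Pi.add_apply, Finset.mem_filter, Finset.mem_univ, true_and, Finset.mem_insert,
        Finset.mem_singleton]
      by_cases e : i = a ∨ i = b
      · simp only [e, true_or, true_iff]; exact e.elim (· ▸ aK) (· ▸ bK)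
      · simp [e])
    have F4 := mul_mem (inv_mem F2) F3
    rw [wtr_add, mul_assoc, inv_mul_cancel_left] at F4
    refine wtr_mem_of i0 (fun i c => ?_) (fun c hc => ?_) unh_sign f hf
    · by_cases e : i = i0 ∨ c = 0
      · have : (Pi.single i c - Pi.single i0 c : ι → ZMod 2) = 0 := by rcases e with rfl | rfl <;> simp
        rw [this, wtr_zero]; exact one_mem _
      push Not at e
      refine fuse h h3 hT F4 (sq _ (by simp [wind])) (wtr_mem Q _) (wtr_pow_p _) ?_
      rw [support_wr, support_wtr]; congr 1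
      trans 2
      · refine Eq.trans ?_ (Finset.card_pair ab); congr 1; ext j; simp [mv, wind]; tauto
      · refine Eq.trans (Finset.card_pair e.1).symm ?_; congr 1; ext j
        by_cases e1 : j = i
        · subst e1; simp [e.1, e.2]
        · by_cases e2 : j = i0
          · subst e2; simp [e1, e.2]
          · simp [e1, e2]
    · rcases zmod_two_cases c with rfl | rfl
      · rw [Pi.single_zero, wtr_zero]; exact one_mem _
      · exact absurd hc (sign_wtr_two _)
  have t2 : (1 + 1 : ZMod p) ≠ 0 := by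
    rw [one_add_one_eq_two, ← Nat.cast_two, Ne, ZMod.natCast_eq_zero_iff]
    exact fun d => h2 ((Nat.prime_dvd_prime_iff_eq hp.out Nat.prime_two).1 d)
  have F2 := F _ (wtr_mem Q (wind p I + Pi.single i0 1)) (wtr_pow_p _) (by
    rw [support_wtr]; congr 2; ext i
    rw [Finset.mem_filter]
    by_cases e : i = i0
    · subst e; simp [wind, hi0, t2]
    · simp [wind, e])
  have F3 := mul_mem (inv_mem F1) F2
  rw [wtr_add, inv_mul_cancel_left] at F3
  have F4 : ∀ i, ∀ c : ZMod p, wtr (Pi.single i c) ∈ unh φ T := fun i c => by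
    by_cases e : c = 0
    · rw [e, Pi.single_zero, wtr_zero]; exact one_mem _
    exact fuse h h3 hT F3 (wtr_pow_p _) (wtr_mem Q _) (wtr_pow_p _) (by
      rw [support_wtr, support_wtr, filter_single _ e, filter_single _ one_ne_zero]; rfl)
  refine wtr_mem_of i0 (fun i c => ?_) (fun c _ => F4 _ _) unh_sign f hf
  rw [sub_eq_add_neg, wtr_add, wtr_neg]; exact mul_mem (F4 _ _) (inv_mem (F4 _ _))

theorem sign_wdl_p {σ : Perm ι} {k : ℕ} (h : σ ^ p ^ k = 1) : sign (wdl p σ) = 1 := by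
  by_cases h2 : p = 2
  · subst h2; rw [sign_wdl, Int.units_sq]
  · exact sign_of_pow_odd h2 (k := k) (by rw [← map_pow, h, map_one])

theorem gcl_top (h : Fintype.card α < p * Fintype.card ι + p) (h3 : 3 ≤ Fintype.card ι) (hQ : Syl p Q ⊤)
    (hτ : p = 2 → ∃ a b, a ≠ b ∧ swap a b ∈ Q)
    {T : Subgroup (alternatingGroup α)} (hT : GCl (hat φ (Wr p Q)) T) {z : alternatingGroup α} (hz : z ∈ T)
    (ho : orderOf z = p) : hat φ (Wr p Q) ≤ T := by
  have B := base_mem h h3 hτ hT hz ho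
  have k : closure {g | g ∈ Q ∧ g ^ p = 1} ≤ (unh φ T).comap (wdl p) := (closure_le _).2 fun σ hσ => by
    have s1 : wdl p σ ^ p = 1 := by rw [← map_pow, hσ.2, map_one]
    have := support_wr (0 : ι → ZMod p) σ
    rw [wtr_zero, one_mul, ← support_wind] at this
    refine fuse h h3 hT (B _ ?_) (wtr_pow_p _) (wdl_mem hσ.1) s1 this.symm
    rw [← sign_eq_sign_of_isConj (conj_of_pow_p s1 (wtr_pow_p _) this)]
    exact sign_wdl_p (k := 1) (by rw [pow_one, hσ.2])
  rintro x ⟨_, ⟨σ, hσ, f, rfl⟩, e⟩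
  have k1 : wdl p σ ∈ unh φ T := k (syl_perm_gen _ ι rfl Q hQ hσ)
  refine mem_of_unh (mul_mem (B f ?_) k1) e
  have : sign (viaEmbeddingHom φ (wtr f * wdl p σ)) = 1 := by rw [e]; exact x.2
  rwa [sign_via, map_mul, unh_sign _ k1, mul_one] at this

theorem ext_frame (hc : ∀ x y : α, x ∉ Set.range φ → y ∉ Set.range φ → x = y) {a : Perm α}
    {g : Perm (ι × ZMod p)} (h : ∀ i x, a (φ (i, x)) = φ (g (i, x))) : viaEmbeddingHom φ g = a := by
  refine Equiv.ext fun y => ?_
  by_cases e : y ∈ Set.range φ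
  · obtain ⟨⟨i, x⟩, rfl⟩ := e
    rw [via_apply, h]
  · rw [via_apply' φ g e]
    refine hc _ _ e ?_
    rintro ⟨v, hv⟩
    have := h (g⁻¹ v).1 (g⁻¹ v).2
    rw [Prod.mk.eta, ← Perm.mul_apply g, mul_inv_cancel, Perm.one_apply, hv] at this
    exact e ⟨_, a.injective this⟩

theorem exists_fix (h3 : 3 ≤ Fintype.card ι) (i : ι) {y : α} (hy : ∀ t, φ (i, t) ≠ y) :
    ∃ f : ι → ZMod p, f i = 1 ∧ sign (wtr f) = 1 ∧ viaEmbeddingHom φ (wtr f) y = y := by
  by_cases e : y ∈ Set.range φ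
  · obtain ⟨⟨j, t⟩, rfl⟩ := e
    obtain ⟨f, f1, f2, f3⟩ := exists_even (p := p) h3 (i := i) (j := j) (fun e => hy t (e ▸ rfl)) 1
    exact ⟨f, f1, f3, by rw [via_apply, wtr_apply, f2, add_zero]⟩
  · obtain ⟨j, hj, -⟩ := exists_third h3 i i
    obtain ⟨f, f1, -, f3⟩ := exists_even (p := p) h3 hj.symm 1
    exact ⟨f, f1, f3, via_apply' φ _ e⟩

theorem norm_form (hc : ∀ x y : α, x ∉ Set.range φ → y ∉ Set.range φ → x = y) (h3 : 3 ≤ Fintype.card ι)
    {a : alternatingGroup α} (ha : a ∈ NN(hat φ (Wr p Q))) :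
    ∃ f σ u, viaEmbeddingHom φ (wtr f * wdl p σ * wdg u) = a.1 := by
  have k1 : ∀ i s t j x, a.1 (φ (i, s)) = φ (j, x) → ∃ y, φ (j, y) = a.1 (φ (i, t)) := fun i s t j x e => by
    by_contra hn
    push Not at hn
    obtain ⟨f, f1, f2, f3⟩ := exists_fix h3 j hn
    obtain ⟨_, ⟨σ, -, g, rfl⟩, e'⟩ := mem_hat.1 (inv_conj_mem_of_mem_normalizer ha (wev_mem_hat f2 (wtr_mem Q f)))
    have e1 : ∀ y, a.1 (viaEmbeddingHom φ (wtr g * wdl p σ) y) = viaEmbeddingHom φ (wtr f) (a.1 y) := fun y => by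
      rw [e']; simp [wev]
    have e2 := e1 (φ (i, t))
    rw [f3, via_apply] at e2
    have e3 := φ.injective (a.1.injective e2)
    simp only [Perm.mul_apply, wdl_apply, wtr_apply, Prod.mk.injEq, add_eq_left] at e3
    have e4 := e1 (φ (i, s))
    rw [via_apply, e, via_apply] at e4
    simp only [Perm.mul_apply, wdl_apply, wtr_apply, e3.2, f1] at e4
    rw [e3.1, add_zero, e] at e4
    simpa using φ.injective e4
  have k2 : ∀ i, ∃ j, ∀ t, ∃ y, φ (j, y) = a.1 (φ (i, t)) := fun i => by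
    by_cases e : a.1 (φ (i, 0)) ∈ Set.range φ
    · obtain ⟨⟨j, x⟩, e⟩ := e
      exact ⟨j, fun t => k1 i 0 t j x e.symm⟩
    by_cases e' : a.1 (φ (i, 1)) ∈ Set.range φ
    · obtain ⟨⟨j, x⟩, e'⟩ := e'
      exact ⟨j, fun t => k1 i 1 t j x e'.symm⟩
    simpa using φ.injective (a.1.injective (hc _ _ e e'))
  choose s g hg using k2
  have k3 : ∀ i, ∃ c, ∀ t, g i (t + 1) = g i t + c := fun i => by
    obtain ⟨j, hj, -⟩ := exists_third h3 i i
    obtain ⟨f, f1, -, f2⟩ := exists_even (p := p) h3 hj.symm 1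
    obtain ⟨_, ⟨σ, -, f', rfl⟩, e'⟩ := mem_hat.1 (conj_mem_of_mem_normalizer ha (wev_mem_hat f2 (wtr_mem Q f)))
    refine ⟨f' (σ (s i)), fun t => ?_⟩
    have e1 : viaEmbeddingHom φ (wtr f' * wdl p σ) (a.1 (φ (i, t))) = a.1 (viaEmbeddingHom φ (wtr f) (φ (i, t))) := by
      rw [e']; simp [wev]
    rw [via_apply, wtr_apply, f1, ← hg, ← hg, via_apply] at e1
    exact (congrArg Prod.snd (φ.injective e1)).symm
  choose c hcc using k3
  have k4 : ∀ i t, g i t = c i * t + g i 0 := fun i t => by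
    obtain ⟨n, rfl⟩ := ZMod.natCast_zmod_surjective t
    induction n with
    | zero => simp
    | succ n ih => rw [Nat.cast_succ, hcc, ih]; ring
  have k5 : ∀ i, c i ≠ 0 := fun i e => by
    have := (hg i 0).symm.trans ((by rw [k4 i 1, e]; simp : φ (s i, g i 0) = φ (s i, g i 1)).trans (hg i 1))
    simpa using φ.injective (a.1.injective this)
  have k6 : Function.Injective s := fun i j e => by
    have := (hg i 0).symm.trans ((by rw [k4 j, e, mul_div_cancel₀ _ (k5 j)]; simp :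
      φ (s i, g i 0) = φ (s j, g j ((g i 0 - g j 0) / c j))).trans (hg j _))
    exact congrArg Prod.fst (φ.injective (a.1.injective this))
  let σ := Equiv.ofBijective s (Finite.injective_iff_bijective.1 k6)
  refine ⟨fun j => g (σ⁻¹ j) 0, σ, fun i => Units.mk0 _ (k5 i), ext_frame hc fun i t => ?_⟩
  rw [← hg, k4]
  simp only [Perm.mul_apply, wdg_apply, wdl_apply, wtr_apply, Perm.coe_inv, symm_apply_apply]; rfl

theorem cent_reg {A : Type*} [AddCommGroup A] {e : A → α} {c : Perm α}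
    (h1 : ∀ v, ∃ w : Perm α, c * w = w * c ∧ ∀ x, w (e x) = e (x + v))
    (h2 : ∀ y, (∀ x, e x ≠ y) → ∃ w : Perm α, c * w = w * c ∧ w y = y ∧ w (e 0) ≠ e 0) :
    ∃ b, ∀ v, c (e v) = e (v + b) := by
  have : ∃ b, e b = c (e 0) := by
    by_contra hn
    push Not at hn
    obtain ⟨w, w1, w2, w3⟩ := h2 _ hn
    exact w3 (c.injective (by rw [← Perm.mul_apply, w1, Perm.mul_apply, w2]))
  obtain ⟨b, hb⟩ := this
  refine ⟨b, fun v => ?_⟩
  obtain ⟨w, w1, w2⟩ := h1 v
  rw [← zero_add v, ← w2, ← Perm.mul_apply, w1, Perm.mul_apply, ← hb, w2, zero_add, add_comm]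

theorem cent_comm {P : Subgroup (Perm (ι × ZMod p))} {c : alternatingGroup α} (hc : c ∈ CC(hat φ P))
    {g : Perm (ι × ZMod p)} (hg : g ∈ P) (h : sign g = 1) :
    c.1 * viaEmbeddingHom φ g = viaEmbeddingHom φ g * c.1 :=
  (congrArg Subtype.val (hc _ (wev_mem_hat h hg))).symm

theorem centric_base (hc : ∀ x y : α, x ∉ Set.range φ → y ∉ Set.range φ → x = y) (h3 : 3 ≤ Fintype.card ι)
    {c : alternatingGroup α} (h : c ∈ CC(hat φ (Wr p ⊥))) : c ∈ hat φ (Wr p ⊥) := by
  have k : ∀ i, ∃ b, ∀ v, c.1 (φ (i, v)) = φ (i, v + b) := fun i => by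
    refine cent_reg (e := fun v => φ (i, v)) (fun v => ?_) fun y hy => ?_
    · obtain ⟨j, hj, -⟩ := exists_third h3 i i
      obtain ⟨f, f1, -, f2⟩ := exists_even (p := p) h3 hj.symm v
      exact ⟨_, cent_comm h (wtr_mem _ f) f2, fun x => by rw [via_apply, wtr_apply, f1]⟩
    · obtain ⟨f, f1, f2, f3⟩ := exists_fix h3 i hy
      exact ⟨_, cent_comm h (wtr_mem _ f) f2, f3, by rw [via_apply, wtr_apply, f1]; simp⟩
  choose b hb using k
  exact ⟨_, wtr_mem _ b, ext_frame hc hb⟩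

end CfsgH8
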