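import Cfsg.Agent.H8.Alt3

/-! Fusion in alternating groups, III: the normalizer of the base group. -/

set_option autoImplicit false
set_option linter.unusedSectionVars false

namespace CfsgH8

open Subgroup Equiv Equiv.Perm CfsgH9 CfsgFS Cfsg Cfsg.FusionSystem

variable {ι α : Type} [Fintype ι] [DecidableEq ι] [Fintype α] [DecidableEq α] {p : ℕ} [hp : Fact p.Prime]
  [NeZero p] {φ : ι × ZMod p ↪ α} {Q : Subgroup (Perm ι)}

theorem wev_norm {P : Subgroup (Perm (ι × ZMod p))} {g : Perm (ι × ZMod p)} (hg : g ∈ NN(P)) (h : sign g = 1) :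
    wev φ g h ∈ NN(hat φ P) := mem_normalizer_of_finite fun x ⟨w, hw, e⟩ =>
  ⟨_, conj_mem_of_mem_normalizer hg hw, by rw [map_mul, map_mul, map_inv, e]; rfl⟩

theorem hat_mono {P R : Subgroup (Perm (ι × ZMod p))} (h : P ≤ R) : hat φ P ≤ hat φ R :=
  comap_mono (map_mono h)

theorem wev_pel {g : Perm (ι × ZMod p)} (h : sign g = 1) (ho : Pel p g) : Pel p (wev φ g h) :=
  (ho.map (viaEmbeddingHom φ)).imp fun _ hk => Subtype.ext hk

theorem wtr_norm (f : ι → ZMod p) : wtr f ∈ NN(Wr p (⊥ : Subgroup (Perm ι))) := le_normalizer (wtr_mem _ f)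

theorem wdl_norm (σ : Perm ι) : wdl p σ ∈ NN(Wr p (⊥ : Subgroup (Perm ι))) := mem_normalizer_of_finite fun x hx => by
  obtain ⟨f, rfl⟩ := mem_Wr_bot.1 hx
  rw [wdl_wtr, mul_inv_cancel_right]; exact wtr_mem _ _

theorem wdg_norm (u : ι → (ZMod p)ˣ) : wdg u ∈ NN(Wr p (⊥ : Subgroup (Perm ι))) :=
  mem_normalizer_of_finite fun x hx => by
    obtain ⟨f, rfl⟩ := mem_Wr_bot.1 hx
    have : wdg u * wtr f = wtr (fun i => (u i : ZMod p) * f i) * wdg u := by
      ext ⟨i, x⟩ <;> simp [mul_add]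
    rw [this, mul_inv_cancel_right]; exact wtr_mem _ _

/-- the subgroup generated by the even `p`-elements normalizing the base group -/
def WK (p : ℕ) [Fact p.Prime] [NeZero p] (ι : Type) [Fintype ι] [DecidableEq ι] : Subgroup (Perm (ι × ZMod p)) :=
  ppc p (NN(Wr p (⊥ : Subgroup (Perm ι))) ⊓ alternatingGroup _)

theorem WK_norm : NN(Wr p (⊥ : Subgroup (Perm ι))) ≤ NN(WK p ι) :=
  ppc_norm' (le_normalizer_iff.2 fun a ha b hb => ⟨mconj ha hb.1, (alternatingGroup.normal).conj_mem b hb.2 a⟩)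

theorem wdl_mem_WK (h : p ≤ Fintype.card ι) {σ : Perm ι} (hσ : sign (wdl p σ) = 1) : wdl p σ ∈ WK p ι := by
  have k : ∀ σ : Perm ι, σ ^ p = 1 → σ ∈ (WK p ι).comap (wdl p) := fun σ e =>
    mem_ppc ⟨wdl_norm σ, sign_wdl_p (k := 1) (by rwa [pow_one])⟩ ⟨1, by rw [pow_one, ← map_pow, e, map_one]⟩
  by_cases h2 : p = 2
  · subst h2
    have : closure {σ : Perm ι | IsSwap σ} ≤ (WK 2 ι).comap (wdl 2) :=
      (closure_le _).2 fun σ ⟨a, b, _, e⟩ => k σ (by rw [e, sq, swap_mul_self])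
    exact this (by rw [closure_isSwap]; exact mem_top _)
  have s : σ ∈ alternatingGroup ι := by
    rw [sign_wdl] at hσ
    rcases Int.units_eq_one_or (sign σ) with e | e
    · exact e
    · rw [e, (hp.out.odd_of_ne_two h2).neg_one_pow] at hσ; exact absurd hσ (by decide)
  by_cases h3 : p = 3
  · subst h3
    have : closure {σ : Perm ι | IsThreeCycle σ} ≤ (WK 3 ι).comap (wdl 3) :=
      (closure_le _).2 fun σ hs => k σ (by rw [← hs.orderOf, pow_orderOf_eq_one])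
    exact this (by rwa [closure_three_cycles_eq_alternating])
  have : ((WK p ι).comap (wdl p)).Normal := ⟨fun a ha b => by
    rw [mem_comap, map_mul, map_mul, map_inv]
    exact conj_mem_of_mem_normalizer (WK_norm (wdl_norm b)) ha⟩
  obtain ⟨τ, hτ⟩ := exists_prime_orderOf_dvd_card' (G := Perm ι) p (by
    rw [Nat.card_perm, Nat.card_eq_fintype_card]; exact Nat.dvd_factorial hp.out.pos h)
  refine alternatingGroup_le_of_normal (N := (WK p ι).comap (wdl p)) ?_ ?_ s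
  · rw [Nat.card_eq_fintype_card]; exact (hp.out.five_le_of_ne_two_of_ne_three h2 h3).trans h
  · refine (nontrivial_iff_exists_ne_one _).2 ⟨τ, k τ (by rw [← hτ, pow_orderOf_eq_one]), ?_⟩
    rintro rfl
    rw [orderOf_one] at hτ; exact hp.out.one_lt.ne hτ

theorem wdg_mem_WK (h : p ≤ Fintype.card ι) (h3 : 3 ≤ Fintype.card ι) {u : ι → (ZMod p)ˣ} (hu : ∏ i, u i = 1) :
    wdg u ∈ WK p ι := by
  have : Nonempty ι := Fintype.card_pos_iff.1 (by omega)
  obtain ⟨j⟩ := this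
  have k : ∀ i c, (Pi.mulSingle i c / Pi.mulSingle j c : ι → (ZMod p)ˣ) ∈ (WK p ι).comap wdg := fun i c => by
    by_cases e : j = i
    · rw [e, div_self']; exact one_mem _
    obtain ⟨k, k1, k2⟩ := exists_third h3 i j
    have s : sign (wdl p (swap j i * swap k i)) = 1 := by
      rw [sign_wdl, map_mul, sign_swap e, sign_swap k1]; simp
    have m := mul_mem (wdl_mem_WK h s) (conj_mem_of_mem_normalizer (WK_norm (wdg_norm (Pi.mulSingle j c)))
      (inv_mem (wdl_mem_WK h s)))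
    have : wdl p (swap j i * swap k i) * wdg (Pi.mulSingle j c) =
        wdg (Pi.mulSingle i c) * wdl p (swap j i * swap k i) := by
      refine Equiv.ext fun ⟨l, x⟩ => ?_
      simp only [Perm.mul_apply, wdg_apply, wdl_apply]
      congr 3
      by_cases e' : l = j
      · subst e'; rw [swap_apply_of_ne_of_ne k2.symm e, swap_apply_left]; simp
      · rw [Pi.mulSingle_eq_of_ne e', Pi.mulSingle_eq_of_ne]
        rw [Ne, swap_apply_eq_iff, swap_apply_right, swap_apply_eq_iff, swap_apply_of_ne_of_ne k2.symm e]; exact e'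
    rw [← mul_assoc, ← mul_assoc, this, mul_inv_cancel_right] at m
    rwa [mem_comap, map_div, div_eq_mul_inv]
  have e : u = ∏ i, (Pi.mulSingle i (u i) / Pi.mulSingle j (u i) : ι → (ZMod p)ˣ) := by
    rw [Finset.prod_div_distrib, Finset.univ_prod_mulSingle]
    ext l; by_cases h : l = j
    · subst h; simp [Finset.prod_apply, hu]
    · simp [Finset.prod_apply, h]
  exact (e ▸ prod_mem fun i _ => k i _ : u ∈ (WK p ι).comap wdg)

/-- lower transvection -/
def tvX (t : ZMod p) : Perm (ZMod p × ZMod p) where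
  toFun v := (v.1, v.2 + t * v.1)
  invFun v := (v.1, v.2 - t * v.1)
  left_inv v := by simp
  right_inv v := by simp

/-- upper transvection -/
def tvY (t : ZMod p) : Perm (ZMod p × ZMod p) where
  toFun v := (v.1 + t * v.2, v.2)
  invFun v := (v.1 - t * v.2, v.2)
  left_inv v := by simp
  right_inv v := by simp

@[simp] theorem tvX_apply (t : ZMod p) (v : ZMod p × ZMod p) : tvX t v = (v.1, v.2 + t * v.1) := rfl
@[simp] theorem tvY_apply (t : ZMod p) (v : ZMod p × ZMod p) : tvY t v = (v.1 + t * v.2, v.2) := rfl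

theorem tvX_pow (t : ZMod p) (n : ℕ) : tvX t ^ n = tvX ((n : ZMod p) * t) := by
  induction n with
  | zero => ext v <;> simp
  | succ n ih => rw [pow_succ, ih]; ext v <;> simp; ring

theorem tvY_pow (t : ZMod p) (n : ℕ) : tvY t ^ n = tvY ((n : ZMod p) * t) := by
  induction n with
  | zero => ext v <;> simp
  | succ n ih => rw [pow_succ, ih]; ext v <;> simp; ring

theorem addRight_pow {A : Type*} [AddCommGroup A] (v : A) (n : ℕ) :
    (Equiv.addRight v : Perm A) ^ n = Equiv.addRight (n • v) := by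
  induction n with
  | zero => ext; simp
  | succ n ih => rw [pow_succ, ih]; ext; simp [succ_nsmul, add_comm, add_left_comm]

theorem addRight_zero' {A : Type*} [AddCommGroup A] : (Equiv.addRight (0 : A) : Perm A) = 1 := by ext; simp

variable (ψ : ZMod p ↪ ι)

/-- the embedding of `p` blocks -/
def wchi : ZMod p × ZMod p ↪ ι × ZMod p := ψ.prodMap (Function.Embedding.refl _)

theorem wchi_apply (y x : ZMod p) : wchi ψ (y, x) = (ψ y, x) := rfl

theorem ext_chi {g h : Perm (ι × ZMod p)} (h1 : ∀ y x, g (ψ y, x) = h (ψ y, x))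
    (h2 : ∀ i ∉ Set.range ψ, ∀ x, g (i, x) = h (i, x)) : g = h := Equiv.ext fun ⟨i, x⟩ => by
  by_cases e : i ∈ Set.range ψ
  · obtain ⟨y, rfl⟩ := e; exact h1 y x
  · exact h2 i e x

theorem rho_apply (m : Perm (ZMod p × ZMod p)) (y x : ZMod p) :
    viaEmbeddingHom (wchi ψ) m (ψ y, x) = (ψ (m (y, x)).1, (m (y, x)).2) := via_apply (wchi ψ) m (y, x)

theorem rho_apply' (m : Perm (ZMod p × ZMod p)) {i : ι} (hi : i ∉ Set.range ψ) (x : ZMod p) :
    viaEmbeddingHom (wchi ψ) m (i, x) = (i, x) :=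
  via_apply' _ m fun ⟨v, hv⟩ => hi ⟨v.1, congrArg Prod.fst hv⟩

/-- a centric subgroup with `SL₂(p)` acting -/
noncomputable def WR : Subgroup (Perm (ι × ZMod p)) :=
  closure ({g | ∃ v, g = viaEmbeddingHom (wchi ψ) (Equiv.addRight v)} ∪ {g | ∃ f, (∀ y, f (ψ y) = 0) ∧ g = wtr f})

theorem rho_mem_WR (v : ZMod p × ZMod p) : viaEmbeddingHom (wchi ψ) (Equiv.addRight v) ∈ WR ψ :=
  subset_closure (Or.inl ⟨v, rfl⟩)

theorem wtr_mem_WR {f : ι → ZMod p} (h : ∀ y, f (ψ y) = 0) : wtr f ∈ WR ψ := subset_closure (Or.inr ⟨f, h, rfl⟩)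

theorem WR_le (hτ : ∀ a, viaEmbeddingHom ψ (Equiv.addRight a) ∈ Q) : WR ψ ≤ Wr p Q := by
  classical
  refine (closure_le _).2 ?_
  rintro _ (⟨⟨a, b⟩, rfl⟩ | ⟨f, -, rfl⟩)
  · refine ⟨_, hτ a, fun i => if i ∈ Set.range ψ then b else 0, ext_chi ψ (fun y x => ?_) fun i hi x => ?_⟩
    · rw [rho_apply, Perm.mul_apply, wdl_apply, via_apply, wtr_apply, if_pos ⟨_, rfl⟩]; rfl
    · rw [rho_apply' ψ _ hi, Perm.mul_apply, wdl_apply, via_apply' ψ _ hi, wtr_apply, if_neg hi, add_zero]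
  · exact wtr_mem Q f

theorem rho_norm {m : Perm (ZMod p × ZMod p)} (hm : ∀ v w, m (v + w) = m v + m w) :
    viaEmbeddingHom (wchi ψ) m ∈ NN(WR ψ) := mem_normalizer_of_finite fun x hx => by
  refine ((closure_le ((WR ψ).comap (MulAut.conj (viaEmbeddingHom (wchi ψ) m)).toMonoidHom)).2 ?_) hx
  rintro _ (⟨v, rfl⟩ | ⟨f, hf, rfl⟩)
  · have : m * Equiv.addRight v = Equiv.addRight (m v) * m := Equiv.ext fun w => hm w v
    show _ * _ * _ ∈ WR ψ
    rw [← map_mul, this, map_mul, mul_inv_cancel_right]; exact rho_mem_WR ψ _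
  · have : viaEmbeddingHom (wchi ψ) m * wtr f = wtr f * viaEmbeddingHom (wchi ψ) m :=
      ext_chi ψ (fun y x => by simp only [Perm.mul_apply, wtr_apply, hf, add_zero, rho_apply]) fun i hi x => by
        simp only [Perm.mul_apply, wtr_apply, rho_apply' ψ _ hi]
    show _ * _ * _ ∈ WR ψ
    rw [this, mul_inv_cancel_right]; exact wtr_mem_WR ψ hf

theorem centric_WR (h2 : p ≠ 2) (hc : ∀ x y : α, x ∉ Set.range φ → y ∉ Set.range φ → x = y)
    {c : alternatingGroup α} (h : c ∈ CC(hat φ (WR ψ))) : c ∈ hat φ (WR ψ) := by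
  classical
  have s : ∀ v, sign (viaEmbeddingHom (wchi ψ) (Equiv.addRight v)) = 1 := fun v =>
    sign_of_pow_odd h2 (k := 1) (by
      rw [pow_one, ← map_pow, addRight_pow]
      have : p • v = 0 := by ext <;> simp
      rw [this, addRight_zero', map_one])
  have k1 : ∀ i, ∃ b, (i ∈ Set.range ψ → b = 0) ∧ (i ∉ Set.range ψ → ∀ v, c.1 (φ (i, v)) = φ (i, v + b)) := fun i => by
    by_cases hi : i ∈ Set.range ψ
    · exact ⟨0, fun _ => rfl, fun h => absurd hi h⟩
    have z : ∀ v y, (Pi.single i v : ι → ZMod p) (ψ y) = 0 := fun v y => Pi.single_eq_of_ne (fun e => hi ⟨y, e⟩) _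
    obtain ⟨b, hb⟩ := cent_reg (e := fun v => φ (i, v)) (c := c.1) (fun v =>
      ⟨_, cent_comm h (wtr_mem_WR ψ (z v)) (sign_wtr_odd h2 _), fun x => by
        rw [via_apply, wtr_apply, Pi.single_eq_same]⟩) fun y hy =>
      ⟨_, cent_comm h (wtr_mem_WR ψ (z 1)) (sign_wtr_odd h2 _), by
        by_cases e : y ∈ Set.range φ
        · obtain ⟨⟨j, t⟩, rfl⟩ := e
          rw [via_apply, wtr_apply, Pi.single_eq_of_ne (fun e => hy t (by rw [e])), add_zero]
        · exact via_apply' φ _ e, by rw [via_apply, wtr_apply, Pi.single_eq_same]; simp⟩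
    exact ⟨b, fun h => absurd h hi, fun _ => hb⟩
  choose b b1 b2 using k1
  obtain ⟨w, hw⟩ := cent_reg (e := fun v => φ (wchi ψ v)) (c := c.1) (fun v =>
    ⟨_, cent_comm h (rho_mem_WR ψ v) (s v), fun x => by rw [via_apply, via_apply]; rfl⟩) fun y hy =>
    ⟨_, cent_comm h (rho_mem_WR ψ 1) (s 1), by
      by_cases e : y ∈ Set.range φ
      · obtain ⟨v, rfl⟩ := e
        rw [via_apply, via_apply' _ _ fun ⟨x, hx⟩ => hy x (by rw [hx])]
      · exact via_apply' φ _ e, by rw [via_apply, via_apply]; simp⟩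
  refine ⟨_, mul_mem (rho_mem_WR ψ w) (wtr_mem_WR ψ fun y => b1 _ ⟨y, rfl⟩), ext_frame hc fun i x => ?_⟩
  by_cases hi : i ∈ Set.range ψ
  · obtain ⟨y, rfl⟩ := hi
    rw [Perm.mul_apply, wtr_apply, b1 _ ⟨y, rfl⟩, add_zero, rho_apply]; exact hw (y, x)
  · rw [Perm.mul_apply, wtr_apply, rho_apply' ψ _ hi]; exact b2 i hi x

theorem diag_eq (c : (ZMod p)ˣ) : ∃ σ, ∃ u : ι → (ZMod p)ˣ, ∏ i, u i = c ∧ wdl p σ * wdg u =
    viaEmbeddingHom (wchi ψ) (tvX (c : ZMod p) * tvY (-(c⁻¹ : (ZMod p)ˣ)) * tvX (c : ZMod p) * tvX (-1) * tvY 1 * tvX (-1)) := by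
  classical
  refine ⟨viaEmbeddingHom ψ (Units.mulLeft c⁻¹), fun i => if i ∈ Set.range ψ then c else 1, ?_,
    ext_chi ψ (fun y x => ?_) fun i hi x => ?_⟩
  · rw [Finset.prod_ite, Finset.prod_const_one, mul_one, Finset.prod_const]
    have : (Finset.univ.filter fun i => i ∈ Set.range ψ) = Finset.univ.map ψ := by ext; simp
    rw [this, Finset.card_map, Finset.card_univ, ZMod.card]
    exact Units.ext (by rw [Units.val_pow_eq_pow_val, ZMod.pow_card])
  · rw [rho_apply, Perm.mul_apply, wdg_apply, wdl_apply, via_apply, if_pos ⟨_, rfl⟩]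
    have := c.ne_zero
    simp only [Perm.mul_apply, tvX_apply, tvY_apply, Units.val_neg, Units.val_inv_eq_inv_val, Units.mulLeft_apply]
    congr 1
    · congr 1; field_simp; ring
    · field_simp; ring
  · rw [rho_apply' ψ _ hi, Perm.mul_apply, wdg_apply, wdl_apply, via_apply' ψ _ hi, if_neg hi]; simp

variable {ψ}

theorem norm_le (hc : ∀ x y : α, x ∉ Set.range φ → y ∉ Set.range φ → x = y) (h3 : 3 ≤ Fintype.card ι)
    (hτ : ∀ a, viaEmbeddingHom ψ (Equiv.addRight a) ∈ Q)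
    {H : Subgroup (alternatingGroup α) → Subgroup (alternatingGroup α)}
    (H1 : ∀ P ≤ hat φ (Wr p Q), ∀ g ∈ NN(P), Pel p g → g ∈ H P)
    (H2 : ∀ P ≤ hat φ (Wr p Q), ∀ R ≤ hat φ (Wr p Q), (∀ c ∈ CC(P), Pel p c → c ∈ P) →
      ∀ g ∈ H P, g ∈ NN(R) → g ∈ H R) : NN(hat φ (Wr p Q)) ≤ H (hat φ (Wr p Q)) := by
  have hpk : p ≤ Fintype.card ι := by simpa using Fintype.card_le_of_embedding ψ
  have l0 : hat φ (Wr p ⊥) ≤ hat φ (Wr p Q) := hat_mono (Wr_mono bot_le)
  have G1 : ∀ P ≤ Wr p Q, ∀ g ∈ NN(P), sign g = 1 → Pel p g → g ∈ unh φ (H (hat φ P)) := fun P l g hg s ho =>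
    mem_unh.2 ⟨s, H1 _ (hat_mono l) _ (wev_norm hg s) (wev_pel s ho)⟩
  have K : WK p ι ≤ unh φ (H (hat φ (Wr p ⊥))) := ppc_le_iff.2 fun g hg => G1 _ (Wr_mono bot_le) g hg.1 hg.2
  have D : ∀ c : (ZMod p)ˣ, ∃ σ, ∃ u : ι → (ZMod p)ˣ, ∏ i, u i = c ∧ wdl p σ * wdg u ∈ unh φ (H (hat φ (Wr p ⊥))) := by
    intro c
    by_cases h2 : p = 2
    · subst h2
      exact ⟨1, 1, Subsingleton.elim _ _, by rw [map_one, map_one, mul_one]; exact one_mem _⟩
    obtain ⟨σ, u, hu, e⟩ := diag_eq ψ c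
    have X : ∀ t, viaEmbeddingHom (wchi ψ) (tvX t) ∈ unh φ (H (hat φ (WR ψ))) := fun t =>
      have : viaEmbeddingHom (wchi ψ) (tvX t) ^ p ^ 1 = 1 := by
        rw [pow_one, ← map_pow, tvX_pow, ← map_one (viaEmbeddingHom (wchi ψ))]; congr 1; ext v <;> simp
      G1 _ (WR_le ψ hτ) _ (rho_norm ψ fun v w => by ext <;> simp; ring) (sign_of_pow_odd h2 this) ⟨1, this⟩
    have Y : ∀ t, viaEmbeddingHom (wchi ψ) (tvY t) ∈ unh φ (H (hat φ (WR ψ))) := fun t =>
      have : viaEmbeddingHom (wchi ψ) (tvY t) ^ p ^ 1 = 1 := by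
        rw [pow_one, ← map_pow, tvY_pow, ← map_one (viaEmbeddingHom (wchi ψ))]; congr 1; ext v <;> simp
      G1 _ (WR_le ψ hτ) _ (rho_norm ψ fun v w => by ext <;> simp; ring) (sign_of_pow_odd h2 this) ⟨1, this⟩
    have : wdl p σ * wdg u ∈ unh φ (H (hat φ (WR ψ))) := by
      rw [e]; simp only [map_mul]
      exact mmul (mmul (mmul (mmul (mmul (X _) (Y _)) (X _)) (X _)) (Y _)) (X _)
    obtain ⟨s, k⟩ := mem_unh.1 this
    exact ⟨σ, u, hu, mem_unh.2 ⟨s, H2 _ (hat_mono (WR_le ψ hτ)) _ l0 (fun c h _ => centric_WR ψ h2 hc h) _ k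
      (wev_norm (mmul (wdl_norm σ) (wdg_norm u)) s)⟩⟩
  intro a ha
  obtain ⟨f, σ, u, e⟩ := norm_form hc h3 ha
  refine H2 _ l0 _ le_rfl (fun c h _ => centric_base hc h3 h) _ (mem_of_unh ?_ e) ha
  have s : sign (wtr f * wdl p σ * wdg u) = 1 := by rw [← sign_via φ, e]; exact a.2
  obtain ⟨τ, v, hv, m⟩ := D (∏ i, u i)
  have m1 := mul_mem m (K (wdg_mem_WK hpk h3 (u := v⁻¹ * u) (by
    simp only [Pi.mul_apply, Pi.inv_apply, Finset.prod_mul_distrib, Finset.prod_inv_distrib, hv, inv_mul_cancel])))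
  rw [mul_assoc, ← map_mul, mul_inv_cancel_left] at m1
  have e1 : wtr f * wdl p σ * wdg u = wtr f * wdl p (σ * τ⁻¹) * (wdl p τ * wdg u) := by
    rw [map_mul, map_inv]; group
  rw [e1] at s ⊢
  rw [map_mul, unh_sign _ m1, mul_one, map_mul] at s
  have s1 : sign (wtr f) = 1 ∧ sign (wdl p (σ * τ⁻¹)) = 1 := by
    by_cases h2 : p = 2
    · have : sign (wdl p (σ * τ⁻¹)) = 1 := by subst h2; rw [sign_wdl, Int.units_sq]
      exact ⟨by rwa [this, mul_one] at s, this⟩
    · exact ⟨sign_wtr_odd h2 f, by rwa [sign_wtr_odd h2 f, one_mul] at s⟩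
  exact mmul (mmul (K (mem_ppc ⟨wtr_norm f, s1.1⟩ ⟨1, by rw [pow_one, wtr_pow_p]⟩)) (K (wdl_mem_WK hpk s1.2))) m1

theorem exists_syl_shift (ψ : ZMod p ↪ ι) :
    ∃ Q : Subgroup (Perm ι), Syl p Q ⊤ ∧ ∀ a, viaEmbeddingHom ψ (Equiv.addRight a) ∈ Q := by
  obtain ⟨Q, h1, h2⟩ := exists_syl (p := p) (U := zpowers (viaEmbeddingHom ψ (Equiv.addRight 1))) (A := ⊤)
    (isPGroup_of_forall fun x ⟨n, e⟩ => ⟨1, by
      rw [← e, pow_one, ← zpow_natCast, ← zpow_mul, mul_comm, zpow_mul, zpow_natCast, ← map_pow,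
        addRight_pow]
      simp⟩) le_top
  refine ⟨Q, h1, fun a => h2 ?_⟩
  obtain ⟨n, rfl⟩ := ZMod.natCast_zmod_surjective a
  exact ⟨n, by simp only [zpow_natCast]; rw [← map_pow, addRight_pow]; simp⟩

theorem zmod_two_add : (1 + 1 : ZMod 2) = 0 := by decide

theorem alt_fusion_simple (α : Type) [Fintype α] [DecidableEq α] (hn : 6 ≤ Fintype.card α)
    (hnp : p ^ 2 ≤ Fintype.card α) (hb : Fintype.card α % p ≤ 1) (S : Sylow p (alternatingGroup α)) :
    (groupFusionSystem (S : Subgroup (alternatingGroup α))).IsSimple p := by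
  obtain ⟨φ⟩ := exists_frame p α
  have h := frame_lt p α
  have hpk : p ≤ Fintype.card α / p := (Nat.le_div_iff_mul_le hp.out.pos).2 (by rwa [← sq])
  have h3 : 3 ≤ Fintype.card (Fin (Fintype.card α / p)) := by
    rw [Fintype.card_fin]
    by_cases h2 : p = 2
    · subst h2; omega
    · have := hp.out.two_le; omega
  obtain ⟨ψ⟩ : Nonempty (ZMod p ↪ Fin (Fintype.card α / p)) :=
    Function.Embedding.nonempty_of_card_le (by rwa [ZMod.card, Fintype.card_fin])
  obtain ⟨Q, hQ, hτ⟩ := exists_syl_shift ψ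
  have hc : ∀ x y : α, x ∉ Set.range φ → y ∉ Set.range φ → x = y := fun x y hx hy => by
    have : (Finset.univ.map φ)ᶜ.card ≤ 1 := by
      rw [Finset.card_compl, Finset.card_map, Finset.card_univ, Fintype.card_prod, ZMod.card, Fintype.card_fin]
      have := Nat.div_add_mod' (Fintype.card α) p
      omega
    exact Finset.card_le_one.1 this x (by simpa using hx) y (by simpa using hy)
  refine simple_crit2 (syl_hat (φ := φ) h hQ) ?_ (fun T hT z hz ho _ => gcl_top h h3 hQ ?_ hT hz ho)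
    (fun H H1 H2 => norm_le hc h3 hτ H1 H2) S
  · obtain ⟨j, hj, -⟩ := exists_third h3 (ψ 0) (ψ 0)
    obtain ⟨f, f1, -, f2⟩ := exists_even (p := p) h3 hj 1
    intro e
    have := congrArg (fun x : alternatingGroup α => x.1 (φ (j, 0))) (mem_bot.1 (e ▸ wev_mem_hat f2 (wtr_mem Q f)))
    simp [wev, via_apply, f1] at this
  · rintro rfl
    refine ⟨ψ 0, ψ 1, by simp, ?_⟩
    convert hτ 1
    refine Equiv.ext fun i => ?_
    by_cases e : i ∈ Set.range ψ
    · obtain ⟨y, rfl⟩ := e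
      rw [via_apply]
      rcases zmod_two_cases y with rfl | rfl
      · simp
      · rw [swap_apply_right]; exact congrArg ψ zmod_two_add.symm
    · rw [via_apply' ψ _ e, swap_apply_of_ne_of_ne (fun h => e ⟨0, h.symm⟩) fun h => e ⟨1, h.symm⟩]

end CfsgH8
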