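import Cfsg.Agent.H8.AutLin
import Cfsg.Agent.H5.Simple
import Cfsg.Agent.H5.Hyp
import Cfsg.Agent.H5.Count

/-!
Automorphisms of classical groups with a form, part 1: the groups `Q(e)`.
-/

set_option autoImplicit false

namespace CfsgH8

open Subgroup Module CfsgH5 CfsgH5.Form

variable {F : Type*} [Field F] {T : FParam F} {V : Type*} [AddCommGroup V] [Module F V]
  {S : Form T V} {G : Type*} [Group G] {ρ : G →* (V ≃ₗ[F] V)} {p : ℕ}

section Irr

theorem unip_eich [Fact p.Prime] [CharP F p] {u w : V} {l : F} (h : S.IsEich u w l) :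
    Unip p (eich h) := by
  refine unip_of_cube _ fun x => ?_
  intro y z
  have hy : S.B y u = 0 := by simp [y, eich_apply, h.perp, h.uu]
  have hz : z = (-(T.ε * S.B y w)) • u := by simp [z, eich_of_perp h hy]
  rw [hz, map_smul, eich_self]

theorem isPGroup_Qu [Fact p.Prime] [CharP F p] {u : V} (hu : S.q u = 0) : IsPGroup p (S.Qu u) :=
  isPGroup_of_unip fun g hg => by
    obtain ⟨w, l, h, rfl⟩ := (mem_Qu hu).1 hg
    exact unip_eich h

/-- irreducibility under Eichler transformations -/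
theorem eq_top_of_eich [Finite F] [FiniteDimensional F V] (hS : S.Nondeg)
    (hdim : T.Λ ≠ ⊥ ∨ finrank F V ≠ 2) {u : V} (hu : S.q u = 0) (hu0 : u ≠ 0)
    {Y : Submodule F V} (hY0 : Y ≠ ⊥)
    (hY : ∀ a w l (h : S.IsEich a w l), ∀ y ∈ Y, eich h y ∈ Y) : Y = ⊤ := by
  obtain ⟨p, hp⟩ := CharP.exists F
  haveI : Fact p.Prime := ⟨CharP.char_is_prime F p⟩
  haveI : Finite V := Module.finite_of_finite F
  have key : ∀ Y : Submodule F V, Y ≠ ⊥ → (∀ a w l (h : S.IsEich a w l), ∀ y ∈ Y, eich h y ∈ Y) →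
      ∀ a, S.q a = 0 → a ∈ Y := by
    intro Y hY0 hY a ha
    rcases eq_or_ne a 0 with rfl | ha0
    · exact Y.zero_mem
    obtain ⟨x, hx, hx0, hfix⟩ := exists_fixed (MonoidHom.id _) (isPGroup_Qu (p := p) ha) hY0
      (fun g hg y hy => by
        obtain ⟨w, l, h, rfl⟩ := (mem_Qu ha).1 hg
        exact hY _ _ _ h y hy)
    obtain ⟨c, rfl⟩ := Submodule.mem_span_singleton.1 (hS.mem_span_of_fixed hdim ha ha0 hfix)
    have hc : c ≠ 0 := by rintro rfl; simp at hx0
    simpa [hc] using Y.smul_mem c⁻¹ hx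
  by_contra hne
  have hP : S.perp Y ≠ ⊥ := fun h => hne (by
    have := hS.finrank_perp Y
    rw [h, finrank_bot] at this
    exact Submodule.eq_top_of_finrank_eq this)
  obtain ⟨v, hv⟩ := hS.exists_hyp' hu hu0
  have h1 := key _ hP (fun a w l h y hy z hz => by
    rw [isom_B_left (eich_mem h), eich_inv]
    exact hy _ (hY _ _ _ _ _ hz)) u hu v (key _ hY0 hY v hv.qf)
  rw [hv.ef] at h1
  exact one_ne_zero h1

theorem eich_normal {e f w : V} {l : F} (hef : S.IsHyp e f) (h : S.IsEich e w l) :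
    ∃ w' l', ∃ h' : S.IsEich e w' l', S.B w' f = 0 ∧ eich h = eich h' := by
  refine ⟨w + (-S.B w f) • e, l + T.σ (S.B w f) - T.ε * S.B w f, ⟨h.sing, by simp [h.perp, h.uu], ?_⟩,
    by simp [hef.ef], ?_⟩
  · rw [S.q_add_smul_sing _ _ h.sing, h.perp, h.rep, mul_zero, map_zero, add_zero]
    refine T.π_eq_of (-T.σ (S.B w f)) ?_
    simp only [map_neg, T.σσ]; ring
  · ext x
    simp only [eich_apply, add_right, smul_right, map_neg]
    linear_combination (norm := module) (-(S.B x e * S.B w f) * T.εε) • e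

theorem eich_f {e f w : V} {l : F} (hef : S.IsHyp e f) (h : S.IsEich e w l) (hw : S.B w f = 0) :
    eich h f = f + T.ε • w - l • e := by
  rw [eich_apply, hef.fe, perp_symm hw]
  linear_combination (norm := module) (-l * T.εε) • e

theorem eich_f_inj {e f w w' : V} {l l' : F} (hef : S.IsHyp e f) (h : S.IsEich e w l)
    (h' : S.IsEich e w' l') (hw : S.B w f = 0) (hw' : S.B w' f = 0) (H : eich h f = eich h' f) :
    w = w' ∧ l = l' := by
  rw [eich_f hef h hw, eich_f hef h' hw'] at H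
  have h1 := congrArg (S.B · f) H
  simp [hw, hw', hef.ef] at h1
  subst h1
  refine ⟨?_, rfl⟩
  have : T.ε • w = T.ε • w' := by simpa using H
  exact smul_right_injective V T.ε_ne this

/-- parameters of Eichler transformations -/
def ES (S : Form T V) (X : Submodule F V) : Set (V × F) := {x | x.1 ∈ X ∧ S.q x.1 = T.π x.2}

theorem card_ES [Finite F] [Finite V] (X : Submodule F V) :
    Nat.card (ES S X) = Nat.card X * Nat.card T.Λ := by
  let e : ES S X ≃ Σ w : X, {a : F // T.π a = S.q w} :=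
    { toFun := fun x => ⟨⟨x.1.1, x.2.1⟩, ⟨x.1.2, x.2.2.symm⟩⟩
      invFun := fun x => ⟨(x.1, x.2), x.1.2, x.2.2.symm⟩
      left_inv := fun _ => rfl
      right_inv := fun _ => rfl }
  letI := Fintype.ofFinite X
  rw [Nat.card_congr e, Nat.card_sigma]
  simp [card_π_eq]

end Irr

/-- the unipotent radical of the stabiliser of a singular point -/
def QP (S : Form T V) (ρ : G →* (V ≃ₗ[F] V)) (e : V) : Subgroup G := (S.Qu e).comap ρ

theorem mem_QP {e : V} (he : S.q e = 0) {g : G} :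
    g ∈ QP S ρ e ↔ ∃ w l, ∃ h : S.IsEich e w l, ρ g = eich h := mem_Qu he

theorem mem_QP_of_eq {e w : V} {l : F} {h : S.IsEich e w l} {g : G} (hg : ρ g = eich h) :
    g ∈ QP S ρ e := (mem_QP h.sing).2 ⟨w, l, h, hg⟩

theorem mem_QP' {e f : V} (hef : S.IsHyp e f) {g : G} (hg : g ∈ QP S ρ e) :
    ∃ w l, ∃ h : S.IsEich e w l, S.B w f = 0 ∧ ρ g = eich h := by
  obtain ⟨w, l, h, hg⟩ := (mem_QP hef.qe).1 hg
  obtain ⟨w', l', h', hw, e'⟩ := eich_normal hef h
  exact ⟨w', l', h', hw, hg.trans e'⟩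

theorem QP_smul (e : V) {c : F} (hc : c ≠ 0) : QP S ρ (c • e) = QP S ρ e := by
  rw [QP, Qu_smul e hc, QP]

theorem QP_fix {e : V} (he : S.q e = 0) {g : G} (hg : g ∈ QP S ρ e) : ρ g e = e := by
  obtain ⟨w, l, h, hg⟩ := (mem_QP he).1 hg
  rw [hg, eich_self]

theorem QP_triv {e : V} (he : S.q e = 0) {g : G} (hg : g ∈ QP S ρ e) {x : V} (hx : S.B x e = 0) :
    ∃ c : F, ρ g x = x + c • e := by
  obtain ⟨w, l, h, hg⟩ := (mem_QP he).1 hg
  exact ⟨-(T.ε * S.B x w), by rw [hg, eich_of_perp h hx, neg_smul, sub_eq_add_neg]⟩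

/-- the standing hypotheses -/
structure FSetup (S : Form T V) (ρ : G →* (V ≃ₗ[F] V)) : Prop where
  nd : S.Nondeg
  inj : Function.Injective ρ
  range : ρ.range = S.EG
  dim : T.Λ ≠ ⊥ ∨ (finrank F V ≠ 2 ∧ finrank F V ≠ 4)

namespace FSetup

variable (H : FSetup S ρ)
include H

theorem dim2 : T.Λ ≠ ⊥ ∨ finrank F V ≠ 2 := H.dim.imp id And.left

theorem mem_EG (g : G) : ρ g ∈ S.EG := H.range ▸ ⟨g, rfl⟩

theorem mem (g : G) : ρ g ∈ S.isom := EG_le_isom (H.mem_EG g)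

theorem B_map (g : G) (x y : V) : S.B (ρ g x) (ρ g y) = S.B x y := isom_B (H.mem g) x y

theorem q_map (g : G) (x : V) : S.q (ρ g x) = S.q x := isom_q (H.mem g) x

theorem B_left (g : G) (x y : V) : S.B (ρ g x) y = S.B x (ρ g⁻¹ y) := by
  rw [← H.B_map g x, rho_inv_apply]

theorem B_right (g : G) (x y : V) : S.B x (ρ g y) = S.B (ρ g⁻¹ x) y := by
  rw [← H.B_map g _ y, rho_inv_apply]

theorem exists_of_EG {t : V ≃ₗ[F] V} (ht : t ∈ S.EG) : ∃ g, ρ g = t := by
  rw [← H.range] at ht; exact ht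

theorem exists_eich {u w : V} {l : F} (h : S.IsEich u w l) : ∃ g, ρ g = eich h :=
  H.exists_of_EG (eich_mem_EG h)

theorem isPGroup_QP [Fact p.Prime] [CharP F p] {e : V} (he : S.q e = 0) : IsPGroup p (QP S ρ e) :=
  (isPGroup_Qu he).comap_of_injective ρ H.inj

theorem unip_of_eq [Fact p.Prime] [CharP F p] {u w : V} {l : F} {h : S.IsEich u w l} {g : G}
    (hg : ρ g = eich h) : Unip p g := unip_of_map H.inj (hg ▸ unip_eich h)

theorem conj_mem_QP {a : V} (ha : S.q a = 0) (g : G) {x : G} (hx : x ∈ QP S ρ a) :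
    g * x * g⁻¹ ∈ QP S ρ (ρ g a) := by
  obtain ⟨w, l, h, hx⟩ := (mem_QP ha).1 hx
  exact mem_QP_of_eq (h := h.map (H.mem g)) (by rw [map_mul, map_mul, hx, map_inv, conj_eich h (H.mem g)])

theorem mem_QP_map {a : V} (ha : S.q a = 0) {g x : G} :
    x ∈ QP S ρ (ρ g a) ↔ g⁻¹ * x * g ∈ QP S ρ a := by
  refine ⟨fun h => ?_, fun h => by simpa [mul_assoc] using H.conj_mem_QP ha g h⟩
  have := H.conj_mem_QP (by rw [H.q_map, ha]) g⁻¹ h
  rwa [rho_apply_inv, inv_inv] at this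

theorem conj_mem_QP' {a : V} (ha : S.q a = 0) (ha0 : a ≠ 0) {g : G} {c : F} (hg : ρ g a = c • a)
    {x : G} (hx : x ∈ QP S ρ a) : g * x * g⁻¹ ∈ QP S ρ a := by
  have hc : c ≠ 0 := by rintro rfl; exact rho_ne_zero (ρ := ρ) g ha0 (by simpa using hg)
  have := H.conj_mem_QP ha g hx
  rwa [hg, QP_smul _ hc] at this

theorem mem_QP_of {e f : V} (hef : S.IsHyp e f) {g : G} (hg : ρ g e = e)
    (h : ∀ x, S.B x e = 0 → ∃ c : F, ρ g x = x + c • e) : g ∈ QP S ρ e := by
  have h1 : S.B f e = S.B (ρ g f) e := by rw [← H.B_map g f e, hg]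
  obtain ⟨w, l, h2, h3⟩ : ∃ w l, ∃ h2 : S.IsEich e w l, eich h2 f = ρ g f :=
    ⟨_, exists_eich_map hef.qe (by rw [hef.fe]; exact T.ε_ne) h1 (H.q_map g f).symm⟩
  refine mem_QP_of_eq (h := h2) ?_
  have key : ∀ x, S.B x e = 0 → S.B x f = 0 → ρ g x = eich h2 x := by
    intro x hxe hxf
    obtain ⟨c, hc⟩ := h x hxe
    have e1 : S.B (ρ g x) (ρ g f) = 0 := by rw [H.B_map, hxf]
    have e2 : S.B (eich h2 x) (ρ g f) = 0 := by rw [← h3, isom_B (eich_mem h2), hxf]
    have e3 : S.B e (ρ g f) = 1 := by rw [← hef.ef, ← H.B_map g e f, hg]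
    rw [eich_of_perp h2 hxe] at e2 ⊢
    rw [hc] at e1 ⊢
    simp only [add_left, sub_left, smul_left, e3, mul_one] at e1 e2
    rw [sub_eq_add_neg, ← neg_smul]
    congr 2
    linear_combination e1 - e2
  ext x
  have hd := S.mem_perp_pair.1 (hef.decomp x)
  have := key _ hd.1 hd.2
  simp only [map_sub, map_add, map_smul, hg, h3, eich_self] at this
  exact sub_left_injective this

variable [FiniteDimensional F V]

theorem fix_QP {a x : V} (ha : S.q a = 0) (ha0 : a ≠ 0) (h : ∀ t ∈ QP S ρ a, ρ t x = x) :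
    ∃ c : F, x = c • a := by
  obtain ⟨c, hc⟩ := Submodule.mem_span_singleton.1 (H.nd.mem_span_of_fixed H.dim2 ha ha0 fun k hk => by
    obtain ⟨g, rfl⟩ := H.exists_of_EG (Qu_le_EG a hk)
    exact h g hk)
  exact ⟨c, hc.symm⟩

theorem mem_center_iff' {e : V} (he : S.q e = 0) (he0 : e ≠ 0) {z : G} :
    z ∈ center G ↔ ∃ c : F, ∀ v, ρ z v = c • v :=
  H.nd.mem_center_iff H.dim2 he he0 ρ H.inj H.range.ge (H.range.le.trans EG_le_isom)

theorem centerP' [Fact p.Prime] [CharP F p] {e : V} (he : S.q e = 0) (he0 : e ≠ 0) :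
    CenterP' p G := fun z hz hu => by
  obtain ⟨c, hc⟩ := (H.mem_center_iff' he he0).1 hz
  have := (hu.map ρ).eigen he0 (hc e)
  exact rho_ext H.inj fun v => by simp [hc, this]

theorem exists_move {a b : V} (ha : S.q a = 0) (ha0 : a ≠ 0) (hb : S.q b = 0) (hb0 : b ≠ 0) :
    ∃ (g : G) (c : F), c ≠ 0 ∧ ρ g a = c • b := by
  obtain ⟨t, ht, c, hc, h⟩ := H.nd.EG_trans_points H.dim2 ha ha0 hb hb0
  obtain ⟨g, rfl⟩ := H.exists_of_EG ht
  exact ⟨g, c, hc, h⟩

theorem card_QP [Finite F] {e f : V} (hef : S.IsHyp e f) :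
    Nat.card (QP S ρ e) = Nat.card F ^ (finrank F V - 2) * Nat.card T.Λ := by
  haveI : Finite V := Module.finite_of_finite F
  have h1 := H.nd.finrank_perp_hyp hef
  rw [← h1, Nat.add_sub_cancel, ← card_eq_pow_finrank', ← card_ES (S := S)]
  have hE : ∀ x : ES S (S.perp {e, f}), S.IsEich e x.1.1 x.1.2 := fun x =>
    ⟨hef.qe, (S.mem_perp_pair.1 x.2.1).1, x.2.2⟩
  choose g hg using fun x => H.exists_eich (hE x)
  refine (Nat.card_congr (Equiv.ofBijective (fun x => (⟨g x, mem_QP_of_eq (hg x)⟩ : QP S ρ e))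
    ⟨fun x y hxy => ?_, fun t => ?_⟩)).symm
  · have h2 : g x = g y := congrArg Subtype.val hxy
    have := eich_f_inj hef (hE x) (hE y) (S.mem_perp_pair.1 x.2.1).2 (S.mem_perp_pair.1 y.2.1).2
      (by rw [← hg, ← hg, h2])
    exact Subtype.ext (Prod.ext this.1 this.2)
  · obtain ⟨w, l, h, hw, ht⟩ := mem_QP' hef t.2
    refine ⟨⟨(w, l), S.mem_perp_pair.2 ⟨h.perp, hw⟩, h.rep⟩, Subtype.ext (H.inj ?_)⟩
    rw [hg, ht]

end FSetup

/-- irreducibility of the Levi subgroup -/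
def LeviIrr (S : Form T V) (ρ : G →* (V ≃ₗ[F] V)) (e f : V) : Prop :=
  ∀ Y : Submodule F V, Y ≤ S.perp {e, f} → Y ≠ ⊥ →
    (∀ g : G, ρ g ∈ S.eichSet → ρ g e = e → ρ g f = f → ∀ y ∈ Y, ρ g y ∈ Y) → Y = S.perp {e, f}

theorem leviIrr_of_one [FiniteDimensional F V] {e f : V} (h : finrank F (S.perp {e, f}) = 1) :
    LeviIrr S ρ e f := fun Y hY hY0 _ =>
  Submodule.eq_of_le_of_finrank_le hY (h ▸ Submodule.one_le_finrank_iff.2 hY0)

theorem FSetup.leviIrr [Finite F] [FiniteDimensional F V] (H : FSetup S ρ) {e f u : V}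
    (hef : S.IsHyp e f) (hu : S.q u = 0) (hu0 : u ≠ 0) (huW : u ∈ S.perp {e, f}) :
    LeviIrr S ρ e f := by
  intro Y hY hY0 hinv
  have h1 := H.nd.finrank_perp_hyp hef
  have := eq_top_of_eich (S := S.res (S.perp {e, f})) (H.nd.nondegOn_perp_hyp hef).res
    (H.dim.imp id fun h => by omega) (u := ⟨u, huW⟩) hu (fun h => hu0 (congrArg Subtype.val h))
    (Y := Y.comap (S.perp {e, f}).subtype) (fun h => hY0 (by
      rw [← Submodule.map_comap_eq_self (f := (S.perp {e, f}).subtype) (q := Y) (by simpa using hY), h,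
        Submodule.map_bot])) (fun a w l h y hy => by
      have h' : S.IsEich a w l := ⟨h.sing, h.perp, h.rep⟩
      obtain ⟨g, hg⟩ := H.exists_eich h'
      have ha := S.mem_perp_pair.1 a.2
      have hw := S.mem_perp_pair.1 w.2
      have := hinv g ⟨_, _, _, h', hg⟩ (by rw [hg, eich_fix h' (perp_symm ha.1) (perp_symm hw.1)])
        (by rw [hg, eich_fix h' (perp_symm ha.2) (perp_symm hw.2)]) y hy
      rw [hg] at this
      exact this)
  refine le_antisymm hY fun x hx => ?_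
  have h2 : (⟨x, hx⟩ : S.perp {e, f}) ∈ Y.comap (S.perp {e, f}).subtype := this ▸ Submodule.mem_top
  exact h2

end CfsgH8
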