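import Cfsg.Agent.H8.AutForm1

/-!
Automorphisms of classical groups with a form, part 2: the image of `Q(e)`.
-/

set_option autoImplicit false

namespace CfsgH8

open Subgroup Module CfsgH5 CfsgH5.Form

variable {F : Type*} [Field F] {T : FParam F} {V : Type*} [AddCommGroup V] [Module F V]
  {S : Form T V} {G : Type*} [Group G] {ρ : G →* (V ≃ₗ[F] V)} {p : ℕ}

/-- the preimage of a subgroup under an automorphism of the central quotient -/
def relComap (β : (G ⧸ center G) ≃* (G ⧸ center G)) (K : Subgroup G) : Subgroup G where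
  carrier := {g | ∃ g' ∈ K, Rel β g g'}
  mul_mem' := fun ⟨_, h1, h2⟩ ⟨_, h3, h4⟩ => ⟨_, mul_mem h1 h3, h2.mul h4⟩
  one_mem' := ⟨1, one_mem _, Rel.one⟩
  inv_mem' := fun ⟨_, h1, h2⟩ => ⟨_, inv_mem h1, h2.inv⟩

theorem card_step [Finite G] (K : Subgroup G) (x : V) {I : Type*} (t : I → G) (ht : ∀ i, t i ∈ K)
    (hinj : Function.Injective fun i => ρ (t i) x) :
    Nat.card I * Nat.card ↥(K ⊓ (fixer F {x}).comap ρ) ≤ Nat.card K := by
  rw [← Nat.card_prod]
  refine Nat.card_le_card_of_injective (fun y : I × ↥(K ⊓ (fixer F {x}).comap ρ) =>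
    (⟨t y.1 * y.2, mul_mem (ht _) y.2.2.1⟩ : K)) ?_
  rintro ⟨i, a⟩ ⟨j, b⟩ h
  have h1 : t i * a = t j * b := congrArg Subtype.val h
  have h2 : i = j := hinj (by
    have := congrArg (fun g => ρ g x) h1
    simpa [rho_mul_apply, a.2.2 x rfl, b.2.2 x rfl] using this)
  subst h2
  exact Prod.ext rfl (Subtype.ext (mul_left_cancel h1))

theorem finrank_inf_perp [FiniteDimensional F V] (X : Submodule F V) (y : V) :
    finrank F X ≤ finrank F ↥(X ⊓ S.perp {y}) + 1 := by
  have h1 := LinearMap.finrank_range_add_finrank_ker ((S.lin y).domRestrict X)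
  have h2 : finrank F (LinearMap.range ((S.lin y).domRestrict X)) ≤ 1 := by
    simpa using Submodule.finrank_le (LinearMap.range ((S.lin y).domRestrict X))
  have h3 : (LinearMap.ker ((S.lin y).domRestrict X)).map X.subtype = X ⊓ S.perp {y} := by
    ext x
    simp only [Submodule.mem_map, LinearMap.mem_ker, LinearMap.domRestrict_apply, lin_apply,
      Submodule.subtype_apply, Submodule.mem_inf, mem_perp_singleton]
    exact ⟨by rintro ⟨y, h, rfl⟩; exact ⟨y.2, h⟩, fun h => ⟨⟨x, h.1⟩, h.2, rfl⟩⟩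
  rw [← h3, Submodule.finrank_map_subtype_eq]
  omega

/-- the unipotent radical of the stabiliser of a totally singular subspace -/
def RV (S : Form T V) (ρ : G →* (V ≃ₗ[F] V)) (X : Submodule F V) : Subgroup G where
  carrier := {g | (∀ v ∈ X, ρ g v = v) ∧ ∀ x ∈ S.perp X, ρ g x - x ∈ X}
  mul_mem' := fun {a b} ha hb => ⟨fun x hx => by rw [rho_mul_apply, hb.1 x hx, ha.1 x hx],
    fun v hv => by
      have := X.add_mem (ha.2 v hv) (hb.2 v hv)
      rw [rho_mul_apply, ← sub_add_cancel (ρ b v) v, map_add, ha.1 _ (hb.2 v hv)]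
      convert this using 1
      abel⟩
  one_mem' := ⟨fun x _ => rho_one_apply ρ x, fun v => by simp⟩
  inv_mem' := fun {a} ha => ⟨fun x hx => rho_inv_eq (ha.1 x hx), fun v hv => by
    have := ha.1 _ (ha.2 v hv)
    have h2 := rho_inv_eq this
    rw [map_sub, rho_apply_inv] at h2
    rw [← neg_sub, h2]
    exact X.neg_mem (ha.2 v hv)⟩

theorem mem_RV {X : Submodule F V} {g : G} :
    g ∈ RV S ρ X ↔ (∀ v ∈ X, ρ g v = v) ∧ ∀ x ∈ S.perp X, ρ g x - x ∈ X := Iff.rfl

namespace FSetup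

variable (H : FSetup S ρ)
include H

theorem sub_mem_perp {X : Submodule F V} {g : G} (hg : ∀ v ∈ X, ρ g v = v) (x : V) :
    ρ g x - x ∈ S.perp X := fun v hv => by
  rw [sub_left, ← H.B_map g x v, hg v hv, sub_self]

theorem isPGroup_RV [Fact p.Prime] [CharP F p] (X : Submodule F V) : IsPGroup p (RV S ρ X) :=
  isPGroup_of_unip fun g hg => unip_of_map H.inj (unip_of_cube _ fun x =>
    hg.1 _ (hg.2 _ (H.sub_mem_perp hg.1 x)))

theorem RV_conj {X : Submodule F V} {g : G} (hg : ρ g ∈ stab F (X : Set V)) {r : G}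
    (hr : r ∈ RV S ρ X) : g * r * g⁻¹ ∈ RV S ρ X := by
  have hg' : ρ g⁻¹ ∈ stab F (X : Set V) := by rw [map_inv]; exact inv_mem hg
  refine ⟨fun v hv => by rw [rho_mul_apply, rho_mul_apply, hr.1 _ (stab_apply hg' hv), rho_inv_apply],
    fun x hx => ?_⟩
  have := stab_apply hg (hr.2 _ (stab_apply (isom_stab_perp (H.mem g⁻¹) hg') hx))
  rwa [map_sub, rho_inv_apply, ← rho_mul_apply, ← rho_mul_apply] at this

theorem eich_mem_RV {X : Submodule F V} (hX : S.TotSing X) {a w : V} {l : F} {h : S.IsEich a w l}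
    (ha : a ∈ X) (hw : w ∈ S.perp X) {g : G} (hg : ρ g = eich h) : g ∈ RV S ρ X := by
  refine ⟨fun v hv => by rw [hg, eich_fix h (hX.B _ hv _ ha) (perp_symm (hw v hv))], fun x hx => ?_⟩
  rw [hg, eich_of_perp h (hx a ha)]
  simpa using X.smul_mem _ ha

variable [Finite F] [FiniteDimensional F V] [Fact p.Prime] [CharP F p]

theorem le_QP_of_normal {e f : V} (hef : S.IsHyp e f) (hI : LeviIrr S ρ e f) {N : Subgroup G}
    (hN : IsPGroup p N) (h1 : ∀ n ∈ N, ∃ c : F, ρ n e = c • e)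
    (h2 : ∀ g : G, ρ g e = e → ρ g f = f → ∀ n ∈ N, g * n * g⁻¹ ∈ N) : N ≤ QP S ρ e := by
  haveI : Finite V := Module.finite_of_finite F
  have hfix : ∀ n ∈ N, ρ n e = e := fun n hn => by
    obtain ⟨c, hc⟩ := h1 n hn
    rw [hc, ((Unip.of_mem hN hn).map ρ).eigen hef.ne_left hc, one_smul]
  suffices ∀ w ∈ S.perp {e, f}, ∀ n ∈ N, ρ n w - w ∈ F ∙ e by
    intro n hn
    refine H.mem_QP_of hef (hfix n hn) fun x hx => ?_
    have hd := hef.decomp x
    rw [hx, mul_zero, zero_smul, add_zero] at hd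
    obtain ⟨c, hc⟩ := Submodule.mem_span_singleton.1 (this _ hd n hn)
    rw [map_sub, map_smul, hfix n hn] at hc
    exact ⟨c, by rw [hc]; abel⟩
  rcases eq_or_ne (S.perp {e, f}) ⊥ with h0 | h0
  · intro w hw n _
    rw [h0, Submodule.mem_bot] at hw
    simp [hw]
  obtain ⟨w₀, hw₀, hw0⟩ := Submodule.exists_mem_ne_zero_of_ne_bot h0
  have hw₀' := S.mem_perp_pair.1 hw₀
  obtain ⟨x, hx, hxe, hxN⟩ := exists_fixed_mod ρ hN (Y := F ∙ e) (X := S.perp {e})
    (lt_of_le_of_ne ((Submodule.span_singleton_le_iff_mem _ _).2 (by simp [hef.ee])) fun h => by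
      have : w₀ ∈ F ∙ e := by rw [h]; simpa using hw₀'.1
      obtain ⟨c, rfl⟩ := Submodule.mem_span_singleton.1 this
      have := hw₀'.2
      simp [hef.ef] at this
      simp [this] at hw0)
    (fun g hg y hy => by
      obtain ⟨c, rfl⟩ := Submodule.mem_span_singleton.1 hy
      rw [map_smul, hfix g hg]; exact hy)
    (fun g hg y hy => by
      rw [mem_perp_singleton] at hy ⊢
      rw [← hfix g hg, H.B_map, hy])
  let Y : Submodule F V :=
    { carrier := {w | w ∈ S.perp {e, f} ∧ ∀ n ∈ N, ρ n w - w ∈ F ∙ e}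
      add_mem' := fun {a b} ha hb => ⟨add_mem ha.1 hb.1, fun n hn => by
        have := add_mem (ha.2 n hn) (hb.2 n hn)
        rw [map_add]; convert this using 1; abel⟩
      zero_mem' := ⟨zero_mem _, by simp⟩
      smul_mem' := fun c a ha => ⟨Submodule.smul_mem _ c ha.1, fun n hn => by
        rw [map_smul, ← smul_sub]; exact Submodule.smul_mem _ c (ha.2 n hn)⟩ }
  have hY := hI Y (fun y hy => hy.1) (by
    have hd := hef.decomp x
    rw [S.mem_perp_singleton.1 hx, mul_zero, zero_smul, add_zero] at hd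
    refine (Submodule.ne_bot_iff _).2 ⟨_, ⟨hd, fun n hn => ?_⟩, fun h => hxe ?_⟩
    · rw [map_sub, map_smul, hfix n hn]
      simpa using hxN n hn
    · rw [sub_eq_zero.1 h]
      exact Submodule.smul_mem _ _ (Submodule.mem_span_singleton_self e))
    (fun g _ hge hgf y hy => ⟨by
      have := S.mem_perp_pair.1 hy.1
      rw [mem_perp_pair, ← hge, ← hgf, H.B_map, H.B_map]
      simpa [hge, hgf] using this, fun n hn => by
      obtain ⟨c, hc⟩ := Submodule.mem_span_singleton.1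
        (hy.2 _ (h2 g⁻¹ (rho_inv_eq hge) (rho_inv_eq hgf) n hn))
      have := congrArg (ρ g) hc
      rw [map_smul, hge, map_sub, inv_inv, rho_mul_apply, rho_mul_apply, rho_inv_apply] at this
      exact Submodule.mem_span_singleton.2 ⟨c, this⟩⟩)
  intro w hw
  rw [← hY] at hw
  exact hw.2

variable [Finite G]

theorem corr_cases {e f : V} (hef : S.IsHyp e f) (hI : LeviIrr S ρ e f)
    (β : (G ⧸ center G) ≃* (G ⧸ center G)) :
    ∃ (h : G) (X : Submodule F V) (A : Subgroup G), S.TotSing X ∧ e ∈ X ∧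
      Corr p (twist β h) (QP S ρ e) A ∧ (∀ a ∈ A, ∀ v ∈ X, ρ a v = v) ∧ RV S ρ X ≤ A := by
  haveI : Finite V := Module.finite_of_finite F
  have he := hef.qe
  have he0 := hef.ne_left
  have hZ : CenterP' p G := H.centerP' he he0
  have hQ : IsPGroup p (QP S ρ e) := H.isPGroup_QP he
  obtain ⟨U, hU⟩ := hQ.exists_le_sylow
  obtain ⟨h, hUU⟩ := exists_twist_sylow hZ β U
  refine ⟨h, ?_⟩
  generalize twist β h = γ at hUU ⊢
  obtain ⟨A, hA⟩ := exists_corr γ hQ
  have hUe : ∀ u ∈ (U : Subgroup G), ρ u e = e := by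
    haveI : Nontrivial V := ⟨⟨e, 0, he0⟩⟩
    obtain ⟨x, -, hx0, hx⟩ := exists_fixed ρ U.isPGroup' (X := ⊤) top_ne_bot (fun _ _ _ _ => trivial)
    obtain ⟨c, rfl⟩ := H.fix_QP he he0 fun t ht => hx t (hU ht)
    have hc : c ≠ 0 := by rintro rfl; simp at hx0
    intro u hu
    have := hx u hu
    rw [map_smul] at this
    exact smul_right_injective V hc this
  let C : Submodule F V :=
    { carrier := {v | ∀ a ∈ A, ρ a v = v}
      add_mem' := fun {a b} ha hb g hg => by rw [map_add, ha g hg, hb g hg]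
      zero_mem' := fun g _ => map_zero _
      smul_mem' := fun c a ha g hg => by rw [map_smul, ha g hg] }
  let X : Submodule F V :=
    { carrier := {v | v ∈ C ⊓ S.perp C ∧ S.q v = 0}
      add_mem' := fun {a b} ha hb => ⟨add_mem ha.1 hb.1, by
        rw [q_add, ha.2, hb.2, ha.1.2 b hb.1.1]; simp⟩
      zero_mem' := ⟨zero_mem _, by simp⟩
      smul_mem' := fun c a ha => ⟨Submodule.smul_mem _ c ha.1, S.q_smul_zero c ha.2⟩ }
  have hX : S.TotSing X := ⟨fun w hw => hw.2, fun w hw w' hw' => hw.1.2 w' hw'.1.1⟩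
  -- elements normalising `A` stabilise everything
  have hnorm : ∀ g : G, (∀ a ∈ A, g * a * g⁻¹ ∈ A) → (∀ a ∈ A, g⁻¹ * a * g⁻¹⁻¹ ∈ A) →
      ∀ v ∈ C ⊓ S.perp C, ρ g v ∈ C ⊓ S.perp C := by
    have h1 : ∀ g : G, (∀ a ∈ A, g⁻¹ * a * g⁻¹⁻¹ ∈ A) → ∀ v ∈ C, ρ g v ∈ C := fun g hg v hv a ha => by
      have := congrArg (ρ g) (hv _ (hg a ha))
      rwa [inv_inv, rho_mul_apply, rho_mul_apply, rho_inv_apply] at this
    intro g hg hg' v hv
    refine ⟨h1 g hg' v hv.1, fun w hw => ?_⟩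
    rw [H.B_left]
    exact hv.2 _ (h1 g⁻¹ (by simpa using hg) w hw)
  have hP1 : ∀ g g' : G, Rel γ g g' → (∃ c : F, ρ g e = c • e) →
      ∀ v ∈ C ⊓ S.perp C, ρ g' v ∈ C ⊓ S.perp C := by
    rintro g g' hg ⟨c, hc⟩
    have hc0 : c ≠ 0 := by rintro rfl; exact rho_ne_zero (ρ := ρ) g he0 (by simpa using hc)
    refine hnorm g' (hA.conj_mem hZ hg fun x hx => H.conj_mem_QP' he he0 hc hx)
      (hA.conj_mem hZ hg.inv fun x hx => H.conj_mem_QP' he he0 (c := c⁻¹) ?_ hx)
    refine rho_inv_eq ?_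
    rw [map_smul, hc, smul_smul, inv_mul_cancel₀ hc0, one_smul]
  have hP2 : ∀ g g' : G, Rel γ g g' → (∃ c : F, ρ g e = c • e) → ρ g' ∈ stab F (X : Set V) :=
    fun g g' hg hc => mem_stab_of_le fun v hv => ⟨hP1 g g' hg hc v hv.1, by rw [H.q_map, hv.2]⟩
  have hD : C ⊓ S.perp C ≠ ⊥ := by
    intro hD
    rcases eq_or_ne (S.perp C) ⊥ with h0 | h0
    · have hC : C = ⊤ := by
        have := H.nd.finrank_perp C
        rw [h0, finrank_bot] at this
        exact Submodule.eq_top_of_finrank_eq this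
      obtain ⟨c, hc⟩ := H.fix_QP (x := f) he he0 fun t ht => by
        obtain ⟨a, ha, hr⟩ := hA.fwd t ht
        have ha1 : a = 1 := rho_ext H.inj fun v => by
          have : v ∈ C := hC ▸ Submodule.mem_top
          rw [this a ha, rho_one_apply]
        rw [ha1] at hr
        rw [hr.unique' hZ Rel.one (Unip.of_mem hQ ht) (Unip.one p), rho_one_apply]
      have := hef.ef
      rw [hc, smul_right, hef.ee, mul_zero] at this
      exact zero_ne_one this
    · obtain ⟨x, hx, hx0, hxA⟩ := exists_fixed ρ hA.right h0 fun a ha x hx w hw => by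
        rw [← hw a ha, H.B_map]; exact hx w hw
      have : x ∈ C ⊓ S.perp C := ⟨hxA, hx⟩
      rw [hD] at this
      exact hx0 this
  have heX : e ∈ X := by
    obtain ⟨x, hx, hx0, hxQ⟩ := exists_fixed ρ hQ hD fun t ht => by
      obtain ⟨u, hu, hr⟩ := hUU.bwd t (hU ht)
      exact hP1 u t hr ⟨1, by rw [hUe u hu, one_smul]⟩
    obtain ⟨c, rfl⟩ := H.fix_QP he he0 hxQ
    have hc : c ≠ 0 := by rintro rfl; simp at hx0
    exact ⟨by simpa [hc] using Submodule.smul_mem _ c⁻¹ hx, he⟩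
  refine ⟨X, A, hX, heX, hA, fun a ha v hv => hv.1.1 a ha, ?_⟩
  have hK : ∀ g ∈ relComap γ ((stab F (X : Set V)).comap ρ), ∃ c : F, ρ g e = c • e := by
    intro g hg
    by_contra hc
    have h1 := H.nd.EG_le_of_parabolic (totSing_span he) (H.dim.imp id fun h => by
      rw [finrank_span_singleton he0]; exact h.2)
      (K := (relComap γ ((stab F (X : Set V)).comap ρ)).map ρ) (h := ρ g) (fun t ht => by
        obtain ⟨k, rfl⟩ := H.exists_of_EG ht.2
        obtain ⟨k', hk'⟩ := exists_rel γ k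
        obtain ⟨c, hc⟩ := Submodule.mem_span_singleton.1
          (stab_apply ht.1 (Submodule.mem_span_singleton_self e))
        exact ⟨k, ⟨k', hP2 k k' hk' ⟨c, hc.symm⟩, hk'⟩, rfl⟩) ⟨g, hg, rfl⟩ (H.mem g) (fun h => by
        obtain ⟨c, h'⟩ := Submodule.mem_span_singleton.1
          (stab_apply h (Submodule.mem_span_singleton_self e))
        exact hc ⟨c, h'.symm⟩)
    refine H.nd.EG_not_le_stab hX ((Submodule.ne_bot_iff _).2 ⟨e, heX, he0⟩) H.dim2 fun t ht => ?_
    obtain ⟨k', rfl⟩ := H.exists_of_EG ht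
    obtain ⟨k, hk⟩ := exists_rel' γ k'
    obtain ⟨_, ⟨k'', h2, h3⟩, h4⟩ := h1 (H.mem_EG k)
    rw [H.inj h4] at h3
    obtain ⟨c, hc⟩ := (H.mem_center_iff' he he0).1 (h3.central hk)
    have : k' = k'' * (k''⁻¹ * k') := by group
    rw [this, map_mul]
    exact mul_mem h2 (mem_stab_of_le fun v hv => by rw [hc]; exact X.smul_mem c hv)
  obtain ⟨R', hR'⟩ := exists_corr γ.symm (H.isPGroup_RV (p := p) X)
  have hle : R' ≤ QP S ρ e := by
    refine H.le_QP_of_normal hef hI hR'.right (fun n hn => ?_) fun g hge _ => ?_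
    · obtain ⟨r, hr, hrel⟩ := hR'.bwd n hn
      exact hK n ⟨r, mem_stab_of_le fun v hv => by rw [hr.1 v hv]; exact hv, hrel.of_symm⟩
    · obtain ⟨g', hg'⟩ := exists_rel γ g
      exact hR'.conj_mem hZ hg'.symm fun x hx =>
        H.RV_conj (hP2 g g' hg' ⟨1, by rw [hge, one_smul]⟩) hx
  exact (hR'.symm).mono hZ hA hle

omit [Fact p.Prime] [CharP F p] in
theorem count_step {K : Subgroup G} {a b : V} (hab : S.IsHyp a b) {X : Submodule F V}
    (hX : X ≤ S.perp {a, b})
    (hK : ∀ w ∈ X, ∀ l (h : S.IsEich a w l) (g : G), ρ g = eich h → g ∈ K) :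
    Nat.card F ^ finrank F X * Nat.card T.Λ * Nat.card ↥(K ⊓ (fixer F {b}).comap ρ) ≤ Nat.card K := by
  haveI : Finite V := Module.finite_of_finite F
  rw [← card_eq_pow_finrank', ← card_ES (S := S)]
  have hE : ∀ x : ES S X, S.IsEich a x.1.1 x.1.2 := fun x =>
    ⟨hab.qe, (S.mem_perp_pair.1 (hX x.2.1)).1, x.2.2⟩
  choose g hg using fun x => H.exists_eich (hE x)
  refine card_step K b g (fun x => hK _ x.2.1 _ _ _ (hg x)) fun x y hxy => ?_
  have := eich_f_inj hab (hE x) (hE y) (S.mem_perp_pair.1 (hX x.2.1)).2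
    (S.mem_perp_pair.1 (hX y.2.1)).2 (by rw [← hg, ← hg]; exact hxy)
  exact Subtype.ext (Prod.ext this.1 this.2)

omit [Fact p.Prime] [CharP F p] in
theorem count_RV {X : Submodule F V} (hX : S.TotSing X) {k d : ℕ} (hk : finrank F X = k)
    (hn : finrank F V = 2 * k + d) :
    (2 ≤ k → Nat.card F ^ (2 * k + 2 * d - 3) * Nat.card T.Λ ^ 2 ≤ Nat.card (RV S ρ X)) ∧
    (3 ≤ k → Nat.card F ^ (3 * k + 3 * d - 6) * Nat.card T.Λ ^ 3 ≤ Nat.card (RV S ρ X)) := by
  obtain ⟨e, f, hef, hs⟩ := H.nd.exists_hypFam_span' hX hk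
  have heX : ∀ i, e i ∈ X := fun i => hs ▸ Submodule.subset_span ⟨i, rfl⟩
  have h0 := H.nd.finrank_perp X
  have hq : 1 ≤ Nat.card F := Nat.card_pos
  have step : ∀ (i : Fin k) (K : Subgroup G) (Y : Submodule F V), Y ≤ S.perp X →
      (∀ w ∈ Y, ∀ l (h : S.IsEich (e i) w l) (g : G), ρ g = eich h → g ∈ K) → ∀ m,
      m + 1 ≤ finrank F Y → Nat.card F ^ m * Nat.card T.Λ *
        Nat.card ↥(K ⊓ (fixer F {f i}).comap ρ) ≤ Nat.card K := by
    intro i K Y hY hK m hm
    have h1 := finrank_inf_perp (S := S) Y (f i)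
    refine le_trans ?_ (H.count_step (hef.isHyp i) (X := Y ⊓ S.perp {f i})
      (fun w hw => S.mem_perp_pair.2 ⟨hY hw.1 _ (heX i), S.mem_perp_singleton.1 hw.2⟩)
      fun w hw => hK w hw.1)
    gcongr
    omega
  have fx : ∀ {i j : Fin k}, i ≠ j → ∀ w, S.B w (f j) = 0 → ∀ l (h : S.IsEich (e i) w l) (g : G),
      ρ g = eich h → g ∈ (fixer F {f j}).comap ρ := by
    intro i j hij w hw l h g hg v hv
    rw [Set.mem_singleton_iff.1 hv, hg, eich_fix h (hef.fe_ne hij.symm) (perp_symm hw)]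
  have two : ∀ (i0 i1 : Fin k), i1 ≠ i0 → Nat.card F ^ (2 * k + 2 * d - 3) * Nat.card T.Λ ^ 2 *
      Nat.card ↥((RV S ρ X ⊓ (fixer F {f i0}).comap ρ) ⊓ (fixer F {f i1}).comap ρ) ≤
      Nat.card (RV S ρ X) := by
    intro i0 i1 h01
    have hk2 : 2 ≤ k := by
      have := i0.2; have := i1.2; have : i1.1 ≠ i0.1 := fun h => h01 (Fin.ext h); omega
    have s1 := step i0 (RV S ρ X) _ le_rfl (fun w hw l h g hg => H.eich_mem_RV hX (heX _) hw hg)
      (k + d - 1) (by omega)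
    have h1 := finrank_inf_perp (S := S) (S.perp X) (f i0)
    have s2 := step i1 (RV S ρ X ⊓ (fixer F {f i0}).comap ρ) (S.perp X ⊓ S.perp {f i0}) inf_le_left
      (fun w hw l h g hg => ⟨H.eich_mem_RV hX (heX _) hw.1 hg,
        fx h01 w (S.mem_perp_singleton.1 hw.2) l h g hg⟩) (k + d - 2) (by omega)
    refine le_trans (le_of_eq ?_) ((Nat.mul_le_mul_left _ s2).trans s1)
    rw [show 2 * k + 2 * d - 3 = (k + d - 1) + (k + d - 2) by omega]
    ring
  refine ⟨fun hk2 => ?_, fun hk3 => ?_⟩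
  · refine le_trans (Nat.le_mul_of_pos_right _ Nat.card_pos) (two ⟨0, by omega⟩ ⟨1, by omega⟩ ?_)
    simp
  · let i0 : Fin k := ⟨0, by omega⟩
    let i1 : Fin k := ⟨1, by omega⟩
    let i2 : Fin k := ⟨2, by omega⟩
    have s12 := two i0 i1 (by simp [i0, i1])
    have h1 := finrank_inf_perp (S := S) (S.perp X) (f i0)
    have h2 := finrank_inf_perp (S := S) (S.perp X ⊓ S.perp {f i0}) (f i1)
    have s3 := step i2 ((RV S ρ X ⊓ (fixer F {f i0}).comap ρ) ⊓ (fixer F {f i1}).comap ρ)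
      ((S.perp X ⊓ S.perp {f i0}) ⊓ S.perp {f i1}) (inf_le_left.trans inf_le_left)
      (fun w hw l h g hg => ⟨⟨H.eich_mem_RV hX (heX _) hw.1.1 hg,
        fx (by simp [i0, i2]) w (S.mem_perp_singleton.1 hw.1.2) l h g hg⟩,
        fx (by simp [i1, i2]) w (S.mem_perp_singleton.1 hw.2) l h g hg⟩) (k + d - 3) (by omega)
    have s4 := (Nat.le_mul_of_pos_right _ Nat.card_pos).trans s3
    refine le_trans (le_of_eq ?_) ((Nat.mul_le_mul_left _ s4).trans s12)
    rw [show 3 * k + 3 * d - 6 = (2 * k + 2 * d - 3) + (k + d - 3) by omega]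
    ring

/-- the refined dichotomy -/
theorem corr_cases' {e f : V} (hef : S.IsHyp e f) (hI : LeviIrr S ρ e f)
    (β : (G ⧸ center G) ≃* (G ⧸ center G)) :
    ∃ h : G, Corr p (twist β h) (QP S ρ e) (QP S ρ e) ∨ ∃ X : Submodule F V, S.TotSing X ∧ e ∈ X ∧
      2 ≤ finrank F X ∧ ∃ d, finrank F V = 2 * finrank F X + d ∧
      Nat.card F ^ d * Nat.card T.Λ ≤ Nat.card F ∧
      (3 ≤ finrank F X → Nat.card F ^ (finrank F X + 2 * d) * Nat.card T.Λ ^ 2 ≤ Nat.card F ^ 4) ∧
      (d = 0 → Corr p (twist β h) (QP S ρ e) (RV S ρ X)) := by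
  obtain ⟨h, X, A, hX, heX, hA, hAX, hRA⟩ := H.corr_cases (p := p) hef hI β
  have hZ : CenterP' p G := H.centerP' hef.qe hef.ne_left
  refine ⟨h, ?_⟩
  have hc := hA.card_eq hZ
  have h1 : 1 ≤ finrank F X :=
    Submodule.one_le_finrank_iff.2 ((Submodule.ne_bot_iff _).2 ⟨e, heX, hef.ne_left⟩)
  rcases h1.eq_or_lt with h1 | h1
  · left
    have hXe : X = F ∙ e := (Submodule.eq_of_le_of_finrank_le
      ((Submodule.span_singleton_le_iff_mem _ _).2 heX)
      (by rw [finrank_span_singleton hef.ne_left, h1])).symm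
    have : QP S ρ e = A := Subgroup.eq_of_le_of_card_ge (fun g hg => hRA (by
      obtain ⟨w, l, h, hg⟩ := (mem_QP hef.qe).1 hg
      exact H.eich_mem_RV hX heX (by rw [hXe, perp_span]; simpa using h.perp) hg)) hc.ge
    exact this ▸ hA
  · right
    obtain ⟨d, hd⟩ := Nat.exists_eq_add_of_le (H.nd.two_mul_finrank_le hX)
    obtain ⟨c2, c3⟩ := H.count_RV hX rfl hd
    have hR := Subgroup.card_le_of_le hRA
    rw [← hc, H.card_QP hef] at hR
    have hq : 0 < Nat.card F := Nat.card_pos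
    have hΛ : 0 < Nat.card T.Λ := Nat.card_pos
    refine ⟨X, hX, heX, h1, d, hd, ?_, fun h3 => ?_, fun hd0 => ?_⟩
    · have := (c2 h1).trans hR
      rw [show 2 * finrank F X + 2 * d - 3 = (2 * finrank F X + d - 3) + d by omega,
        show finrank F V - 2 = (2 * finrank F X + d - 3) + 1 by omega] at this
      refine Nat.le_of_mul_le_mul_left (c := Nat.card F ^ (2 * finrank F X + d - 3) * Nat.card T.Λ)
        (le_of_eq_of_le ?_ (this.trans (le_of_eq ?_))) (by positivity) <;> ring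
    · have := Nat.mul_le_mul_left (Nat.card F ^ 4) ((c3 h3).trans hR)
      rw [← mul_assoc, ← pow_add, show 4 + (3 * finrank F X + 3 * d - 6) =
        (finrank F V - 2) + (finrank F X + 2 * d) by omega] at this
      refine Nat.le_of_mul_le_mul_left (c := Nat.card F ^ (finrank F V - 2) * Nat.card T.Λ)
        (le_of_eq_of_le ?_ (this.trans (le_of_eq ?_))) (by positivity) <;> ring
    · have hP : S.perp X = X := by
        have := H.nd.finrank_perp X
        exact (Submodule.eq_of_le_of_finrank_le hX.le_perp (by omega)).symm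
      have : RV S ρ X = A := le_antisymm hRA fun a ha => ⟨hAX a ha, fun x hx => by
        rw [hP] at hx
        rw [hAX a ha x hx, sub_self]
        exact X.zero_mem⟩
      exact this ▸ hA

omit [Finite F] [Fact p.Prime] [CharP F p] [Finite G] in
theorem RV_comm {X : Submodule F V} (hX : S.TotSing X) (hd : finrank F V = 2 * finrank F X) {a b : G}
    (ha : a ∈ RV S ρ X) (hb : b ∈ RV S ρ X) : a * b = b * a := by
  have hP : S.perp X = X := by
    have := H.nd.finrank_perp X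
    exact (Submodule.eq_of_le_of_finrank_le hX.le_perp (by omega)).symm
  refine rho_ext H.inj fun v => ?_
  have h1 := ha.1 _ (hP ▸ H.sub_mem_perp hb.1 v)
  have h2 := hb.1 _ (hP ▸ H.sub_mem_perp ha.1 v)
  rw [map_sub] at h1 h2
  rw [rho_mul_apply, rho_mul_apply]
  linear_combination (norm := module) h1 - h2

/-- no exceptional behaviour -/
def NoExc (S : Form T V) (e f : V) : Prop :=
  (∃ w ∈ S.perp {e, f}, ∃ w' ∈ S.perp {e, f}, S.B w' w ≠ S.B w w') ∨
    (T.Λ = ⊤ ∧ 5 ≤ finrank F V) ∨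
    (7 ≤ finrank F V ∧ (finrank F V = 8 → ∀ X, S.TotSing X → finrank F X ≠ 4))

theorem exists_corr_self {e f : V} (hef : S.IsHyp e f) (hI : LeviIrr S ρ e f) (hE : NoExc S e f)
    (β : (G ⧸ center G) ≃* (G ⧸ center G)) : ∃ h : G, Corr p (twist β h) (QP S ρ e) (QP S ρ e) := by
  obtain ⟨h, h1 | ⟨X, hX, heX, hk, d, hd, c2, c3, hc⟩⟩ := H.corr_cases' (p := p) hef hI β
  · exact ⟨h, h1⟩
  exfalso
  have hq : 2 ≤ Nat.card F := Finite.one_lt_card
  have hΛ : 0 < Nat.card T.Λ := Nat.card_pos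
  have hd0 : 2 ≤ Nat.card T.Λ → d = 0 := fun h2 => by
    by_contra hd0
    have : Nat.card F ≤ Nat.card F ^ d := Nat.le_self_pow hd0 _
    nlinarith
  rcases hE with ⟨w, hw, w', hw', hne⟩ | ⟨hT, h5⟩ | ⟨h7, h8⟩
  · obtain ⟨l, hl⟩ := S.exists_rep w
    obtain ⟨l', hl'⟩ := S.exists_rep w'
    have e1 : S.IsEich e w l := ⟨hef.qe, (S.mem_perp_pair.1 hw).1, hl⟩
    have e2 : S.IsEich e w' l' := ⟨hef.qe, (S.mem_perp_pair.1 hw').1, hl'⟩
    have hmem : S.B w' w - S.B w w' ∈ T.Λ := by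
      rw [S.herm w' w]; exact T.mem_min _
    have h2 : 2 ≤ Nat.card T.Λ := by
      haveI : Nontrivial T.Λ := ⟨⟨⟨_, hmem⟩, 0, fun h => hne (sub_eq_zero.1 (congrArg Subtype.val h))⟩⟩
      exact Finite.one_lt_card
    have hc := hc (hd0 h2)
    obtain ⟨t, ht⟩ := H.exists_eich e1
    obtain ⟨t', ht'⟩ := H.exists_eich e2
    obtain ⟨a, ha, hr⟩ := hc.fwd t (mem_QP_of_eq ht)
    obtain ⟨a', ha', hr'⟩ := hc.fwd t' (mem_QP_of_eq ht')
    have h3 := hr.mul hr'
    rw [H.RV_comm hX (by rw [hd, hd0 h2, add_zero]) ha ha'] at h3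
    have h4 := h3.unique' (H.centerP' hef.qe hef.ne_left) (hr'.mul hr)
      (Unip.of_mem hc.left (mul_mem (mem_QP_of_eq ht) (mem_QP_of_eq ht')))
      (Unip.of_mem hc.left (mul_mem (mem_QP_of_eq ht') (mem_QP_of_eq ht)))
    have h5 := congrArg ρ h4
    rw [map_mul, map_mul, ht, ht', eich_mul, eich_mul] at h5
    have := (eich_f_inj hef _ _ (by simp [(S.mem_perp_pair.1 hw).2, (S.mem_perp_pair.1 hw').2])
      (by simp [(S.mem_perp_pair.1 hw).2, (S.mem_perp_pair.1 hw').2]) (LinearEquiv.congr_fun h5 f)).2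
    exact hne (by linear_combination this)
  · have h1 : Nat.card T.Λ = Nat.card F := by rw [hT, AddSubgroup.card_top]
    have := hd0 (h1 ▸ hq)
    subst this
    have h3 := c3 (by omega)
    rw [h1, ← pow_add, Nat.pow_le_pow_iff_right hq] at h3
    omega
  · have h1 : d ≤ 1 := by
      have : Nat.card F ^ d ≤ Nat.card F ^ 1 := by
        rw [pow_one]; exact (Nat.le_mul_of_pos_right _ hΛ).trans c2
      exact (Nat.pow_le_pow_iff_right hq).1 this
    have h3 := c3 (by omega)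
    have h4 := (Nat.pow_le_pow_iff_right hq).1 ((Nat.le_mul_of_pos_right _ (by positivity)).trans h3)
    exact h8 (by omega) X hX (by omega)

end FSetup

end CfsgH8
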