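import Cfsg.Agent.H8.AutForm2

/-!
Automorphisms of classical groups with a form, part 3: the induced map on singular points.
-/

set_option autoImplicit false

namespace CfsgH8

open Subgroup Module CfsgH5 CfsgH5.Form

variable {F : Type*} [Field F] {T : FParam F} {V : Type*} [AddCommGroup V] [Module F V]
  {S : Form T V} {G : Type*} [Group G] {ρ : G →* (V ≃ₗ[F] V)} {p : ℕ}
  {β : (G ⧸ center G) ≃* (G ⧸ center G)}

/-- corresponding singular points -/
structure Pt (S : Form T V) (ρ : G →* (V ≃ₗ[F] V)) (p : ℕ) (β : (G ⧸ center G) ≃* (G ⧸ center G))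
    (a a' : V) : Prop where
  q : S.q a = 0
  ne : a ≠ 0
  q' : S.q a' = 0
  ne' : a' ≠ 0
  corr : Corr p β (QP S ρ a) (QP S ρ a')

theorem Pt.symm {a a' : V} (h : Pt S ρ p β a a') : Pt S ρ p β.symm a' a :=
  ⟨h.q', h.ne', h.q, h.ne, h.corr.symm⟩

theorem Pt.of_symm {a a' : V} (h : Pt S ρ p β.symm a' a) : Pt S ρ p β a a' := h.symm

theorem Pt.smul {a a' : V} (h : Pt S ρ p β a a') {c c' : F} (hc : c ≠ 0) (hc' : c' ≠ 0) :
    Pt S ρ p β (c • a) (c' • a') :=
  ⟨S.q_smul_zero c h.q, smul_ne_zero hc h.ne, S.q_smul_zero c' h.q', smul_ne_zero hc' h.ne', by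
    rw [QP_smul _ hc, QP_smul _ hc']; exact h.corr⟩

theorem Pt.of_smul {a a' : V} {c : F} (h : Pt S ρ p β (c • a) a') : Pt S ρ p β a a' := by
  have hc : c ≠ 0 := by rintro rfl; exact h.ne (zero_smul _ _)
  simpa [hc] using h.smul (inv_ne_zero hc) one_ne_zero

theorem exists_rel_unip [Finite G] [Fact p.Prime] (β : (G ⧸ center G) ≃* (G ⧸ center G)) {g : G}
    (hg : Unip p g) : ∃ g', Unip p g' ∧ Rel β g g' := by
  obtain ⟨A, hA⟩ := exists_corr (p := p) β (Q := zpowers g) (isPGroup_of_unip fun x hx => by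
    obtain ⟨k, rfl⟩ := mem_zpowers_iff.1 hx
    obtain ⟨m, hm⟩ := hg
    exact ⟨m, by rw [← zpow_natCast, ← zpow_mul, mul_comm, zpow_mul, zpow_natCast, hm, one_zpow]⟩)
  obtain ⟨a, ha, hr⟩ := hA.fwd g (mem_zpowers g)
  exact ⟨a, Unip.of_mem hA.right ha, hr⟩

/-- corresponding Eichler parameters -/
def TR (S : Form T V) (ρ : G →* (V ≃ₗ[F] V)) (β : (G ⧸ center G) ≃* (G ⧸ center G)) (e f : V)
    (w : S.perp {e, f}) (l : F) (w' : S.perp {e, f}) (l' : F) : Prop :=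
  ∃ (h : S.IsEich e w l) (h' : S.IsEich e w' l') (t t' : G), ρ t = eich h ∧ ρ t' = eich h' ∧ Rel β t t'

section TR

variable {e f : V} {w w' w₂ w₂' : S.perp {e, f}} {l l' l₂ l₂' : F}

theorem W_e (w : S.perp {e, f}) : S.B w e = 0 := (S.mem_perp_pair.1 w.2).1
theorem W_f (w : S.perp {e, f}) : S.B w f = 0 := (S.mem_perp_pair.1 w.2).2
theorem e_W (w : S.perp {e, f}) : S.B e w = 0 := perp_symm (W_e w)
theorem f_W (w : S.perp {e, f}) : S.B f w = 0 := perp_symm (W_f w)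

theorem TR.symm (h : TR S ρ β e f w l w' l') : TR S ρ β.symm e f w' l' w l := by
  obtain ⟨h, h', t, t', ht, ht', hr⟩ := h
  exact ⟨h', h, t', t, ht', ht, hr.symm⟩

theorem TR.rep (h : TR S ρ β e f w l w' l') : S.q w = T.π l := h.1.rep
theorem TR.rep' (h : TR S ρ β e f w l w' l') : S.q w' = T.π l' := h.symm.rep

theorem TR.add (h : TR S ρ β e f w l w' l') (h₂ : TR S ρ β e f w₂ l₂ w₂' l₂') :
    TR S ρ β e f (w + w₂) (l + l₂ + S.B w₂ w) (w' + w₂') (l' + l₂' + S.B w₂' w') := by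
  obtain ⟨h, h', t, t', ht, ht', hr⟩ := h
  obtain ⟨k, k', s, s', hs, hs', hr'⟩ := h₂
  exact ⟨h.add k, h'.add k', t * s, t' * s', by rw [map_mul, ht, hs, eich_mul],
    by rw [map_mul, ht', hs', eich_mul], hr.mul hr'⟩

theorem TR.congr (h : TR S ρ β e f w l w' l') (h1 : w = w₂) (h2 : l = l₂) (h3 : w' = w₂')
    (h4 : l' = l₂') : TR S ρ β e f w₂ l₂ w₂' l₂' := by
  subst h1 h2 h3 h4; exact h

end TR

namespace FSetup

variable (H : FSetup S ρ)
include H

theorem pt_map {a a' : V} (h : Pt S ρ p β a a') {g g' : G} (hg : Rel β g g') :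
    Pt S ρ p β (ρ g a) (ρ g' a') :=
  ⟨by rw [H.q_map, h.q], rho_ne_zero g h.ne, by rw [H.q_map, h.q'], rho_ne_zero g' h.ne',
    h.corr.conj hg (fun _ => H.mem_QP_map h.q) fun _ => H.mem_QP_map h.q'⟩

theorem pt_twist {a a' : V} (h : Pt S ρ p β a a') (g : G) : Pt S ρ p (twist β g) a (ρ g a') :=
  ⟨h.q, h.ne, by rw [H.q_map, h.q'], rho_ne_zero g h.ne', h.corr.twist g fun _ => H.mem_QP_map h.q'⟩

theorem map_mem_W {e f : V} {g : G} {μ ν : F} (he : ρ g e = μ • e) (hf : ρ g f = ν • f) (he0 : e ≠ 0)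
    (hf0 : f ≠ 0) (w : S.perp {e, f}) : ρ g w ∈ S.perp {e, f} := by
  have hμ : μ ≠ 0 := by rintro rfl; exact rho_ne_zero (ρ := ρ) g he0 (by simpa using he)
  have hν : ν ≠ 0 := by rintro rfl; exact rho_ne_zero (ρ := ρ) g hf0 (by simpa using hf)
  have h1 := H.B_map g w e
  have h2 := H.B_map g w f
  rw [he, smul_right, W_e] at h1
  rw [hf, smul_right, W_f] at h2
  exact S.mem_perp_pair.2 ⟨by simpa [hμ] using h1, by simpa [hν] using h2⟩

theorem exists_torus {e f u v : V} (hef : S.IsHyp e f) (huv : S.IsHyp u v) (hu : u ∈ S.perp {e, f})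
    (hv : v ∈ S.perp {e, f}) {s : F} (hs : s ≠ 0) :
    ∃ g : G, ρ g e = s • e ∧ ρ g f = (T.σ s)⁻¹ • f ∧ ρ g v = T.σ s • v := by
  have hue := (S.mem_perp_pair.1 hu).1
  have huf := (S.mem_perp_pair.1 hu).2
  have hve := (S.mem_perp_pair.1 hv).1
  have hvf := (S.mem_perp_pair.1 hv).2
  have hX : ∀ s : F, ∃ x : G, ρ x e = e ∧ ρ x u = u + s • e ∧ ρ x f = f - T.σ s • v ∧ ρ x v = v := by
    intro s
    have h : S.IsEich e ((-T.ε * T.σ s) • v) 0 :=
      ⟨hef.qe, by simp [hve], by simp [S.q_smul_zero _ huv.qf]⟩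
    obtain ⟨x, hx⟩ := H.exists_eich h
    refine ⟨x, by rw [hx, eich_self], ?_, ?_, ?_⟩
    · simp only [hx, eich_apply, hue, smul_right, huv.ef, map_mul, map_neg, T.σε, T.σσ]
      linear_combination (norm := module) (s * T.εε) • e
    · simp only [hx, eich_apply, hef.fe, smul_right, perp_symm hvf]
      linear_combination (norm := module) (-T.σ s * T.εε) • v
    · simp [hx, eich_apply, hve, huv.ff]
  have hY : ∀ s : F, ∃ x : G, ρ x u = u ∧ ρ x e = e + s • u ∧ ρ x v = v - T.σ s • f ∧ ρ x f = f := by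
    intro s
    have h : S.IsEich u ((-T.ε * T.σ s) • f) 0 :=
      ⟨huv.qe, by simp [perp_symm huf], by simp [S.q_smul_zero _ hef.qf]⟩
    obtain ⟨x, hx⟩ := H.exists_eich h
    refine ⟨x, by rw [hx, eich_self], ?_, ?_, ?_⟩
    · simp only [hx, eich_apply, perp_symm hue, smul_right, hef.ef, map_mul, map_neg, T.σε, T.σσ]
      linear_combination (norm := module) (s * T.εε) • u
    · simp only [hx, eich_apply, huv.fe, smul_right, hvf]
      linear_combination (norm := module) (-T.σ s * T.εε) • f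
    · simp [hx, eich_apply, perp_symm huf, hef.ff]
  have hN : ∀ s : F, s ≠ 0 → ∃ n : G, ρ n e = (-s⁻¹) • u ∧ ρ n u = s • e ∧ ρ n f = (-T.σ s) • v ∧
      ρ n v = (T.σ s)⁻¹ • f := by
    intro s hs
    obtain ⟨x, x1, x2, x3, x4⟩ := hX s
    obtain ⟨y, y1, y2, y3, y4⟩ := hY (-s⁻¹)
    have h1 : s * s⁻¹ = 1 := mul_inv_cancel₀ hs
    have h2 : T.σ s * (T.σ s)⁻¹ = 1 := mul_inv_cancel₀ (T.σ_ne hs)
    refine ⟨x * y * x, ?_, ?_, ?_, ?_⟩ <;>
      simp only [rho_mul_apply, x1, x2, x3, x4, y1, y2, y3, y4, map_add, map_sub, map_smul, map_neg,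
        map_inv₀]
    · linear_combination (norm := module) (-h1) • e
    · linear_combination (norm := module) (-h1) • u + (-s * h1) • e
    · linear_combination (norm := module) (-h2) • f + (T.σ s * h2) • v
    · linear_combination (norm := module) (-h2) • v
  obtain ⟨n, n1, n2, n3, n4⟩ := hN s hs
  obtain ⟨m, m1, m2, m3, m4⟩ := hN (-1) (by simp)
  refine ⟨n * m, ?_, ?_, ?_⟩ <;> simp [rho_mul_apply, n1, n2, n3, n4, m1, m2, m3, m4]

variable [FiniteDimensional F V] [Fact p.Prime] [CharP F p]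

theorem pt_unique {a a' a'' : V} (h : Pt S ρ p β a a') (h' : Pt S ρ p β a a'') :
    ∃ c : F, a'' = c • a' := by
  have := h.corr.unique (H.centerP' h.q h.ne) h'.corr
  exact H.fix_QP h.q' h.ne' fun t ht => QP_fix h'.q' (this ▸ ht)

omit [Fact p.Prime] [CharP F p] in
theorem pt_total {e e' : V} (h : Pt S ρ p β e e') {a : V} (ha : S.q a = 0) (ha0 : a ≠ 0) :
    ∃ a', Pt S ρ p β a a' := by
  obtain ⟨g, c, hc, hg⟩ := H.exists_move h.q h.ne ha ha0
  obtain ⟨g', hg'⟩ := exists_rel β g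
  have := H.pt_map h hg'
  rw [hg] at this
  exact ⟨_, this.of_smul⟩

omit [Fact p.Prime] [CharP F p] in
theorem pt_total' {e e' : V} (h : Pt S ρ p β e e') {a : V} (ha : S.q a = 0) (ha0 : a ≠ 0) :
    ∃ a', Pt S ρ p β a' a := by
  obtain ⟨a', h'⟩ := H.pt_total h.symm ha ha0
  exact ⟨a', h'.of_symm⟩

omit [Fact p.Prime] [CharP F p] in
theorem pt_perp' {a a' b b' : V} (ha : Pt S ρ p β a a') (hb : Pt S ρ p β b b')
    (h : S.B a' b' = 0) : S.B a b = 0 := by
  by_contra hne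
  have hX := (totSing_span ha.q').sup_span hb.q' (by rw [perp_span]; simpa using perp_symm h)
  set X := Submodule.span F {a'} ⊔ Submodule.span F {b'}
  have ha' : a' ∈ X := Submodule.mem_sup_left (Submodule.mem_span_singleton_self _)
  have hb' : b' ∈ X := Submodule.mem_sup_right (Submodule.mem_span_singleton_self _)
  have key : ∀ {x x' : V}, Pt S ρ p β x x' → x' ∈ X →
      S.Qu x ≤ (relComap β ((stab F (X : Set V)).comap ρ)).map ρ := by
    intro x x' hx hx' t ht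
    obtain ⟨k, rfl⟩ := H.exists_of_EG (Qu_le_EG _ ht)
    obtain ⟨k', hk', hr⟩ := hx.corr.fwd k ht
    exact ⟨k, ⟨k', hX.Qu_le_stab hx' hk', hr⟩, rfl⟩
  have h1 := H.nd.EG_le_of_opp hb.q ha.q hne (key hb hb') (key ha ha')
  refine H.nd.EG_not_le_stab hX ((Submodule.ne_bot_iff _).2 ⟨a', ha', ha.ne'⟩) H.dim2 fun t ht => ?_
  obtain ⟨k', rfl⟩ := H.exists_of_EG ht
  obtain ⟨k, hk⟩ := exists_rel' β k'
  obtain ⟨_, ⟨k'', h2, h3⟩, h4⟩ := h1 (H.mem_EG k)
  rw [H.inj h4] at h3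
  obtain ⟨c, hc⟩ := (H.mem_center_iff' ha.q ha.ne).1 (h3.central hk)
  have : k' = k'' * (k''⁻¹ * k') := by group
  rw [this, map_mul]
  exact mul_mem h2 (mem_stab_of_le fun v hv => by rw [hc]; exact X.smul_mem c hv)

omit [Fact p.Prime] [CharP F p] in
theorem pt_perp {a a' b b' : V} (ha : Pt S ρ p β a a') (hb : Pt S ρ p β b b')
    (h : S.B a b = 0) : S.B a' b' = 0 := H.pt_perp' ha.symm hb.symm h

omit [Fact p.Prime] [CharP F p] in
theorem exists_twist_hyp {e f : V} (hef : S.IsHyp e f) (h : Pt S ρ p β e e) :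
    ∃ g : G, Pt S ρ p (twist β g) e e ∧ Pt S ρ p (twist β g) f f := by
  obtain ⟨f', hf'⟩ := H.pt_total h hef.qf hef.ne_right
  have hfe : S.B f e ≠ 0 := by rw [hef.fe]; exact T.ε_ne
  obtain ⟨t, ht, c, hc, htc⟩ := exists_Qu_map_sing hef.qe (fun h0 => hfe (H.pt_perp' hf' h h0)) hfe
    hf'.q' hef.qf
  obtain ⟨g, rfl⟩ := H.exists_of_EG (Qu_le_EG _ ht)
  refine ⟨g, ?_, ?_⟩
  · have := H.pt_twist h g
    rwa [QP_fix hef.qe ht] at this
  · have := H.pt_twist hf' g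
    rw [htc] at this
    exact this.symm.of_smul.of_symm

theorem pt_stab {a a' : V} (h : Pt S ρ p β a a') {g g' : G} (hg : Rel β g g') {c : F}
    (hc : ρ g a = c • a) : ∃ c' : F, ρ g' a' = c' • a' := by
  have := H.pt_map h hg
  rw [hc] at this
  exact H.pt_unique h this.of_smul

section TR

variable {e f : V} {w w' w'' w₂ w₂' : S.perp {e, f}} {l l' l'' l₂ l₂' : F}

omit [FiniteDimensional F V] [Fact p.Prime] [CharP F p] in
theorem tr_total (hef : S.IsHyp e f) (hee : Pt S ρ p β e e) (hw : S.q w = T.π l) :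
    ∃ w' l', TR S ρ β e f w l w' l' := by
  have h : S.IsEich e w l := ⟨hef.qe, W_e w, hw⟩
  obtain ⟨t, ht⟩ := H.exists_eich h
  obtain ⟨t', ht', hr⟩ := hee.corr.fwd t (mem_QP_of_eq ht)
  obtain ⟨w', l', h', hw', ht'⟩ := mem_QP' hef ht'
  exact ⟨⟨w', S.mem_perp_pair.2 ⟨h'.perp, hw'⟩⟩, l', h, h', t, t', ht, ht', hr⟩

omit [Fact p.Prime] [CharP F p] in
theorem tr_unique [Finite F] (hef : S.IsHyp e f) (h : TR S ρ β e f w l w' l') (h' : TR S ρ β e f w l w'' l'') :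
    w' = w'' ∧ l' = l'' := by
  obtain ⟨p, hp⟩ := CharP.exists F
  haveI : Fact p.Prime := ⟨CharP.char_is_prime F p⟩
  obtain ⟨h, h1, t, t', ht, ht', hr⟩ := h
  obtain ⟨h0, h2, s, s', hs, hs', hr'⟩ := h'
  have : s = t := H.inj (hs.trans ht.symm)
  subst this
  have := hr.unique (H.centerP' (p := p) hef.qe hef.ne_left) hr' (H.unip_of_eq ht') (H.unip_of_eq hs')
  subst this
  have := eich_f_inj hef h1 h2 (W_f _) (W_f _) (by rw [← ht', ← hs'])
  exact ⟨Subtype.ext this.1, this.2⟩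

omit [FiniteDimensional F V] [Fact p.Prime] [CharP F p] in
theorem tr_pt (hef : S.IsHyp e f) (hff : Pt S ρ p β f f) (h : TR S ρ β e f w l w' l') :
    Pt S ρ p β (f + T.ε • (w : V) - l • e) (f + T.ε • (w' : V) - l' • e) := by
  obtain ⟨h, h', t, t', ht, ht', hr⟩ := h
  have := H.pt_map hff hr
  rwa [ht, ht', eich_f hef h (W_f _), eich_f hef h' (W_f _)] at this

omit [FiniteDimensional F V] [Fact p.Prime] [CharP F p] in
theorem tr_conj (hef : S.IsHyp e f) (h : TR S ρ β e f w l w' l') {g g' : G} (hg : Rel β g g')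
    {μ μ' : F} (he : ρ g e = μ • e) (he' : ρ g' e = μ' • e) (h1 : (w₂ : V) = T.σ μ • ρ g w)
    (h2 : (w₂' : V) = T.σ μ' • ρ g' w') :
    TR S ρ β e f w₂ (μ * T.σ μ * l) w₂' (μ' * T.σ μ' * l') := by
  obtain ⟨h, h', t, t', ht, ht', hr⟩ := h
  have key : ∀ {g : G} {μ : F} {w w₂ : V} {l : F} {t : G} (h : S.IsEich e w l), ρ g e = μ • e →
      w₂ = T.σ μ • ρ g w → ρ t = eich h →
      ∃ h₂ : S.IsEich e w₂ (μ * T.σ μ * l), ρ (g * t * g⁻¹) = eich h₂ := by
    intro g μ w w₂ l t h he h1 ht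
    have hμ : μ ≠ 0 := by rintro rfl; exact rho_ne_zero (ρ := ρ) g hef.ne_left (by simpa using he)
    have h3 : S.IsEich (μ • e) (ρ g w) l := he ▸ h.map (H.mem g)
    subst h1
    refine ⟨h3.smul μ hμ, ?_⟩
    rw [map_mul, map_mul, ht, map_inv, conj_eich h (H.mem g), ← eich_smul μ h3 hμ]
    ext x
    simp only [eich_apply, he]
  obtain ⟨k, hk⟩ := key h he h1 ht
  obtain ⟨k', hk'⟩ := key h' he' h2 ht'
  exact ⟨k, k', _, _, hk, hk', hg.conj hr⟩

omit [Fact p.Prime] [CharP F p] in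
theorem tr_sing (hef : S.IsHyp e f) (hff : Pt S ρ p β f f) (h : TR S ρ β e f w 0 w' l') : l' = 0 := by
  have := H.pt_perp (H.tr_pt hef hff h) hff (by simp [hef.ff, W_f])
  simpa [hef.ff, W_f, hef.ef] using this

end TR

end FSetup

end CfsgH8
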