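import Cfsg.Agent.H8.AutForm3

/-!
Automorphisms of classical groups with a form, part 4: the semilinear map.
-/

set_option autoImplicit false

namespace CfsgH8

open Subgroup Module CfsgH5 CfsgH5.Form

variable {F : Type*} [Field F] {T : FParam F} {V : Type*} [AddCommGroup V] [Module F V]
  {S : Form T V} {G : Type*} [Group G] {ρ : G →* (V ≃ₗ[F] V)} {p : ℕ}
  {β : (G ⧸ center G) ≃* (G ⧸ center G)} {e f : V}

/-- Witt index at least two -/
def Case1 (S : Form T V) (e f : V) : Prop := ∃ u ∈ S.perp {e, f}, u ≠ 0 ∧ S.q u = 0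

/-- the three-dimensional unitary case -/
def Case2 (S : Form T V) (ρ : G →* (V ≃ₗ[F] V)) (e f : V) : Prop :=
  finrank F (S.perp {e, f}) = 1 ∧ T.ε = 1 ∧ (∃ a, T.σ a ≠ a) ∧
    ∀ P : F → Prop, (∀ a b, P a → P b → P (a - b)) → (∀ (g : G) (μ ν c : F), ρ g e = μ • e →
      ρ g f = ν • f → (∀ w ∈ S.perp {e, f}, T.σ μ • ρ g w = c • w) → P c) → ∀ a, P a

theorem σ'_ε (σ' : F ≃+* F) : σ' T.ε = T.ε := by rcases T.hε with h | h <;> simp [h]

theorem exists_smul_of_one {W : Type*} [AddCommGroup W] [Module F W] (h : finrank F W = 1) {v : W}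
    (hv : v ≠ 0) (w : W) : ∃ c : F, w = c • v := by
  obtain ⟨c, hc⟩ := (finrank_eq_one_iff_of_nonzero' v hv).1 h w
  exact ⟨c, hc.symm⟩

namespace FSetup

variable (H : FSetup S ρ) [FiniteDimensional F V] [Finite F]
include H

theorem leviIrr' (hef : S.IsHyp e f) (hc : Case1 S e f ∨ Case2 S ρ e f) : LeviIrr S ρ e f := by
  rcases hc with ⟨u, hu, hu0, hq⟩ | hc
  · exact H.leviIrr hef hq hu0 hu
  · exact leviIrr_of_one hc.1

theorem levi_ind (hef : S.IsHyp e f) (hc : Case1 S e f ∨ Case2 S ρ e f) (P : S.perp {e, f} → Prop)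
    (h0 : P 0) (hadd : ∀ x y, P x → P y → P (x + y)) (hsmul : ∀ (c : F) x, P x → P (c • x))
    {v : S.perp {e, f}} (hv : v ≠ 0) (hPv : P v)
    (hinv : ∀ g : G, ρ g ∈ S.eichSet → ρ g e = e → ρ g f = f → ∀ w w₂ : S.perp {e, f},
      (w₂ : V) = ρ g w → P w → P w₂) (w : S.perp {e, f}) : P w := by
  let Y : Submodule F (S.perp {e, f}) :=
    { carrier := {w | P w}
      add_mem' := fun {a b} => hadd a b
      zero_mem' := h0
      smul_mem' := hsmul }
  have := H.leviIrr' hef hc (Y.map (S.perp {e, f}).subtype) (Submodule.map_subtype_le _ _)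
    ((Submodule.ne_bot_iff _).2 ⟨v, ⟨v, hPv, rfl⟩, fun h => hv (Subtype.ext h)⟩) (by
      rintro g hg he hf _ ⟨y, hy, rfl⟩
      exact ⟨⟨_, H.map_mem_W (μ := 1) (ν := 1) (by simpa using he) (by simpa using hf) hef.ne_left
        hef.ne_right y⟩, hinv g hg he hf y _ rfl hy, rfl⟩)
  have hw : (w : V) ∈ Y.map (S.perp {e, f}).subtype := by rw [this]; exact w.2
  obtain ⟨y, hy, h⟩ := hw
  rwa [← Subtype.ext h]

omit [Finite F] in
theorem exists_W_ne (hef : S.IsHyp e f) {v : S.perp {e, f}} (hv : v ≠ 0) :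
    ∃ z : S.perp {e, f}, S.B z v = 1 := by
  obtain ⟨y, hy⟩ := (H.nd.nondegOn_perp_hyp hef).res.exists_ne hv
  exact ⟨(S.B y v)⁻¹ • y, by simpa using inv_mul_cancel₀ hy⟩

omit [Finite F] in
theorem self_ne_of_one (hef : S.IsHyp e f) (h1 : finrank F (S.perp {e, f}) = 1) {v : S.perp {e, f}}
    (hv : v ≠ 0) : S.B v v ≠ 0 := by
  obtain ⟨z, hz⟩ := H.exists_W_ne hef hv
  obtain ⟨c, rfl⟩ := exists_smul_of_one h1 hv z
  intro h
  simp [h] at hz

omit [Finite F] in
theorem exists_hyp_W (hef : S.IsHyp e f) (hc : Case1 S e f) :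
    ∃ u v : S.perp {e, f}, S.IsHyp u v := by
  obtain ⟨u, hu, hu0, hq⟩ := hc
  obtain ⟨v, hv⟩ := (H.nd.nondegOn_perp_hyp hef).res.exists_hyp' (e := ⟨u, hu⟩) hq
    fun h => hu0 (congrArg Subtype.val h)
  exact ⟨⟨u, hu⟩, v, hv.qe, hv.qf, hv.ef⟩

omit [Finite F] in
theorem exists_comm_eq (hef : S.IsHyp e f) (hc : Case2 S ρ e f) {w : S.perp {e, f}} (hw : w ≠ 0)
    {l : F} (hl : l + T.σ l = 0) : ∃ w₂ : S.perp {e, f}, S.B w₂ w - S.B w w₂ = l := by
  obtain ⟨θ, hθ⟩ := exists_trace_one T.σ T.σσ hc.2.2.1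
  have hb := H.self_ne_of_one hef hc.1 hw
  have hb' : T.σ (S.B w w) = S.B w w := by
    have := S.herm w w
    rw [hc.2.1, one_mul] at this
    exact this.symm
  refine ⟨(θ * l / S.B w w) • w, ?_⟩
  simp only [SetLike.val_smul, smul_left, smul_right, map_div₀, map_mul, hb']
  field_simp
  linear_combination l * hθ - T.σ θ * hl

theorem tr_zero (hef : S.IsHyp e f) (hc : Case1 S e f ∨ Case2 S ρ e f) (hee : Pt S ρ p β e e)
    (hff : Pt S ρ p β f f) {l l' : F} {w' : S.perp {e, f}} (h : TR S ρ β e f 0 l w' l') : w' = 0 := by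
  by_contra hw'
  rcases hc with hc | hc
  · obtain ⟨u, v, huv⟩ := H.exists_hyp_W hef hc
    have := H.levi_ind hef (Or.inl hc) (fun w => ∀ u : S.perp {e, f}, S.q u = 0 → S.B w u = 0)
      (by simp) (fun x y hx hy u hu => by simp [hx u hu, hy u hu])
      (fun c x hx u hu => by simp [hx u hu]) hw' (fun u' hu' => by
        rcases eq_or_ne u' 0 with rfl | hu0
        · simp
        obtain ⟨u, hu⟩ := H.pt_total' hee hu' (fun h => hu0 (Subtype.ext h))
        have h1 := H.pt_perp' hee hu (e_W u')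
        have h2 := H.pt_perp' hff hu (f_W u')
        have h3 := H.pt_perp (H.tr_pt hef hff h) hu (by simp [h1, h2])
        simpa [e_W, f_W, T.ε_ne] using h3)
      (fun g _ he hf w w₂ hw hP u hu => by
        rw [hw, H.B_left]
        exact hP ⟨_, H.map_mem_W (μ := 1) (ν := 1) (by simpa using rho_inv_eq he)
          (by simpa using rho_inv_eq hf) hef.ne_left hef.ne_right u⟩ ((H.q_map _ _).trans hu))
      u v huv.qf
    rw [huv.ef] at this
    exact one_ne_zero this
  · obtain ⟨δ, hδ0, hδ⟩ := exists_trace_zero T.σ T.σσ hc.2.2.1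
    obtain ⟨w₂', hw₂'⟩ := H.exists_comm_eq hef hc hw' (l := δ) (by simp [hδ])
    obtain ⟨l₂', hl₂'⟩ := S.exists_rep w₂'
    obtain ⟨w₂, l₂, h₂⟩ := H.tr_total hef hee.symm hl₂'
    have h₂ : TR S ρ β e f w₂ l₂ w₂' l₂' := h₂.symm
    have := (H.tr_unique hef (h.add h₂) ((h₂.add h).congr (add_comm _ _) (by simp [add_comm])
      rfl rfl)).2
    exact hδ0 (by linear_combination this - hw₂')

theorem exists_tau0 (hef : S.IsHyp e f) (hc : Case1 S e f ∨ Case2 S ρ e f) (hee : Pt S ρ p β e e)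
    (hff : Pt S ρ p β f f) : ∃ τ : S.perp {e, f} ≃+ S.perp {e, f},
      ∀ w l w' l', TR S ρ β e f w l w' l' → w' = τ w := by
  have key : ∀ {β : (G ⧸ center G) ≃* (G ⧸ center G)}, Pt S ρ p β e e → Pt S ρ p β f f →
      ∀ {w l w' l' l₂ w₂' l₂'}, TR S ρ β e f w l w' l' → TR S ρ β e f w l₂ w₂' l₂' → w' = w₂' := by
    intro β hee hff w l w' l' l₂ w₂' l₂' h h₂
    obtain ⟨z, m, h0⟩ := H.tr_total hef hee (w := 0) (l := l - l₂) (by
      rw [map_sub, ← h.rep, ← h₂.rep]; simp)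
    have hz := H.tr_zero hef hc hee hff h0
    subst hz
    have := (H.tr_unique hef h ((h₂.add h0).congr (add_zero _) (by simp) rfl rfl)).1
    simpa using this
  have hex : ∀ {β : (G ⧸ center G) ≃* (G ⧸ center G)}, Pt S ρ p β e e →
      ∀ w : S.perp {e, f}, ∃ w' l l', TR S ρ β e f w l w' l' := fun hee w => by
    obtain ⟨l, hl⟩ := S.exists_rep w
    obtain ⟨w', l', h⟩ := H.tr_total hef hee hl
    exact ⟨w', l, l', h⟩
  choose τ l l' hτ using hex hee
  choose τ' m m' hτ' using hex hee.symm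
  refine ⟨⟨⟨τ, τ', fun w => key hee.symm hff.symm (hτ' _) (hτ w).symm,
    fun w => key hee hff (hτ _) (hτ' w).symm⟩, fun x y => key hee hff (hτ _) ((hτ x).add (hτ y))⟩,
    fun w l w' l' h => key hee hff h (hτ w)⟩

variable [Fact p.Prime] [CharP F p] [Finite G]

theorem exists_tau (hef : S.IsHyp e f) (hc : Case1 S e f ∨ Case2 S ρ e f) (hee : Pt S ρ p β e e)
    (hff : Pt S ρ p β f f) : ∃ (σ' : F ≃+* F) (κ : F) (τ : S.perp {e, f} ≃+ S.perp {e, f}),
      κ ≠ 0 ∧ T.σ κ = κ ∧ (∀ (a : F) w, τ (a • w) = σ' a • τ w) ∧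
      (∀ w w₂, S.B (τ w) (τ w₂) = κ * σ' (S.B w w₂)) ∧
      ∀ w l w' l', TR S ρ β e f w l w' l' → w' = τ w ∧ l' = κ * σ' l := by
  have hZ : CenterP' p G := H.centerP' hef.qe hef.ne_left
  obtain ⟨τ, hτ⟩ := H.exists_tau0 hef hc hee hff
  have htr : ∀ (w : S.perp {e, f}) {l}, S.q w = T.π l → ∃ l', TR S ρ β e f w l (τ w) l' := fun w l hl => by
    obtain ⟨w', l', h⟩ := H.tr_total hef hee hl
    exact ⟨l', hτ _ _ _ _ h ▸ h⟩
  -- equivariance
  have hequi : ∀ {g g' : G}, Rel β g g' → ∀ {μ ν μ' : F}, ρ g e = μ • e → ρ g f = ν • f →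
      ρ g' e = μ' • e → ∀ w w₂ : S.perp {e, f}, (w₂ : V) = T.σ μ • ρ g w →
      (τ w₂ : V) = T.σ μ' • ρ g' (τ w) ∧ ∀ l l', TR S ρ β e f w l (τ w) l' →
        TR S ρ β e f w₂ (μ * T.σ μ * l) (τ w₂) (μ' * T.σ μ' * l') := by
    intro g g' hg μ ν μ' he hf he' w w₂ hw
    obtain ⟨ν', hf'⟩ := H.pt_stab hff hg hf
    have hm := (S.perp {e, f}).smul_mem (T.σ μ')
      (H.map_mem_W he' hf' hef.ne_left hef.ne_right (τ w))
    have h1 : ∀ l l', TR S ρ β e f w l (τ w) l' →
        TR S ρ β e f w₂ (μ * T.σ μ * l) ⟨_, hm⟩ (μ' * T.σ μ' * l') := fun l l' h =>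
      H.tr_conj hef h hg he he' hw rfl
    obtain ⟨l, hl⟩ := S.exists_rep w
    obtain ⟨l', h⟩ := htr w hl
    have h2 := hτ _ _ _ _ (h1 _ _ h)
    exact ⟨(congrArg Subtype.val h2).symm, fun l l' h => h2 ▸ h1 l l' h⟩
  have hequi1 : ∀ g : G, ρ g ∈ S.eichSet → ρ g e = e → ρ g f = f → ∃ g' : G,
      ∀ w w₂ : S.perp {e, f}, (w₂ : V) = ρ g w → (τ w₂ : V) = ρ g' (τ w) ∧
        ∀ l l', TR S ρ β e f w l (τ w) l' → TR S ρ β e f w₂ l (τ w₂) l' := by
    rintro g ⟨_, _, _, _, hg⟩ he hf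
    obtain ⟨g', hu, hr⟩ := exists_rel_unip β (H.unip_of_eq (p := p) hg)
    obtain ⟨μ', he'⟩ := H.pt_stab hee hr (c := 1) (by simpa using he)
    have := (hu.map ρ).eigen hef.ne_left he'
    subst this
    refine ⟨g', fun w w₂ hw => ?_⟩
    simpa using hequi hr (μ := 1) (ν := 1) (by simpa using he) (by simpa using hf) he' w w₂
      (by simpa using hw)
  have hstep : ∀ (v : S.perp {e, f}) (v' : V), (∀ c : F, ∃ d : F, (τ (c • v) : V) = d • v') →
      ∀ (g : G) (μ ν a : F), ρ g e = μ • e → ρ g f = ν • f → T.σ μ • ρ g v = a • v →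
      (∀ g', Rel β g g' → ∃ k : F, ρ g' v' = k • v') →
      ∃ a' : F, ∀ c : F, τ ((a * c) • v) = a' • τ (c • v) := by
    intro v v' hv g μ ν a he hf ha hk
    obtain ⟨g', hg⟩ := exists_rel β g
    obtain ⟨μ', he'⟩ := H.pt_stab hee hg he
    obtain ⟨k, hk⟩ := hk g' hg
    refine ⟨T.σ μ' * k, fun c => Subtype.ext ?_⟩
    rw [(hequi hg he hf he' (c • v) ((a * c) • v) (by
      simp only [SetLike.val_smul, map_smul]
      rw [smul_comm, ha, mul_comm, mul_smul])).1]
    obtain ⟨d, hd⟩ := hv c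
    rw [SetLike.val_smul, hd, map_smul, hk]
    module
  have hsub : ∀ (v : S.perp {e, f}) (a b : F), (∃ a' : F, ∀ c : F, τ ((a * c) • v) = a' • τ (c • v)) →
      (∃ a' : F, ∀ c : F, τ ((b * c) • v) = a' • τ (c • v)) →
      ∃ a' : F, ∀ c : F, τ (((a - b) * c) • v) = a' • τ (c • v) := by
    rintro v a b ⟨a', ha⟩ ⟨b', hb⟩
    exact ⟨a' - b', fun c => by rw [sub_mul, sub_smul, map_sub, ha, hb, sub_smul]⟩
  obtain ⟨v, hv0, hv1, hv2⟩ : ∃ v : S.perp {e, f}, v ≠ 0 ∧
      (∀ a : F, ∃ a' : F, ∀ c : F, τ ((a * c) • v) = a' • τ (c • v)) ∧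
      ∀ w : S.perp {e, f}, S.B w v = 0 ↔ S.B (τ w) (τ v) = 0 := by
    rcases hc with hc | hc
    · obtain ⟨u, v, huv⟩ := H.exists_hyp_W hef hc
      have hv0 : v ≠ 0 := fun h => huv.ne_right (congrArg Subtype.val h)
      obtain ⟨v', hv'⟩ := H.pt_total hee huv.qf huv.ne_right
      have hline : ∀ c : F, ∃ d : F, (τ (c • v) : V) = d • v' := by
        intro c
        obtain ⟨l', h⟩ := htr (c • v) (l := 0) (by simpa using S.q_smul_zero c huv.qf)
        have hl' := H.tr_sing hef hff h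
        obtain ⟨h1, h2, t, t', ht, ht', hr⟩ := h
        have h3 : S.IsEich v ((-T.ε * T.σ c) • e) 0 :=
          ⟨huv.qf, by simp [e_W], by simp [S.q_smul_zero _ hef.qe]⟩
        have h4 : t ∈ QP S ρ v := mem_QP_of_eq (h := h3) (by
          rw [ht]
          ext x
          simp only [eich_apply, SetLike.val_smul, smul_right, map_mul, map_neg, T.σε, T.σσ]
          linear_combination (norm := module) (-(c * S.B x e) * T.εε) • (v : V))
        obtain ⟨d, hd⟩ := QP_triv hv'.q' (hv'.corr.mem hZ h4 hr (H.unip_of_eq ht'))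
          (H.pt_perp hff hv' (f_W v))
        rw [ht', eich_f hef h2 (W_f _), hl'] at hd
        refine ⟨T.ε * d, ?_⟩
        linear_combination (norm := module) T.ε • hd - T.εε • (τ (c • v) : V)
      refine ⟨v, hv0, add_closure_sq _ (hsub v) fun a ha => ?_, fun w => ?_⟩
      · obtain ⟨g, g1, g2, g3⟩ := H.exists_torus hef huv u.2 v.2 (T.σ_ne ha)
        refine hstep v v' hline g _ _ _ g1 g2 (by rw [g3, T.σσ, smul_smul, pow_two]) fun g' hg => ?_
        exact H.pt_stab hv' hg g3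
      · obtain ⟨l, hl⟩ := S.exists_rep w
        obtain ⟨l', h⟩ := htr w hl
        have h1 := H.tr_pt hef hff h
        obtain ⟨d, hd⟩ := hline 1
        rw [one_smul] at hd
        have hd0 : d ≠ 0 := by
          rintro rfl
          exact hv0 (τ.map_eq_zero_iff.1 (Subtype.ext (by simpa using hd)))
        have e1 := H.pt_perp hee hv' (e_W v)
        have e2 := H.pt_perp hff hv' (f_W v)
        rw [hd]
        refine ⟨fun h0 => ?_, fun h0 => ?_⟩
        · have := H.pt_perp h1 hv' (by simp [e_W, f_W, h0])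
          simpa [e1, e2, T.ε_ne, hd0] using this
        · have := H.pt_perp' h1 hv' (by simpa [e1, e2, T.ε_ne, hd0] using h0)
          simpa [e_W, f_W, T.ε_ne] using this
    · haveI : Nontrivial (S.perp {e, f}) := Module.nontrivial_of_finrank_pos (R := F) (by
        rw [hc.1]; exact one_pos)
      obtain ⟨v, hv0⟩ := exists_ne (0 : S.perp {e, f})
      have hv0' : τ v ≠ 0 := τ.map_ne_zero_iff.2 hv0
      refine ⟨v, hv0, hc.2.2.2 _ (hsub v) fun g μ ν a he hf ha => ?_, fun w => ?_⟩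
      · refine hstep v (τ v) (fun c => ?_) g μ ν a he hf (ha v v.2) fun g' hg => ?_
        · obtain ⟨d, hd⟩ := exists_smul_of_one hc.1 hv0' (τ (c • v))
          exact ⟨d, congrArg Subtype.val hd⟩
        · obtain ⟨μ', he'⟩ := H.pt_stab hee hg he
          obtain ⟨ν', hf'⟩ := H.pt_stab hff hg hf
          obtain ⟨d, hd⟩ := exists_smul_of_one hc.1 hv0'
            ⟨_, H.map_mem_W he' hf' hef.ne_left hef.ne_right (τ v)⟩
          exact ⟨d, congrArg Subtype.val hd⟩
      · have key : ∀ v w : S.perp {e, f}, v ≠ 0 → (S.B w v = 0 ↔ w = 0) := fun v w hv => by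
          obtain ⟨d, rfl⟩ := exists_smul_of_one hc.1 hv w
          simp [H.self_ne_of_one hef hc.1 hv, hv]
        rw [key _ _ hv0, key _ _ hv0', τ.map_eq_zero_iff]
  obtain ⟨σ', hσ'⟩ := exists_semilinear (τ.toAddMonoidHom.comp ((smulAddHom F _).flip v)) (w₀ := 1)
    (by simpa using hv0) hv1
  have hsemi : ∀ w (a : F), τ (a • w) = σ' a • τ w := by
    refine H.levi_ind hef hc _ (by simp) (fun x y hx hy a => by simp [hx, hy])
      (fun c x hx a => by rw [smul_smul, hx, hx, smul_smul, map_mul]) hv0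
      (fun a => by simpa using hσ' a 1) fun g hg he hf w w₂ hw hP a => Subtype.ext ?_
    obtain ⟨g', hg'⟩ := hequi1 g hg he hf
    rw [(hg' (a • w) (a • w₂) (by simp [hw])).1, hP, SetLike.val_smul, SetLike.val_smul,
      (hg' w w₂ hw).1, map_smul]
  obtain ⟨z, hz⟩ := H.exists_W_ne hef hv0
  set κ := S.B (τ z) (τ v) with hκ
  have hκ0 : κ ≠ 0 := fun h => by
    rw [← hv2, hz] at h
    exact one_ne_zero h
  have hcomm : ∀ a, T.σ (σ' a) = σ' (T.σ a) := fun a => ringHom_comm T.σ (σ' : F →+* F) a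
  have hB : ∀ y w : S.perp {e, f}, S.B (τ w) (τ y) = κ * σ' (S.B w y) := by
    refine H.levi_ind hef hc _ (by simp) (fun x y hx hy w => by simp [hx, hy, mul_add])
      (fun c x hx w => by simp [hsemi, hx, hcomm]; ring) hv0 (fun w => ?_)
      fun g hg he hf y y₂ hy hP w => ?_
    · have := (hv2 (w - S.B w v • z)).1 (by simp [hz])
      simp only [map_sub, hsemi, AddSubgroupClass.coe_sub, SetLike.val_smul, sub_left,
        smul_left] at this
      linear_combination this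
    · obtain ⟨g', hg'⟩ := hequi1 g hg he hf
      let w₁ : S.perp {e, f} := ⟨_, H.map_mem_W (g := g⁻¹) (μ := 1) (ν := 1) (by simpa using rho_inv_eq he)
          (by simpa using rho_inv_eq hf) hef.ne_left hef.ne_right w⟩
      have hw : (w : V) = ρ g w₁ := (rho_inv_apply ρ g _).symm
      rw [(hg' y y₂ hy).1, (hg' w₁ w hw).1, H.B_map, hP, hy, hw, H.B_map]
  have hκσ : T.σ κ = κ := by
    have h1 := hB z v
    rw [S.herm, ← hκ, herm_one hz, σ'_ε, mul_comm κ] at h1
    exact mul_left_cancel₀ T.ε_ne h1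
  refine ⟨σ', κ, τ, hκ0, hκσ, fun a w => hsemi w a, fun w w₂ => hB w₂ w, fun w l w' l' h =>
    ⟨hτ _ _ _ _ h, ?_⟩⟩
  obtain rfl := hτ _ _ _ _ h
  have hsing : ∀ u : S.perp {e, f}, S.q u = 0 → TR S ρ β e f u 0 (τ u) 0 := fun u hu => by
    obtain ⟨l', h⟩ := htr u (l := 0) (by simpa using hu)
    exact H.tr_sing hef hff h ▸ h
  have g0 : ∀ l m, TR S ρ β e f 0 l 0 m → m = κ * σ' l := by
    intro l m h0
    have hl : l ∈ T.Λ := T.π_eq_zero_iff.1 (by simpa using h0.rep.symm)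
    rcases hc with hc | hc
    · obtain ⟨u, v, huv⟩ := H.exists_hyp_W hef hc
      have h1 := (hsing (T.σ l • v) (S.q_smul_zero (T.σ l) huv.qf)).add
        (hsing u huv.qe)
      have h2 := (hsing (T.σ l • v + u) (by rw [h1.rep]; simpa [huv.ef] using T.π_eq_zero_iff.2 hl)).add h0
      have := (H.tr_unique hef h1 (h2.congr (add_zero _) (by simp [huv.ef]) rfl rfl)).2
      simpa [hB, huv.ef] using this.symm
    · obtain ⟨w₂, hw₂⟩ := H.exists_comm_eq hef hc hv0 (l := l) (by simpa [hc.2.1] using T.mem_max l hl)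
      obtain ⟨l₁, hl₁⟩ := S.exists_rep v
      obtain ⟨l₂, hl₂⟩ := S.exists_rep w₂
      obtain ⟨m₁, h₁⟩ := htr _ hl₁
      obtain ⟨m₂, h₂⟩ := htr _ hl₂
      have := (H.tr_unique hef (h₁.add h₂) (((h₂.add h₁).add h0).congr (by simp [add_comm])
        (by simp; linear_combination -hw₂) rfl rfl)).2
      simp only [hB, ZeroMemClass.coe_zero, zero_left, add_zero] at this
      rw [← hw₂, map_sub]
      linear_combination -this
  have g1 : ∀ {w l m}, TR S ρ β e f w l (τ w) m → ∀ l₂ m₂, TR S ρ β e f w l₂ (τ w) m₂ →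
      m₂ - κ * σ' l₂ = m - κ * σ' l := by
    intro w l m h l₂ m₂ h₂
    obtain ⟨k, h0⟩ := htr 0 (l := l₂ - l) (by rw [map_sub, ← h.rep, ← h₂.rep]; simp)
    rw [map_zero] at h0
    have := (H.tr_unique hef h₂ ((h.add h0).congr (add_zero _) (by simp) rfl rfl)).2
    rw [this, g0 _ _ h0, map_sub]
    simp; ring
  choose L hL using fun w : S.perp {e, f} => S.exists_rep w
  choose M hM using fun w : S.perp {e, f} => htr w (hL w)
  let lam : S.perp {e, f} →+ F := AddMonoidHom.mk' (fun w => M w - κ * σ' (L w)) fun x y => by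
    have := g1 ((hM x).add (hM y) |>.congr rfl rfl (map_add τ x y).symm rfl) _ _ (hM (x + y))
    rw [this, hB]
    simp only [map_add]; ring
  have hlam : ∀ {w l m}, TR S ρ β e f w l (τ w) m → lam w = m - κ * σ' l := fun h =>
    g1 h _ _ (hM _)
  suffices ∀ w, lam w = 0 by
    have := this w
    rw [hlam h] at this
    exact sub_eq_zero.1 this
  rcases hc with hc | hc
  · obtain ⟨u, v, huv⟩ := H.exists_hyp_W hef hc
    intro w
    have := H.levi_ind hef (Or.inl hc) (fun w => ∀ c : F, lam (c • w) = 0) (by simp)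
      (fun x y hx hy c => by simp [hx, hy]) (fun c x hx a => by rw [smul_smul, hx])
      (v := u) (fun h => huv.ne_left (congrArg Subtype.val h))
      (fun c => by simpa using hlam (hsing (c • u) (S.q_smul_zero c huv.qe)))
      (fun g hg he hf w w₂ hw hP c => by
        obtain ⟨g', hg'⟩ := hequi1 g hg he hf
        rw [hlam ((hg' (c • w) (c • w₂) (by simp [hw])).2 _ _ (hM _)), ← hlam (hM _), hP]) w 1
    rwa [one_smul] at this
  · have htr0 : ∀ w, lam w + T.σ (lam w) = 0 := fun w => by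
      have h1 := S.self _ _ (hM w).rep
      have h2 := S.self _ _ (hM w).rep'
      rw [hB, h1, hc.2.1] at h2
      rw [hlam (hM w), map_sub, map_mul, hκσ, hcomm]
      simp only [one_mul, map_add] at h2
      linear_combination -h2
    obtain ⟨c₀, hc₀, h0⟩ : ∃ c₀ : F, c₀ ≠ 0 ∧ lam (c₀ • v) = 0 := by
      by_contra hn
      push Not at hn
      have hinj : Function.Injective (lam.comp ((smulAddHom F _).flip v)) :=
        (injective_iff_map_eq_zero _).2 fun a ha => by_contra fun h => hn a h ha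
      obtain ⟨θ, hθ⟩ := exists_trace_one T.σ T.σσ hc.2.2.1
      obtain ⟨a, rfl⟩ := Finite.surjective_of_injective hinj θ
      exact one_ne_zero (hθ.symm.trans (htr0 _))
    have key := hc.2.2.2 (fun c => ∀ w, lam w = 0 → lam (c • w) = 0)
      (fun a b ha hb w hw => by rw [sub_smul, map_sub, ha w hw, hb w hw, sub_self])
      (fun g μ ν c he hf hcw w hw => by
        rcases eq_or_ne w 0 with rfl | hw0
        · simp
        obtain ⟨g', hg⟩ := exists_rel β g
        obtain ⟨μ', he'⟩ := H.pt_stab hee hg he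
        obtain ⟨h1, h2⟩ := hequi hg he hf he' w (c • w) (hcw w w.2).symm
        have h3 := hB (c • w) (c • w)
        rw [h1, SetLike.val_smul, ← hcw w w.2] at h3
        simp only [smul_left, smul_right, H.B_map, T.σσ, hB, map_mul] at h3
        have h4 : σ' (S.B w w) ≠ 0 := by simpa using H.self_ne_of_one hef hc.1 hw0
        have h5 : μ' * T.σ μ' = σ' μ * σ' (T.σ μ) :=
          mul_right_cancel₀ (mul_ne_zero hκ0 h4) (by linear_combination h3)
        rw [hlam (hM w)] at hw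
        rw [hlam (h2 _ _ (hM w)), h5, map_mul, map_mul]
        linear_combination (σ' μ * σ' (T.σ μ)) * hw)
    intro w
    obtain ⟨d, rfl⟩ := exists_smul_of_one hc.1 (smul_ne_zero hc₀ hv0) w
    exact key d _ h0

end FSetup

end CfsgH8
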