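import Cfsg.Agent.H8.AutForm4

/-!
Automorphisms of classical groups with a form, part 5: the main theorem.
-/

set_option autoImplicit false

namespace CfsgH8

open Subgroup Module CfsgH5 CfsgH5.Form

variable {F : Type*} [Field F] {T : FParam F} {V : Type*} [AddCommGroup V] [Module F V]
  {S : Form T V} {G : Type*} [Group G] {ρ : G →* (V ≃ₗ[F] V)} {p : ℕ}
  {β : (G ⧸ center G) ≃* (G ⧸ center G)} {e f : V}

/-- semisimilarities -/
structure SemiSim (S : Form T V) (σ' : F ≃+* F) (κ : F) (g : V ≃+ V) : Prop where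
  ne : κ ≠ 0
  fix : T.σ κ = κ
  smul : ∀ (a : F) v, g (a • v) = σ' a • g v
  B : ∀ x y, S.B (g x) (g y) = κ * σ' (S.B x y)
  q : ∀ x l, S.q x = T.π l → S.q (g x) = T.π (κ * σ' l)

namespace FSetup

variable (H : FSetup S ρ) [FiniteDimensional F V] [Finite F]
include H

omit [FiniteDimensional F V] [Finite F] in
theorem semiSim_comp {σ' : F ≃+* F} {κ : F} {g : V ≃+ V} (h : SemiSim S σ' κ g) (x : G) :
    SemiSim S σ' κ (g.trans (ρ x).toAddEquiv) :=
  ⟨h.ne, h.fix, fun a v => by simp [h.smul], fun a b => (H.B_map x _ _).trans (h.B a b),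
    fun a l hl => (H.q_map x _).trans (h.q a l hl)⟩

variable [Fact p.Prime] [CharP F p] [Finite G]

theorem main_normalized (hef : S.IsHyp e f) (hc : Case1 S e f ∨ Case2 S ρ e f)
    (hee : Pt S ρ p β e e) (hff : Pt S ρ p β f f) :
    ∃ (σ' : F ≃+* F) (κ : F) (g : V ≃+ V), SemiSim S σ' κ g ∧ IsInd ρ β g := by
  haveI : Finite V := Module.finite_of_finite F
  have hZ : CenterP' p G := H.centerP' hef.qe hef.ne_left
  obtain ⟨σ', κ, τ, hκ0, hκσ, hsemi, hB, hTR⟩ := H.exists_tau hef hc hee hff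
  have hcomm : ∀ a, T.σ (σ' a) = σ' (T.σ a) := fun a => ringHom_comm T.σ (σ' : F →+* F) a
  have hdec : ∀ x : V, ∃ (a b : F) (w : S.perp {e, f}), x = a • e + b • f + w := fun x =>
    ⟨S.B x f, T.ε * S.B x e, ⟨_, hef.decomp x⟩, by simp⟩
  let pr : V →+ S.perp {e, f} := AddMonoidHom.mk' (fun x => ⟨_, hef.decomp x⟩) fun x y =>
    Subtype.ext (by simp only [add_left, Submodule.coe_add]; module)
  let g₀ : V →+ V := AddMonoidHom.mk'
    (fun x => (κ * σ' (S.B x f)) • e + σ' (T.ε * S.B x e) • f + τ (pr x)) fun x y => by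
      simp only [add_left, map_add, mul_add, Submodule.coe_add]; module
  have hg₀ : ∀ (a b : F) (w : S.perp {e, f}),
      g₀ (a • e + b • f + w) = (κ * σ' a) • e + σ' b • f + τ w := by
    intro a b w
    have e1 : S.B (a • e + b • f + w) f = a := by simp [hef.ef, hef.ff, W_f]
    have e2 : T.ε * S.B (a • e + b • f + w) e = b := by
      simp only [add_left, smul_left, hef.ee, hef.fe, W_e]
      linear_combination b * T.εε
    have e3 : pr (a • e + b • f + w) = w := Subtype.ext (by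
      change _ - (S.B _ f • e + (T.ε * S.B _ e) • f) = _
      rw [e1, e2]; abel)
    change (κ * σ' (S.B _ f)) • e + σ' (T.ε * S.B _ e) • f + τ (pr _) = _
    rw [e1, e2, e3]
  have hgB : ∀ x y, S.B (g₀ x) (g₀ y) = κ * σ' (S.B x y) := by
    intro x y
    obtain ⟨a, b, w, rfl⟩ := hdec x
    obtain ⟨a', b', w', rfl⟩ := hdec y
    rw [hg₀, hg₀]
    simp only [add_left, add_right, smul_left, smul_right, hef.ee, hef.ff, hef.ef, hef.fe, W_e, W_f,
      e_W, f_W, hB, map_add, map_mul, hκσ, hcomm, σ'_ε, mul_zero, add_zero, zero_add, mul_one]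
    ring
  have hinj : Function.Injective g₀ := (injective_iff_map_eq_zero _).2 fun x hx =>
    H.nd.left fun y => by
      have := hgB x y
      rw [hx, zero_left] at this
      simpa [hκ0] using this.symm
  let g : V ≃+ V := AddEquiv.ofBijective g₀ (Finite.injective_iff_bijective.1 hinj)
  have hg : ∀ x, g x = g₀ x := fun _ => rfl
  have hsm : ∀ (a : F) v, g (a • v) = σ' a • g v := by
    intro c x
    obtain ⟨a, b, w, rfl⟩ := hdec x
    have : c • (a • e + b • f + (w : V)) = (c * a) • e + (c * b) • f + (c • w : S.perp {e, f}) := by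
      rw [SetLike.val_smul]; module
    rw [hg, hg, this, hg₀, hg₀, hsemi, map_mul, map_mul, SetLike.val_smul]
    module
  have hq0 : ∀ (w : S.perp {e, f}) l, S.q w = T.π l → S.q (τ w) = T.π (κ * σ' l) := fun w l hl => by
    obtain ⟨w', l', h⟩ := H.tr_total hef hee hl
    obtain ⟨rfl, rfl⟩ := hTR _ _ _ _ h
    exact h.rep'
  have hS : SemiSim S σ' κ g := ⟨hκ0, hκσ, hsm, hgB, fun x l hl => by
    obtain ⟨a, b, w, rfl⟩ := hdec x
    rw [hef.q_coords _ _ w.2] at hl
    rw [hg, hg₀, hef.q_coords _ _ (τ w).2, hq0 w (l - a * T.σ b) (by rw [map_sub, ← hl]; abel),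
      ← map_add, hcomm, map_sub, map_mul]
    congr 1; ring⟩
  have hge : g e = κ • e := by rw [hg]; simpa using hg₀ 1 0 0
  have hsing : ∀ x, S.q x = 0 → S.q (g x) = 0 := fun x hx => by
    simpa using hS.q x 0 (by simpa using hx)
  have hQ : ∀ t ∈ QP S ρ e, ∃ t' ∈ QP S ρ e, Rel β t t' ∧ ρ t' f = g (ρ t f) := by
    intro t ht
    obtain ⟨w, l, h, hw, ht⟩ := mem_QP' hef ht
    obtain ⟨w', l', h'⟩ := H.tr_total hef hee (w := ⟨w, S.mem_perp_pair.2 ⟨h.perp, hw⟩⟩) h.rep
    obtain ⟨rfl, rfl⟩ := hTR _ _ _ _ h'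
    obtain ⟨h1, h2, s, s', hs, hs', hr⟩ := h'
    have : s = t := H.inj (hs.trans ht.symm)
    subst this
    refine ⟨s', mem_QP_of_eq hs', hr, ?_⟩
    rw [hs', hs, eich_f hef h1 hw, eich_f hef h2 (W_f _)]
    have := hg₀ (-l) 1 (T.ε • ⟨w, S.mem_perp_pair.2 ⟨h.perp, hw⟩⟩)
    rw [hsemi, σ'_ε, map_one, map_neg] at this
    rw [hg]
    convert this.symm using 1
    · rw [SetLike.val_smul]; module
    · congr 1
      rw [SetLike.val_smul]; module
  have hpt1 : ∀ x, S.q x = 0 → S.B x e ≠ 0 → Pt S ρ p β x (g x) := by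
    intro x hx hxe
    obtain ⟨t, ht, c, hc, htc⟩ := exists_Qu_map_sing hef.qe (by rw [hef.fe]; exact T.ε_ne) hxe
      hef.qf hx
    obtain ⟨t, rfl⟩ := H.exists_of_EG (Qu_le_EG _ ht)
    obtain ⟨t', -, hr, ht'⟩ := hQ t ht
    have := H.pt_map hff hr
    rw [ht', htc, hsm] at this
    exact this.of_smul.symm.of_smul.of_symm
  have hpt : ∀ x, S.q x = 0 → x ≠ 0 → Pt S ρ p β x (g x) := by
    intro x hx hx0
    by_cases hxe : S.B x e = 0
    swap
    · exact hpt1 x hx hxe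
    by_cases hex : e ∈ F ∙ x
    · obtain ⟨c, hc⟩ := Submodule.mem_span_singleton.1 hex
      have := hee.smul one_ne_zero hκ0
      rw [one_smul, ← hge, ← hc, hsm] at this
      exact this.of_smul.symm.of_smul.of_symm
    obtain ⟨y, hy, hey, hxy⟩ := H.nd.exists_hyp (F ∙ x) hef.qe hex (fun w hw => by
      obtain ⟨c, rfl⟩ := Submodule.mem_span_singleton.1 hw
      simp [hxe])
    have hxy := hxy x (Submodule.mem_span_singleton_self x)
    have hye : S.B y e = T.ε := herm_one hey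
    have hpy := hpt1 y hy (by rw [hye]; exact T.ε_ne)
    obtain ⟨x', hx'⟩ := H.pt_total hee hx hx0
    have h1 : S.IsEich e x 0 := ⟨hef.qe, hxe, by simpa using hx⟩
    obtain ⟨s, hs⟩ := H.exists_eich h1
    have h3 : S.IsEich x ((-T.ε) • e) 0 :=
      ⟨hx, by simp [perp_symm hxe], by simp [S.q_smul_zero _ hef.qe]⟩
    have h4 : s ∈ QP S ρ x := mem_QP_of_eq (h := h3) (by
      rw [hs]
      ext z
      simp only [eich_apply, smul_right, map_neg, T.σε]
      linear_combination (norm := module) (-(S.B z e) * T.εε) • x)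
    obtain ⟨s', hs', hr⟩ := hee.corr.fwd s (mem_QP_of_eq hs)
    obtain ⟨d, hd⟩ := QP_triv hx'.q' (hx'.corr.mem hZ h4 hr (Unip.of_mem hee.corr.right hs'))
      (H.pt_perp hpy hx' (perp_symm hxy))
    have hsy : ρ s y = y + T.ε • x := by simp [hs, eich_apply, hye, perp_symm hxy]
    have h5 := H.pt_map hpy hr
    rw [hsy] at h5
    obtain ⟨c, hc⟩ := H.pt_unique (hpt1 _ h5.q (by simp [hye, hxe, T.ε_ne])) h5
    have h6 := H.B_map s' (g y) (g e)
    rw [hc, hge, map_smul, QP_fix hef.qe hs', ← hge, smul_left, hS.B, hS.B] at h6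
    simp only [add_left, smul_left, hye, hxe, mul_zero, add_zero, σ'_ε] at h6
    have hc1 : c = 1 := mul_right_cancel₀ (mul_ne_zero hκ0 T.ε_ne) (by rw [h6, one_mul])
    rw [hc, hc1, one_smul, map_add, hsm, σ'_ε, add_right_inj] at hd
    have h7 : g x = (T.ε * d) • x' := by linear_combination (norm := module) T.ε • hd - T.εε • g x
    have hd0 : T.ε * d ≠ 0 := by
      intro h0
      rw [h0, zero_smul] at h7
      exact hx0 (g.map_eq_zero_iff.1 h7)
    simpa [h7] using hx'.smul one_ne_zero hd0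
  refine ⟨σ', κ, g, hS, fun a a' ha => ?_⟩
  obtain ⟨a'', ha''⟩ := exists_rel β a
  refine ha''.of_central ?_
  obtain ⟨c, hc⟩ := H.nd.scalar_of_fix H.dim2 hef.qe hef.ne_left (H.mem (a''⁻¹ * a')) fun u hu => by
    rcases eq_or_ne u 0 with rfl | hu0
    · exact ⟨0, by simp⟩
    obtain ⟨x, hx⟩ := H.pt_total' hee hu hu0
    obtain ⟨c, hc⟩ := H.pt_unique hx (hpt x hx.q hx.ne)
    have hc0 : c ≠ 0 := by
      rintro rfl
      exact hx.ne (g.map_eq_zero_iff.1 (by simpa using hc))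
    have h1 := H.pt_map hx ha''
    obtain ⟨d, hd⟩ := H.pt_unique h1 (hpt _ h1.q h1.ne)
    rw [← ha, hc, map_smul] at hd
    refine ⟨c⁻¹ * d, ?_⟩
    rw [rho_mul_apply]
    refine rho_inv_eq ?_
    rw [map_smul, mul_smul, ← hd, smul_smul, inv_mul_cancel₀ hc0, one_smul]
  exact central_of_scalar H.inj hc

theorem main_of_corr (hef : S.IsHyp e f) (hc : Case1 S e f ∨ Case2 S ρ e f) {h : G}
    (hh : Corr p (twist β h) (QP S ρ e) (QP S ρ e)) :
    ∃ (σ' : F ≃+* F) (κ : F) (g : V ≃+ V), SemiSim S σ' κ g ∧ IsInd ρ β g := by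
  obtain ⟨k, h1, h2⟩ := H.exists_twist_hyp hef ⟨hef.qe, hef.ne_left, hef.qe, hef.ne_left, hh⟩
  obtain ⟨σ', κ, g, hS, hI⟩ := H.main_normalized hef hc h1 h2
  exact ⟨σ', κ, _, H.semiSim_comp (H.semiSim_comp hS k⁻¹) h⁻¹, hI.of_twist.of_twist⟩

omit [Fact p.Prime] [CharP F p] in
/-- every automorphism is induced by a semisimilarity -/
theorem main (hef : S.IsHyp e f) (hc : Case1 S e f ∨ Case2 S ρ e f) (hE : NoExc S e f)
    (β : (G ⧸ center G) ≃* (G ⧸ center G)) :
    ∃ (σ' : F ≃+* F) (κ : F) (g : V ≃+ V), SemiSim S σ' κ g ∧ IsInd ρ β g := by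
  obtain ⟨p, hp⟩ := CharP.exists F
  haveI : Fact p.Prime := ⟨CharP.char_is_prime F p⟩
  obtain ⟨h, hh⟩ := H.exists_corr_self (p := p) hef (H.leviIrr' hef hc) hE β
  exact H.main_of_corr hef hc hh

end FSetup

end CfsgH8
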