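import Cfsg.Agent.H8.LangForm2
import Cfsg.Agent.H5.OrthMat

/-!
Automorphisms of orthogonal groups: set-up, Dickson invariant and spinor norm on matrices.
-/

set_option autoImplicit false

namespace CfsgH8

open Subgroup Module Matrix CfsgH5 CfsgH5.Form

section Inv

variable {ι : Type*} [Fintype ι] [DecidableEq ι] {F : Type*} [Field F]
  {S : Form (orthParam F) (ι → F)}

theorem isSemiSim_o_iff {γ : GammaL ι F} {κ : F} :
    IsSemiSim S γ κ ↔ κ ≠ 0 ∧ ∀ v, S.Q (semiAct γ v) = κ * γ.right (S.Q v) := by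
  refine ⟨fun h => ⟨h.ne, fun v => (q_eq_π_iff _).1 (h.q v _ (q_eq_Q _ _))⟩, fun ⟨h0, h⟩ =>
    ⟨h0, rfl, fun x y => ?_, fun x l hl => ?_⟩⟩
  · have h1 := S.Q_add (semiAct γ x) (semiAct γ y)
    rw [← map_add, h, h, h, S.Q_add, map_add, map_add] at h1
    linear_combination -h1
  · rw [q_eq_π_iff] at hl ⊢
    rw [h, hl]

theorem IsSemiSim.Q {γ : GammaL ι F} {κ : F} (h : IsSemiSim S γ κ) (v : ι → F) :
    S.Q (semiAct γ v) = κ * γ.right (S.Q v) := (isSemiSim_o_iff.1 h).2 v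

theorem isExt_o_iff {F₀ : Type*} [Field F₀] {S₀ : Form (orthParam F₀) (ι → F₀)} {φ : F₀ →+* F}
    {P : GL ι F} {e : F} : IsExt φ S₀ S P e ↔
      e ≠ 0 ∧ ∀ v, S.Q ((P : Matrix ι ι F) *ᵥ vmap φ v) = e * φ (S₀.Q v) := by
  refine ⟨fun h => ⟨h.ne, fun v => (q_eq_π_iff _).1 (h.q v _ (q_eq_Q _ _))⟩, fun ⟨h0, h⟩ =>
    ⟨h0, rfl, fun x y => ?_, fun x l hl => ?_⟩⟩
  · have h1 := S.Q_add ((P : Matrix ι ι F) *ᵥ vmap φ x) ((P : Matrix ι ι F) *ᵥ vmap φ y)
    rw [← mulVec_add, ← vmap_add, h, h, h, S₀.Q_add, map_add, map_add] at h1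
    linear_combination -h1
  · rw [q_eq_π_iff] at hl ⊢
    rw [h, hl]

theorem IsExt.Q {F₀ : Type*} [Field F₀] {S₀ : Form (orthParam F₀) (ι → F₀)} {φ : F₀ →+* F}
    {P : GL ι F} {e : F} (h : IsExt φ S₀ S P e) (v : ι → F₀) :
    S.Q ((P : Matrix ι ι F) *ᵥ vmap φ v) = e * φ (S₀.Q v) := (isExt_o_iff.1 h).2 v

/-- the isometry group as a matrix group -/
noncomputable def OG (S : Form (orthParam F) (ι → F)) : Subgroup (GL ι F) := S.isom.comap glRho.toMonoidHom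

theorem mem_OG {g : GL ι F} : g ∈ OG S ↔ glRho g ∈ S.isom := Iff.rfl

/-- reflections as matrices -/
noncomputable def rfG (S : Form (orthParam F) (ι → F)) (v : ι → F) : GL ι F := glRho.symm (S.rf v)

theorem glRho_rfG (v : ι → F) : glRho (rfG S v) = S.rf v := MulEquiv.apply_symm_apply _ _

theorem rfG_mulVec (v x : ι → F) : (rfG S v : Matrix ι ι F) *ᵥ x = S.rf v x := by
  rw [← glRho_apply, glRho_rfG]

theorem rfG_mem (v : ι → F) : rfG S v ∈ OG S := by rw [mem_OG, glRho_rfG]; exact rf_mem v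

theorem rfG_mul_self (v : ι → F) : rfG S v * rfG S v = 1 := by
  rw [rfG, ← map_mul, rf_mul_self, map_one]

/-- genericity condition for generation by reflections -/
abbrev GenC (F : Type*) [Field F] (ι : Type*) : Prop := (∃ a : F, a ≠ 0 ∧ a ≠ 1) ∨ finrank F (ι → F) ≠ 4

theorem genC_of (h : 5 ≤ Fintype.card ι) : GenC F ι := Or.inr (by simp; omega)

theorem OG_induction (hS : S.Nondeg) (hG : GenC F ι) {P : GL ι F → Prop} (h1 : P 1)
    (hm : ∀ v, S.Q v ≠ 0 → ∀ g ∈ OG S, P g → P (rfG S v * g)) : ∀ g ∈ OG S, P g := fun g hg => by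
  have := hS.orth_induction hG (P := fun t => P (glRho.symm t)) (by simpa using h1)
    (fun v hv t ht h => by
      rw [map_mul]
      exact hm v hv _ (by rw [mem_OG, MulEquiv.apply_symm_apply]; exact ht) h) _ hg
  simpa using this

/-- Dickson invariant of a matrix -/
noncomputable def dkG (g : GL ι F) : ℤˣ := dk (glRho g)

/-- spinor norm of a matrix -/
noncomputable def spG (S : Form (orthParam F) (ι → F)) (g : GL ι F) : ℤˣ := S.spin (glRho g)

theorem dkG_one : dkG (1 : GL ι F) = 1 := by rw [dkG, map_one, dk_one]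

theorem dkG_mul (hS : S.Nondeg) (hG : GenC F ι) {g h : GL ι F} (hg : g ∈ OG S) (hh : h ∈ OG S) :
    dkG (g * h) = dkG g * dkG h := by rw [dkG, map_mul]; exact hS.dk_mul hG hg hh

theorem dkG_inv (hS : S.Nondeg) (hG : GenC F ι) {g : GL ι F} (hg : g ∈ OG S) : dkG g⁻¹ = dkG g := by
  rw [dkG, map_inv]; exact hS.dk_inv hG hg

theorem dkG_rf (hS : S.Nondeg) {v : ι → F} (hv : S.Q v ≠ 0) : dkG (rfG S v) = -1 := by
  rw [dkG, glRho_rfG, hS.dk_rf hv]

theorem det_eq_dkG (hS : S.Nondeg) (hG : GenC F ι) {g : GL ι F} (hg : g ∈ OG S) :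
    (g : Matrix ι ι F).det = ((dkG g : ℤ) : F) := by rw [← det_glRho]; exact hS.det_eq_dk hG hg

theorem glRho_scalar (c : Fˣ) (v : ι → F) : glRho (GeneralLinearGroup.scalar ι c) v = (c : F) • v := by
  rw [glRho_apply]; ext i; simp [mulVec_diagonal]

theorem glRho_neg_one : glRho (GeneralLinearGroup.scalar ι (-1 : Fˣ)) = LinearEquiv.neg F := by
  ext1 v; rw [glRho_scalar]; simp

theorem neg_one_mem_OG : GeneralLinearGroup.scalar ι (-1 : Fˣ) ∈ OG S := by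
  rw [mem_OG, glRho_neg_one]; exact neg_mem_isom

/-- the character of `{±1}` sending `-1` to `t` -/
def tw (t u : ℤˣ) : ℤˣ := if u = 1 then 1 else t

theorem tw_one (t : ℤˣ) : tw t 1 = 1 := rfl
theorem tw_neg_one (t : ℤˣ) : tw t (-1) = t := rfl
theorem one_tw (u : ℤˣ) : tw 1 u = 1 := by simp [tw]
theorem tw_mul (t u u' : ℤˣ) : tw t (u * u') = tw t u * tw t u' := by
  rcases Int.units_eq_one_or t with rfl | rfl <;> rcases Int.units_eq_one_or u with rfl | rfl <;>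
    rcases Int.units_eq_one_or u' with rfl | rfl <;> decide

variable [Finite F]

theorem OG_le_Sim : OG S ≤ Sim S := fun _ h => isom_mem_Sim h

theorem spG_one (hS : S.Nondeg) : spG S (1 : GL ι F) = 1 := by rw [spG, map_one, hS.spin_one]

theorem spG_mul (hS : S.Nondeg) {g h : GL ι F} (hg : g ∈ OG S) (hh : h ∈ OG S) :
    spG S (g * h) = spG S g * spG S h := by rw [spG, map_mul]; exact hS.spin_mul hg hh

theorem spG_inv (hS : S.Nondeg) {g : GL ι F} (hg : g ∈ OG S) : spG S g⁻¹ = spG S g := by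
  rw [spG, map_inv]; exact hS.spin_inv hg

theorem spG_rf (hS : S.Nondeg) {v : ι → F} (hv : S.Q v ≠ 0) : spG S (rfG S v) = chi (S.Q v) := by
  rw [spG, glRho_rfG, hS.spin_rf hv]

theorem spG_of_two (hS : S.Nondeg) (hG : GenC F ι) (h2 : (2 : F) = 0) {g : GL ι F} (hg : g ∈ OG S) :
    spG S g = 1 := hS.spin_of_two h2 hG hg

theorem mem_om_iffG (hS : S.Nondeg) (hG : GenC F ι) {g : GL ι F} :
    glRho g ∈ S.om ↔ g ∈ OG S ∧ dkG g = 1 ∧ spG S g = 1 := hS.mem_om_iff hG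

theorem chi_map (σ : F ≃+* F) (a : F) : chi (σ a) = chi a := by
  have : IsSquare (σ a) ↔ IsSquare a :=
    ⟨fun h => by simpa using h.map σ.symm, fun h => h.map σ⟩
  rcases Int.units_eq_one_or (chi a) with h | h
  · rw [h, chi_eq_one_iff, this, ← chi_eq_one_iff, h]
  · rw [h, chi_eq_neg_one_iff, this, ← chi_eq_neg_one_iff, h]

theorem transfer {ι₀ : Type*} [Fintype ι₀] [DecidableEq ι₀] {F₀ : Type*} [Field F₀]
    {S₀ : Form (orthParam F₀) (ι₀ → F₀)} (hS₀ : S₀.Nondeg) (hG₀ : GenC F₀ ι₀) (hS : S.Nondeg)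
    (hG : GenC F ι) (Θ : GL ι₀ F₀ →* GL ι F) (ψ : GL ι₀ F₀ → ℤˣ) (h1 : ψ 1 = 1)
    (hm : ∀ g ∈ OG S₀, ∀ h ∈ OG S₀, ψ (g * h) = ψ g * ψ h)
    (hrf : ∀ v, S₀.Q v ≠ 0 → ∃ v', S.Q v' ≠ 0 ∧ Θ (rfG S₀ v) = rfG S v' ∧ chi (S.Q v') = ψ (rfG S₀ v)) :
    ∀ g ∈ OG S₀, Θ g ∈ OG S ∧ dkG (Θ g) = dkG g ∧ spG S (Θ g) = ψ g := by
  refine OG_induction hS₀ hG₀ ⟨by simp, by simp [dkG_one], by simp [spG_one hS, h1]⟩
    fun v hv g hg ⟨a, b, c⟩ => ?_
  obtain ⟨v', h1, h2, h3⟩ := hrf v hv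
  rw [map_mul, h2, dkG_mul hS hG (rfG_mem _) a, dkG_mul hS₀ hG₀ (rfG_mem _) hg, spG_mul hS (rfG_mem _) a,
    hm _ (rfG_mem _) _ hg, b, c, dkG_rf hS h1, dkG_rf hS₀ hv, spG_rf hS h1, h3]
  exact ⟨mul_mem (rfG_mem _) a, rfl, rfl⟩

/-- conjugation of matrices by a semilinear map -/
def conjG (γ : GammaL ι F) : GL ι F →* GL ι F :=
  (MulAut.conj γ.left).toMonoidHom.comp (fieldAutGL γ.right).toMonoidHom

omit [Finite F] in
theorem inl_conjG (γ : GammaL ι F) (g : GL ι F) :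
    SemidirectProduct.inl (conjG γ g) = γ * SemidirectProduct.inl g * γ⁻¹ := (sdp_conj γ g).symm

omit [Finite F] in
theorem conjG_mulVec (γ : GammaL ι F) (g : GL ι F) (v : ι → F) :
    (conjG γ g : Matrix ι ι F) *ᵥ semiAct γ v = semiAct γ ((g : Matrix ι ι F) *ᵥ v) := by
  rw [← semiAct_inl, inl_conjG, semiAct_mul, semiAct_mul, semiAct_apply_inv, semiAct_inl]

omit [Finite F] in
theorem conjG_inl (M g : GL ι F) : conjG (SemidirectProduct.inl M) g = M * g * M⁻¹ := by simp [conjG]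

omit [Finite F] in
theorem conjG_scalar (γ : GammaL ι F) (c : Fˣ) : conjG γ (GeneralLinearGroup.scalar ι c) =
    GeneralLinearGroup.scalar ι (Units.map (γ.right : F →* F) c) := by
  change γ.left * fieldAutGL γ.right _ * γ.left⁻¹ = _
  rw [fieldAutGL_scalar, ← scalar_comm, mul_inv_cancel_right]

omit [Finite F] in
theorem det_conjG (γ : GammaL ι F) (g : GL ι F) :
    (conjG γ g : Matrix ι ι F).det = γ.right (g : Matrix ι ι F).det := by
  rw [← GeneralLinearGroup.val_det_apply]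
  change (GeneralLinearGroup.det (γ.left * fieldAutGL γ.right g * γ.left⁻¹) : F) = _
  rw [map_mul, map_mul, map_inv, mul_inv_cancel_comm, GeneralLinearGroup.val_det_apply, coe_fieldAutGL]
  exact ((γ.right : F →+* F).map_det _).symm

omit [Finite F] in
theorem conjG_rf {γ : GammaL ι F} {κ : F} (h : IsSemiSim S γ κ) (v : ι → F) :
    conjG γ (rfG S v) = rfG S (semiAct γ v) := by
  refine GL_ext_mulVec fun x => ?_
  obtain ⟨x, rfl⟩ := semiAct_surj γ x
  have := h.ne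
  rw [conjG_mulVec, rfG_mulVec, rfG_mulVec, rf_apply, rf_apply, map_sub, semiAct_smul, h.Q, h.B,
    map_mul, map_inv₀, mul_inv, mul_mul_mul_comm, inv_mul_cancel₀ this, one_mul]

theorem conjG_OG (hS : S.Nondeg) (hG : GenC F ι) {γ : GammaL ι F} {κ : F} (h : IsSemiSim S γ κ) :
    ∀ g ∈ OG S, conjG γ g ∈ OG S ∧ dkG (conjG γ g) = dkG g ∧
      spG S (conjG γ g) = spG S g * tw (chi κ) (dkG g) :=
  transfer hS hG hS hG _ _ (by rw [spG_one hS, dkG_one, tw_one, one_mul])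
    (fun g hg g' hg' => by rw [spG_mul hS hg hg', dkG_mul hS hG hg hg', tw_mul, mul_mul_mul_comm])
    fun v hv => ⟨_, by rw [h.Q]; exact mul_ne_zero h.ne (by simpa using hv), conjG_rf h v, by
      rw [h.Q, chi_mul h.ne (by simpa using hv), chi_map, spG_rf hS hv, dkG_rf hS hv, tw_neg_one,
        mul_comm]⟩

/-- conjugation of similarities by a semisimilarity -/
def conjS (γ : GammaS S) : Sim S →* Sim S :=
  ((conjG γ.1).comp (Sim S).subtype).codRestrict _ fun g => by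
    change SemidirectProduct.inl (conjG γ.1 g) ∈ GammaS S
    rw [inl_conjG]
    exact mul_mem (mul_mem γ.2 g.2) (inv_mem γ.2)

theorem coe_conjS (γ : GammaS S) (g : Sim S) : (conjS γ g : GL ι F) = conjG γ.1 g := rfl

theorem simIncl_conjS (γ : GammaS S) (g : Sim S) :
    simIncl S (conjS γ g) = γ * simIncl S g * γ⁻¹ := Subtype.ext (inl_conjG _ _)

theorem conjS_simIncl (M g : Sim S) : conjS (simIncl S M) g = M * g * M⁻¹ :=
  Subtype.ext (conjG_inl _ _)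

theorem simMult_conjS [Nonempty ι] (hS : S.Nondeg) (γ : GammaS S) (g : Sim S) :
    (simMult hS (conjS γ g) : F) = γ.1.right (simMult hS g) := by
  obtain ⟨κ, hκ⟩ := γ.2
  have := (hκ.mul (simMult_spec hS g)).mul (hκ.inv hS)
  rw [← inl_conjG] at this
  rw [simMult_eq hS this]
  have := hκ.ne
  simp only [SemidirectProduct.mul_right, SemidirectProduct.right_inl, mul_one]
  rw [← RingAut.mul_apply, mul_inv_cancel]
  change κ * _ * κ⁻¹ = _
  field_simp

section Desc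

variable {F₀ : Type*} [Field F₀] [Finite F₀] {S₀ : Form (orthParam F₀) (ι → F₀)} {φ : F₀ →+* F}

omit [Finite F] [Finite F₀] in
theorem desc_rf {P : GL ι F} {e : F} (h : IsExt φ S₀ S P e) (v : ι → F₀) :
    P * GeneralLinearGroup.map φ (rfG S₀ v) * P⁻¹ = rfG S ((P : Matrix ι ι F) *ᵥ vmap φ v) := by
  rw [mul_inv_eq_iff_eq_mul]
  refine Units.ext (Matrix.ext fun i j => ?_)
  have h1 : ∀ M : Matrix ι ι F, M i j = (M *ᵥ vmap φ (Pi.single j 1)) i := fun M => by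
    simp [vmap, mulVec, dotProduct, Pi.single_apply, apply_ite φ]
  have := h.ne
  refine (h1 _).trans (Eq.trans (congrFun ?_ i) (h1 _).symm)
  rw [Units.val_mul, Units.val_mul, ← mulVec_mulVec, ← mulVec_mulVec, ← vmap_mulVec,
    rfG_mulVec, rfG_mulVec, rf_apply, rf_apply, h.Q, h.B, sub_eq_add_neg, ← neg_smul, vmap_add,
    vmap_smul, mulVec_add, mulVec_smul, sub_eq_add_neg, ← neg_smul, map_neg, map_mul, map_inv₀,
    mul_inv, mul_mul_mul_comm, inv_mul_cancel₀ this, one_mul]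

/-- scalar extension of matrices in a basis -/
def descG (φ : F₀ →+* F) (P : GL ι F) : GL ι F₀ →* GL ι F :=
  (MulAut.conj P).toMonoidHom.comp (GeneralLinearGroup.map φ)

omit [Finite F] [Finite F₀] in
theorem descG_apply (P : GL ι F) (g : GL ι F₀) :
    descG φ P g = P * GeneralLinearGroup.map φ g * P⁻¹ := rfl

omit [Finite F] [Finite F₀] in
theorem det_descG (P : GL ι F) (g : GL ι F₀) :
    (descG φ P g : Matrix ι ι F).det = φ (g : Matrix ι ι F₀).det := by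
  rw [← GeneralLinearGroup.val_det_apply, descG_apply, map_mul, map_mul, map_inv, mul_inv_cancel_comm]
  exact (φ.map_det _).symm

theorem descG_OG (hS : S.Nondeg) (hG : GenC F ι) (hG₀ : GenC F₀ ι) {P : GL ι F} {e : F}
    (h : IsExt φ S₀ S P e) (hφ : ∀ a, chi (φ a) = chi a) : ∀ g ∈ OG S₀, descG φ P g ∈ OG S ∧
      dkG (descG φ P g) = dkG g ∧ spG S (descG φ P g) = spG S₀ g * tw (chi e) (dkG g) :=
  have hS₀ := h.nondeg hS
  transfer hS₀ hG₀ hS hG _ _ (by rw [spG_one hS₀, dkG_one, tw_one, one_mul])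
    (fun g hg g' hg' => by rw [spG_mul hS₀ hg hg', dkG_mul hS₀ hG₀ hg hg', tw_mul, mul_mul_mul_comm])
    fun v hv => ⟨_, by rw [h.Q]; exact mul_ne_zero h.ne (by simpa using hv), desc_rf h v, by
      rw [h.Q, chi_mul h.ne (by simpa using hv), hφ, spG_rf hS₀ hv, dkG_rf hS₀ hv, tw_neg_one,
        mul_comm]⟩

omit [Finite F₀] in
theorem descG_OG_sq (hS : S.Nondeg) (hG : GenC F ι) (hG₀ : GenC F₀ ι) {P : GL ι F} {e : F}
    (h : IsExt φ S₀ S P e) (hφ : ∀ a, chi (φ a) = 1) : ∀ g ∈ OG S₀, descG φ P g ∈ OG S ∧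
      dkG (descG φ P g) = dkG g ∧ spG S (descG φ P g) = tw (chi e) (dkG g) :=
  have hS₀ := h.nondeg hS
  transfer hS₀ hG₀ hS hG _ _ (by rw [dkG_one, tw_one])
    (fun g hg g' hg' => by rw [dkG_mul hS₀ hG₀ hg hg', tw_mul])
    fun v hv => ⟨_, by rw [h.Q]; exact mul_ne_zero h.ne (by simpa using hv), desc_rf h v, by
      rw [h.Q, chi_mul h.ne (by simpa using hv), hφ, dkG_rf hS₀ hv, tw_neg_one, mul_one]⟩

omit [Finite F₀] in
theorem descG_dkG (hS : S.Nondeg) (hG : GenC F ι) (hG₀ : GenC F₀ ι) {P : GL ι F} {e : F}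
    (h : IsExt φ S₀ S P e) : ∀ g ∈ OG S₀, descG φ P g ∈ OG S ∧ dkG (descG φ P g) = dkG g := by
  have hS₀ := h.nondeg hS
  refine OG_induction hS₀ hG₀ ⟨by simp, by simp [dkG_one]⟩ fun v hv g hg ⟨a, b⟩ => ?_
  have h1 : descG φ P (rfG S₀ v) = _ := desc_rf h v
  rw [map_mul, h1, dkG_mul hS hG (rfG_mem _) a, dkG_mul hS₀ hG₀ (rfG_mem _) hg, b, dkG_rf hS₀ hv,
    dkG_rf hS (by rw [h.Q]; exact mul_ne_zero h.ne (by simpa using hv))]
  exact ⟨mul_mem (rfG_mem _) a, rfl⟩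

end Desc

variable [Nonempty ι]

theorem mem_OG_iff_simMult (hS : S.Nondeg) (g : Sim S) : (g : GL ι F) ∈ OG S ↔ simMult hS g = 1 :=
  isom_iff_simMult hS g

theorem simMult_scalar_o (hS : S.Nondeg) (c : Fˣ) : simMult hS ⟨_, scalar_mem_Sim c⟩ = c ^ 2 :=
  Units.ext (by rw [simMult_scalar]; simp [pow_two])

theorem exists_OG_of_sq (hS : S.Nondeg) (g : Sim S) {c : Fˣ} (h : simMult hS g = c ^ 2) :
    ∃ h ∈ OG S, (g : GL ι F) = GeneralLinearGroup.scalar ι c * h :=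
  ⟨((⟨_, scalar_mem_Sim c⟩ : Sim S)⁻¹ * g : Sim S), (mem_OG_iff_simMult hS _).2 (by
    rw [map_mul, map_inv, simMult_scalar_o, h, inv_mul_cancel]), by simp⟩

theorem simMult_scalar_mul (hS : S.Nondeg) {g : Sim S} {c : Fˣ} {h : GL ι F} (hh : h ∈ OG S)
    (hg : (g : GL ι F) = GeneralLinearGroup.scalar ι c * h) : simMult hS g = c ^ 2 := by
  rw [show g = ⟨_, scalar_mem_Sim c⟩ * ⟨h, OG_le_Sim hh⟩ from Subtype.ext hg, map_mul,
    simMult_scalar_o, (mem_OG_iff_simMult hS _).1 hh, mul_one]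

/-- square class of the multiplier -/
noncomputable def smu (hS : S.Nondeg) : Sim S →* ℤˣ where
  toFun g := chi (simMult hS g : F)
  map_one' := by simp
  map_mul' a b := by rw [map_mul, Units.val_mul, chi_mul (Units.ne_zero _) (Units.ne_zero _)]

theorem smu_apply (hS : S.Nondeg) (g : Sim S) : smu hS g = chi (simMult hS g : F) := rfl

theorem smu_eq_one_iff (hS : S.Nondeg) {g : Sim S} : smu hS g = 1 ↔
    ∃ (c : Fˣ), ∃ h ∈ OG S, (g : GL ι F) = GeneralLinearGroup.scalar ι c * h := by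
  rw [smu_apply, chi_eq_one_iff]
  constructor
  · rintro ⟨c, hc⟩
    have hc0 : c ≠ 0 := by rintro rfl; simp at hc
    exact ⟨Units.mk0 c hc0, exists_OG_of_sq hS g (Units.ext (by simp [hc, pow_two]))⟩
  · rintro ⟨c, h, hh, hg⟩
    rw [simMult_scalar_mul hS hh hg]
    exact ⟨c, by simp [pow_two]⟩

theorem smu_OG (hS : S.Nondeg) {g : Sim S} (h : (g : GL ι F) ∈ OG S) : smu hS g = 1 :=
  (smu_eq_one_iff hS).2 ⟨1, g, h, by simp⟩

theorem smu_of_two (hS : S.Nondeg) (h2 : (2 : F) = 0) (g : Sim S) : smu hS g = 1 :=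
  chi_of_two_eq_zero h2 _

theorem smu_conjS (hS : S.Nondeg) (γ : GammaS S) (g : Sim S) : smu hS (conjS γ g) = smu hS g := by
  rw [smu_apply, simMult_conjS, chi_map, smu_apply]

theorem det_sq_sim (hS : S.Nondeg) (g : Sim S) :
    ((g : GL ι F) : Matrix ι ι F).det ^ 2 = (simMult hS g : F) ^ Fintype.card ι := by
  have h1 := S.gram_comb (Pi.basisFun F ι) ((g : GL ι F) : Matrix ι ι F)
  have h2 : S.gram (fun j => ∑ i, ((g : GL ι F) : Matrix ι ι F) i j • Pi.basisFun F ι i) =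
      (simMult hS g : F) • S.gram (Pi.basisFun F ι) := by
    have h3 : ∀ j, ∑ i, ((g : GL ι F) : Matrix ι ι F) i j • Pi.basisFun F ι i =
        ((g : GL ι F) : Matrix ι ι F) *ᵥ Pi.basisFun F ι j := fun j => by
      ext k; simp [Pi.single_apply, Finset.sum_apply]
    ext i j
    simp only [Form.gram_apply, h3, Matrix.smul_apply, smul_eq_mul]
    exact (simMult_spec hS g).B _ _
  have h4 := congrArg Matrix.det (h2.symm.trans h1)
  rw [det_smul, det_mul, det_mul, det_transpose] at h4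
  refine mul_right_cancel₀ ((nondeg_iff_det_gram (Pi.basisFun F ι)).1 hS) ?_
  rw [h4]; ring

theorem smu_odd (hS : S.Nondeg) (ho : Odd (Fintype.card ι)) (g : Sim S) : smu hS g = 1 := by
  have := congrArg chi (det_sq_sim hS g)
  rw [chi_sq, chi_pow (Units.ne_zero _), ← smu_apply] at this
  rcases Int.units_eq_one_or (smu hS g) with h | h
  · exact h
  · rw [h, ho.neg_one_pow] at this
    exact absurd this (by decide)

theorem smu_surj (hS : S.Nondeg) (he : Even (Fintype.card ι)) (c : Fˣ) : ∃ g, simMult hS g = c := by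
  obtain ⟨g, hg⟩ := hS.exists_similarity (by simpa using he) c.ne_zero
  have : IsSemiSim S (SemidirectProduct.inl (glRho.symm g)) c := isSemiSim_o_iff.2 ⟨c.ne_zero, fun v => by
    rw [semiAct_inl, ← glRho_apply, MulEquiv.apply_symm_apply, hg]; rfl⟩
  exact ⟨⟨_, c, this⟩, Units.ext (simMult_eq hS this)⟩

theorem exists_sdk (hS : S.Nondeg) (hG : GenC F ι) {k : ℕ} (hk : Fintype.card ι = 2 * k) :
    ∃ δ : Sim S →* ℤˣ, (∀ (g : Sim S) (c : Fˣ), ∀ h ∈ OG S,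
      (g : GL ι F) = GeneralLinearGroup.scalar ι c * h → δ g = dkG h) ∧
      ((2 : F) ≠ 0 → ∀ g : Sim S,
        ((g : GL ι F) : Matrix ι ι F).det = ((δ g : ℤ) : F) * (simMult hS g : F) ^ k) := by
  by_cases h2 : (2 : F) = 0
  · choose c h hh hg using fun g : Sim S => (smu_eq_one_iff hS).1 (smu_of_two hS h2 g)
    have key : ∀ (g : Sim S) (c' : Fˣ), ∀ h' ∈ OG S,
        (g : GL ι F) = GeneralLinearGroup.scalar ι c' * h' → h g = h' := fun g c' h' hh' hg' => by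
      have h1 := (simMult_scalar_mul hS (hh g) (hg g)).symm.trans (simMult_scalar_mul hS hh' hg')
      have h3 : c g = c' := by
        have h4 : ((c g : F) - c') ^ 2 = 0 := by
          have := congrArg Units.val h1
          push_cast at this
          linear_combination this + (c' ^ 2 - c g * c') * h2
        exact Units.ext (sub_eq_zero.1 (pow_eq_zero_iff two_ne_zero |>.1 h4))
      have := (hg g).symm.trans hg'
      rwa [h3, mul_right_inj] at this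
    refine ⟨MonoidHom.mk' (fun g => dkG (h g)) fun a b => ?_, fun g c' h' hh' hg' =>
      congrArg dkG (key g c' h' hh' hg'), fun h => absurd h2 h⟩
    rw [key (a * b) (c a * c b) _ (mul_mem (hh a) (hh b)) (by
      rw [Subgroup.coe_mul, hg a, hg b, map_mul, mul_assoc, mul_assoc, ← mul_assoc (h a), ← scalar_comm,
        mul_assoc]), dkG_mul hS hG (hh a) (hh b)]
  · have inj : ∀ {s t : ℤˣ}, ((s : ℤ) : F) = ((t : ℤ) : F) → s = t := fun {s t} h => by
      rcases Int.units_eq_one_or s with rfl | rfl <;> rcases Int.units_eq_one_or t with rfl | rfl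
      · rfl
      · exact absurd (by push_cast at h; linear_combination h) h2
      · exact absurd (by push_cast at h; linear_combination -h) h2
      · rfl
    have ex : ∀ g : Sim S, ∃ s : ℤˣ,
        ((g : GL ι F) : Matrix ι ι F).det = ((s : ℤ) : F) * (simMult hS g : F) ^ k := fun g => by
      have := det_sq_sim hS g
      rw [hk, mul_comm, pow_mul, sq_eq_sq_iff_eq_or_eq_neg] at this
      rcases this with h | h
      · exact ⟨1, by simpa using h⟩
      · exact ⟨-1, by simpa using h⟩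
    choose δ hδ using ex
    have key : ∀ (g : Sim S) (s : ℤˣ),
        ((g : GL ι F) : Matrix ι ι F).det = ((s : ℤ) : F) * (simMult hS g : F) ^ k → δ g = s :=
      fun g s h => inj (mul_right_cancel₀ (pow_ne_zero k (Units.ne_zero _)) ((hδ g).symm.trans h))
    refine ⟨MonoidHom.mk' δ fun a b => key _ _ ?_, fun g c h hh hg => key _ _ ?_, fun _ => hδ⟩
    · rw [Subgroup.coe_mul, Units.val_mul, det_mul, hδ, hδ, map_mul]
      push_cast
      ring
    · rw [simMult_scalar_mul hS hh hg, hg, ← GeneralLinearGroup.val_det_apply, map_mul, det_scalarGL,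
        Units.val_mul, GeneralLinearGroup.val_det_apply, det_eq_dkG hS hG hh, hk]
      push_cast
      ring

/-- the class character of a similarity in even dimension -/
noncomputable def sdk (hS : S.Nondeg) (hG : GenC F ι) {k : ℕ} (hk : Fintype.card ι = 2 * k) :
    Sim S →* ℤˣ := (exists_sdk hS hG hk).choose

section Sdk

variable (hS : S.Nondeg) (hG : GenC F ι) {k : ℕ} (hk : Fintype.card ι = 2 * k)

theorem sdk_eq {g : Sim S} {c : Fˣ} {h : GL ι F} (hh : h ∈ OG S)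
    (hg : (g : GL ι F) = GeneralLinearGroup.scalar ι c * h) : sdk hS hG hk g = dkG h :=
  (exists_sdk hS hG hk).choose_spec.1 g c h hh hg

theorem sdk_OG {g : Sim S} (hg : (g : GL ι F) ∈ OG S) : sdk hS hG hk g = dkG (g : GL ι F) :=
  sdk_eq hS hG hk (c := 1) hg (by simp)

theorem sdk_scalar (c : Fˣ) : sdk hS hG hk ⟨_, scalar_mem_Sim c⟩ = 1 :=
  (sdk_eq hS hG hk (c := c) (one_mem _) (by simp)).trans dkG_one

theorem sdk_rf {v : ι → F} (hv : S.Q v ≠ 0) : sdk hS hG hk ⟨_, OG_le_Sim (rfG_mem v)⟩ = -1 :=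
  (sdk_OG hS hG hk (g := ⟨_, OG_le_Sim (rfG_mem v)⟩) (rfG_mem v)).trans (dkG_rf hS hv)

theorem det_eq_sdk (h2 : (2 : F) ≠ 0) (g : Sim S) : ((g : GL ι F) : Matrix ι ι F).det =
    ((sdk hS hG hk g : ℤ) : F) * (simMult hS g : F) ^ k :=
  (exists_sdk hS hG hk).choose_spec.2 h2 g

theorem sdk_of_det (h2 : (2 : F) ≠ 0) {g : Sim S} {s : ℤˣ}
    (h : ((g : GL ι F) : Matrix ι ι F).det = ((s : ℤ) : F) * (simMult hS g : F) ^ k) :
    sdk hS hG hk g = s := by
  have := mul_right_cancel₀ (pow_ne_zero k (Units.ne_zero _)) ((det_eq_sdk hS hG hk h2 g).symm.trans h)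
  generalize sdk hS hG hk g = t at this
  rcases Int.units_eq_one_or s with rfl | rfl <;> rcases Int.units_eq_one_or t with rfl | rfl
  · rfl
  · exact absurd (by push_cast at this; linear_combination -this) h2
  · exact absurd (by push_cast at this; linear_combination this) h2
  · rfl

theorem sdk_transfer {ι₀ : Type*} [Fintype ι₀] [DecidableEq ι₀] [Nonempty ι₀] {F₀ : Type*} [Field F₀]
    [Finite F₀] {S₀ : Form (orthParam F₀) (ι₀ → F₀)} (hS₀ : S₀.Nondeg) (hG₀ : GenC F₀ ι₀)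
    (hk₀ : Fintype.card ι₀ = 2 * k) (ψ : F₀ →+* F) (Θ : GL ι₀ F₀ →* GL ι F)
    (h1 : ∀ g : GL ι₀ F₀, (Θ g : Matrix ι ι F).det = ψ (g : Matrix ι₀ ι₀ F₀).det)
    (h2 : ∀ c : F₀ˣ, ∃ c', Θ (GeneralLinearGroup.scalar ι₀ c) = GeneralLinearGroup.scalar ι c')
    (h3 : ∀ g ∈ OG S₀, Θ g ∈ OG S ∧ dkG (Θ g) = dkG g) {g₀ : Sim S₀} {g : Sim S}
    (hg : (g : GL ι F) = Θ g₀) (hm : (simMult hS g : F) = ψ (simMult hS₀ g₀)) :
    sdk hS hG hk g = sdk hS₀ hG₀ hk₀ g₀ := by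
  by_cases h : (2 : F₀) = 0
  · obtain ⟨c, t, ht, e⟩ := (smu_eq_one_iff hS₀).1 (smu_of_two hS₀ h g₀)
    obtain ⟨c', hc'⟩ := h2 c
    rw [sdk_eq hS₀ hG₀ hk₀ ht e, sdk_eq hS hG hk (h3 t ht).1 (by rw [hg, e, map_mul, hc']), (h3 t ht).2]
  · refine sdk_of_det hS hG hk (fun h' => h (ψ.injective (by rw [map_ofNat, map_zero, h']))) ?_
    rw [hg, h1, det_eq_sdk hS₀ hG₀ hk₀ h, hm]
    simp

theorem sdk_conjS (γ : GammaS S) (g : Sim S) : sdk hS hG hk (conjS γ g) = sdk hS hG hk g :=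
  sdk_transfer hS hG hk hS hG hk (γ.1.right : F →+* F) (conjG γ.1) (det_conjG _)
    (fun c => ⟨_, conjG_scalar _ c⟩)
    (fun g hg => ⟨(conjG_OG hS hG γ.2.choose_spec g hg).1, (conjG_OG hS hG γ.2.choose_spec g hg).2.1⟩)
    rfl (simMult_conjS hS γ g)

theorem sdk_descHom {F₀ : Type*} [Field F₀] [Finite F₀] {S₀ : Form (orthParam F₀) (ι → F₀)}
    {φ : F₀ →+* F} {σ : F ≃+* F} (D : DescP σ φ (orthParam F₀) (orthParam F)) (hG₀ : GenC F₀ ι)
    {P : GL ι F} {e : F} (h : IsExt φ S₀ S P e) (g : Sim S₀) :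
    sdk hS hG hk (descHom D h g) = sdk (h.nondeg hS) hG₀ hk g := by
  refine sdk_transfer hS hG hk _ hG₀ hk φ (descG φ P) (det_descG P) (fun c => ?_)
    (descG_dkG hS hG hG₀ h) ?_ ?_
  · have := (descHom_scalar_iff D h ⟨_, scalar_mem_Sim c⟩).2 ⟨c, rfl⟩
    rwa [coe_descHom, ← descG_apply] at this
  · rw [coe_descHom, descG_apply]
  · rw [simMult_descHom]; rfl

end Sdk

end Inv

section Bridge

variable {ι : Type} [Fintype ι] [DecidableEq ι] {F : Type*} [Field F] [Finite F]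
  {S : Form (orthParam F) (ι → F)} {Q : (ι → F) → F} (hQ : ∀ v, S.Q v = Q v)
include hQ

theorem fsetup_o (hS : S.Nondeg) (h5 : 5 ≤ Fintype.card ι) : FSetup S (omHom Q) :=
  ⟨hS, omHom_inj Q, range_omHom_EG hQ hS h5, Or.inr (by simp; omega)⟩

omit hQ in
theorem o_hyp (hS : S.Nondeg) (h5 : 5 ≤ Fintype.card ι) : ∃ e f, S.IsHyp e f :=
  hS.exists_isHyp (by simp; omega)

omit hQ in
theorem o_case1 (hS : S.Nondeg) (h5 : 5 ≤ Fintype.card ι) {e f : ι → F} (hef : S.IsHyp e f) :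
    Case1 S e f := by
  have h := hS.finrank_perp_hyp hef
  simp only [finrank_fintype_fun_eq_card] at h
  obtain ⟨x, hx, h0, h1⟩ := S.exists_sing_of_three (S.perp {e, f}) (by omega)
  exact ⟨x, hx, h0, (q_eq_zero_iff _).2 h1⟩

theorem o_surj (hS : S.Nondeg) (h7 : 7 ≤ Fintype.card ι) (h8 : Fintype.card ι = 8 → ¬ S.IsPlus) :
    Function.Surjective (fsetup_o hQ hS (by omega)).simPhi := by
  obtain ⟨e, f, hef⟩ := o_hyp hS (by omega)
  refine FSetup.simPhi_surj _ hef (Or.inl (o_case1 hS (by omega) hef)) (Or.inr (Or.inr ⟨by simpa, ?_⟩))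
  intro h X hX h4
  exact h8 (by simpa using h) ⟨X, hX, by omega⟩

theorem mem_GammaS_o {g : GL ι F} {σ : F ≃+* F} :
    (⟨g, σ⟩ : GammaL ι F) ∈ GammaS S ↔ Cfsg.IsSemisimilarityPair Q g σ :=
  ⟨fun ⟨κ, h⟩ => ⟨Units.mk0 κ h.ne, fun v => by rw [← hQ, ← hQ]; exact h.Q v⟩,
    fun ⟨c, h⟩ => ⟨c, isSemiSim_o_iff.2 ⟨c.ne_zero, fun v => by rw [hQ, hQ]; exact h v⟩⟩⟩

theorem Sim_o : Sim S = Cfsg.Geo.quadSimilarityGroup Q := by
  ext g
  exact mem_GammaS_o hQ (σ := 1)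

omit [Finite F] in
theorem OG_o : OG S = Cfsg.isometryGroup F Q := (isometryGroup_eq S hQ).symm

omit [Finite F] hQ in
theorem rhoGL_o (s : Cfsg.Omega F Q) :
    rhoGL (omHom Q) s = ((s : Cfsg.isometryGroup F Q) : GL ι F) := rhoGL_eq fun _ => rfl

variable (hS : S.Nondeg) (h5 : 5 ≤ Fintype.card ι)

theorem semilinearPO_iff (γ : GammaS S) (β : MulAut (Cfsg.POmega F Q)) :
    Cfsg.IsInducedBySemilinearPOmega Q γ.1.left γ.1.right β ↔ β = (fsetup_o hQ hS h5).simPhi γ := by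
  rw [FSetup.eq_simPhi_iff]
  simp only [rhoGL_o]
  rfl

theorem linearPO_iff (g : Sim S) (β : MulAut (Cfsg.POmega F Q)) :
    Cfsg.IsInducedBySemilinearPOmega Q g (RingEquiv.refl F) β ↔ β = (fsetup_o hQ hS h5).simPsi g :=
  semilinearPO_iff hQ hS h5 (simIncl S g) β

theorem fieldPO_iff {σ : F ≃+* F} (h : SemidirectProduct.inr σ ∈ GammaS S) (β : MulAut (Cfsg.POmega F Q)) :
    Cfsg.IsFieldAutPOmegaOf Q σ β ↔ β = (fsetup_o hQ hS h5).simPhi ⟨_, h⟩ := by
  rw [← semilinearPO_iff hQ hS h5]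
  simp [Cfsg.IsFieldAutPOmegaOf, Cfsg.IsInducedBySemilinearPOmega]

theorem gammaPOmega_eq : Cfsg.gammaPOmega F Q = (fsetup_o hQ hS h5).simPhi.range := by
  rw [Cfsg.gammaPOmega, Cfsg.autSubgroupOf, ← closure_eq (MonoidHom.range _)]
  congr 1
  ext β
  constructor
  · rintro ⟨g, σ, hg, h⟩
    exact ⟨_, ((semilinearPO_iff hQ hS h5 ⟨_, (mem_GammaS_o hQ).2 hg⟩ β).1 h).symm⟩
  · rintro ⟨γ, rfl⟩
    exact ⟨γ.1.left, γ.1.right, (mem_GammaS_o hQ).1 γ.2, (semilinearPO_iff hQ hS h5 γ _).2 rfl⟩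

theorem autSubgroupOf_o (K : Subgroup (Sim S)) (P : GL ι F → Prop)
    (hP : ∀ g, P g ↔ ∃ h : g ∈ Sim S, ⟨g, h⟩ ∈ K) (β : MulAut (Cfsg.POmega F Q)) :
    (∃ g, P g ∧ Cfsg.IsInducedBySemilinearPOmega Q g (RingEquiv.refl F) β) ↔
      β ∈ K.map (fsetup_o hQ hS h5).simPsi := by
  constructor
  · rintro ⟨g, hg, h⟩
    obtain ⟨h1, h2⟩ := (hP g).1 hg
    exact ⟨⟨g, h1⟩, h2, ((linearPO_iff hQ hS h5 ⟨g, h1⟩ β).1 h).symm⟩
  · rintro ⟨g, hg, rfl⟩
    exact ⟨g, (hP _).2 ⟨g.2, hg⟩, (linearPO_iff hQ hS h5 g _).2 rfl⟩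

omit hQ in
theorem autSubgroupOf_eq {X : Type*} [Group X] {P : (X ≃* X) → Prop} {K : Subgroup (MulAut X)}
    (h : ∀ β, P β ↔ β ∈ K) : Cfsg.autSubgroupOf P = K := by
  rw [Cfsg.autSubgroupOf, ← closure_eq K]
  congr 1
  ext β
  exact h β

theorem simInduced_iff (β : MulAut (Cfsg.POmega F Q)) :
    Cfsg.IsSimilarityInducedAutPOmega Q β ↔ β ∈ (fsetup_o hQ hS h5).simPsi.range := by
  rw [MonoidHom.range_eq_map]
  exact autSubgroupOf_o hQ hS h5 _ _ (fun g => by simp [Sim_o hQ]) β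

theorem pgoAut_eq : Cfsg.pgoAut F Q = (fsetup_o hQ hS h5).simPsi.range :=
  autSubgroupOf_eq (simInduced_iff hQ hS h5)

theorem poAut_eq : Cfsg.poAut F Q = ((OG S).subgroupOf (Sim S)).map (fsetup_o hQ hS h5).simPsi :=
  autSubgroupOf_eq (autSubgroupOf_o hQ hS h5 _ _ fun g => by
    rw [← OG_o hQ]
    exact ⟨fun h => ⟨OG_le_Sim h, h⟩, fun ⟨_, h⟩ => h⟩)

theorem psoAut_eq : Cfsg.psoAut F Q =
    ((OG S ⊓ Cfsg.Geo.specialLinear ι F).subgroupOf (Sim S)).map (fsetup_o hQ hS h5).simPsi :=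
  autSubgroupOf_eq (autSubgroupOf_o hQ hS h5 _ _ fun g => by
    rw [Cfsg.specialIsometryGL, ← OG_o hQ]
    exact ⟨fun h => ⟨OG_le_Sim h.1, h⟩, fun ⟨_, h⟩ => h⟩)

theorem o_mem_Inn (g : Sim S) : (fsetup_o hQ hS h5).simPsi g ∈ Cfsg.Inn _ ↔ ∃ (c : Fˣ), ∃ h ∈ OG S,
    dkG h = 1 ∧ spG S h = 1 ∧ (g : GL ι F) = GeneralLinearGroup.scalar ι c * h := by
  obtain ⟨e, f, hef⟩ := o_hyp hS h5
  rw [FSetup.simPsi_mem_Inn _ hef (by omega)]
  constructor
  · rintro ⟨s, c, h⟩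
    obtain ⟨h1, h2, h3⟩ := (mem_om_iffG hS (genC_of h5) (g := rhoGL (omHom Q) s)).1 (by
      rw [glRho_rhoGL, ← range_omHom hQ]; exact ⟨s, rfl⟩)
    exact ⟨c, _, h1, h2, h3, h⟩
  · rintro ⟨c, h, h1, h2, h3, h4⟩
    obtain ⟨s, hs⟩ := (range_omHom hQ).ge ((mem_om_iffG hS (genC_of h5)).2 ⟨h1, h2, h3⟩)
    exact ⟨s, c, by rw [h4, rhoGL_eq fun v => by rw [hs, glRho_apply]]⟩

end Bridge

end CfsgH8
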