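import Cfsg.Agent.H8.AutO1

/-!
Orthogonal groups: action of semisimilarities on the two classes of maximal singular subspaces,
diagonal similarities, the type of a descended form.
-/

set_option autoImplicit false

namespace CfsgH8

open Subgroup Module Matrix CfsgH5 CfsgH5.Form

section Gmap

variable {ι : Type*} [Fintype ι] [DecidableEq ι] {F : Type*} [Field F]

/-- image of a subspace under a semilinear map -/
def gmap (γ : GammaL ι F) (U : Submodule F (ι → F)) : Submodule F (ι → F) where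
  carrier := {x | semiAct γ⁻¹ x ∈ U}
  add_mem' := fun {a b} ha hb => by
    change semiAct γ⁻¹ (a + b) ∈ U
    rw [map_add]
    exact U.add_mem ha hb
  zero_mem' := by
    change semiAct γ⁻¹ 0 ∈ U
    rw [map_zero]
    exact U.zero_mem
  smul_mem' := fun c x hx => by
    change semiAct γ⁻¹ (c • x) ∈ U
    rw [semiAct_smul]
    exact U.smul_mem _ hx

theorem mem_gmap {γ : GammaL ι F} {U : Submodule F (ι → F)} {x : ι → F} :
    x ∈ gmap γ U ↔ semiAct γ⁻¹ x ∈ U := Iff.rfl

theorem apply_mem_gmap {γ : GammaL ι F} {U : Submodule F (ι → F)} {x : ι → F} :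
    semiAct γ x ∈ gmap γ U ↔ x ∈ U := by rw [mem_gmap, semiAct_apply_inv]

theorem gmap_mul (a b : GammaL ι F) (U : Submodule F (ι → F)) :
    gmap (a * b) U = gmap a (gmap b U) := by
  ext x
  simp only [mem_gmap, _root_.mul_inv_rev, semiAct_mul]

theorem gmap_one (U : Submodule F (ι → F)) : gmap 1 U = U := by
  ext x
  rw [mem_gmap, inv_one, semiAct_one]

theorem gmap_inf (a : GammaL ι F) (U W : Submodule F (ι → F)) :
    gmap a (U ⊓ W) = gmap a U ⊓ gmap a W := rfl

theorem gmap_mono (a : GammaL ι F) {U W : Submodule F (ι → F)} (h : U ≤ W) : gmap a U ≤ gmap a W :=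
  fun _ hx => h hx

theorem finrank_gmap (a : GammaL ι F) (U : Submodule F (ι → F)) :
    finrank F (gmap a U) = finrank F U := by
  refine (finrank_eq_of_semilinear a.right a.right.bijective
    (fun x : U => (⟨semiAct a x, apply_mem_gmap.2 x.2⟩ : gmap a U)) (fun x y => Subtype.ext ?_) ⟨?_, ?_⟩
    (fun c x => Subtype.ext ?_)).symm
  · simp
  · intro x y h
    have := congrArg (fun z : gmap a U => semiAct a⁻¹ z.1) h
    exact Subtype.ext (by simpa only [semiAct_apply_inv] using this)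
  · exact fun y => ⟨⟨_, y.2⟩, Subtype.ext (semiAct_inv_apply _ _)⟩
  · exact semiAct_smul _ _ _

theorem lagSign_gmap (a : GammaL ι F) (U W : Submodule F (ι → F)) :
    lagSign (gmap a U) (gmap a W) = lagSign U W := by
  unfold lagSign
  rw [← gmap_inf, finrank_gmap, finrank_gmap]

theorem gmap_inl (M : GL ι F) (U : Submodule F (ι → F)) :
    gmap (SemidirectProduct.inl M) U = U.map (glRho M : (ι → F) →ₗ[F] (ι → F)) := by
  ext x
  rw [mem_gmap, ← map_inv, semiAct_inl, Submodule.mem_map_equiv, ← glRho_apply, map_inv]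
  rfl

theorem gmap_eq_of_le {a : GammaL ι F} {U : Submodule F (ι → F)} (h : ∀ x ∈ U, semiAct a x ∈ U) :
    gmap a U = U := by
  refine Submodule.eq_of_le_of_finrank_eq (fun x hx => ?_) (finrank_gmap a U)
  simpa only [semiAct_inv_apply] using h _ hx

theorem gmap_span {a : GammaL ι F} {s : Set (ι → F)}
    (h : ∀ x ∈ s, semiAct a x ∈ Submodule.span F s) : gmap a (Submodule.span F s) = Submodule.span F s := by
  refine gmap_eq_of_le fun x hx => ?_
  induction hx using Submodule.span_induction with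
  | mem x hx => exact h x hx
  | zero => simp
  | add x y _ _ hx hy => rw [map_add]; exact add_mem hx hy
  | smul c x _ hx => rw [semiAct_smul]; exact Submodule.smul_mem _ _ hx

theorem gmap_scalar (c : Fˣ) (U : Submodule F (ι → F)) :
    gmap (SemidirectProduct.inl (GeneralLinearGroup.scalar ι c)) U = U :=
  gmap_eq_of_le fun x hx => by
    rw [semiAct_inl, ← glRho_apply, glRho_scalar]
    exact U.smul_mem _ hx

/-- diagonal maps in a basis -/
noncomputable def dgE {κ : Type*} (b : Basis κ F (ι → F)) : (κ → Fˣ) →* GL ι F :=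
  MonoidHom.mk' (fun u => glRho.symm (b.equiv (b.unitsSMul u) (Equiv.refl _))) fun u w => by
    rw [← map_mul]
    congr 1
    refine b.ext' fun i => ?_
    simp [Basis.unitsSMul_apply, Units.smul_def, mul_smul, smul_comm (w i : F)]

theorem dgE_mulVec {κ : Type*} (b : Basis κ F (ι → F)) (u : κ → Fˣ) (i : κ) :
    (dgE b u : Matrix ι ι F) *ᵥ b i = (u i : F) • b i := by
  rw [← glRho_apply]
  simp [dgE, Basis.unitsSMul_apply, Units.smul_def]

theorem GL_ext_basis {κ : Type*} (b : Basis κ F (ι → F)) {g h : GL ι F}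
    (H : ∀ i, (g : Matrix ι ι F) *ᵥ b i = (h : Matrix ι ι F) *ᵥ b i) : g = h :=
  glRho.injective (b.ext' fun i => by simpa only [glRho_apply] using H i)

theorem det_dgE {κ : Type*} [Fintype κ] [DecidableEq κ] (b : Basis κ F (ι → F)) (u : κ → Fˣ) :
    (dgE b u : Matrix ι ι F).det = ∏ i, (u i : F) := by
  rw [← det_glRho, ← b.det_unitsSMul_self]
  have := b.det_comp (glRho (dgE b u) : (ι → F) →ₗ[F] (ι → F)) b
  rw [b.det_self, mul_one] at this
  rw [← this]
  congr 1
  funext i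
  simp [glRho_apply, dgE_mulVec, Basis.unitsSMul_apply, Units.smul_def]

end Gmap

variable {ι : Type*} [Fintype ι] [DecidableEq ι] {F : Type*} [Field F]
  {S : Form (orthParam F) (ι → F)}

theorem totSing_o_iff {U : Submodule F (ι → F)} : S.TotSing U ↔ ∀ x ∈ U, S.Q x = 0 :=
  Form.totSing_iff fun _ => rfl

theorem finrank_of_card {k : ℕ} (hk : Fintype.card ι = k) : finrank F (ι → F) = k := by
  rw [Module.finrank_fintype_fun_eq_card, hk]

section Diag

variable {κ : Type*} [Fintype κ] [DecidableEq κ] {e f : κ → ι → F} (h : S.IsHypFam e f)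
  {b : Basis (κ ⊕ κ) F (ι → F)} (hb : ⇑b = Sum.elim e f)
include h hb

theorem isSemiSim_dgE {u : κ ⊕ κ → Fˣ} {l : Fˣ} (hu : ∀ i, u (.inl i) * u (.inr i) = l) :
    IsSemiSim S (SemidirectProduct.inl (dgE b u)) l := by
  refine isSemiSim_of_span scal_orth l.ne_zero rfl b.span_eq ?_ ?_
  · rintro _ ⟨i, rfl⟩ _ ⟨j, rfl⟩
    rw [dgE_mulVec, dgE_mulVec, smul_left, orth_smul_right, hb]
    rcases i with i | i <;> rcases j with j | j <;> simp only [Sum.elim_inl, Sum.elim_inr]
    · simp [h.ee]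
    · rw [h.ef]
      split_ifs with hij
      · subst hij; rw [← hu i]; push_cast; ring
      · simp
    · rw [h.fe]
      split_ifs with hij
      · subst hij; rw [← hu i]; push_cast; ring
      · simp
    · simp [h.ff]
  · rintro _ ⟨i, rfl⟩
    have h0 : S.Q (b i) = 0 := by
      rw [hb]
      rcases i with i | i
      · exact (q_eq_zero_iff _).1 (h.qe i)
      · exact (q_eq_zero_iff _).1 (h.qf i)
    refine ⟨0, (q_eq_π_iff _).2 h0, (q_eq_π_iff _).2 ?_⟩
    rw [dgE_mulVec, Q_smul, h0, mul_zero, mul_zero]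

theorem dgE_mem_OG (u : κ → Fˣ) : dgE b (Sum.elim u u⁻¹) ∈ OG S :=
  IsSemiSim.isom (isSemiSim_dgE h hb (l := 1) fun i => by simp)

theorem dgE_single (i : κ) (c : Fˣ) :
    glRho (dgE b (Sum.elim (Pi.mulSingle i c) (Pi.mulSingle i c)⁻¹)) = dil (h.isHyp i) c.ne_zero := by
  refine b.ext' fun j => ?_
  rw [glRho_apply, dgE_mulVec, orth_dil_apply, hb]
  rcases j with j | j <;> simp only [Sum.elim_inl, Sum.elim_inr, h.ee, h.ef, h.fe, h.ff]
  · by_cases hj : j = i
    · subst hj; simp [sub_smul]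
    · simp [hj]
  · by_cases hj : j = i
    · subst hj; simp [sub_smul]
    · simp [hj]

variable [Finite F]

theorem dkG_spG_dgE (hS : S.Nondeg) (hG : GenC F ι) (u : κ → Fˣ) :
    dkG (dgE b (Sum.elim u u⁻¹)) = 1 ∧ spG S (dgE b (Sum.elim u u⁻¹)) = ∏ i, chi (u i : F) := by
  induction u using Pi.mulSingle_induction with
  | one =>
    have : Sum.elim (1 : κ → Fˣ) (1 : κ → Fˣ)⁻¹ = 1 := by ext (i | i) <;> simp
    rw [this, map_one, dkG_one, spG_one hS]
    simp
  | mul u w hu hw =>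
    have : Sum.elim (u * w) (u * w)⁻¹ = Sum.elim u u⁻¹ * Sum.elim w w⁻¹ := by
      ext (i | i) <;> simp [mul_comm]
    rw [this, map_mul, dkG_mul hS hG (dgE_mem_OG h hb u) (dgE_mem_OG h hb w),
      spG_mul hS (dgE_mem_OG h hb u) (dgE_mem_OG h hb w), hu.1, hu.2, hw.1, hw.2,
      ← Finset.prod_mul_distrib]
    refine ⟨rfl, Finset.prod_congr rfl fun i _ => ?_⟩
    rw [Pi.mul_apply, Units.val_mul, chi_mul (Units.ne_zero _) (Units.ne_zero _)]
  | mulSingle i c =>
    unfold dkG spG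
    rw [dgE_single h hb, hS.dk_dil, hS.spin_dil, Finset.prod_eq_single i]
    · simp
    · intro j _ hj
      simp [hj]
    · simp

theorem dgE_mem_Sim {u : κ ⊕ κ → Fˣ} {l : Fˣ} (hu : ∀ i, u (.inl i) * u (.inr i) = l) :
    dgE b u ∈ Sim S := ⟨_, isSemiSim_dgE h hb hu⟩

theorem simMult_dgE [Nonempty ι] (hS : S.Nondeg) {u : κ ⊕ κ → Fˣ} {l : Fˣ}
    (hu : ∀ i, u (.inl i) * u (.inr i) = l) : simMult hS ⟨_, dgE_mem_Sim h hb hu⟩ = l :=
  Units.ext (simMult_eq hS (g := ⟨_, dgE_mem_Sim h hb hu⟩) (isSemiSim_dgE h hb hu))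

omit [Finite F] in
theorem dgE_split {u : κ ⊕ κ → Fˣ} {c : Fˣ} (hu : ∀ i, u (.inl i) * u (.inr i) = c ^ 2) :
    dgE b u = GeneralLinearGroup.scalar ι c *
      dgE b (Sum.elim (fun i => u (.inl i) / c) (fun i => u (.inl i) / c)⁻¹) := by
  refine GL_ext_basis b fun i => ?_
  rw [Units.val_mul, ← mulVec_mulVec, dgE_mulVec, dgE_mulVec, ← glRho_apply, glRho_scalar, smul_smul]
  congr 1
  rw [← Units.val_mul, Units.val_inj]
  rcases i with i | i
  · simp
  · simp only [Sum.elim_inr, Pi.inv_apply, inv_div]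
    rw [← mul_div_assoc, ← sq, ← hu i, mul_div_cancel_left]

theorem sdk_dgE [Nonempty ι] (hS : S.Nondeg) (hG : GenC F ι) {k : ℕ} (hk : Fintype.card ι = 2 * k)
    {u : κ ⊕ κ → Fˣ} {l : Fˣ} (hu : ∀ i, u (.inl i) * u (.inr i) = l) :
    sdk hS hG hk ⟨_, dgE_mem_Sim h hb hu⟩ = 1 := by
  by_cases h2 : (2 : F) = 0
  · obtain ⟨c, hc⟩ := chi_eq_one_iff.1 (chi_of_two_eq_zero h2 (l : F))
    have h0 : c ≠ 0 := by rintro rfl; exact l.ne_zero (by simpa using hc)
    have hu' : ∀ i, u (.inl i) * u (.inr i) = Units.mk0 c h0 ^ 2 := fun i =>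
      (hu i).trans (Units.ext (by simp [hc, sq]))
    exact (sdk_eq hS hG hk (dgE_mem_OG h hb _) (dgE_split h hb hu')).trans (dkG_spG_dgE h hb hS hG _).1
  · refine sdk_of_det hS hG hk h2 ?_
    have hc : Fintype.card κ = k := by
      have := Module.finrank_eq_card_basis b
      rw [finrank_of_card hk, Fintype.card_sum] at this
      omega
    rw [simMult_dgE h hb hS hu, det_dgE, Fintype.prod_sum_type, ← Finset.prod_mul_distrib]
    simp only [← Units.val_mul, hu]
    simp [hc]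

end Diag

theorem IsSemiSim.totSing {γ : GammaL ι F} {κ : F} (h : IsSemiSim S γ κ) {U : Submodule F (ι → F)}
    (hU : S.TotSing U) : S.TotSing (gmap γ U) :=
  totSing_o_iff.2 fun x hx => by
    rw [← semiAct_inv_apply γ x, h.Q, hU.Q hx, map_zero, mul_zero]

variable [Finite F]

theorem isLag_gmap (γ : GammaS S) {U : Submodule F (ι → F)} (hU : S.IsLag U) : S.IsLag (gmap γ.1 U) :=
  ⟨γ.2.choose_spec.totSing hU.ts, by rw [finrank_gmap, hU.dim]⟩

/-- action of a semisimilarity on the two classes of maximal singular subspaces -/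
noncomputable def gdk (hS : S.Nondeg) (hp : S.IsPlus) : GammaS S →* ℤˣ :=
  MonoidHom.mk' (fun γ => lagSign hp.choose (gmap γ.1 hp.choose)) fun a b => by
    rw [Subgroup.coe_mul, gmap_mul, ← lagSign_gmap a.1 hp.choose (gmap b.1 hp.choose),
      lagSign_mul hS hp.choose_spec (isLag_gmap a hp.choose_spec)
        (isLag_gmap a (isLag_gmap b hp.choose_spec))]

theorem gdk_eq (hS : S.Nondeg) (hp : S.IsPlus) (γ : GammaS S) {U : Submodule F (ι → F)}
    (hU : S.IsLag U) : gdk hS hp γ = lagSign U (gmap γ.1 U) := by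
  change lagSign hp.choose (gmap γ.1 hp.choose) = _
  rw [← lagSign_mul hS hU hp.choose_spec (isLag_gmap γ hU), ← lagSign_mul hS hp.choose_spec
    (isLag_gmap γ hp.choose_spec) (isLag_gmap γ hU), lagSign_gmap, lagSign_symm hU hp.choose_spec,
    mul_comm, mul_assoc, Int.units_mul_self, mul_one]

theorem gdk_of_fix (hS : S.Nondeg) (hp : S.IsPlus) (γ : GammaS S) {U : Submodule F (ι → F)}
    (hU : S.IsLag U) (h : gmap γ.1 U = U) : gdk hS hp γ = 1 := by
  rw [gdk_eq hS hp γ hU, h, lagSign_self]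

theorem gdk_simIncl [Nonempty ι] (hS : S.Nondeg) (hp : S.IsPlus) (hG : GenC F ι) {k : ℕ}
    (hk : Fintype.card ι = 2 * k) (g : Sim S) : gdk hS hp (simIncl S g) = sdk hS hG hk g := by
  have h1 : ∀ g : Sim S, smu hS g = 1 → gdk hS hp (simIncl S g) = sdk hS hG hk g := fun g hg => by
    obtain ⟨c, h, hh, hg⟩ := (smu_eq_one_iff hS).1 hg
    rw [sdk_eq hS hG hk hh hg, gdk_eq hS hp _ hp.choose_spec, coe_simIncl, hg, map_mul, gmap_mul,
      gmap_scalar, gmap_inl]
    exact lagSign_map_eq_dk hS hG hp.choose_spec (mem_OG.1 hh)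
  obtain ⟨e, f, h⟩ := hS.exists_hypFam_plus hp (finrank_of_card hk)
  have hd : finrank F (ι → F) = 2 * Fintype.card (Fin k) := by simpa using hk
  obtain ⟨b, hb⟩ := h.exists_basis hd
  let u : Fin k ⊕ Fin k → Fˣ := Sum.elim (fun _ => simMult hS g) (fun _ => 1)
  have hu : ∀ i : Fin k, u (.inl i) * u (.inr i) = simMult hS g := fun i => by simp [u]
  set a : Sim S := ⟨_, dgE_mem_Sim h hb hu⟩
  have ha : gdk hS hp (simIncl S a) = sdk hS hG hk a := by
    rw [sdk_dgE h hb hS hG hk hu]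
    refine gdk_of_fix hS hp _ (h.isLag_left hd) (gmap_span ?_)
    rintro _ ⟨i, rfl⟩
    have : e i = b (.inl i) := by simp [hb]
    rw [coe_simIncl, semiAct_inl, this, dgE_mulVec, ← this]
    exact Submodule.smul_mem _ _ (Submodule.subset_span ⟨i, rfl⟩)
  have := h1 (a⁻¹ * g) (by rw [smu_apply, map_mul, map_inv, simMult_dgE h hb hS hu]; simp)
  simp only [map_mul, map_inv, ha, mul_right_inj] at this
  exact this

section Ext

variable {F₀ : Type*} [Field F₀] {S₀ : Form (orthParam F₀) (ι → F₀)} {φ : F₀ →+* F}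

omit [Finite F] in
theorem IsExt.hypFam {P : GL ι F} {c : F} (h : IsExt φ S₀ S P c) {κ : Type*} [DecidableEq κ]
    {e f : κ → ι → F₀} (hf : S₀.IsHypFam e f) :
    S.IsHypFam (fun i => (P : Matrix ι ι F) *ᵥ vmap φ (e i))
      (fun i => c⁻¹ • (P : Matrix ι ι F) *ᵥ vmap φ (f i)) where
  qe i := by rw [q_eq_zero_iff, h.Q, (q_eq_zero_iff _).1 (hf.qe i), map_zero, mul_zero]
  qf i := by
    rw [q_eq_zero_iff, Q_smul, h.Q, (q_eq_zero_iff _).1 (hf.qf i), map_zero, mul_zero, mul_zero]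
  ee i j := by rw [h.B, hf.ee, map_zero, mul_zero]
  ff i j := by rw [smul_left, orth_smul_right, h.B, hf.ff]; simp
  ef i j := by
    rw [orth_smul_right, h.B, hf.ef, inv_mul_cancel_left₀ h.ne]
    split_ifs <;> simp

omit [Finite F] in
theorem IsExt.isPlus (hS : S.Nondeg) {P : GL ι F} {c : F} (h : IsExt φ S₀ S P c) {k : ℕ}
    (hk : Fintype.card ι = 2 * k) (hp : S₀.IsPlus) : S.IsPlus := by
  obtain ⟨e, f, hf⟩ := (h.nondeg hS).exists_hypFam_plus hp (finrank_of_card hk)
  exact (h.hypFam hf).isPlus (by simpa using hk)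

omit [Finite F] in
theorem vmap_sum {κ : Type*} (s : Finset κ) (x : κ → ι → F₀) :
    vmap φ (∑ i ∈ s, x i) = ∑ i ∈ s, vmap φ (x i) := by
  funext j
  simp [vmap, Finset.sum_apply]

omit [Finite F] in
theorem ext_mem_span {P : GL ι F} {κ : Type*} {e : κ → ι → F₀} {x : ι → F₀}
    (hx : x ∈ Submodule.span F₀ (Set.range e)) : (P : Matrix ι ι F) *ᵥ vmap φ x ∈
      Submodule.span F (Set.range fun i => (P : Matrix ι ι F) *ᵥ vmap φ (e i)) := by
  induction hx using Submodule.span_induction with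
  | mem x hx => obtain ⟨i, rfl⟩ := hx; exact Submodule.subset_span ⟨i, rfl⟩
  | zero => simp [vmap_zero]
  | add x y _ _ hx hy => rw [vmap_add, mulVec_add]; exact add_mem hx hy
  | smul c x _ hx => rw [vmap_smul, mulVec_smul]; exact Submodule.smul_mem _ _ hx

omit [Finite F] in
/-- Galois descent for subspaces -/
theorem le_of_desc {γ : GammaL ι F} (hφ : ∀ a, γ.right a = a ↔ ∃ b, φ b = a) {r : ℕ} (hr0 : r ≠ 0)
    (hr : orderOf γ.right = r) {P : GL ι F} {d : Fˣ}
    (h : γ.left * fieldAutGL γ.right P = GeneralLinearGroup.scalar ι d * P)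
    {U W : Submodule F (ι → F)} (hU : gmap γ U = U)
    (hW : ∀ x, (P : Matrix ι ι F) *ᵥ vmap φ x ∈ U → (P : Matrix ι ι F) *ᵥ vmap φ x ∈ W) : U ≤ W := by
  set γ' : GammaL ι F := SemidirectProduct.inl P * SemidirectProduct.inr γ.right *
    (SemidirectProduct.inl P)⁻¹ with hγ'
  have h1 : γ = SemidirectProduct.inl (GeneralLinearGroup.scalar ι d) * γ' := by
    refine SemidirectProduct.ext ?_ (by simp [hγ'])
    simp only [hγ', SemidirectProduct.mul_left, SemidirectProduct.left_inl, SemidirectProduct.right_inl,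
      map_one, MulAut.one_apply, SemidirectProduct.left_inr, mul_one, SemidirectProduct.mul_right,
      SemidirectProduct.right_inr, one_mul, ← map_inv]
    rw [← mul_assoc, ← h, map_inv, mul_inv_cancel_right]
  have h2 : gmap γ' U = U := by rwa [h1, gmap_mul, gmap_scalar] at hU
  have h3 : ∀ x ∈ U, semiAct γ' x ∈ U := fun x hx => h2 ▸ apply_mem_gmap.2 hx
  let τ : AddMonoid.End U := AddMonoidHom.mk' (fun x => ⟨semiAct γ' x, h3 x x.2⟩) fun x y =>
    Subtype.ext (by simp)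
  have hτ : ∀ n (x : U), ((τ ^ n) x : ι → F) = semiAct (γ' ^ n) x := fun n => by
    induction n with
    | zero => intro x; simp
    | succ n ih => intro x; rw [pow_succ, pow_succ, semiAct_mul, AddMonoid.End.coe_mul]; exact ih _
  have h4 := span_fixed_eq_top γ.right hr0 hr τ (fun a v => Subtype.ext (by
    have := semiAct_smul γ' a v
    rw [show γ'.right = γ.right by simp [hγ']] at this
    exact this)) (by
    ext1 x
    refine Subtype.ext ?_
    rw [hτ, hγ', conj_pow, ← map_pow, ← hr, pow_orderOf_eq_one, map_one, mul_one, mul_inv_cancel,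
      semiAct_one]
    rfl)
  intro x hx
  have h5 : (⟨x, hx⟩ : U) ∈ Submodule.comap U.subtype W := by
    refine (Submodule.span_le.2 ?_ : Submodule.span F {v | τ v = v} ≤ _) (h4 ▸ Submodule.mem_top)
    intro v hv
    have hv' : semiAct γ' v = v := congrArg Subtype.val hv
    have h6 : semiAct (SemidirectProduct.inr γ.right : GammaL ι F)
        (semiAct (SemidirectProduct.inl P : GammaL ι F)⁻¹ v) =
        semiAct (SemidirectProduct.inl P : GammaL ι F)⁻¹ v := by
      conv_rhs => rw [← hv', hγ', semiAct_mul, semiAct_mul, semiAct_apply_inv]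
    rw [semiAct_inr] at h6
    choose y hy using fun i => (hφ _).1 (congrFun h6 i)
    have h7 : (P : Matrix ι ι F) *ᵥ vmap φ y = v := by
      rw [show vmap φ y = _ from funext hy, ← semiAct_inl, semiAct_inv_apply]
    change (v : ι → F) ∈ W
    rw [← h7]
    exact hW _ (h7 ▸ v.2)
  exact h5

/-- the type of a descended form -/
theorem IsDesc.isPlus_iff [Finite F₀] [Nonempty ι] (hS : S.Nondeg) (hp : S.IsPlus) {k : ℕ}
    (hk : Fintype.card ι = 2 * k) {γ : GammaS S} (hφ : ∀ a, γ.1.right a = a ↔ ∃ b, φ b = a)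
    {P : GL ι F} (h : IsDesc φ S₀ S γ.1 P) : S₀.IsPlus ↔ gdk hS hp γ = 1 := by
  obtain ⟨⟨d, hd⟩, c, hc⟩ := h
  have hfix : ∀ {κ : Type} (e : κ → ι → F₀), gmap γ.1 (Submodule.span F (Set.range fun i =>
      (P : Matrix ι ι F) *ᵥ vmap φ (e i))) = Submodule.span F (Set.range fun i =>
      (P : Matrix ι ι F) *ᵥ vmap φ (e i)) := fun e => gmap_span (by
    rintro _ ⟨i, rfl⟩
    rw [semiAct_fix hφ hd]
    exact Submodule.smul_mem _ _ (Submodule.subset_span ⟨i, rfl⟩))
  refine ⟨fun hp₀ => ?_, fun h1 => ?_⟩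
  · obtain ⟨e, f, hf⟩ := (hc.nondeg hS).exists_hypFam_plus hp₀ (finrank_of_card hk)
    exact gdk_of_fix hS hp γ ((hc.hypFam hf).isLag_left (by simpa using hk)) (hfix e)
  by_contra hp₀
  obtain ⟨m, rfl⟩ : ∃ m, k = m + 1 := ⟨k - 1, by have := Fintype.card_pos (α := ι); omega⟩
  obtain ⟨e, f, hf, ha⟩ := (hc.nondeg hS).exists_hypFam_minus hp₀ (m := m) (finrank_of_card hk)
  have hf' := hc.hypFam hf
  obtain ⟨U₀, hU₀⟩ := id hp
  have hd₀ := hU₀.dim
  rw [finrank_of_card hk] at hd₀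
  have hd₁ := hf'.finrank_left
  rw [Fintype.card_fin] at hd₁
  obtain ⟨U, hU, hle, hdU⟩ := hS.exists_totSing_ge hf'.totSing_left hU₀.ts (by omega)
  have hL : S.IsLag U := ⟨hU, by rw [hdU, hU₀.dim]⟩
  rw [gdk_eq hS hp γ hL, lagSign_eq_one_iff] at h1
  have h2 := Submodule.finrank_mono (le_inf hle ((hfix e).symm.le.trans (gmap_mono γ.1 hle)))
  have h3 := Submodule.finrank_mono (inf_le_left : U ⊓ gmap γ.1 U ≤ U)
  have h4 : U ⊓ gmap γ.1 U = U := Submodule.eq_of_le_of_finrank_eq inf_le_left (by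
    obtain ⟨t, ht⟩ := h1
    omega)
  have h5 : gmap γ.1 U = U :=
    (Submodule.eq_of_le_of_finrank_eq (inf_eq_left.1 h4) (finrank_gmap _ _).symm).symm
  haveI := finite_ringAut (F := F)
  have h6 := le_of_desc hφ (orderOf_pos _).ne' rfl hd h5
    (W := Submodule.span F (Set.range fun i => (P : Matrix ι ι F) *ᵥ vmap φ (e i))) fun x hx => by
    refine ext_mem_span (hf.mem_span_of_aniso ha (fun i => ?_) ?_)
    · have := hU.le_perp hx _ (hle (Submodule.subset_span ⟨i, rfl⟩))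
      rwa [hc.B, mul_eq_zero, or_iff_right hc.ne, map_eq_zero] at this
    · have := hU.Q hx
      rwa [hc.Q, mul_eq_zero, or_iff_right hc.ne, map_eq_zero, ← q_eq_zero_iff] at this
  have := Submodule.finrank_mono h6
  omega

theorem exists_root_quad (φ : F₀ →+* F) (hc : Nat.card F = Nat.card F₀ ^ 2) (a b : F₀) :
    ∃ t : F, t ^ 2 + φ a * t + φ b = 0 := by
  by_cases h : ∀ r : F₀, r ^ 2 ≠ -b + -a * r
  · haveI := Fact.mk h
    letI := φ.toAlgebra
    haveI : Finite F₀ := Finite.of_injective _ φ.injective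
    have h2 : finrank F₀ F = 2 := by
      rw [Module.natCard_eq_pow_finrank (K := F₀) (V := F)] at hc
      exact Nat.pow_right_injective (Finite.one_lt_card (α := F₀)) hc
    obtain ⟨j⟩ := FiniteField.nonempty_algHom_of_finrank_dvd (F := F₀)
      (K := QuadraticAlgebra F₀ (-b) (-a)) (L := F) (by rw [h2, QuadraticAlgebra.finrank_eq_two])
    refine ⟨j QuadraticAlgebra.omega, ?_⟩
    have := congrArg j (QuadraticAlgebra.omega_mul_omega_eq_algebraMap (a := -b) (b := -a))
    simp only [map_mul, map_add, AlgHom.commutes, map_neg] at this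
    change _ = -φ b + -φ a * _ at this
    linear_combination this
  · push Not at h
    obtain ⟨r, hr⟩ := h
    refine ⟨φ r, ?_⟩
    have := congrArg φ hr
    simp only [map_pow, map_add, map_neg, map_mul] at this
    linear_combination this

theorem IsExt.isPlus_of_sq [Nonempty ι] (hS : S.Nondeg) {P : GL ι F} {c : F} (h : IsExt φ S₀ S P c)
    {k : ℕ} (hk : Fintype.card ι = 2 * k) (hc : Nat.card F = Nat.card F₀ ^ 2) : S.IsPlus := by
  haveI : Finite F₀ := Finite.of_injective _ φ.injective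
  by_cases hp₀ : S₀.IsPlus
  · exact h.isPlus hS hk hp₀
  obtain ⟨m, rfl⟩ : ∃ m, k = m + 1 := ⟨k - 1, by have := Fintype.card_pos (α := ι); omega⟩
  obtain ⟨e, f, hf, ha⟩ := (h.nondeg hS).exists_hypFam_minus hp₀ (m := m) (finrank_of_card hk)
  have hf' := h.hypFam hf
  have hd := hf.finrank_perp
  rw [finrank_of_card hk, Fintype.card_fin] at hd
  obtain ⟨b, h0, h1, h2⟩ := exists_aniso_basis (S := S₀.res (S₀.perp (Set.range e ∪ Set.range f)))
    (fun x hx => Subtype.ext (ha x x.2 ((q_eq_zero_iff _).2 hx))) (by omega) (exists_irred F₀).choose_spec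
  obtain ⟨t, ht⟩ := exists_root_quad φ hc 1 (exists_irred F₀).choose
  set x := t • (P : Matrix ι ι F) *ᵥ vmap φ (b 0) + (P : Matrix ι ι F) *ᵥ vmap φ (b 1) with hx
  have hb0 := mem_perp_fam.1 (b 0).2
  have hb1 := mem_perp_fam.1 (b 1).2
  change S₀.Q (b 0) = 1 at h0
  change S₀.B (b 0) (b 1) = 1 at h1
  change S₀.Q (b 1) = _ at h2
  have hQ : S.Q x = 0 := by
    rw [hx, Q_add, Q_smul, smul_left, h.Q, h.Q, h.B, h0, h1, h2]
    simp only [map_one] at ht ⊢
    linear_combination c * ht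
  have hxe : ∀ i, S.B x ((P : Matrix ι ι F) *ᵥ vmap φ (e i)) = 0 := fun i => by
    rw [hx, add_left, smul_left, h.B, h.B, hb0.1, hb1.1]; simp
  have hxf : ∀ i, S.B x (c⁻¹ • (P : Matrix ι ι F) *ᵥ vmap φ (f i)) = 0 := fun i => by
    rw [orth_smul_right, hx, add_left, smul_left, h.B, h.B, hb0.2, hb1.2]; simp
  have hx0 : x ≠ 0 := fun h' => by
    have e0 : S.B x ((P : Matrix ι ι F) *ᵥ vmap φ (b 0)) = 0 := by rw [h']; simp
    have e1 : S.B x ((P : Matrix ι ι F) *ᵥ vmap φ (b 1)) = 0 := by rw [h']; simp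
    rw [hx, add_left, smul_left, h.B, h.B, orth_self, h0, orth_symm, h1] at e0
    rw [hx, add_left, smul_left, h.B, h.B, orth_self, h2, h1] at e1
    have h4 := disc_ne_zero_of_aniso (aniso_of_irred (a := 1) (b := (exists_irred F₀).choose)
      (by simpa using (exists_irred F₀).choose_spec))
    refine h4 (φ.injective ?_)
    simp only [map_mul, map_one, map_ofNat, map_sub, map_pow, map_zero, mul_one] at e0 e1 ⊢
    refine mul_left_cancel₀ h.ne ?_
    linear_combination e0 - 2 * e1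
  have hxU : x ∉ Submodule.span F (Set.range fun i => (P : Matrix ι ι F) *ᵥ vmap φ (e i)) := fun hU =>
    hx0 (hf'.nondegOn x (Submodule.span_mono Set.subset_union_left hU) fun y hy => by
      rw [orth_symm]
      have : x ∈ S.perp _ := mem_perp_fam.2 ⟨hxe, hxf⟩
      rw [← perp_span] at this
      exact this y hy)
  refine ⟨_, hf'.totSing_left.sup_span ((q_eq_zero_iff _).2 hQ) ?_, ?_⟩
  · rw [perp_span]
    exact mem_perp_range.2 hxe
  · rw [Submodule.finrank_sup_span_singleton hxU, hf'.finrank_left, finrank_of_card hk, Fintype.card_fin]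

omit [Finite F] in
theorem exists_twist (S : Form (orthParam F) (ι → F)) (γ : GammaL ι F) {κ : F} (h : κ ≠ 0) :
    ∃ S' : Form (orthParam F) (ι → F), IsExt (γ.right : F →+* F) S' S γ.left κ :=
  exists_ext (σ := 1) (descP_orth fun a => ⟨fun _ => γ.right.surjective a, fun _ => rfl⟩) h rfl
    (fun _ _ => rfl) fun _ l _ => by simp

omit [Finite F] in
theorem isSemiSim_o_of_span {γ : GammaL ι F} {κ : F} (h0 : κ ≠ 0) {s : Set (ι → F)}
    (hs : Submodule.span F s = ⊤)
    (hB : ∀ x ∈ s, ∀ y ∈ s, S.B (semiAct γ x) (semiAct γ y) = κ * γ.right (S.B x y))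
    (hq : ∀ x ∈ s, S.Q (semiAct γ x) = κ * γ.right (S.Q x)) : IsSemiSim S γ κ := by
  obtain ⟨S', h⟩ := exists_twist S γ h0
  have h1 : IsIsom S S' (LinearMap.id : (ι → F) →ₗ[F] (ι → F)) :=
    isIsom_of_span _ hs (fun x hx y hy => γ.right.injective (mul_left_cancel₀ h0
      ((h.B x y).symm.trans (hB x hx y hy)))) fun x hx => (q_eq_iff _ _).2 (γ.right.injective
        (mul_left_cancel₀ h0 ((h.Q x).symm.trans (hq x hx))))
  refine isSemiSim_o_iff.2 ⟨h0, fun v => (h.Q v).trans ?_⟩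
  have := (q_eq_iff _ _).1 (h1.q v)
  exact congrArg (fun z => κ * γ.right z) this

omit [Finite F] in
theorem isSemiSim_of_isExt {σ : F ≃+* F} {P : GL ι F} {κ : F} (h : IsExt (σ : F →+* F) S S P κ) :
    IsSemiSim S ⟨P, σ⟩ κ := isSemiSim_o_iff.2 ⟨h.ne, h.Q⟩

theorem simRight_surj [Nonempty ι] (hS : S.Nondeg) : Function.Surjective (simRight S) := fun σ => by
  obtain ⟨S', h⟩ := exists_twist S (SemidirectProduct.inr σ) one_ne_zero
  change IsExt (σ : F →+* F) S' S 1 1 at h
  have key : ∃ g κ, IsExt (RingHom.id F) S S' g κ := by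
    rcases Nat.even_or_odd (Fintype.card ι) with ⟨k, hk⟩ | ho
    · rw [← two_mul] at hk
      obtain ⟨j, hj⟩ := hS.exists_isom_even (h.nondeg hS) rfl ⟨k, by rw [finrank_of_card hk, two_mul]⟩
        ⟨fun hp => (IsDesc.isPlus_iff (φ := (σ : F →+* F)) hS hp hk (γ := 1)
          (fun a => ⟨fun _ => σ.surjective a, fun _ => rfl⟩) ⟨⟨1, by simp⟩, _, h⟩).2 (map_one _),
        h.isPlus hS hk⟩
      exact ⟨_, _, isExt_of_isom hj⟩
    · have ho' : Odd (finrank F (ι → F)) := by rwa [finrank_of_card rfl]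
      obtain ⟨c, hc, j, hj⟩ := hS.exists_similar_odd (h.nondeg hS) (hS.two_ne_zero_of_odd ho') rfl ho'
      refine ⟨glRho.symm j, c, isExt_o_iff.2 ⟨hc, fun v => ?_⟩⟩
      rw [← glRho_apply, MulEquiv.apply_symm_apply, vmap_id]
      exact ((q_eq_iff _ _).1 (hj.q v)).trans (scale_Q c v)
  obtain ⟨g, κ, hg⟩ := key
  exact ⟨⟨_, _, isSemiSim_of_isExt (IsExt.comp (φ := (σ : F →+* F)) (fun _ => rfl) h hg)⟩, rfl⟩

omit [Finite F] in
theorem semiAct_lift {σ₀ : F₀ ≃+* F₀} {σ : F ≃+* F} (hσ : ∀ a, σ (φ a) = φ (σ₀ a)) (M : GL ι F₀)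
    (x : ι → F₀) : semiAct (⟨GeneralLinearGroup.map φ M, σ⟩ : GammaL ι F) (vmap φ x) =
      vmap φ (semiAct (⟨M, σ₀⟩ : GammaL ι F₀) x) := by
  rw [semiAct_apply, semiAct_apply, vmap_mulVec]
  congr 1
  funext i
  exact hσ _

omit [Finite F] in
theorem IsSemiSim.lift (h : IsExt φ S₀ S 1 1) {σ₀ : F₀ ≃+* F₀} {σ : F ≃+* F}
    (hσ : ∀ a, σ (φ a) = φ (σ₀ a)) {M : GL ι F₀} {κ : F₀} (hM : IsSemiSim S₀ ⟨M, σ₀⟩ κ) :
    IsSemiSim S ⟨GeneralLinearGroup.map φ M, σ⟩ (φ κ) := by
  have hB := h.B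
  have hQ := h.Q
  simp only [Units.val_one, one_mulVec, one_mul] at hB hQ
  refine isSemiSim_o_of_span ((map_ne_zero φ).2 hM.ne) (span_vmap φ 1) ?_ ?_
  · rintro _ ⟨x, rfl⟩ _ ⟨y, rfl⟩
    simp only [Units.val_one, one_mulVec, semiAct_lift hσ, hB, hM.B, map_mul, hσ]
  · rintro _ ⟨x, rfl⟩
    simp only [Units.val_one, one_mulVec, semiAct_lift hσ, hQ, hM.Q, map_mul, hσ]

omit [Finite F] in
theorem lift_pow {σ₀ : F₀ ≃+* F₀} {σ : F ≃+* F} (hσ : ∀ a, σ (φ a) = φ (σ₀ a)) (M : GL ι F₀) (n : ℕ) :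
    (⟨GeneralLinearGroup.map φ M, σ⟩ : GammaL ι F) ^ n =
      ⟨GeneralLinearGroup.map φ ((⟨M, σ₀⟩ : GammaL ι F₀) ^ n).left, σ ^ n⟩ := by
  induction n with
  | zero => ext <;> simp
  | succ n ih =>
    rw [pow_succ', ih, pow_succ', pow_succ']
    refine SemidirectProduct.ext ?_ rfl
    simp only [SemidirectProduct.mul_left, map_mul, mul_right_inj]
    ext i j
    exact hσ _

/-- `sdk` is preserved by extension of scalars -/
theorem sdk_ext [Finite F₀] [Nonempty ι] (hS : S.Nondeg) (hG : GenC F ι) (hG₀ : GenC F₀ ι) {k : ℕ}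
    (hk : Fintype.card ι = 2 * k) {P : GL ι F} {c : F} (h : IsExt φ S₀ S P c) (g₀ : Sim S₀) :
    ∃ g : Sim S, (g : GL ι F) = descG φ P g₀ ∧ sdk hS hG hk g = sdk (h.nondeg hS) hG₀ hk g₀ := by
  have h1 := h.sim scal_orth (IsExt.comp (φ := φ) (fun _ => rfl) h
    (isExt_of_sim (simMult_spec (h.nondeg hS) g₀)))
  refine ⟨⟨_, _, h1⟩, rfl, sdk_transfer hS hG hk _ hG₀ hk φ (descG φ P) (det_descG P) (fun c => ?_)
    (descG_dkG hS hG hG₀ h) rfl ?_⟩
  · refine ⟨Units.map (φ : F₀ →* F) c, ?_⟩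
    rw [descG_apply, show GeneralLinearGroup.map φ (GeneralLinearGroup.scalar ι c) =
      GeneralLinearGroup.scalar ι (Units.map (φ : F₀ →* F) c) from ?_, ← scalar_comm, mul_inv_cancel_right]
    ext i j
    by_cases hij : i = j <;> simp [GeneralLinearGroup.scalar, hij]
  · rw [simMult_eq hS (g := ⟨_, _, h1⟩) h1, mul_div_cancel_left₀ _ h.ne]

end Ext

/-- a similarity with multiplier `l` and square `l` -/
theorem exists_sim_invol [Nonempty ι] (hS : S.Nondeg) (hG : GenC F ι) {k : ℕ}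
    (hk : Fintype.card ι = 2 * k) (h2 : (2 : F) ≠ 0) (l : Fˣ) : ∃ g : Sim S, simMult hS g = l ∧
      g * g = ⟨_, scalar_mem_Sim l⟩ ∧ sdk hS hG hk g = (-1) ^ k := by
  obtain ⟨b₀, hb₁, hb₂, -⟩ := hS.orth_exists_basis h2 (finrank_of_card hk) (fun _ => 1)
    fun _ => one_ne_zero
  let b := b₀.reindex finProdFinEquiv.symm
  have h1 : ∀ i j, i ≠ j → S.B (b i) (b j) = 0 := fun i j hij => by
    simp only [b, Basis.reindex_apply]
    exact hb₁ _ _ (finProdFinEquiv.injective.ne hij)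
  have h3 : ∀ i, S.Q (b i) ≠ 0 := fun i => by
    simp only [b, Basis.reindex_apply]
    exact hb₂ _
  have ex : ∀ i : Fin k, ∃ s t : F, s ^ 2 * S.Q (b (0, i)) + t ^ 2 * S.Q (b (1, i)) =
      l * S.Q (b (0, i)) := fun i => by
    have hv : ∀ p q : Fin 2, p ≠ q → S.B (b (p, i)) (b (q, i)) = 0 := fun p q hpq =>
      h1 _ _ fun h => hpq (congrArg Prod.fst h)
    have h0 : ∀ p : Fin 2, S.B (b (p, i)) (b (p, i)) ≠ 0 := fun p => by
      rw [orth_self]; exact mul_ne_zero h2 (h3 _)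
    obtain ⟨x, hx, hQ⟩ := (nondegOn_span_of_orth hv h0).exists_Q_eq
      (by rw [finrank_span_eq_card (linearIndependent_of_orth hv h0)]; simp) (l * S.Q (b (0, i)))
    obtain ⟨c, rfl⟩ := (Submodule.mem_span_range_iff_exists_fun F).1 hx
    rw [Fin.sum_univ_two, Q_comb, hv 0 1 (by decide), mul_zero, add_zero] at hQ
    exact ⟨_, _, hQ⟩
  choose s t hst using ex
  let M : Fin k → Matrix (Fin 2) (Fin 2) F := fun i =>
    !![s i, t i * S.Q (b (1, i)) / S.Q (b (0, i)); t i, -s i]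
  have hM : ∀ i, M i * M i = (l : F) • (1 : Matrix (Fin 2) (Fin 2) F) := fun i => by
    have := h3 (0, i)
    have h := hst i
    ext p q
    fin_cases p <;> fin_cases q <;> simp [M, Matrix.mul_apply, Fin.sum_univ_two] <;> field_simp <;>
      first | linear_combination h | ring
  have hdet : ∀ i, (M i).det = -l := fun i => by
    have := h3 (0, i)
    have h := hst i
    simp only [M, det_fin_two_of]
    field_simp
    linear_combination -h
  let A := Matrix.toLin b b (blockDiagonal M)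
  have hA : ∀ v, A (A v) = (l : F) • v := fun v => by
    have : A ∘ₗ A = (l : F) • LinearMap.id := by
      rw [← Matrix.toLin_mul, ← blockDiagonal_mul, show (fun i => M i * M i) =
        (l : F) • (1 : Fin k → Matrix (Fin 2) (Fin 2) F) from funext hM, blockDiagonal_smul,
        blockDiagonal_one, map_smul, Matrix.toLin_one]
    exact LinearMap.congr_fun this v
  have hadj : ∀ x y, S.B (A x) y = S.B x (A y) := by
    have key : ∀ p q, S.B (A (b p)) (b q) = blockDiagonal M q p * (2 * S.Q (b q)) := fun p q => by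
      simp only [A, Matrix.toLin_self, sum_left, smul_left]
      rw [Finset.sum_eq_single q, orth_self]
      · intro r _ hr
        rw [h1 _ _ hr, mul_zero]
      · simp
    have key2 : ∀ p q, S.B (A (b p)) (b q) = S.B (b p) (A (b q)) := fun p q => by
      rw [key, orth_symm, key]
      obtain ⟨p, i⟩ := p
      obtain ⟨q, j⟩ := q
      by_cases hij : i = j
      · subst hij
        have := h3 (0, i)
        fin_cases p <;> fin_cases q <;> simp [blockDiagonal_apply, M] <;> field_simp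
      · simp [blockDiagonal_apply, hij, Ne.symm hij]
    intro x y
    rw [← b.sum_repr x, ← b.sum_repr y]
    simp only [map_sum, map_smul, sum_left, sum_right, smul_left, orth_smul_right, key2]
  let E : (ι → F) ≃ₗ[F] (ι → F) := LinearEquiv.ofLinearMap A ((l⁻¹ : Fˣ) • A)
    (LinearMap.ext fun v => by simp [hA, Units.smul_def, smul_smul])
    (LinearMap.ext fun v => by simp [hA, Units.smul_def, smul_smul])
  have hE : ∀ v, (glRho.symm E : GL ι F).1 *ᵥ v = A v := fun v => by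
    rw [← glRho_apply, MulEquiv.apply_symm_apply]; rfl
  have hs : IsSemiSim S (SemidirectProduct.inl (glRho.symm E)) l := isSemiSim_o_iff.2 ⟨l.ne_zero, fun v => by
    rw [semiAct_inl, hE]
    refine mul_left_cancel₀ h2 ?_
    rw [← orth_self, hadj, hA, orth_smul_right, orth_self]
    simp only [SemidirectProduct.right_inl, RingAut.one_apply]
    ring⟩
  have hm := simMult_eq hS (g := ⟨_, _, hs⟩) hs
  refine ⟨⟨_, _, hs⟩, Units.ext hm, Subtype.ext (GL_ext_mulVec fun v => ?_),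
    sdk_of_det hS hG hk h2 ?_⟩
  · rw [Subgroup.coe_mul, Units.val_mul, ← mulVec_mulVec, hE, hE, hA, ← glRho_apply, glRho_scalar]
  · rw [hm, ← det_glRho, MulEquiv.apply_symm_apply]
    change LinearMap.det A = _
    rw [LinearMap.det_toLin, det_blockDiagonal]
    simp only [hdet, Finset.prod_const, Finset.card_univ, Fintype.card_fin]
    push_cast
    rw [← mul_pow, neg_one_mul]

section Std

variable {F₀ : Type*} [Field F₀] (φ : F₀ →+* F)

omit [Finite F] in
theorem isExt_plus (m : ℕ) : IsExt φ (plusForm m F₀) (plusForm m F) 1 1 :=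
  isExt_o_iff.2 ⟨one_ne_zero, fun v => by
    simp [plusForm_Q, Cfsg.quadFormPlus, vmap]⟩

omit [Finite F] in
theorem isExt_odd (m : ℕ) : IsExt φ (oddForm m F₀) (oddForm m F) 1 1 :=
  isExt_o_iff.2 ⟨one_ne_zero, fun v => by
    simp [oddForm_Q, Cfsg.quadFormOdd, vmap]⟩

omit [Finite F] in
theorem isExt_minus (m : ℕ) (a b : F₀) :
    IsExt φ (minusForm m F₀ a b) (minusForm m F (φ a) (φ b)) 1 1 :=
  isExt_o_iff.2 ⟨one_ne_zero, fun v => by
    simp [minusForm_Q, Cfsg.quadFormMinus, vmap]⟩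

omit [Finite F] in
theorem minusForm_nondeg_map [Finite F₀] (m : ℕ) {a b : F₀}
    (hab : ∀ z₁ z₂ : F₀, z₁ ^ 2 + a * z₁ * z₂ + b * z₂ ^ 2 = 0 → z₁ = 0 ∧ z₂ = 0) :
    (minusForm m F (φ a) (φ b)).Nondeg :=
  minusForm_nondeg' m (by
    have := (map_ne_zero φ).2 (disc_ne_zero_of_aniso hab)
    simpa only [map_sub, map_pow, map_mul, map_ofNat] using this)

theorem inr_mem_of_isExt {σ : F ≃+* F} {κ : F} (h : IsExt (σ : F →+* F) S S 1 κ) :
    SemidirectProduct.inr σ ∈ GammaS S := ⟨_, isSemiSim_of_isExt h⟩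

theorem plus_inr_mem (m : ℕ) (σ : F ≃+* F) : SemidirectProduct.inr σ ∈ GammaS (plusForm m F) :=
  inr_mem_of_isExt (isExt_plus _ m)

theorem odd_inr_mem (m : ℕ) (σ : F ≃+* F) : SemidirectProduct.inr σ ∈ GammaS (oddForm m F) :=
  inr_mem_of_isExt (isExt_odd _ m)

theorem minus_inr_mem (m : ℕ) {σ : F ≃+* F} {a b : F} (ha : σ a = a) (hb : σ b = b) :
    SemidirectProduct.inr σ ∈ GammaS (minusForm m F a b) :=
  inr_mem_of_isExt (κ := 1) (by
    have := isExt_minus (σ : F →+* F) m a b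
    rwa [RingHom.coe_coe, ha, hb] at this)

end Std

theorem orderOf_frob {p f : ℕ} [Fact p.Prime] [CharP F p] (hF : Nat.card F = p ^ f) :
    orderOf (frobeniusEquiv F p) = f := by
  letI := ZMod.algebra F p
  letI := Fintype.ofFinite F
  have h1 : ringAutEquiv F p (frobeniusEquiv F p) =
      FiniteField.frobeniusAlgEquivOfAlgebraic (ZMod p) F := by
    ext x
    rw [FiniteField.coe_frobeniusAlgEquivOfAlgebraic, ZMod.card]
    rfl
  rw [← MulEquiv.orderOf_eq (ringAutEquiv F p), h1, FiniteField.orderOf_frobeniusAlgEquivOfAlgebraic]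
  rw [Module.natCard_eq_pow_finrank (K := ZMod p) (V := F), Nat.card_zmod] at hF
  exact Nat.pow_right_injective (Fact.out : p.Prime).two_le hF

theorem mem_zpowers_frob {p : ℕ} [Fact p.Prime] [CharP F p] (σ : F ≃+* F) :
    σ ∈ zpowers (frobeniusEquiv F p) := by
  letI := Fintype.ofFinite F
  haveI := finite_ringAut (F := F)
  obtain ⟨f, -, hf⟩ := FiniteField.card F p
  have : zpowers (frobeniusEquiv F p) = ⊤ := by
    rw [← Subgroup.card_eq_iff_eq_top, Nat.card_zpowers, card_ringAut hf,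
      orderOf_frob (by rw [Nat.card_eq_fintype_card, hf])]
  rw [this]
  trivial

theorem frob_pow_apply {p : ℕ} [Fact p.Prime] [CharP F p] (n : ℕ) (a : F) :
    (frobeniusEquiv F p ^ n) a = a ^ p ^ n := by
  induction n with
  | zero => simp
  | succ n ih => rw [pow_succ', RingAut.mul_apply, ih, pow_succ, pow_mul]; rfl

theorem fixed_iff_of_card {F₀ : Type*} [Field F₀] (φ : F₀ →+* F) {σ : F ≃+* F}
    (h : ∀ b, σ (φ b) = φ b) (hc : Nat.card F = Nat.card F₀ ^ orderOf σ) (a : F) :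
    σ a = a ↔ ∃ b, φ b = a := by
  haveI := finite_ringAut (F := F)
  have h1 : Nat.card (fixF σ) = Nat.card F₀ :=
    Nat.pow_left_injective (orderOf_pos σ).ne' ((card_fixF σ).symm.trans hc)
  let j : F₀ → fixF σ := fun b => ⟨φ b, mem_fixF.2 (h b)⟩
  have hj : Function.Bijective j := Function.Injective.bijective_of_nat_card_le
    (fun a b hab => φ.injective (congrArg Subtype.val hab)) h1.le
  refine ⟨fun ha => ?_, by rintro ⟨b, rfl⟩; exact h b⟩
  obtain ⟨b, hb⟩ := hj.2 ⟨a, mem_fixF.2 ha⟩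
  exact ⟨b, congrArg Subtype.val hb⟩

/-- in minus type a lift of the Frobenius has its `f`-th power outside the class-preserving group -/
theorem minus_pow [Nonempty ι] {F₀ : Type*} [Field F₀] [Finite F₀] {S₀ : Form (orthParam F₀) (ι → F₀)}
    {φ : F₀ →+* F} (hS : S.Nondeg) (hG : GenC F ι) (hG₀ : GenC F₀ ι) {k : ℕ}
    (hk : Fintype.card ι = 2 * k) (h : IsExt φ S₀ S 1 1) (hc : Nat.card F = Nat.card F₀ ^ 2)
    (hp : ¬ S₀.IsPlus) {p f : ℕ} [Fact p.Prime] [CharP F₀ p] (hF : Nat.card F₀ = p ^ f) :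
    ∃ (x : GammaS S₀) (g : Sim S₀), x.1.right = frobeniusEquiv F₀ p ∧ x ^ f = simIncl S₀ g ∧
      sdk (h.nondeg hS) hG₀ hk g = -1 := by
  haveI : CharP F p := charP_of_injective_ringHom φ.injective p
  have hP := h.isPlus_of_sq hS hk hc
  have hσ : ∀ a, frobeniusEquiv F p (φ a) = φ (frobeniusEquiv F₀ p a) := fun a =>
    (map_pow φ a p).symm
  have hlift : ∀ x : GammaS S₀, x.1.right = frobeniusEquiv F₀ p →
      (⟨GeneralLinearGroup.map φ x.1.left, frobeniusEquiv F p⟩ : GammaL ι F) ∈ GammaS S := fun x hx =>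
    ⟨_, IsSemiSim.lift h hσ (M := x.1.left) (κ := x.2.choose) (by rw [← hx]; exact x.2.choose_spec)⟩
  obtain ⟨x, hx, h1⟩ : ∃ (x : GammaS S₀) (hx : x.1.right = frobeniusEquiv F₀ p),
      gdk hS hP ⟨_, hlift x hx⟩ = 1 := by
    obtain ⟨x, hx⟩ := simRight_surj (h.nondeg hS) (frobeniusEquiv F₀ p)
    rcases Int.units_eq_one_or (gdk hS hP ⟨_, hlift x hx⟩) with h1 | h1
    · exact ⟨x, hx, h1⟩
    obtain ⟨v, hv⟩ := (h.nondeg hS).exists_Q_ne
    obtain ⟨g, hg, hg'⟩ := sdk_ext hS hG hG₀ hk h ⟨_, OG_le_Sim (rfG_mem v)⟩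
    have hx' : (simIncl S₀ ⟨_, OG_le_Sim (rfG_mem v)⟩ * x).1.right = frobeniusEquiv F₀ p := by
      rw [← hx]; exact one_mul _
    refine ⟨_, hx', ?_⟩
    have : (⟨_, hlift _ hx'⟩ : GammaS S) = simIncl S g * ⟨_, hlift x hx⟩ := by
      refine Subtype.ext (SemidirectProduct.ext ?_ (one_mul _).symm)
      simp [coe_simIncl, hg, descG_apply]
    rw [this, map_mul, h1, gdk_simIncl hS hP hG hk, hg', sdk_rf _ _ _ hv]
    rfl
  have ho₀ := orderOf_frob hF
  have ho : orderOf (frobeniusEquiv F p) = 2 * f := orderOf_frob (by rw [hc, hF, ← pow_mul, mul_comm])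
  have hf0 : f ≠ 0 := by
    rintro rfl
    have := Finite.one_lt_card (α := F₀)
    rw [hF, pow_zero] at this
    omega
  obtain ⟨g, hg⟩ : x ^ f ∈ (simIncl S₀).range := by
    rw [range_simIncl, MonoidHom.mem_ker, map_pow]
    change x.1.right ^ f = 1
    rw [hx, ← ho₀, pow_orderOf_eq_one]
  refine ⟨x, g, hx, hg.symm, ?_⟩
  obtain ⟨g', hg', hg''⟩ := sdk_ext hS hG hG₀ hk h g
  have hτ : ∀ b, (frobeniusEquiv F p ^ f) (φ b) = φ b := fun b => by
    rw [frob_pow_apply, ← map_pow, ← frob_pow_apply, ← ho₀, pow_orderOf_eq_one]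
    rfl
  have hτ' := fixed_iff_of_card φ hτ (by
    rw [orderOf_pow' _ hf0, ho, hc, Nat.gcd_mul_left_left, Nat.mul_div_cancel _ (by omega)])
  have hm : (SemidirectProduct.inr (frobeniusEquiv F p ^ f) : GammaL ι F) ∈ GammaS S := by
    have := IsSemiSim.lift h (σ₀ := 1) hτ (M := 1) isSemiSim_one
    rw [map_one] at this
    exact ⟨_, this⟩
  have h2 : gdk hS hP ⟨_, hm⟩ = -1 := by
    have := (IsDesc.isPlus_iff hS hP hk (γ := ⟨_, hm⟩) hτ' (isDesc_inr h)).not.1 hp
    exact (Int.units_eq_one_or _).resolve_left this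
  have h3 : (⟨_, hlift x hx⟩ : GammaS S) ^ f = simIncl S g' * ⟨_, hm⟩ := by
    refine Subtype.ext ?_
    rw [SubmonoidClass.coe_pow, lift_pow hσ, show (⟨x.1.left, frobeniusEquiv F₀ p⟩ : GammaL ι F₀) = x.1
      from SemidirectProduct.ext rfl hx.symm, ← SubmonoidClass.coe_pow, ← hg]
    refine SemidirectProduct.ext ?_ (one_mul _).symm
    simp [coe_simIncl, hg', descG_apply, -map_pow]
  have h4 := congrArg (gdk hS hP) h3
  rw [map_pow, h1, one_pow, map_mul, h2, gdk_simIncl hS hP hG hk, hg''] at h4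
  rw [mul_neg_one] at h4
  exact neg_eq_iff_eq_neg.1 h4.symm

section Pres

variable {ι : Type} [Fintype ι] [DecidableEq ι] {S : Form (orthParam F) (ι → F)}
  {Q : (ι → F) → F} (hQ : ∀ v, S.Q v = Q v)
include hQ

omit [Finite F] in
theorem isMax_iff_isLag (hS : S.Nondeg) (hp : S.IsPlus) {U : Submodule F (ι → F)} :
    Cfsg.IsMaxTotallySingular Q U ↔ S.IsLag U := by
  obtain ⟨U₀, hU₀⟩ := hp
  refine ⟨fun ⟨h1, h2⟩ => ?_, fun h => ⟨(Form.totSing_iff hQ).1 h.ts, fun W hW hle => ?_⟩⟩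
  · have h1' := (Form.totSing_iff hQ).2 h1
    have h3 := hS.two_mul_finrank_le h1'
    obtain ⟨X, hX, hle, hd⟩ := hS.exists_totSing_ge h1' hU₀.ts (by have := hU₀.dim; omega)
    rw [h2 X ((Form.totSing_iff hQ).1 hX) hle] at hd
    exact ⟨h1', by rw [hd, hU₀.dim]⟩
  · have h3 := hS.two_mul_finrank_le ((Form.totSing_iff hQ).2 hW)
    have := h.dim
    exact (Submodule.eq_of_le_of_finrank_le hle (by omega)).symm

theorem preserves_iff [Nonempty ι] (hS : S.Nondeg) (hp : S.IsPlus) (hG : GenC F ι) {k : ℕ}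
    (hk : Fintype.card ι = 2 * k) (g : Sim S) :
    Cfsg.PreservesSingularClasses Q ((g : GL ι F) : Matrix ι ι F) ↔ sdk hS hG hk g = 1 := by
  have key : ∀ U, S.IsLag U → (Cfsg.SameParityClass U (Cfsg.imageSubmodule
      ((g : GL ι F) : Matrix ι ι F) U) ↔ sdk hS hG hk g = 1) := fun U hU => by
    rw [← gdk_simIncl hS hp hG hk, gdk_eq hS hp _ hU, lagSign_eq_one_iff, coe_simIncl, gmap_inl]
    rfl
  exact ⟨fun h => (key _ hp.choose_spec).1 (h _ ((isMax_iff_isLag hQ hS hp).2 hp.choose_spec)),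
    fun h U hU => (key U ((isMax_iff_isLag hQ hS hp).1 hU)).2 h⟩

end Pres

theorem exists_quad_ext.{u} (F : Type u) [Field F] [Finite F] :
    ∃ (K : Type u) (_ : Field K) (_ : Algebra F K), finrank F K = 2 := by
  obtain ⟨μ, hμ⟩ := exists_irred F
  haveI : Fact (∀ r : F, r ^ 2 ≠ -μ + -1 * r) := ⟨fun r hr => hμ r (by linear_combination hr)⟩
  exact ⟨QuadraticAlgebra F (-μ) (-1), inferInstance, inferInstance,
    QuadraticAlgebra.finrank_eq_two _ _⟩

theorem card_minus (m : ℕ) : Fintype.card ((Fin m ⊕ Fin m) ⊕ Fin 2) = 2 * (m + 1) := by simp; omega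

theorem card_plus (m : ℕ) : Fintype.card (Fin m ⊕ Fin m) = 2 * m := by simp; omega

theorem card_odd (m : ℕ) : Fintype.card (Unit ⊕ (Fin m ⊕ Fin m)) = 2 * m + 1 := by simp; omega

theorem preserves_minus_iff {m : ℕ} (hm : 2 ≤ m) {a b : F}
    (hab : ∀ z₁ z₂ : F, z₁ ^ 2 + a * z₁ * z₂ + b * z₂ ^ 2 = 0 → z₁ = 0 ∧ z₂ = 0)
    (hG : GenC F ((Fin m ⊕ Fin m) ⊕ Fin 2)) (g : Sim (minusForm m F a b)) :
    Cfsg.PreservesSingularClassesMinus m a b (g : GL _ F).1 ↔
      sdk (minusForm_nondeg m hab) hG (card_minus m) g = 1 := by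
  have key : ∀ (K : Type _) [Field K] [Algebra F K], finrank F K = 2 →
      (Cfsg.PreservesSingularClasses (Cfsg.quadFormMinus m K (algebraMap F K a) (algebraMap F K b))
        ((g : GL _ F).1.map (algebraMap F K)) ↔ sdk (minusForm_nondeg m hab) hG (card_minus m) g = 1) :=
    fun K _ _ hK => by
      haveI := Module.finite_of_finrank_pos (R := F) (M := K) (by omega)
      haveI := Module.finite_of_finite F (M := K)
      have hS := minusForm_nondeg_map (algebraMap F K) m hab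
      have hG' : GenC K ((Fin m ⊕ Fin m) ⊕ Fin 2) := genC_of (by rw [card_minus]; omega)
      have hE := isExt_minus (algebraMap F K) m a b
      obtain ⟨g', h1, h2⟩ := sdk_ext hS hG' hG (card_minus m) hE g
      rw [← h2, ← preserves_iff (minusForm_Q m _ _) hS (hE.isPlus_of_sq hS (card_minus m)
        (by rw [Module.natCard_eq_pow_finrank (K := F), hK])), h1, descG_apply, one_mul, inv_one, mul_one]
      rfl
  refine ⟨fun ⟨K, _, _, hK, h⟩ => (key K hK).1 h, fun h => ?_⟩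
  obtain ⟨K, _, _, hK⟩ := exists_quad_ext F
  exact ⟨K, _, _, hK, (key K hK).2 h⟩

end CfsgH8
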