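import Cfsg.Agent.H8.AutO2
import Cfsg.Agent.H2.Dih

/-!
Orthogonal groups: the quotient of the similarity group by scalars and `Ω`, outer automorphisms.
-/

set_option autoImplicit false

namespace CfsgH8

open Subgroup Module Matrix CfsgH5 CfsgH5.Form

section Abstract

variable {N X B : Type*} [Group N] [Group X] [Group B]

theorem exists_hom_of_range (Ψ : N →* X) (K : Subgroup X) (θ : N →* B) (hs : Function.Surjective θ)
    (hk : ∀ n, θ n = 1 ↔ Ψ n ∈ K) {H : Subgroup X} (hH : H = Ψ.range) :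
    ∃ φ : H →* B, Function.Surjective φ ∧ φ.ker = K.subgroupOf H := by
  subst hH
  obtain ⟨φ, hφ⟩ := exists_lift_of_surj Ψ.rangeRestrict Ψ.rangeRestrict_surjective θ fun n hn =>
    (hk n).2 (by rw [show Ψ n = 1 from congrArg Subtype.val hn]; exact one_mem _)
  refine ⟨φ, fun b => ?_, ?_⟩
  · obtain ⟨n, rfl⟩ := hs b
    exact ⟨_, hφ n⟩
  · ext x
    obtain ⟨n, rfl⟩ := Ψ.rangeRestrict_surjective x
    rw [MonoidHom.mem_ker, hφ, hk]
    rfl

theorem relIndex_of_range (Ψ : N →* X) (K : Subgroup X) (θ : N →* B) (hs : Function.Surjective θ)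
    (hk : ∀ n, θ n = 1 ↔ Ψ n ∈ K) : K.relIndex Ψ.range = Nat.card B := by
  obtain ⟨φ, h1, h2⟩ := exists_hom_of_range Ψ K θ hs hk rfl
  rw [Subgroup.relIndex, ← h2, Subgroup.index_ker, MonoidHom.range_eq_top.2 h1, Subgroup.card_top]

theorem exists_factor {D : Type*} [Group D] (θ : N →* D) (j : B →* D) (hj : Function.Injective j)
    (h : ∀ l, θ l ∈ j.range) : ∃ θ' : N →* B, ∀ l, j (θ' l) = θ l :=
  ⟨(MonoidHom.ofInjective hj).symm.toMonoidHom.comp (θ.codRestrict _ h), fun l =>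
    MonoidHom.apply_ofInjective_symm hj ⟨θ l, h l⟩⟩

theorem prod_of_section {C : Type*} [Group C] (j : B →* X) (hj : Function.Injective j) (π : X →* C)
    (hker : π.ker = j.range) (s : C →* X) (hs : ∀ c, π (s c) = c) (hc : ∀ a c, Commute (j a) (s c)) :
    Nonempty (X ≃* B × C) := by
  refine ⟨(MulEquiv.ofBijective (j.noncommCoprod s hc) ⟨?_, fun x => ?_⟩).symm⟩
  · rw [injective_iff_map_eq_one]
    rintro ⟨a, c⟩ h
    rw [MonoidHom.noncommCoprod_apply] at h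
    have h1 : π (j a) = 1 := by rw [← MonoidHom.mem_ker, hker]; exact ⟨a, rfl⟩
    have h2 := congrArg π h
    rw [map_mul, h1, hs, one_mul, map_one] at h2
    subst h2
    rw [map_one, mul_one, map_eq_one_iff _ hj] at h
    exact Prod.ext h rfl
  · obtain ⟨a, ha⟩ : x * (s (π x))⁻¹ ∈ j.range := by
      rw [← hker, MonoidHom.mem_ker, map_mul, map_inv, hs, mul_inv_cancel]
    exact ⟨(a, π x), by rw [MonoidHom.noncommCoprod_apply, ha, inv_mul_cancel_right]⟩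

theorem equiv_of_gen [Finite X] {a x : X} {n : ℕ} [NeZero n] (ha : a ^ 2 = 1) (hx : x ^ n = 1)
    (hc : Commute a x) (hg : ∀ o : X, ∃ i j : ℤ, o = a ^ i * x ^ j) (hcard : Nat.card X = 2 * n) :
    Nonempty (X ≃* Multiplicative (ZMod 2 × ZMod n)) := by
  let f : Multiplicative (ZMod 2 × ZMod n) →* X := MonoidHom.mk'
    (fun z => CfsgH2.pw a 2 ha z.toAdd.1 * CfsgH2.pw x n hx z.toAdd.2) fun z w => by
      obtain ⟨j, hj⟩ := ZMod.intCast_surjective z.toAdd.2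
      obtain ⟨i, hi⟩ := ZMod.intCast_surjective w.toAdd.1
      simp only [toAdd_mul, Prod.fst_add, Prod.snd_add, CfsgH2.pw_add, mul_assoc, mul_right_inj]
      rw [← mul_assoc, ← mul_assoc, ← hi, ← hj, CfsgH2.pw_intCast, CfsgH2.pw_intCast,
        (hc.zpow_zpow i j).eq]
  have hf : Function.Surjective f := fun o => by
    obtain ⟨i, j, rfl⟩ := hg o
    exact ⟨Multiplicative.ofAdd ((i : ZMod 2), (j : ZMod n)), by
      simp only [f, MonoidHom.mk'_apply, toAdd_ofAdd, CfsgH2.pw_intCast]⟩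
  exact ⟨(MulEquiv.ofBijective f (hf.bijective_of_nat_card_le (by simp [hcard]))).symm⟩

theorem dih_hom_ext {C : Type*} [Group C] {f g : DihedralGroup 4 →* C}
    (h1 : f (.r 1) = g (.r 1)) (h2 : f (.sr 0) = g (.sr 0)) : f = g := by
  have h3 : ∀ i : ZMod 4, f (.r i) = g (.r i) := fun i => by
    rw [← ZMod.natCast_zmod_val i, ← DihedralGroup.r_one_pow, map_pow, map_pow, h1]
  ext (i | i)
  · exact h3 i
  · rw [← zero_add i, ← DihedralGroup.sr_mul_r, map_mul, map_mul, h2, h3]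

theorem dih_aut_pow_four (α : DihedralGroup 4 →* DihedralGroup 4) (h : Function.Injective α)
    (x : DihedralGroup 4) : α (α (α (α x))) = x := by
  let E : DihedralGroup 4 → DihedralGroup 4 → DihedralGroup 4 → DihedralGroup 4 := fun u w x =>
    match x with
    | .r i => u ^ i.val
    | .sr i => w * u ^ i.val
  have h1 : ⇑α = E (α (.r 1)) (α (.sr 0)) := by
    have h3 : ∀ i : ZMod 4, α (.r i) = α (.r 1) ^ i.val := fun i => by
      rw [← map_pow, DihedralGroup.r_one_pow, ZMod.natCast_zmod_val]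
    funext x
    rcases x with i | i
    · exact h3 i
    · change _ = _ * _
      rw [← h3, ← map_mul, DihedralGroup.sr_mul_r, zero_add]
  have h2 : ∀ u w, Function.Injective (E u w) → ∀ x, E u w (E u w (E u w (E u w x))) = x := by decide
  rw [h1] at h ⊢
  exact h2 _ _ h x

/-- characters of the dihedral group of order 8 -/
def dihChar (s t : ℤˣ) : DihedralGroup 4 →* ℤˣ :=
  MonoidHom.mk' (fun x => match x with
    | .r i => s ^ i.val
    | .sr i => t * s ^ i.val) (by revert s t; decide)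

theorem dihChar_r (s t : ℤˣ) : dihChar s t (.r 1) = s := by revert s t; decide

theorem dihChar_sr (s t : ℤˣ) : dihChar s t (.sr 0) = t := by revert s t; decide

def jC4 : Multiplicative (ZMod 4) →* DihedralGroup 4 :=
  MonoidHom.mk' (fun x => .r x.toAdd) (by decide)

def jV4 : Multiplicative (ZMod 2 × ZMod 2) →* DihedralGroup 4 :=
  MonoidHom.mk' (fun x => DihedralGroup.r 2 ^ x.toAdd.1.val * DihedralGroup.sr 1 ^ x.toAdd.2.val)
    (by decide)

theorem jC4_inj : Function.Injective jC4 := by decide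

theorem jV4_inj : Function.Injective jV4 := by decide

theorem mem_jC4 : ∀ x, dihChar 1 (-1) x = 1 ↔ ∃ y, jC4 y = x := by decide

theorem mem_jV4 : ∀ x, dihChar (-1) (-1) x = 1 ↔ ∃ y, jV4 y = x := by decide

/-- `ℤˣ` as the cyclic group of order two -/
def unitsEquiv : ℤˣ ≃* Multiplicative (ZMod 2) where
  toFun u := if u = 1 then 1 else Multiplicative.ofAdd 1
  invFun x := if x = 1 then 1 else -1
  left_inv := by decide
  right_inv := by decide
  map_mul' := by decide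

def unitsEquiv2 : ℤˣ × ℤˣ ≃* Multiplicative (ZMod 2 × ZMod 2) :=
  (unitsEquiv.prodCongr unitsEquiv).trans (MulEquiv.prodMultiplicative _ _).symm

end Abstract

section OutData

variable {ι : Type*} [Fintype ι] [DecidableEq ι] {F : Type*} [Field F] {T : FParam F}
  {S : Form T (ι → F)} [Finite F] {G : Type*} [Group G] {ρ : G →* ((ι → F) ≃ₗ[F] (ι → F))}

namespace FSetup

variable (H : FSetup S ρ)

/-- the map of the semisimilarity group to `Out` -/
noncomputable def outPhi : GammaS S →* Cfsg.Out (G ⧸ center G) :=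
  (QuotientGroup.mk' (Cfsg.Inn _)).comp H.simPhi

theorem outPhi_eq_one {γ : GammaS S} : H.outPhi γ = 1 ↔ H.simPhi γ ∈ Cfsg.Inn _ :=
  QuotientGroup.eq_one_iff _

theorem outPhi_surj (hs : Function.Surjective H.simPhi) : Function.Surjective H.outPhi :=
  (QuotientGroup.mk'_surjective _).comp hs

variable (hs : Function.Surjective H.simPhi) {e f : ι → F} (hef : S.IsHyp e f)
  (h3 : 3 ≤ Fintype.card ι) {A : Type*} [Group A] (θ : Sim S →* A) (hθ : Function.Surjective θ)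
  (hker : ∀ g, θ g = 1 ↔ H.simPsi g ∈ Cfsg.Inn _)
include hs hef h3 hθ hker

theorem out_data : ∃ (j : A →* Cfsg.Out (G ⧸ center G)) (π : Cfsg.Out (G ⧸ center G) →* (F ≃+* F)),
    Function.Injective j ∧ (∀ g, j (θ g) = H.outPhi (simIncl S g)) ∧
      (∀ γ, π (H.outPhi γ) = γ.1.right) ∧ π.ker = j.range := by
  obtain ⟨j, hj⟩ := exists_lift_of_surj θ hθ (H.outPhi.comp (simIncl S)) fun g hg =>
    H.outPhi_eq_one.2 ((hker g).1 hg)
  obtain ⟨π, hπ⟩ := exists_lift_of_surj H.outPhi (H.outPhi_surj hs) (simRight S) fun γ hγ =>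
    ((H.simPhi_mem_Inn hef h3).1 (H.outPhi_eq_one.1 hγ)).1
  refine ⟨j, π, (injective_iff_map_eq_one _).2 fun a ha => ?_, hj, hπ, ?_⟩
  · obtain ⟨g, rfl⟩ := hθ a
    rw [hj] at ha
    exact (hker g).2 (H.outPhi_eq_one.1 ha)
  · ext o
    obtain ⟨γ, rfl⟩ := H.outPhi_surj hs o
    rw [MonoidHom.mem_ker, hπ, ← MonoidHom.mem_ker, ← range_simIncl]
    refine ⟨by rintro ⟨g, rfl⟩; exact ⟨θ g, hj g⟩, ?_⟩
    rintro ⟨a, ha⟩
    obtain ⟨g, rfl⟩ := hθ a
    rw [range_simIncl, MonoidHom.mem_ker, ← hπ, ← ha, hj, MonoidHom.comp_apply, hπ,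
      ← MonoidHom.mem_ker, ← range_simIncl]
    exact ⟨g, rfl⟩

theorem card_out (hr : Function.Surjective (simRight S)) :
    Nat.card (Cfsg.Out (G ⧸ center G)) = Nat.card A * Nat.card (F ≃+* F) := by
  obtain ⟨j, π, hj, -, hπ, hk⟩ := H.out_data hs hef h3 θ hθ hker
  rw [card_out_of (φ := π) fun σ => by obtain ⟨γ, rfl⟩ := hr σ; exact ⟨_, hπ γ⟩, hk, mul_comm,
    ← Nat.card_congr (MonoidHom.ofInjective hj).toEquiv]

theorem out_prod (y : GammaS S) (hy : ∀ σ, σ ∈ zpowers y.1.right)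
    (hy1 : H.outPhi y ^ orderOf y.1.right = 1)
    (hc : ∀ g, ∃ g', simIncl S g' = y * simIncl S g * y⁻¹ ∧ θ g' = θ g) :
    Nonempty (Cfsg.Out (G ⧸ center G) ≃* A × (F ≃+* F)) := by
  obtain ⟨j, π, hj, hjθ, hπ, hk⟩ := H.out_data hs hef h3 θ hθ hker
  let s := monoidHomOfForallMemZpowers hy (orderOf_dvd_of_pow_eq_one hy1)
  have hs1 : s y.1.right = H.outPhi y := monoidHomOfForallMemZpowers_apply_gen _ _
  refine prod_of_section j hj π hk s (fun c => ?_) fun a c => ?_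
  · obtain ⟨n, rfl⟩ := mem_zpowers_iff.1 (hy c)
    rw [map_zpow, hs1, map_zpow, hπ]
  · obtain ⟨n, rfl⟩ := mem_zpowers_iff.1 (hy c)
    obtain ⟨g, rfl⟩ := hθ a
    rw [map_zpow, hs1]
    refine Commute.zpow_right ?_ n
    obtain ⟨g', h1, h2⟩ := hc g
    have := hjθ g'
    rw [h2, h1, map_mul, map_mul, map_inv, ← hjθ, eq_mul_inv_iff_mul_eq] at this
    exact this

theorem out_gen (x : GammaS S) (hx : ∀ σ, σ ∈ zpowers x.1.right) (o : Cfsg.Out (G ⧸ center G)) :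
    ∃ (g : Sim S) (n : ℤ), o = H.outPhi (simIncl S g) * H.outPhi x ^ n := by
  obtain ⟨γ, rfl⟩ := H.outPhi_surj hs o
  obtain ⟨n, hn⟩ := mem_zpowers_iff.1 (hx γ.1.right)
  obtain ⟨g, hg⟩ : γ * (x ^ n)⁻¹ ∈ (simIncl S).range := by
    rw [range_simIncl, MonoidHom.mem_ker, map_mul, map_inv, map_zpow]
    exact mul_inv_eq_one.2 hn.symm
  exact ⟨g, n, by rw [hg, ← map_zpow, ← map_mul, inv_mul_cancel_right]⟩

end FSetup

end OutData

variable {F : Type*} [Field F] [Finite F]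

section Theta

variable {ι : Type*} [Fintype ι] [DecidableEq ι] {S : Form (orthParam F) (ι → F)} [Nonempty ι]

/-- the scalar `-1` -/
abbrev negG (ι : Type*) [Fintype ι] [DecidableEq ι] (F : Type*) [Field F] : GL ι F :=
  GeneralLinearGroup.scalar ι (-1 : Fˣ)

omit [Finite F] [Nonempty ι] in
theorem scalar_mul_mul (c d : Fˣ) (g h : GL ι F) : GeneralLinearGroup.scalar ι c * g *
    (GeneralLinearGroup.scalar ι d * h) = GeneralLinearGroup.scalar ι (c * d) * (g * h) := by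
  rw [map_mul, mul_assoc, mul_assoc, ← mul_assoc g, ← scalar_comm, mul_assoc]

/-- scalars times `Ω` -/
def KO (hS : S.Nondeg) (hG : GenC F ι) : Subgroup (Sim S) where
  carrier := {g | ∃ (c : Fˣ), ∃ h ∈ OG S, dkG h = 1 ∧ spG S h = 1 ∧
    (g : GL ι F) = GeneralLinearGroup.scalar ι c * h}
  mul_mem' := by
    rintro a b ⟨c, h, hh, h1, h2, h3⟩ ⟨c', h', hh', h1', h2', h3'⟩
    refine ⟨c * c', h * h', mul_mem hh hh', ?_, ?_, ?_⟩
    · rw [dkG_mul hS hG hh hh', h1, h1', mul_one]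
    · rw [spG_mul hS hh hh', h2, h2', mul_one]
    · rw [Subgroup.coe_mul, h3, h3', scalar_mul_mul]
  one_mem' := ⟨1, 1, one_mem _, dkG_one, spG_one hS, by simp⟩
  inv_mem' := by
    rintro a ⟨c, h, hh, h1, h2, h3⟩
    refine ⟨c⁻¹, h⁻¹, inv_mem hh, by rw [dkG_inv hS hG hh, h1], by rw [spG_inv hS hh, h2], ?_⟩
    rw [Subgroup.coe_inv, h3, _root_.mul_inv_rev, ← map_inv, scalar_comm]

variable (hS : S.Nondeg) (hG : GenC F ι)

theorem mem_KO {g : Sim S} : g ∈ KO hS hG ↔ ∃ (c : Fˣ), ∃ h ∈ OG S, dkG h = 1 ∧ spG S h = 1 ∧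
    (g : GL ι F) = GeneralLinearGroup.scalar ι c * h := Iff.rfl

theorem scalar_mem_KO (c : Fˣ) : (⟨_, scalar_mem_Sim c⟩ : Sim S) ∈ KO hS hG :=
  ⟨c, 1, one_mem _, dkG_one, spG_one hS, (mul_one _).symm⟩

theorem conjS_mem_KO (γ : GammaS S) {g : Sim S} (hg : g ∈ KO hS hG) : conjS γ g ∈ KO hS hG := by
  obtain ⟨c, h, hh, h1, h2, h3⟩ := hg
  obtain ⟨k1, k2, k3⟩ := conjG_OG hS hG γ.2.choose_spec h hh
  exact ⟨_, _, k1, k2.trans h1, by rw [k3, h1, h2, tw_one, mul_one], by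
    rw [coe_conjS, h3, map_mul, conjG_scalar]⟩

omit [Nonempty ι] in
theorem conjS_mul (a b : GammaS S) (g : Sim S) : conjS (a * b) g = conjS a (conjS b g) :=
  simIncl_inj (by simp only [simIncl_conjS]; group)

omit [Nonempty ι] in
theorem conjS_one (g : Sim S) : conjS 1 g = g := simIncl_inj (by simp only [simIncl_conjS]; group)

theorem conjS_mem_KO_iff (γ : GammaS S) {g : Sim S} : conjS γ g ∈ KO hS hG ↔ g ∈ KO hS hG :=
  ⟨fun h => by
    have := conjS_mem_KO hS hG γ⁻¹ h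
    rwa [← conjS_mul, inv_mul_cancel, conjS_one] at this, conjS_mem_KO hS hG γ⟩

instance KO_normal : (KO hS hG).Normal :=
  ⟨fun g hg m => conjS_simIncl m g ▸ conjS_mem_KO hS hG _ hg⟩

include hS in
theorem OG_cases {c c' : Fˣ} {h h' : GL ι F} (hh : h ∈ OG S) (hh' : h' ∈ OG S)
    (e : GeneralLinearGroup.scalar ι c * h = GeneralLinearGroup.scalar ι c' * h') :
    h' = h ∨ h' = negG ι F * h := by
  have hm : GeneralLinearGroup.scalar ι c * h ∈ Sim S := mul_mem (scalar_mem_Sim c) (OG_le_Sim hh)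
  have h1 := (simMult_scalar_mul hS (g := ⟨_, hm⟩) hh rfl).symm.trans
    (simMult_scalar_mul hS (g := ⟨_, hm⟩) hh' e)
  rcases sq_eq_sq_iff_eq_or_eq_neg.1 (by exact_mod_cast congrArg Units.val h1 : (c : F) ^ 2 = c' ^ 2)
    with h2 | h2
  · rw [Units.ext h2, mul_right_inj] at e
    exact Or.inl e.symm
  · rw [show c = c' * -1 from Units.ext (by simpa using h2), map_mul, mul_assoc, mul_right_inj] at e
    exact Or.inr e.symm

theorem smu_of_KO {g : Sim S} (hg : g ∈ KO hS hG) : smu hS g = 1 := by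
  obtain ⟨c, h, hh, -, -, h3⟩ := hg
  exact (smu_eq_one_iff hS).2 ⟨c, h, hh, h3⟩

theorem sdk_of_KO {k : ℕ} (hk : Fintype.card ι = 2 * k) {g : Sim S} (hg : g ∈ KO hS hG) :
    sdk hS hG hk g = 1 := by
  obtain ⟨c, h, hh, h1, -, h3⟩ := hg
  exact (sdk_eq hS hG hk hh h3).trans h1

omit [Finite F] [Nonempty ι] in
theorem dkG_neg (h2 : (2 : F) ≠ 0) : dkG (negG ι F) = (-1) ^ Fintype.card ι := by
  rw [dkG, glRho_neg_one, dk_neg h2, finrank_of_card rfl]

omit [Nonempty ι] in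
theorem spG_neg_iff [Fintype F] (hS : S.Nondeg) (h2 : (2 : F) ≠ 0) {k : ℕ} (hk : Fintype.card ι = 2 * k) :
    spG S (negG ι F) = 1 ↔ (S.IsPlus ↔ Fintype.card F ^ k % 4 = 1) := by
  rw [← hS.neg_mem_om_iff_even h2 (finrank_of_card hk), ← glRho_neg_one,
    mem_om_iffG hS (Or.inl (gen_of_two_ne_zero h2)), dkG_neg h2, hk, pow_mul]
  simp [neg_one_mem_OG]

/-- a reflection as a similarity -/
noncomputable def rfS (S : Form (orthParam F) (ι → F)) (v : ι → F) : Sim S :=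
  ⟨rfG S v, OG_le_Sim (rfG_mem v)⟩

omit [Nonempty ι] in
theorem coe_rfS (v : ι → F) : (rfS S v : GL ι F) = rfG S v := rfl

omit [Nonempty ι] in
theorem rfS_mul_self (v : ι → F) : rfS S v * rfS S v = 1 := Subtype.ext (rfG_mul_self v)

theorem smu_rfS (v : ι → F) : smu hS (rfS S v) = 1 := smu_OG hS (rfG_mem v)

theorem sdk_rfS {k : ℕ} (hk : Fintype.card ι = 2 * k) {v : ι → F} (hv : S.Q v ≠ 0) :
    sdk hS hG hk (rfS S v) = -1 := sdk_rf hS hG hk hv

include hS in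
theorem sdk_surj {k : ℕ} (hk : Fintype.card ι = 2 * k) : Function.Surjective (sdk hS hG hk) := by
  obtain ⟨v, hv⟩ := hS.exists_Q_ne
  intro s
  rcases Int.units_eq_one_or s with rfl | rfl
  · exact ⟨1, map_one _⟩
  · exact ⟨_, sdk_rf hS hG hk hv⟩

/-- characteristic two -/
theorem mem_KO_two (h2 : (2 : F) = 0) {k : ℕ} (hk : Fintype.card ι = 2 * k) {g : Sim S} :
    g ∈ KO hS hG ↔ sdk hS hG hk g = 1 := by
  refine ⟨sdk_of_KO hS hG hk, fun h1 => ?_⟩
  obtain ⟨c, h, hh, hg⟩ := (smu_eq_one_iff hS).1 (smu_of_two hS h2 g)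
  exact ⟨c, h, hh, (sdk_eq hS hG hk hh hg).symm.trans h1, spG_of_two hS hG h2 hh, hg⟩

/-- `-1 ∉ Ω` -/
theorem mem_KO_klein (h2 : (2 : F) ≠ 0) {k : ℕ} (hk : Fintype.card ι = 2 * k)
    (hn : spG S (negG ι F) ≠ 1) {g : Sim S} : g ∈ KO hS hG ↔ smu hS g = 1 ∧ sdk hS hG hk g = 1 := by
  refine ⟨fun h => ⟨smu_of_KO hS hG h, sdk_of_KO hS hG hk h⟩, fun ⟨h0, h1⟩ => ?_⟩
  obtain ⟨c, h, hh, hg⟩ := (smu_eq_one_iff hS).1 h0
  rw [sdk_eq hS hG hk hh hg] at h1
  rcases Int.units_eq_one_or (spG S h) with h3 | h3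
  · exact ⟨c, h, hh, h1, h3, hg⟩
  refine ⟨-c, negG ι F * h, mul_mem neg_one_mem_OG hh, ?_, ?_, ?_⟩
  · rw [dkG_mul hS hG neg_one_mem_OG hh, dkG_neg h2, h1, hk, pow_mul]; simp
  · rw [spG_mul hS neg_one_mem_OG hh, h3, (Int.units_eq_one_or _).resolve_left hn]; simp
  · rw [hg, ← mul_assoc, ← map_mul]; simp

theorem klein_surj (h2 : (2 : F) ≠ 0) {k : ℕ} (hk : Fintype.card ι = 2 * k) :
    Function.Surjective ((smu hS).prod (sdk hS hG hk)) := by
  rintro ⟨s, t⟩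
  obtain ⟨l, hl, hl'⟩ := exists_chi_eq h2 s
  obtain ⟨g, hg⟩ := smu_surj hS ⟨k, by rw [hk, two_mul]⟩ (Units.mk0 l hl)
  have h1 : smu hS g = s := by rw [smu_apply, hg]; exact hl'
  obtain ⟨v, hv⟩ := hS.exists_Q_ne
  by_cases h : sdk hS hG hk g = t
  · exact ⟨g, Prod.ext h1 h⟩
  refine ⟨rfS S v * g, Prod.ext ?_ ?_⟩
  · simp only [MonoidHom.prod_apply, map_mul, Prod.fst_mul, Prod.snd_mul]
    rw [smu_rfS, h1, one_mul]
  · simp only [MonoidHom.prod_apply, map_mul, Prod.fst_mul, Prod.snd_mul]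
    rw [sdk_rfS hS hG hk hv, neg_one_mul]
    exact (Int.units_ne_iff_eq_neg.1 (Ne.symm h)).symm

/-- `-1 ∈ Ω` -/
theorem mem_KO_d8 (h2 : (2 : F) ≠ 0) {k : ℕ} (hk : Fintype.card ι = 2 * k)
    (hn : spG S (negG ι F) = 1) {g : Sim S} {c : Fˣ} {h : GL ι F} (hh : h ∈ OG S)
    (hg : (g : GL ι F) = GeneralLinearGroup.scalar ι c * h) :
    g ∈ KO hS hG ↔ dkG h = 1 ∧ spG S h = 1 := by
  refine ⟨fun ⟨c', h', hh', h1, h3, hg'⟩ => ?_, fun ⟨h1, h3⟩ => ⟨c, h, hh, h1, h3, hg⟩⟩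
  rcases OG_cases hS hh' hh (hg'.symm.trans hg) with rfl | rfl
  · exact ⟨h1, h3⟩
  · rw [dkG_mul hS hG neg_one_mem_OG hh', spG_mul hS neg_one_mem_OG hh', hn, h1, h3, dkG_neg h2, hk,
      pow_mul]
    simp

/-- odd dimension -/
theorem exists_theta_odd (ho : Odd (Fintype.card ι)) (h1 : 2 ≤ Fintype.card ι) :
    ∃ θ : Sim S →* ℤˣ, Function.Surjective θ ∧ (∀ g, θ g = 1 ↔ g ∈ KO hS hG) ∧
      ∀ (g : Sim S) (c : Fˣ), ∀ h ∈ OG S, dkG h = 1 →
        (g : GL ι F) = GeneralLinearGroup.scalar ι c * h → θ g = spG S h := by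
  have h2 : (2 : F) ≠ 0 := hS.two_ne_zero_of_odd (by rwa [finrank_of_card rfl])
  have hn : dkG (negG ι F) = -1 := by rw [dkG_neg h2, ho.neg_one_pow]
  have ex : ∀ g : Sim S, ∃ (c : Fˣ), ∃ h ∈ OG S, dkG h = 1 ∧
      (g : GL ι F) = GeneralLinearGroup.scalar ι c * h := fun g => by
    obtain ⟨c, h, hh, hg⟩ := (smu_eq_one_iff hS).1 (smu_odd hS ho g)
    rcases Int.units_eq_one_or (dkG h) with h3 | h3
    · exact ⟨c, h, hh, h3, hg⟩
    refine ⟨-c, negG ι F * h, mul_mem neg_one_mem_OG hh, ?_, ?_⟩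
    · rw [dkG_mul hS hG neg_one_mem_OG hh, hn, h3]; simp
    · rw [hg, ← mul_assoc, ← map_mul]; simp
  choose c h hh hd hg using ex
  have key : ∀ (g : Sim S) (c' : Fˣ), ∀ h' ∈ OG S, dkG h' = 1 →
      (g : GL ι F) = GeneralLinearGroup.scalar ι c' * h' → h g = h' := fun g c' h' hh' hd' hg' => by
    rcases OG_cases hS hh' (hh g) (hg'.symm.trans (hg g)) with e | e
    · exact e
    · have := hd g
      rw [e, dkG_mul hS hG neg_one_mem_OG hh', hn, hd'] at this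
      exact absurd this (by decide)
  let θ : Sim S →* ℤˣ := MonoidHom.mk' (fun g => spG S (h g)) fun a b => by
    rw [key (a * b) (c a * c b) _ (mul_mem (hh a) (hh b)) (by rw [dkG_mul hS hG (hh a) (hh b), hd, hd, mul_one])
      (by rw [Subgroup.coe_mul, hg a, hg b, scalar_mul_mul]), spG_mul hS (hh a) (hh b)]
  have hθ : ∀ (g : Sim S) (c' : Fˣ), ∀ h' ∈ OG S, dkG h' = 1 →
      (g : GL ι F) = GeneralLinearGroup.scalar ι c' * h' → θ g = spG S h' := fun g c' h' hh' hd' hg' =>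
    congrArg (spG S) (key g c' h' hh' hd' hg')
  refine ⟨θ, fun s => ?_, fun g => ⟨fun h1 => ⟨c g, h g, hh g, hd g, h1, hg g⟩, ?_⟩, hθ⟩
  · obtain ⟨⟨t, ht⟩, e⟩ := hS.prod_surjective h2 (by rwa [finrank_of_card rfl]) (1, s)
    have hm : glRho.symm t ∈ OG S := by rw [mem_OG, MulEquiv.apply_symm_apply]; exact ht
    refine ⟨⟨_, OG_le_Sim hm⟩, (hθ _ 1 _ hm ?_ (by simp)).trans ?_⟩
    · rw [dkG, MulEquiv.apply_symm_apply]; exact congrArg Prod.fst e
    · rw [spG, MulEquiv.apply_symm_apply]; exact congrArg Prod.snd e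
  · rintro ⟨c', h', hh', hd', h3, hg'⟩
    exact (hθ g c' h' hh' hd' hg').trans h3

theorem exists_theta_d8 (h2 : (2 : F) ≠ 0) {k : ℕ} (hk : Fintype.card ι = 2 * k)
    (hn : spG S (negG ι F) = 1) {v : ι → F} (hv : S.Q v ≠ 0) :
    ∃ θ : Sim S →* DihedralGroup 4, Function.Surjective θ ∧ (∀ g, θ g = 1 ↔ g ∈ KO hS hG) ∧
      θ (rfS S v) = .sr 0 ∧ (∀ g, smu hS g = dihChar (-1) 1 (θ g)) ∧
      ∀ g, sdk hS hG hk g = dihChar ((-1) ^ (k + 1)) (-1) (θ g) := by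
  obtain ⟨l, hl, hl'⟩ := exists_chi_eq_neg_one h2
  obtain ⟨a, ha1, ha2, ha3⟩ := exists_sim_invol hS hG hk h2 (Units.mk0 l hl)
  have hμ : smu hS a = -1 := by rw [smu_apply, ha1]; exact hl'
  let π := QuotientGroup.mk' (KO hS hG)
  have hπ : ∀ g, π g = 1 ↔ g ∈ KO hS hG := fun g => QuotientGroup.eq_one_iff g
  set r : Sim S := rfS S v
  have hr : (r : GL ι F) = rfG S v := rfl
  have hOG : ∀ {g : Sim S}, (g : GL ι F) ∈ OG S → (π g = 1 ↔ dkG (g : GL ι F) = 1 ∧ spG S (g : GL ι F) = 1) :=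
    fun {g} hg => (hπ g).trans (mem_KO_d8 hS hG h2 hk hn (c := 1) hg (by simp))
  have hr2 : r * r = 1 := rfS_mul_self v
  have hR : orderOf (π r) = 2 := CfsgH2.orderOf_two_of (by rw [← map_mul, hr2, map_one]) fun h => by
    have := ((hOG (hr ▸ rfG_mem v)).1 h).1
    rw [hr, dkG_rf hS hv] at this
    exact absurd this (by decide)
  have hA2 : π a * π a = 1 := by rw [← map_mul, ha2, hπ]; exact scalar_mem_KO hS hG _
  have hA : orderOf (π a) = 2 := CfsgH2.orderOf_two_of hA2 fun h => by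
    have := smu_of_KO hS hG ((hπ a).1 h)
    rw [hμ] at this
    exact absurd this (by decide)
  have hμr : smu hS r = 1 := smu_rfS hS v
  have hne : π r ≠ π a := fun h => by
    have := smu_of_KO hS hG ((hπ (r⁻¹ * a)).1 (by rw [map_mul, map_inv, h, inv_mul_cancel]))
    rw [map_mul, map_inv, hμ, hμr] at this
    exact absurd this (by decide)
  have hI := CfsgH2.idx2_invol hR hA hne
  have hw : S.Q ((a : GL ι F).1 *ᵥ v) = l * S.Q v := by
    have := (simMult_spec hS a).Q v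
    rw [ha1] at this
    exact this
  have hw0 : S.Q ((a : GL ι F).1 *ᵥ v) ≠ 0 := by rw [hw]; exact mul_ne_zero hl hv
  have hr' : ((a * r * a⁻¹ : Sim S) : GL ι F) = rfG S ((a : GL ι F).1 *ᵥ v) := by
    have := conjG_rf (simMult_spec hS a) v
    rwa [conjG_inl] at this
  have hz : ((r * (a * r * a⁻¹) : Sim S) : GL ι F) ∈ OG S := by
    rw [Subgroup.coe_mul, hr']; exact mul_mem (rfG_mem v) (rfG_mem _)
  have hzd : dkG ((r * (a * r * a⁻¹) : Sim S) : GL ι F) = 1 := by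
    rw [Subgroup.coe_mul, hr', hr, dkG_mul hS hG (rfG_mem v) (rfG_mem _), dkG_rf hS hv, dkG_rf hS hw0]; simp
  have hzs : spG S ((r * (a * r * a⁻¹) : Sim S) : GL ι F) = -1 := by
    rw [Subgroup.coe_mul, hr', hr, spG_mul hS (rfG_mem v) (rfG_mem _), spG_rf hS hv, spG_rf hS hw0, hw,
      chi_mul hl hv, hl', mul_left_comm, Int.units_mul_self, mul_one]
  have hsq : (π r * π a) ^ 2 = π (r * (a * r * a⁻¹)) := by
    rw [map_mul, map_mul, map_mul, map_inv, CfsgH2.inv_eq_of_mul_self hA2, sq]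
    simp only [mul_assoc]
  have hsame : ∀ {g h : Sim S}, (g : GL ι F) ∈ OG S → (h : GL ι F) ∈ OG S →
      dkG (g : GL ι F) = dkG (h : GL ι F) → spG S (g : GL ι F) = spG S (h : GL ι F) → π g = π h :=
    fun {g h} hg hh e1 e2 => by
      rw [← mul_inv_eq_one, ← map_inv, ← map_mul, hOG (g := g * h⁻¹) (mul_mem hg (inv_mem hh)),
        Subgroup.coe_mul,
        Subgroup.coe_inv, dkG_mul hS hG hg (inv_mem hh), spG_mul hS hg (inv_mem hh), dkG_inv hS hG hh,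
        spG_inv hS hh, e1, e2]
      simp
  have ho : orderOf (π r * π a) = 2 ^ (1 + 1) := orderOf_eq_prime_pow (by
    rw [pow_one, hsq, hOG hz, hzs]; exact fun h => absurd h.2 (by decide)) (by
    rw [pow_succ, pow_mul, pow_one, hsq, ← map_pow, sq,
      hOG (g := r * (a * r * a⁻¹) * (r * (a * r * a⁻¹))) (mul_mem hz hz), Subgroup.coe_mul,
      dkG_mul hS hG hz hz, spG_mul hS hz hz]
    simp)
  have h4 : (π r * π a) ^ 4 = 1 := by rw [← pow_orderOf_eq_one (π r * π a), ho]; rfl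
  have hgen : ∀ g, π g ∈ closure {π r, π a} := by
    have hr0 : π r ∈ closure {π r, π a} := subset_closure (by simp)
    have ha0 : π a ∈ closure {π r, π a} := subset_closure (by simp)
    have k1 : ∀ h (hh : h ∈ OG S), π ⟨h, OG_le_Sim hh⟩ ∈ closure {π r, π a} := by
      have := OG_induction hS hG (P := fun h => ∀ hh : h ∈ OG S,
        π ⟨h, OG_le_Sim hh⟩ ∈ closure {π r, π a}) (fun _ => by
          change π 1 ∈ _; rw [map_one]; exact one_mem _) fun w hw g hg ih _ => by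
        change π (rfS S w * ⟨g, OG_le_Sim hg⟩) ∈ _
        rw [map_mul]
        refine mul_mem ?_ (ih hg)
        by_cases hc : chi (S.Q w) = chi (S.Q v)
        · rw [hsame (g := rfS S w) (h := r) (rfG_mem w) (rfG_mem v) (by rw [hr, coe_rfS, dkG_rf hS hw, dkG_rf hS hv])
            (by rw [hr, coe_rfS, spG_rf hS hw, spG_rf hS hv, hc])]
          exact hr0
        · rw [hsame (g := rfS S w) (h := a * r * a⁻¹) (rfG_mem w) (hr' ▸ rfG_mem _)
            (by rw [hr', coe_rfS, dkG_rf hS hw, dkG_rf hS hw0]) (by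
              rw [hr', coe_rfS, spG_rf hS hw, spG_rf hS hw0, ‹S.Q (_ *ᵥ v) = _›, chi_mul hl hv, hl', neg_one_mul]
              exact Int.units_ne_iff_eq_neg.1 hc), map_mul, map_mul, map_inv]
          exact mul_mem (mul_mem ha0 hr0) (inv_mem ha0)
      exact fun h hh => this h hh hh
    have k2 : ∀ g, smu hS g = 1 → π g ∈ closure {π r, π a} := fun g hg => by
      obtain ⟨c, h, hh, e⟩ := (smu_eq_one_iff hS).1 hg
      rw [show g = ⟨_, scalar_mem_Sim c⟩ * ⟨h, OG_le_Sim hh⟩ from Subtype.ext e, map_mul,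
        (hπ _).2 (scalar_mem_KO hS hG c), one_mul]
      exact k1 h hh
    intro g
    rcases Int.units_eq_one_or (smu hS g) with h | h
    · exact k2 g h
    · rw [← mul_inv_cancel_left a g, map_mul]
      exact mul_mem ha0 (k2 _ (by rw [map_mul, map_inv, h, hμ]; simp))
  have hb : π r * π r = 1 := by rw [← map_mul, hr2, map_one]
  have hc : π r * (π r * π a) * (π r)⁻¹ = (π r * π a)⁻¹ := CfsgH2.invol_inverts hb hA2
  let d := CfsgH2.dihHom h4 hb hc
  have hd : Function.Bijective d := by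
    have hs : Function.Surjective d := fun x => by
      obtain ⟨g, rfl⟩ := QuotientGroup.mk'_surjective _ x
      obtain ⟨i, hi | hi⟩ := (hI.mem _).1 (hgen g)
      · exact ⟨_, (CfsgH2.dihHom_r h4 hb hc i).trans hi.symm⟩
      · refine ⟨_, (CfsgH2.dihHom_sr h4 hb hc (-i)).trans ?_⟩
        rw [← CfsgH2.zpow_mul_of_inv hc]
        exact hi.symm
    refine hs.bijective_of_nat_card_le ?_
    have h1 := hI.card
    rw [ho] at h1
    rw [DihedralGroup.nat_card]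
    exact h1.symm.le.trans (Subgroup.card_le_card_group _)
  let e := MulEquiv.ofBijective d hd
  let θ : Sim S →* DihedralGroup 4 := e.symm.toMonoidHom.comp π
  have hθ : ∀ g x, d x = π g → θ g = x := fun g x h => e.symm_apply_eq.2 h.symm
  have hs : Function.Surjective θ := e.symm.surjective.comp (QuotientGroup.mk'_surjective _)
  have hk1 : ∀ g, θ g = 1 ↔ g ∈ KO hS hG := fun g => by
    rw [← hπ]; exact map_eq_one_iff _ e.symm.injective
  have t1 : θ r = .sr 0 := hθ _ _ (by simpa using CfsgH2.dihHom_sr h4 hb hc 0)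
  have t2 : θ (r * a) = .r 1 := hθ _ _ (by simpa using CfsgH2.dihHom_r h4 hb hc 1)
  have hch : ∀ (χ : Sim S →* ℤˣ) (s t : ℤˣ), (∀ g ∈ KO hS hG, χ g = 1) → χ (r * a) = s → χ r = t →
      ∀ g, χ g = dihChar s t (θ g) := fun χ s t h1 h2 h3 g => by
    obtain ⟨δ, hδ⟩ := exists_lift_of_surj θ hs χ fun g hg => h1 g ((hk1 g).1 hg)
    rw [← hδ, dih_hom_ext (f := δ) (g := dihChar s t) (by rw [dihChar_r, ← t2, hδ, h2])
      (by rw [dihChar_sr, ← t1, hδ, h3])]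
  refine ⟨θ, hs, hk1, t1, hch _ _ _ (fun g => smu_of_KO hS hG) (by rw [map_mul, hμ, hμr, one_mul]) hμr,
    hch _ _ _ (fun g => sdk_of_KO hS hG hk) ?_ (sdk_rfS hS hG hk hv)⟩
  rw [map_mul, ha3, sdk_rfS hS hG hk hv, pow_succ']

theorem exists_alpha {A : Type*} [Group A] (θ : Sim S →* A) (hθ : Function.Surjective θ)
    (hk : ∀ g, θ g = 1 ↔ g ∈ KO hS hG) (γ : GammaS S) :
    ∃ α : A →* A, Function.Injective α ∧ ∀ g, α (θ g) = θ (conjS γ g) := by
  obtain ⟨α, hα⟩ := exists_lift_of_surj θ hθ (θ.comp (conjS γ)) fun g hg =>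
    (hk _).2 (conjS_mem_KO hS hG γ ((hk g).1 hg))
  refine ⟨α, (injective_iff_map_eq_one _).2 fun a ha => ?_, hα⟩
  obtain ⟨g, rfl⟩ := hθ a
  rw [hα] at ha
  exact (hk g).2 ((conjS_mem_KO_iff hS hG γ).1 ((hk _).1 ha))

theorem theta_units_conjS (θ : Sim S →* ℤˣ) (hk : ∀ g, θ g = 1 ↔ g ∈ KO hS hG) (γ : GammaS S)
    (g : Sim S) : θ (conjS γ g) = θ g := by
  have : θ (conjS γ g) = 1 ↔ θ g = 1 := by rw [hk, hk, conjS_mem_KO_iff]
  revert this
  generalize θ g = s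
  generalize θ (conjS γ g) = t
  revert s t
  decide

omit [Nonempty ι] in
theorem conjS_rfS (γ : GammaS S) (v : ι → F) : conjS γ (rfS S v) = rfS S (semiAct γ.1 v) :=
  Subtype.ext (conjG_rf γ.2.choose_spec v)

/-- the quotient of the class-preserving similarities in the dihedral case -/
theorem exists_theta_plus_d8 (h2 : (2 : F) ≠ 0) {k : ℕ} (hk : Fintype.card ι = 2 * k)
    (hn : spG S (negG ι F) = 1) :
    (Odd k → ∃ θ : (sdk hS hG hk).ker →* Multiplicative (ZMod 4), Function.Surjective θ ∧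
      ∀ g, θ g = 1 ↔ g.1 ∈ KO hS hG) ∧
    (Even k → ∃ θ : (sdk hS hG hk).ker →* Multiplicative (ZMod 2 × ZMod 2), Function.Surjective θ ∧
      ∀ g, θ g = 1 ↔ g.1 ∈ KO hS hG) := by
  obtain ⟨v, hv⟩ := hS.exists_Q_ne
  obtain ⟨θ, h1, h3, -, -, h4⟩ := exists_theta_d8 hS hG h2 hk hn hv
  have key : ∀ {B : Type} [Group B] (j : B →* DihedralGroup 4), Function.Injective j →
      (∀ x, dihChar ((-1) ^ (k + 1)) (-1) x = 1 ↔ ∃ y, j y = x) →
      ∃ θ : (sdk hS hG hk).ker →* B, Function.Surjective θ ∧ ∀ g, θ g = 1 ↔ g.1 ∈ KO hS hG :=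
    fun j hj hm => by
      obtain ⟨θ', h⟩ := exists_factor (θ.comp (sdk hS hG hk).ker.subtype) j hj fun l =>
        (hm _).1 ((h4 _).symm.trans l.2)
      refine ⟨θ', fun b => ?_, fun g => by rw [← h3, ← map_eq_one_iff _ hj, h]; rfl⟩
      obtain ⟨g, hg⟩ := h1 (j b)
      exact ⟨⟨g, (h4 g).trans ((hm _).2 ⟨b, hg.symm⟩)⟩, hj ((h _).trans hg)⟩
  refine ⟨fun ho => key _ jC4_inj ?_, fun he => key _ jV4_inj ?_⟩
  · rw [ho.add_one.neg_one_pow]; exact mem_jC4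
  · rw [he.add_one.neg_one_pow]; exact mem_jV4

theorem exists_theta_plus_klein (h2 : (2 : F) ≠ 0) {k : ℕ} (hk : Fintype.card ι = 2 * k)
    (hn : spG S (negG ι F) ≠ 1) :
    Function.Surjective ((smu hS).comp (sdk hS hG hk).ker.subtype) ∧
      ∀ g, (smu hS).comp (sdk hS hG hk).ker.subtype g = 1 ↔ g.1 ∈ KO hS hG := by
  refine ⟨fun s => ?_, fun g => ?_⟩
  · obtain ⟨g, hg⟩ := klein_surj hS hG h2 hk (s, 1)
    exact ⟨⟨g, congrArg Prod.snd hg⟩, congrArg Prod.fst hg⟩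
  · rw [mem_KO_klein hS hG h2 hk hn]; exact (and_iff_left g.2).symm

end Theta

section Bridge

variable {ι : Type} [Fintype ι] [DecidableEq ι] [Nonempty ι] {S : Form (orthParam F) (ι → F)}
  {Q : (ι → F) → F} (hQ : ∀ v, S.Q v = Q v) (hS : S.Nondeg) (h5 : 5 ≤ Fintype.card ι)

theorem o_mem_Inn' (g : Sim S) :
    (fsetup_o hQ hS h5).simPsi g ∈ Cfsg.Inn _ ↔ g ∈ KO hS (genC_of h5) := o_mem_Inn hQ hS h5 g

variable (hs : Function.Surjective (fsetup_o hQ hS h5).simPhi)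
include hs

theorem o_card_out {A : Type*} [Group A] (θ : Sim S →* A) (hθ : Function.Surjective θ)
    (hk : ∀ g, θ g = 1 ↔ g ∈ KO hS (genC_of h5)) :
    Nat.card (Cfsg.Out (Cfsg.POmega F Q)) = Nat.card A * Nat.card (F ≃+* F) := by
  obtain ⟨e, f, hef⟩ := o_hyp hS h5
  exact (fsetup_o hQ hS h5).card_out hs hef (by omega) θ hθ
    (fun g => (hk g).trans (o_mem_Inn' hQ hS h5 g).symm) (simRight_surj hS)

theorem o_out_prod {A : Type*} [Group A] (θ : Sim S →* A) (hθ : Function.Surjective θ)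
    (hk : ∀ g, θ g = 1 ↔ g ∈ KO hS (genC_of h5)) (y : GammaS S) (hy : ∀ σ, σ ∈ zpowers y.1.right)
    (hy1 : (fsetup_o hQ hS h5).outPhi y ^ orderOf y.1.right = 1) (hc : ∀ g, θ (conjS y g) = θ g) :
    Nonempty (Cfsg.Out (Cfsg.POmega F Q) ≃* A × (F ≃+* F)) := by
  obtain ⟨e, f, hef⟩ := o_hyp hS h5
  exact (fsetup_o hQ hS h5).out_prod hs hef (by omega) θ hθ
    (fun g => (hk g).trans (o_mem_Inn' hQ hS h5 g).symm) y hy hy1
    fun g => ⟨_, simIncl_conjS y g, hc g⟩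

theorem o_out_inr {A : Type*} [Group A] (θ : Sim S →* A) (hθ : Function.Surjective θ)
    (hk : ∀ g, θ g = 1 ↔ g ∈ KO hS (genC_of h5)) (hi : ∀ σ, SemidirectProduct.inr σ ∈ GammaS S)
    (hc : ∀ y g, θ (conjS y g) = θ g) : Nonempty (Cfsg.Out (Cfsg.POmega F Q) ≃* A × (F ≃+* F)) := by
  obtain ⟨σ, hσ⟩ := (isCyclic_ringAut (F := F)).exists_generator
  refine o_out_prod hQ hS h5 hs θ hθ hk ⟨_, hi σ⟩ hσ ?_ (hc _)
  rw [← map_pow, SemidirectProduct.right_inr, show (⟨_, hi σ⟩ : GammaS S) ^ orderOf σ = 1 from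
    Subtype.ext (by rw [SubmonoidClass.coe_pow, ← map_pow, pow_orderOf_eq_one, map_one]; rfl), map_one]

theorem o_out_d8_inr (h2 : (2 : F) ≠ 0) {k : ℕ} (hk : Fintype.card ι = 2 * k)
    (hn : spG S (negG ι F) = 1) (hi : ∀ σ, SemidirectProduct.inr σ ∈ GammaS S) {v : ι → F}
    (hv : S.Q v ≠ 0) (hv' : ∀ (σ : F ≃+* F) i, σ (v i) = v i) :
    Nonempty (Cfsg.Out (Cfsg.POmega F Q) ≃* DihedralGroup 4 × (F ≃+* F)) := by
  obtain ⟨σ, hσ⟩ := (isCyclic_ringAut (F := F)).exists_generator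
  obtain ⟨θ, h1, h3, h4, -, -⟩ := exists_theta_d8 hS (genC_of h5) h2 hk hn hv
  set y : GammaS S := ⟨_, hi σ⟩
  have hy : y ^ orderOf σ = 1 := Subtype.ext (by
    rw [SubmonoidClass.coe_pow, ← map_pow, pow_orderOf_eq_one, map_one]; rfl)
  obtain ⟨α, hα, hα'⟩ := exists_alpha hS (genC_of h5) θ h1 h3 y
  have hr : conjS y (rfS S v) = rfS S v := by
    rw [conjS_rfS, semiAct_inr, funext (hv' σ)]
  have h5' : α (.sr 0) = .sr 0 := by rw [← h4, hα', hr]
  have h6 : ∀ u : DihedralGroup 4, u ^ 2 ≠ 1 → u = .r 1 ∨ u = .r 3 := by decide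
  rcases h6 (α (.r 1)) (by rw [← map_pow, Ne, map_eq_one_iff _ hα]; decide) with h | h
  · refine o_out_prod hQ hS h5 hs θ h1 h3 y hσ (by rw [← map_pow]; exact hy ▸ map_one _) fun g => ?_
    rw [← hα', dih_hom_ext (f := α) (g := MonoidHom.id _) h h5']
    rfl
  have h7 : α = (MulAut.conj (DihedralGroup.sr 0 : DihedralGroup 4)).toMonoidHom :=
    dih_hom_ext (h.trans (by decide)) (h5'.trans (by decide))
  have h8 : Even (orderOf σ) := by
    by_contra ho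
    obtain ⟨j, hj⟩ := Nat.not_even_iff_odd.1 ho
    have : ∀ n g, θ (conjS (y ^ (2 * n)) g) = θ g := fun n g => by
      induction n with
      | zero => rw [mul_zero, pow_zero, conjS_one]
      | succ n ih =>
        rw [mul_add, add_comm, pow_add, mul_one, sq, conjS_mul, conjS_mul, ← hα', ← hα', ih, h7]
        generalize θ g = x
        revert x
        decide
    obtain ⟨g, hg⟩ := h1 (.r 1)
    have h9 := this j (conjS y g)
    rw [← conjS_mul, ← pow_succ, ← hj, hy, conjS_one, ← hα', hg, h] at h9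
    exact absurd h9 (by decide)
  have hcm : Commute (simIncl S (rfS S v)) y := by
    have := simIncl_conjS y (rfS S v)
    rw [hr, eq_mul_inv_iff_mul_eq] at this
    exact this
  have hσ' : (simIncl S (rfS S v) * y).1.right = σ := one_mul _
  refine o_out_prod hQ hS h5 hs θ h1 h3 (simIncl S (rfS S v) * y) (hσ' ▸ hσ) ?_ fun g => ?_
  · obtain ⟨j, hj⟩ := h8
    rw [← map_pow, hσ', hcm.mul_pow, hy, mul_one, hj, ← two_mul, pow_mul, ← map_pow, sq, rfS_mul_self,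
      map_one, one_pow, map_one]
  · rw [conjS_mul, conjS_simIncl, map_mul, map_mul, map_inv, ← hα', h4, h7]
    generalize θ g = x
    revert x
    decide

theorem o_out_d8_odd (h2 : (2 : F) ≠ 0) {k : ℕ} (hk : Fintype.card ι = 2 * k)
    (hn : spG S (negG ι F) = 1) (ho : Odd (Nat.card (F ≃+* F))) :
    Nonempty (Cfsg.Out (Cfsg.POmega F Q) ≃* DihedralGroup 4 × (F ≃+* F)) := by
  obtain ⟨σ, hσ⟩ := (isCyclic_ringAut (F := F)).exists_generator
  obtain ⟨v, hv⟩ := hS.exists_Q_ne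
  obtain ⟨θ, h1, h3, -⟩ := exists_theta_d8 hS (genC_of h5) h2 hk hn hv
  obtain ⟨x, hx⟩ := simRight_surj hS σ
  rw [← orderOf_eq_card_of_forall_mem_zpowers hσ] at ho
  have hc : (4 : ℕ).Coprime (orderOf σ) :=
    (Nat.Coprime.pow_left 2 (Nat.coprime_two_left.2 ho) :)
  have hr : (x ^ 4).1.right = σ ^ 4 := (map_pow (simRight S) x 4).trans (by rw [hx])
  refine o_out_prod hQ hS h5 hs θ h1 h3 (x ^ 4) (fun τ => ?_) ?_ fun g => ?_
  · rw [hr]
    exact zpowers_le.2 (mem_zpowers_pow_iff.2 hc) (hσ τ)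
  · obtain ⟨g, hg⟩ : x ^ orderOf σ ∈ (simIncl S).range := by
      rw [range_simIncl, MonoidHom.mem_ker, map_pow, hx, pow_orderOf_eq_one]
    rw [hr, hc.symm.orderOf_pow, ← map_pow, ← pow_mul, mul_comm, pow_mul, ← hg, ← map_pow,
      FSetup.outPhi_eq_one]
    refine (o_mem_Inn' hQ hS h5 _).2 ((h3 _).1 ?_)
    rw [map_pow]
    generalize θ g = x
    revert x
    decide
  · obtain ⟨α, hα, hα'⟩ := exists_alpha hS (genC_of h5) θ h1 h3 x
    rw [show x ^ 4 = x * (x * (x * x)) by simp only [pow_succ, pow_zero, one_mul, mul_assoc],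
      conjS_mul, conjS_mul, conjS_mul, ← hα', ← hα', ← hα', ← hα', dih_aut_pow_four α hα]

theorem o_out_gen (x : GammaS S) (hx : ∀ σ, σ ∈ zpowers x.1.right) (o : Cfsg.Out (Cfsg.POmega F Q)) :
    ∃ (g : Sim S) (n : ℤ), o = (fsetup_o hQ hS h5).outPhi (simIncl S g) *
      (fsetup_o hQ hS h5).outPhi x ^ n := by
  obtain ⟨γ, rfl⟩ := (fsetup_o hQ hS h5).outPhi_surj hs o
  obtain ⟨n, hn⟩ := mem_zpowers_iff.1 (hx γ.1.right)
  obtain ⟨g, hg⟩ : γ * (x ^ n)⁻¹ ∈ (simIncl S).range := by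
    rw [range_simIncl, MonoidHom.mem_ker, map_mul, map_inv, map_zpow]
    exact mul_inv_eq_one.2 hn.symm
  exact ⟨g, n, by rw [hg, ← map_zpow, ← map_mul, inv_mul_cancel_right]⟩

omit hs in
theorem outPhi_eq_of {g g' : Sim S} (h : g⁻¹ * g' ∈ KO hS (genC_of h5)) :
    (fsetup_o hQ hS h5).outPhi (simIncl S g') = (fsetup_o hQ hS h5).outPhi (simIncl S g) := by
  rw [← inv_mul_eq_one, ← map_inv, ← map_inv, ← map_mul, ← map_mul, FSetup.outPhi_eq_one]
  refine (o_mem_Inn' hQ hS h5 _).2 ?_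
  simpa using inv_mem h

theorem o_out_cyclic (h2 : (2 : F) = 0) {k : ℕ} (hk : Fintype.card ι = 2 * k) (x : GammaS S)
    (hx : ∀ σ, σ ∈ zpowers x.1.right) {f : ℕ} {g : Sim S} (hg : x ^ f = simIncl S g)
    (hg' : sdk hS (genC_of h5) hk g = -1) : IsCyclic (Cfsg.Out (Cfsg.POmega F Q)) := by
  refine ⟨(fsetup_o hQ hS h5).outPhi x, fun o => ?_⟩
  obtain ⟨g', n, rfl⟩ := o_out_gen hQ hS h5 hs x hx o
  refine mul_mem (s := zpowers _) ?_ (zpow_mem (mem_zpowers _) n)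
  rcases Int.units_eq_one_or (sdk hS (genC_of h5) hk g') with h | h
  · rw [outPhi_eq_of hQ hS h5 (g := 1) (by simpa using (mem_KO_two hS _ h2 hk).2 h), map_one, map_one]
    exact one_mem _
  · rw [outPhi_eq_of hQ hS h5 (g := g) ((mem_KO_two hS _ h2 hk).2 (by
      rw [map_mul, map_inv, h, hg']; simp)), ← hg, map_pow]
    exact pow_mem (mem_zpowers _) f

theorem o_out_klein (h2 : (2 : F) ≠ 0) {k : ℕ} (hk : Fintype.card ι = 2 * k)
    (hn : spG S (negG ι F) ≠ 1) (x : GammaS S)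
    (hx : ∀ σ, σ ∈ zpowers x.1.right) {f : ℕ} (hf : Nat.card (F ≃+* F) = f) {g : Sim S}
    (hg : x ^ f = simIncl S g) (hg' : sdk hS (genC_of h5) hk g = -1) :
    Nonempty (Cfsg.Out (Cfsg.POmega F Q) ≃* Multiplicative (ZMod 2 × ZMod (2 * f))) := by
  haveI := finite_ringAut (F := F)
  haveI : NeZero (2 * f) := ⟨by have := Nat.card_pos (α := F ≃+* F); omega⟩
  have hK := fun g => mem_KO_klein hS (genC_of h5) h2 hk hn (g := g)
  have hc := o_card_out hQ hS h5 hs _ (klein_surj hS _ h2 hk) fun g => by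
    rw [hK, Prod.ext_iff]; rfl
  haveI : Finite (Cfsg.Out (Cfsg.POmega F Q)) := Nat.finite_of_card_ne_zero (by
    rw [hc]; exact mul_ne_zero Nat.card_pos.ne' Nat.card_pos.ne')
  obtain ⟨a, ha⟩ := klein_surj hS (genC_of h5) h2 hk (-1, 1)
  have ha1 : smu hS a = -1 := congrArg Prod.fst ha
  have ha2 : sdk hS (genC_of h5) hk a = 1 := congrArg Prod.snd ha
  have hsq : ∀ g : Sim S, (fsetup_o hQ hS h5).outPhi (simIncl S g) ^ 2 = 1 := fun g => by
    rw [← map_pow, ← map_pow, outPhi_eq_of hQ hS h5 (g := 1) ((hK _).2 (by simp [sq])), map_one, map_one]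
  refine equiv_of_gen (a := (fsetup_o hQ hS h5).outPhi (simIncl S a))
    (x := (fsetup_o hQ hS h5).outPhi x) (hsq a) ?_ ?_ (fun o => ?_) ?_
  · rw [mul_comm, pow_mul, ← map_pow, hg, hsq]
  · have := outPhi_eq_of hQ hS h5 (g := a) (g' := conjS x a) ((hK _).2 (by
      simp [smu_conjS, sdk_conjS]))
    rw [simIncl_conjS, map_mul, map_mul, map_inv, mul_inv_eq_iff_eq_mul] at this
    exact this.symm
  · obtain ⟨g', n, rfl⟩ := o_out_gen hQ hS h5 hs x hx o
    obtain ⟨i, j, hij⟩ : ∃ i j : ℕ, (a ^ i * g ^ j)⁻¹ * g' ∈ KO hS (genC_of h5) := by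
      simp only [hK, map_mul, map_inv, map_pow, ha1, ha2, hg']
      generalize smu hS g = s
      generalize smu hS g' = t
      generalize sdk hS (genC_of h5) hk g' = u
      have : ∀ s t u : ℤˣ, ∃ i j : Fin 2, ((-1) ^ i.1 * s ^ j.1)⁻¹ * t = 1 ∧
        ((1 : ℤˣ) ^ i.1 * (-1) ^ j.1)⁻¹ * u = 1 := by decide
      obtain ⟨i, j, h⟩ := this s t u
      exact ⟨i, j, h⟩
    refine ⟨i, f * j + n, ?_⟩
    rw [outPhi_eq_of hQ hS h5 hij, map_mul, map_mul, map_pow, map_pow, map_pow, map_pow, ← hg, map_pow,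
      _root_.zpow_add, mul_assoc, ← pow_mul, zpow_natCast, ← Nat.cast_mul, zpow_natCast]
  · rw [hc, hf, Nat.card_prod]
    simp only [Nat.card_eq_fintype_card, Fintype.card_units_int]
    ring

omit hs

theorem mem_pso_iff (h2 : (2 : F) ≠ 0) {k : ℕ} (hk : Fintype.card ι = 2 * k) (g : Sim S) :
    (fsetup_o hQ hS h5).simPsi g ∈ Cfsg.psoAut F Q ↔ smu hS g = 1 ∧ sdk hS (genC_of h5) hk g = 1 := by
  obtain ⟨e, f, hef⟩ := o_hyp hS h5
  have hdet : ∀ h ∈ OG S, (h ∈ Cfsg.Geo.specialLinear ι F ↔ dkG h = 1) := fun h hh => by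
    rw [dkG, ← hS.det_eq_one_iff h2 (mem_OG.1 hh), det_glRho]
    exact Units.ext_iff
  rw [psoAut_eq hQ hS h5]
  refine ⟨?_, fun ⟨h1, h3⟩ => ?_⟩
  · rintro ⟨h, ⟨hh, hh'⟩, e⟩
    obtain ⟨c, hc⟩ := ((fsetup_o hQ hS h5).simPsi_eq_one hef (by omega) (g := g * h⁻¹)).1 (by
      rw [map_mul, map_inv, e, mul_inv_cancel])
    have : (g : GL ι F) = GeneralLinearGroup.scalar ι c * h := by
      rw [← hc, Subgroup.coe_mul, Subgroup.coe_inv, inv_mul_cancel_right]
    exact ⟨(smu_eq_one_iff hS).2 ⟨c, h, hh, this⟩, (sdk_eq hS _ hk hh this).trans ((hdet _ hh).1 hh')⟩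
  · obtain ⟨c, h, hh, e⟩ := (smu_eq_one_iff hS).1 h1
    refine ⟨⟨h, OG_le_Sim hh⟩, ⟨hh, (hdet _ hh).2 ((sdk_eq hS _ hk hh e).symm.trans h3)⟩, ?_⟩
    rw [show g = ⟨_, scalar_mem_Sim c⟩ * ⟨h, OG_le_Sim hh⟩ from Subtype.ext e, map_mul,
      FSetup.simPsi_scalar, one_mul]

include hQ hS h5 in
theorem relIndex_pso (h2 : (2 : F) ≠ 0) {k : ℕ} (hk : Fintype.card ι = 2 * k) :
    (spG S (negG ι F) ≠ 1 → (Cfsg.Inn _).relIndex (Cfsg.psoAut F Q) = 1) ∧
      (spG S (negG ι F) = 1 → (Cfsg.Inn _).relIndex (Cfsg.psoAut F Q) = 2) := by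
  have hle : Cfsg.psoAut F Q ≤ (fsetup_o hQ hS h5).simPsi.range := by
    rw [psoAut_eq hQ hS h5]; exact map_le_range _ _
  refine ⟨fun hn => relIndex_eq_one.2 fun x hx => ?_, fun hn => ?_⟩
  · obtain ⟨g, rfl⟩ := hle hx
    exact (o_mem_Inn' hQ hS h5 g).2 ((mem_KO_klein hS _ h2 hk hn).2 ((mem_pso_iff hQ hS h5 h2 hk g).1 hx))
  obtain ⟨v, hv⟩ := hS.exists_Q_ne
  obtain ⟨θ, h1, h3, -, h4, h6⟩ := exists_theta_d8 hS (genC_of h5) h2 hk hn hv
  let j : ℤˣ →* DihedralGroup 4 := MonoidHom.mk' (fun u => if u = 1 then 1 else .r 2) (by decide)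
  have hj : Function.Injective j := by decide
  have hm : ∀ (s : ℤˣ) x, (dihChar (-1) 1 x = 1 ∧ dihChar s (-1) x = 1) ↔ ∃ y, j y = x := by decide
  let L := (Cfsg.psoAut F Q).comap (fsetup_o hQ hS h5).simPsi
  have hL : ∀ g, g ∈ L ↔ θ g ∈ j.range := fun g =>
    (mem_pso_iff hQ hS h5 h2 hk g).trans (by rw [h4, h6]; exact hm _ _)
  obtain ⟨θ', h⟩ := exists_factor (θ.comp L.subtype) j hj fun l => (hL _).1 l.2
  have := relIndex_of_range ((fsetup_o hQ hS h5).simPsi.comp L.subtype) (Cfsg.Inn _) θ' (fun b => by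
    obtain ⟨g, hg⟩ := h1 (j b)
    exact ⟨⟨g, (hL g).2 ⟨b, hg.symm⟩⟩, hj ((h _).trans hg)⟩) fun g => by
      rw [← map_eq_one_iff _ hj, h, MonoidHom.comp_apply, h3]
      exact (o_mem_Inn' hQ hS h5 _).symm
  rw [MonoidHom.range_comp, range_subtype, map_comap_eq_self hle] at this
  simpa using this

theorem inndiag_of_pres {k : ℕ} (hk : Fintype.card ι = 2 * k) (P : GL ι F → Prop)
    (hP : ∀ g : Sim S, P g ↔ sdk hS (genC_of h5) hk g = 1) (β : MulAut (Cfsg.POmega F Q)) :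
    (∃ g : GL ι F, g ∈ Cfsg.Geo.quadSimilarityGroup Q ∧ P g ∧
      Cfsg.IsInducedBySemilinearPOmega Q g (RingEquiv.refl F) β) ↔
      β ∈ ((fsetup_o hQ hS h5).simPsi.comp (sdk hS (genC_of h5) hk).ker.subtype).range := by
  rw [MonoidHom.range_comp, range_subtype, ← autSubgroupOf_o hQ hS h5 _
    (fun g => g ∈ Cfsg.Geo.quadSimilarityGroup Q ∧ P g) fun g => ?_]
  · simp only [and_assoc]
  · rw [← Sim_o hQ]
    exact ⟨fun ⟨h1, h2⟩ => ⟨h1, (hP ⟨g, h1⟩).1 h2⟩, fun ⟨h1, h2⟩ => ⟨h1, (hP ⟨g, h1⟩).2 h2⟩⟩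

end Bridge

section Std

theorem five_plus {m : ℕ} (hm : 3 ≤ m) : 5 ≤ Fintype.card (Fin m ⊕ Fin m) := by rw [card_plus]; omega

theorem five_minus {m : ℕ} (hm : 2 ≤ m) : 5 ≤ Fintype.card ((Fin m ⊕ Fin m) ⊕ Fin 2) := by
  rw [card_minus]; omega

theorem five_odd {m : ℕ} (hm : 2 ≤ m) : 5 ≤ Fintype.card (Unit ⊕ (Fin m ⊕ Fin m)) := by
  rw [card_odd]; omega

/-- set-up for the plus type -/
theorem fsP {m : ℕ} (hm : 3 ≤ m) : FSetup (plusForm m F) (omHom (Cfsg.quadFormPlus m F)) :=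
  fsetup_o (plusForm_Q m) (plusForm_nondeg m) (five_plus hm)

/-- set-up for the minus type -/
theorem fsM {m : ℕ} (hm : 2 ≤ m) {a b : F}
    (hab : ∀ z₁ z₂ : F, z₁ ^ 2 + a * z₁ * z₂ + b * z₂ ^ 2 = 0 → z₁ = 0 ∧ z₂ = 0) :
    FSetup (minusForm m F a b) (omHom (Cfsg.quadFormMinus m F a b)) :=
  fsetup_o (minusForm_Q m a b) (minusForm_nondeg m hab) (five_minus hm)

/-- set-up for odd dimension -/
theorem fsO {m : ℕ} (hm : 2 ≤ m) (h2 : (2 : F) ≠ 0) :
    FSetup (oddForm m F) (omHom (Cfsg.quadFormOdd m F)) :=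
  fsetup_o (oddForm_Q m) (oddForm_nondeg m h2) (five_odd hm)

theorem innPlus_iff {m : ℕ} [Nonempty (Fin m ⊕ Fin m)] (hm : 3 ≤ m) (β) :
    Cfsg.IsInnerDiagonalAutPOmegaPlus m β ↔ β ∈ ((fsP hm).simPsi.comp
      (sdk (plusForm_nondeg (F := F) m) (genC_of (five_plus hm)) (card_plus m)).ker.subtype).range :=
  inndiag_of_pres (plusForm_Q m) (plusForm_nondeg m) (five_plus hm) (card_plus m)
    (fun g => Cfsg.PreservesSingularClasses (Cfsg.quadFormPlus m F) g.1)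
    (preserves_iff (plusForm_Q m) _ (plusForm_isPlus m) _ _) β

theorem inndiagPlus_eq {m : ℕ} [Nonempty (Fin m ⊕ Fin m)] (hm : 3 ≤ m) :
    Cfsg.inndiagPOmegaPlus m F = ((fsP hm).simPsi.comp
      (sdk (plusForm_nondeg (F := F) m) (genC_of (five_plus hm)) (card_plus m)).ker.subtype).range :=
  autSubgroupOf_eq (innPlus_iff hm)

theorem innMinus_iff {m : ℕ} (hm : 2 ≤ m) {a b : F}
    (hab : ∀ z₁ z₂ : F, z₁ ^ 2 + a * z₁ * z₂ + b * z₂ ^ 2 = 0 → z₁ = 0 ∧ z₂ = 0) (β) :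
    Cfsg.IsInnerDiagonalAutPOmegaMinus m a b β ↔ β ∈ ((fsM hm hab).simPsi.comp
      (sdk (minusForm_nondeg m hab) (genC_of (five_minus hm)) (card_minus m)).ker.subtype).range :=
  inndiag_of_pres (minusForm_Q m a b) (minusForm_nondeg m hab) (five_minus hm) (card_minus m)
    (fun g => Cfsg.PreservesSingularClassesMinus m a b g.1) (preserves_minus_iff hm hab _) β

theorem inndiagMinus_eq {m : ℕ} (hm : 2 ≤ m) {a b : F}
    (hab : ∀ z₁ z₂ : F, z₁ ^ 2 + a * z₁ * z₂ + b * z₂ ^ 2 = 0 → z₁ = 0 ∧ z₂ = 0) :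
    Cfsg.inndiagPOmegaMinus m F a b = ((fsM hm hab).simPsi.comp
      (sdk (minusForm_nondeg m hab) (genC_of (five_minus hm)) (card_minus m)).ker.subtype).range :=
  autSubgroupOf_eq (innMinus_iff hm hab)

theorem inndiagOdd_eq {m : ℕ} (hm : 2 ≤ m) (h2 : (2 : F) ≠ 0) :
    Cfsg.inndiagPOmegaOdd m F = (fsO hm h2).simPsi.range :=
  autSubgroupOf_eq (simInduced_iff (oddForm_Q m) (oddForm_nondeg m h2) (five_odd hm))

omit [Finite F] in
theorem two_ne_of_odd [Fintype F] (hodd : Odd (Fintype.card F)) : (2 : F) ≠ 0 := fun h => by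
  have := FiniteField.even_card_of_char_two (F := F)
    (ringChar.eq_iff.2 (CharTwo.of_one_ne_zero_of_two_eq_zero one_ne_zero h))
  rw [Nat.odd_iff] at hodd
  omega

omit [Finite F] in
theorem two_eq_of_card [Fintype F] {f : ℕ} (hF : Fintype.card F = 2 ^ f) : (2 : F) = 0 := by
  have := FiniteField.cast_card_eq_zero F
  rw [hF, Nat.cast_pow] at this
  exact_mod_cast pow_eq_zero_iff_of_pos' this
where pow_eq_zero_iff_of_pos' {a : F} {n : ℕ} (h : a ^ n = 0) : a = 0 := eq_zero_of_pow_eq_zero h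

theorem pow_mod_four {q : ℕ} (hq : Odd q) (m : ℕ) : q ^ m % 4 = 1 ↔ ¬ (Odd m ∧ q % 4 = 3) := by
  have h : q % 4 = 1 ∨ q % 4 = 3 := by rw [Nat.odd_iff] at hq; omega
  rcases h with h | h
  · simp [Nat.pow_mod, h]
  · rcases Nat.even_or_odd' m with ⟨j, rfl | rfl⟩
    · simp [Nat.pow_mod, h, pow_mul]
    · simp [Nat.pow_mod, h, pow_mul, pow_succ, Nat.mul_mod]

theorem minus_exists {m : ℕ} (hm : 2 ≤ m) {a b : F}
    (hab : ∀ z₁ z₂ : F, z₁ ^ 2 + a * z₁ * z₂ + b * z₂ ^ 2 = 0 → z₁ = 0 ∧ z₂ = 0) {p f : ℕ}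
    [Fact p.Prime] (hF : Nat.card F = p ^ f) : ∃ (x : GammaS (minusForm m F a b)) (g : Sim _),
      (∀ σ, σ ∈ zpowers x.1.right) ∧ x ^ f = simIncl _ g ∧
      sdk (minusForm_nondeg m hab) (genC_of (five_minus hm)) (card_minus m) g = -1 := by
  letI := Fintype.ofFinite F
  haveI : CharP F p := charP_of_card_eq_prime_pow (Nat.card_eq_fintype_card.symm.trans hF)
  obtain ⟨K, _, _, hK⟩ := exists_quad_ext F
  haveI := Module.finite_of_finrank_pos (R := F) (M := K) (by omega)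
  haveI := Module.finite_of_finite F (M := K)
  obtain ⟨x, g, h1, h2, h3⟩ := minus_pow (minusForm_nondeg_map (algebraMap F K) m hab)
    (genC_of (five_minus hm)) (genC_of (five_minus hm)) (card_minus m) (isExt_minus _ m a b)
    (by rw [Module.natCard_eq_pow_finrank (K := F), hK]) (minusForm_not_isPlus m hab) hF
  exact ⟨x, g, fun σ => h1 ▸ mem_zpowers_frob σ, h2, h3⟩

end Std

end CfsgH8
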