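import Cfsg.Agent.H8.AutO3

/-!
Orthogonal groups: field and graph-field automorphisms (Lang's theorem, centralizers, classes).
-/

set_option autoImplicit false

namespace CfsgH8

open Subgroup Module Matrix CfsgH5 CfsgH5.Form

section Abstract

variable {N X : Type*} [Group N] [Group X]

theorem splitClassCount_eq_index (Ψ : N →* X) {K : Subgroup X} [K.Normal] (hK : K ≤ Ψ.range) (a : X) :
    Cfsg.splitClassCount Ψ.range K a = (K.comap Ψ ⊔ (centralizer {a}).comap Ψ).index := by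
  set L := K.comap Ψ ⊔ (centralizer {a}).comap Ψ with hL
  have key : ∀ n m : N, Cfsg.IsConjUnder K (Ψ n * a * (Ψ n)⁻¹) (Ψ m * a * (Ψ m)⁻¹) ↔
      (QuotientGroup.mk n : N ⧸ L) = QuotientGroup.mk m := by
    intro n m
    rw [QuotientGroup.eq]
    constructor
    · rintro ⟨k, hk, e⟩
      obtain ⟨k, rfl⟩ := hK hk
      have h1 : m⁻¹ * k * n ∈ L := mem_sup_right (by
        simp only [mem_comap, mem_centralizer_singleton_iff, map_mul, map_inv]
        calc (Ψ m)⁻¹ * Ψ k * Ψ n * a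
            = (Ψ m)⁻¹ * (Ψ k * (Ψ n * a * (Ψ n)⁻¹) * (Ψ k)⁻¹) * Ψ k * Ψ n := by group
          _ = _ := by rw [← e]; group)
      have h2 : n⁻¹ * k * n ∈ L := mem_sup_left (by
        simp only [mem_comap, map_mul, map_inv]
        exact Subgroup.Normal.conj_mem' inferInstance _ hk _)
      have := mul_mem h2 (inv_mem h1)
      convert this using 1
      group
    · intro h
      have h' : n⁻¹ * m ∈ ((K.comap Ψ ⊔ (centralizer {a}).comap Ψ : Subgroup N) : Set N) := h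
      rw [Subgroup.normal_mul] at h'
      obtain ⟨k, hk, z, hz, e⟩ := h'
      refine ⟨Ψ n * Ψ k * (Ψ n)⁻¹, Subgroup.Normal.conj_mem ‹K.Normal› _ hk _, ?_⟩
      have hz' : Ψ z * a = a * Ψ z := mem_centralizer_singleton_iff.1 hz
      have e' : m = n * (k * z) := by rw [show k * z = _ from e]; group
      rw [e', map_mul, map_mul]
      calc _ = Ψ n * Ψ k * (Ψ z * a) * (Ψ z)⁻¹ * (Ψ k)⁻¹ * (Ψ n)⁻¹ := by group
        _ = _ := by rw [hz']; group
  let S := {y : X // Cfsg.IsConjUnder Ψ.range a y}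
  have hS : ∀ y : S, ∃ n, y.1 = Ψ n * a * (Ψ n)⁻¹ := fun ⟨y, _, ⟨n, rfl⟩, h⟩ => ⟨n, h⟩
  choose nn hnn using hS
  let f : Quot (fun y z : S => Cfsg.IsConjUnder K y.1 z.1) → N ⧸ L :=
    Quot.lift (fun y => QuotientGroup.mk (nn y)) fun y z h => by
      rw [hnn y, hnn z] at h
      exact (key _ _).1 h
  refine Nat.card_congr (Equiv.ofBijective f ⟨fun y z h => ?_, fun c => ?_⟩)
  · induction y using Quot.inductionOn with | h y =>
    induction z using Quot.inductionOn with | h z =>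
    refine Quot.sound ?_
    rw [hnn y, hnn z]
    exact (key _ _).2 h
  · induction c using QuotientGroup.induction_on with | H n =>
    let y : S := ⟨Ψ n * a * (Ψ n)⁻¹, _, ⟨n, rfl⟩, rfl⟩
    refine ⟨Quot.mk _ y, (key _ _).1 ⟨1, one_mem _, ?_⟩⟩
    rw [← hnn y]
    simp [y]

theorem range_equiv_of {N' X' : Type*} [Group N'] [Group X'] (Ψ : N →* X) (Ψ' : N' →* X') (e : N ≃* N')
    (h : ∀ n, Ψ' (e n) = 1 ↔ Ψ n = 1) : Nonempty (Ψ.range ≃* Ψ'.range) := by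
  have : Ψ.ker.map (e : N →* N') = Ψ'.ker := by
    ext n
    obtain ⟨n, rfl⟩ := e.surjective n
    exact (Subgroup.mem_map_iff_mem e.injective).trans (h n).symm
  exact ⟨(QuotientGroup.quotientKerEquivRange Ψ).symm.trans ((QuotientGroup.congr _ _ e this).trans
    (QuotientGroup.quotientKerEquivRange Ψ'))⟩

theorem centralizer_equiv_range {N₀ X₀ : Type*} [Group N₀] [Group X₀] (Ψ : N →* X) (Ψ₀ : N₀ →* X₀)
    (j : N₀ →* N) (a : X) (h1 : ∀ n, Ψ n * a = a * Ψ n ↔ ∃ m, Ψ (j m) = Ψ n)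
    (hZ : ∀ m, Ψ (j m) = 1 ↔ Ψ₀ m = 1) : Nonempty (↥(Ψ.range ⊓ centralizer {a}) ≃* Ψ₀.range) := by
  obtain ⟨e⟩ := centralizer_equiv_quot Ψ j a h1 Ψ₀.ker hZ
  exact ⟨e.trans (QuotientGroup.quotientKerEquivRange Ψ₀)⟩

theorem index_of_hom {B : Type*} [Group B] (θ : N →* B) (hθ : Function.Surjective θ)
    {K : Subgroup N} (h : ∀ g, θ g = 1 ↔ g ∈ K) : K.index = Nat.card B := by
  rw [show K = θ.ker from Subgroup.ext fun g => (h g).symm, Subgroup.index_ker,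
    MonoidHom.range_eq_top.2 hθ, Subgroup.card_top]

end Abstract

section Chi

variable {F : Type*} [Field F] [Finite F] {F₀ : Type*} [Field F₀] {σ : F ≃+* F} {φ : F₀ →+* F}
  (hφ : ∀ a, σ a = a ↔ ∃ b, φ b = a)
include hφ

theorem exists_nrm_eq_map (t : Fˣ) : ∃ n, n ≠ 0 ∧ φ n = nrm σ (orderOf σ) t := by
  obtain ⟨n, hn⟩ := (hφ _).1 (σ_nrm (pow_orderOf_eq_one σ) t)
  exact ⟨n, fun h => Units.ne_zero _ (hn.symm.trans (by rw [h, map_zero])), hn⟩

theorem chi_nrm {u : Fˣ} {n : F₀} (h : φ n = nrm σ (orderOf σ) u) : chi (u : F) = chi n := by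
  haveI : Finite F₀ := Finite.of_injective _ φ.injective
  haveI := finite_ringAut (F := F)
  have key : ∀ {u : Fˣ} {n : F₀}, φ n = nrm σ (orderOf σ) u → chi (u : F) = 1 → chi n = 1 :=
    fun {u n} h hu => by
      obtain ⟨t, ht⟩ := chi_eq_one_iff.1 hu
      have h0 : t ≠ 0 := by rintro rfl; exact u.ne_zero (by simpa using ht)
      obtain ⟨m, -, hm⟩ := exists_nrm_eq_map hφ (Units.mk0 t h0)
      refine chi_eq_one_iff.2 ⟨m, φ.injective ?_⟩
      rw [h, map_mul, hm, ← Units.val_mul, ← map_mul]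
      exact congrArg _ (congrArg _ (Units.ext ht))
  rcases Int.units_eq_one_or (chi (u : F)) with h1 | h1
  · rw [h1, key h h1]
  have h2 : (2 : F) ≠ 0 := fun h2 => by
    rw [chi_of_two_eq_zero h2] at h1; exact absurd h1 (by decide)
  obtain ⟨l, hl, hl'⟩ := exists_chi_eq_neg_one (F := F₀) fun h => h2 (by
    simpa only [map_ofNat, map_zero] using congrArg φ h)
  obtain ⟨w, hw⟩ := exists_nrm_eq (orderOf_pos σ).ne' rfl
    (c := Units.mk0 (φ l) ((map_ne_zero φ).2 hl)) ((hφ _).2 ⟨l, rfl⟩)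
  have hw' : φ l = nrm σ (orderOf σ) w := by rw [hw]; rfl
  have h3 : chi (w : F) = -1 := (Int.units_eq_one_or _).resolve_left fun h => by
    rw [key hw' h] at hl'; exact absurd hl' (by decide)
  have hn : n ≠ 0 := fun h0 => Units.ne_zero _ (h.symm.trans (by rw [h0, map_zero]))
  have := key (u := u * w) (n := n * l) (by rw [map_mul, map_mul, h, hw', Units.val_mul])
    (by rw [Units.val_mul, chi_mul u.ne_zero w.ne_zero, h1, h3]; simp)
  rw [chi_mul hn hl, hl', mul_neg_one] at this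
  rw [h1, neg_eq_iff_eq_neg.1 this]

theorem chi_map_pow {a : F₀} (ha : a ≠ 0) : chi (φ a) = chi a ^ orderOf σ := by
  haveI : Finite F₀ := Finite.of_injective _ φ.injective
  rw [← chi_pow ha]
  refine chi_nrm hφ (u := Units.mk0 (φ a) ((map_ne_zero φ).2 ha)) ?_
  rw [coe_nrm, Finset.prod_congr rfl (g := fun _ => φ a)]
  · simp
  · intro k _
    induction k with
    | zero => rfl
    | succ k ih =>
      clear ih
      have : ∀ k, (σ ^ k) (φ a) = φ a := fun k => by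
        induction k with
        | zero => rfl
        | succ k ih => rw [pow_succ, RingAut.mul_apply, (hφ _).2 ⟨a, rfl⟩, ih]
      exact this _

theorem chi_map_odd (ho : Odd (orderOf σ)) (a : F₀) : chi (φ a) = chi a := by
  by_cases ha : a = 0
  · rw [ha, map_zero, chi_eq_one_iff.2 IsSquare.zero, chi_eq_one_iff.2 IsSquare.zero]
  obtain ⟨j, hj⟩ := ho
  rw [chi_map_pow hφ ha, hj, pow_succ, pow_mul, Int.units_sq, one_pow, one_mul]

theorem chi_map_two (ho : orderOf σ = 2) (a : F₀) : chi (φ a) = 1 := by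
  by_cases ha : a = 0
  · rw [ha, map_zero, chi_eq_one_iff.2 IsSquare.zero]
  rw [chi_map_pow hφ ha, ho, Int.units_sq]

theorem chi_nrm_two (ho : orderOf σ = 2) {u : Fˣ} {n : F₀} (h : φ n = u * σ u) : chi (u : F) = chi n :=
  chi_nrm hφ (by rw [h, ho, coe_nrm]; simp [Finset.prod_range_succ])

theorem chi_sqrt (ho : orderOf σ = 2) {c : Fˣ} {l : F₀} (hl : chi l = -1) (h : (c : F) ^ 2 = φ l) :
    chi (c : F) = -chi (-1 : F₀) := by
  haveI : Finite F₀ := Finite.of_injective _ φ.injective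
  have hl0 : l ≠ 0 := by
    rintro rfl
    rw [chi_eq_one_iff.2 IsSquare.zero] at hl
    exact absurd hl (by decide)
  have h1 : σ c ^ 2 = (c : F) ^ 2 := by rw [← map_pow, h, (hφ _).2 ⟨l, rfl⟩]
  rcases sq_eq_sq_iff_eq_or_eq_neg.1 h1 with h2 | h2
  · obtain ⟨b, hb⟩ := (hφ _).1 h2
    rw [← hb, ← map_pow] at h
    rw [← φ.injective h, chi_sq] at hl
    exact absurd hl (by decide)
  · rw [chi_nrm_two hφ ho (n := -1 * l) (by rw [h2, map_mul, ← h]; simp [sq]),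
      chi_mul (by simp) hl0, hl, mul_neg_one]

end Chi

section General

variable {ι : Type*} [Fintype ι] [DecidableEq ι] {F : Type*} [Field F] {T : FParam F}
  {S : Form T (ι → F)} [Finite F] {G : Type*} [Group G] {ρ : G →* ((ι → F) ≃ₗ[F] (ι → F))}
  {F₀ : Type*} [Field F₀] {T₀ : FParam F₀} {S₀ : Form T₀ (ι → F₀)} {φ : F₀ →+* F}

theorem descHom_commute [Finite F₀] {γ : GammaS S} (D : DescP γ.1.right φ T₀ T) {P : GL ι F} {d : Fˣ}
    (hd : γ.1.left * fieldAutGL γ.1.right P = GeneralLinearGroup.scalar ι d * P) {e : F}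
    (he : IsExt φ S₀ S P e) (m : Sim S₀) :
    simIncl S (descHom D he m) * γ = γ * simIncl S (descHom D he m) := by
  refine Subtype.ext (SemidirectProduct.ext ?_ (by simp [coe_simIncl]))
  have h1 : γ.1.left = GeneralLinearGroup.scalar ι d * P * (fieldAutGL γ.1.right P)⁻¹ := by
    rw [← hd, mul_inv_cancel_right]
  simp only [Subgroup.coe_mul, coe_simIncl, SemidirectProduct.mul_left, SemidirectProduct.left_inl,
    SemidirectProduct.right_inl, map_one, MulAut.one_apply]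
  rw [coe_descHom, map_mul, map_mul, map_inv, fieldAutGL_map D.fixed, h1]
  simp only [mul_assoc, inv_mul_cancel_left]
  rw [← mul_assoc P⁻¹, ← scalar_comm, mul_assoc, inv_mul_cancel_left, ← mul_assoc, ← mul_assoc,
    ← scalar_comm]
  simp only [mul_assoc]

namespace FSetup

variable (H : FSetup S ρ) {e f : ι → F} (hef : S.IsHyp e f) (h3 : 3 ≤ Fintype.card ι)
include hef h3

theorem right_eq {γ γ' : GammaS S} (h : H.simPhi γ = H.simPhi γ') : γ.1.right = γ'.1.right := by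
  have := H.right_pow hef h3 (γ := γ * γ'⁻¹) (r := 1) (by
    rw [pow_one, map_mul, map_inv, h, mul_inv_cancel])
  rw [pow_one] at this
  exact mul_inv_eq_one.1 this

theorem orderOf_right {γ : GammaS S} {r : ℕ} (hr : r.Prime) (h : orderOf (H.simPhi γ) = r)
    (h1 : γ.1.right ≠ 1) : orderOf γ.1.right = r := by
  haveI := Fact.mk hr
  exact orderOf_eq_prime (H.right_pow hef h3 (h ▸ pow_orderOf_eq_one _)) h1

theorem exists_desc' {γ : GammaS S} (D : DescP γ.1.right φ T₀ T)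
    (h : H.simPhi γ ^ orderOf γ.1.right = 1) :
    ∃ (S₁ : Form T₀ (ι → F₀)) (P : GL ι F), IsDesc φ S₁ S γ P := by
  have := H.exists_desc_mul hef h3 D 1 (by rwa [map_one, one_mul])
  rwa [map_one, one_mul] at this

theorem right_conj (hs : Function.Surjective H.simPhi) {γ γ' : GammaS S} {α : MulAut (G ⧸ center G)}
    (h : α * H.simPhi γ * α⁻¹ = H.simPhi γ') : γ.1.right = γ'.1.right := by
  obtain ⟨β, rfl⟩ := hs α
  rw [← map_inv, ← map_mul, ← map_mul] at h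
  rw [← H.right_eq hef h3 h]
  change _ = β.1.right * γ.1.right * β.1.right⁻¹
  rw [ringAut_mul_comm β.1.right, mul_inv_cancel_right]

end FSetup

end General

section Transport

variable {ι ι' : Type*} [Fintype ι] [DecidableEq ι] [Fintype ι'] [DecidableEq ι'] {F : Type*} [Field F]

/-- transport of matrices along a linear equivalence -/
noncomputable def trG (j : (ι → F) ≃ₗ[F] (ι' → F)) : GL ι F ≃* GL ι' F :=
  (glRho.trans (conjEquiv j)).trans glRho.symm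

theorem glRho_trG (j : (ι → F) ≃ₗ[F] (ι' → F)) (g : GL ι F) :
    glRho (trG j g) = conjEquiv j (glRho g) := glRho.apply_symm_apply _

theorem trG_mulVec (j : (ι → F) ≃ₗ[F] (ι' → F)) (g : GL ι F) (v : ι → F) :
    (trG j g : Matrix ι' ι' F) *ᵥ j v = j ((g : Matrix ι ι F) *ᵥ v) := by
  rw [← glRho_apply, glRho_trG, conjEquiv_apply, LinearEquiv.symm_apply_apply, glRho_apply]

theorem trG_scalar (j : (ι → F) ≃ₗ[F] (ι' → F)) (c : Fˣ) :
    trG j (GeneralLinearGroup.scalar ι c) = GeneralLinearGroup.scalar ι' c :=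
  GL_ext_mulVec fun v => by
    obtain ⟨v, rfl⟩ := j.surjective v
    rw [trG_mulVec, ← glRho_apply, ← glRho_apply, glRho_scalar, glRho_scalar, map_smul]

theorem exists_trGamma (j : (ι → F) ≃ₗ[F] (ι' → F)) (γ : GammaL ι F) : ∃ γ' : GammaL ι' F,
    γ'.right = γ.right ∧ ∀ v, semiAct γ' (j v) = j (semiAct γ v) := by
  let E : (ι → F) ≃+ (ι → F) := AddEquiv.ofBijective (semiAct γ : (ι → F) →+ (ι → F))
    ⟨fun x y h => by simpa only [semiAct_apply_inv] using congrArg (semiAct γ⁻¹) h, semiAct_surj γ⟩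
  obtain ⟨M, hM⟩ := exists_GL_of_semilinear γ.right
    ((j.symm.toAddEquiv.trans E).trans j.toAddEquiv) fun a v => by
      change j (semiAct γ (j.symm (a • v))) = _ • j (semiAct γ (j.symm v))
      rw [map_smul, semiAct_smul, map_smul]
  refine ⟨⟨M, γ.right⟩, rfl, fun v => ?_⟩
  rw [semiAct_apply, ← hM]
  change j (semiAct γ (j.symm (j v))) = _
  rw [LinearEquiv.symm_apply_apply]

variable [Finite F] {S : Form (orthParam F) (ι → F)} {S' : Form (orthParam F) (ι' → F)}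
  {j : (ι → F) ≃ₗ[F] (ι' → F)} (hj : IsIsom S S' j)
include hj

omit [Finite F] in
theorem isSemiSim_tr {γ : GammaL ι F} {γ' : GammaL ι' F} (h1 : γ'.right = γ.right)
    (h2 : ∀ v, semiAct γ' (j v) = j (semiAct γ v)) {κ : F} (h : IsSemiSim S γ κ) : IsSemiSim S' γ' κ :=
  isSemiSim_o_iff.2 ⟨h.ne, fun v => by
    obtain ⟨v, rfl⟩ := j.surjective v
    rw [h2, hj.Q, hj.Q, h.Q, h1]⟩

omit [Finite F] in
theorem isSemiSim_trG {g : GL ι F} {κ : F} (h : IsSemiSim S (SemidirectProduct.inl g) κ) :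
    IsSemiSim S' (SemidirectProduct.inl (trG j g)) κ :=
  isSemiSim_tr hj (γ := SemidirectProduct.inl g) rfl
    (fun v => by rw [semiAct_inl, semiAct_inl, trG_mulVec]) h

theorem trG_mem_Sim {g : GL ι F} : trG j g ∈ Sim S' ↔ g ∈ Sim S := by
  refine ⟨fun ⟨κ, h⟩ => ⟨κ, ?_⟩, fun ⟨κ, h⟩ => ⟨κ, isSemiSim_trG hj h⟩⟩
  have := isSemiSim_trG hj.symm h
  rwa [show trG j.symm (trG j g) = g from (trG j).symm_apply_apply g] at this

/-- transport of similarities along an isometry -/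
noncomputable def trS : Sim S ≃* Sim S' :=
  ((trG j).subgroupMap (Sim S)).trans (MulEquiv.subgroupCongr (by
    ext g
    obtain ⟨g, rfl⟩ := (trG j).surjective g
    exact (Subgroup.mem_map_iff_mem (trG j).injective).trans (trG_mem_Sim hj).symm))

theorem coe_trS (g : Sim S) : (trS hj g : GL ι' F) = trG j g := rfl

theorem trS_scalar_iff (g : Sim S) : (∃ c, (trS hj g : GL ι' F) = GeneralLinearGroup.scalar ι' c) ↔
    ∃ c, (g : GL ι F) = GeneralLinearGroup.scalar ι c :=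
  exists_congr fun c => by rw [coe_trS, ← trG_scalar j, (trG j).injective.eq_iff]

theorem sdk_trS [Nonempty ι] [Nonempty ι'] (hS : S.Nondeg) (hS' : S'.Nondeg) (hG : GenC F ι)
    (hG' : GenC F ι') {k : ℕ} (hk : Fintype.card ι = 2 * k) (hk' : Fintype.card ι' = 2 * k) (g : Sim S) :
    sdk hS' hG' hk' (trS hj g) = sdk hS hG hk g :=
  sdk_transfer hS' hG' hk' hS hG hk (RingHom.id F) (trG j).toMonoidHom
    (fun g => by
      change (trG j g : Matrix ι' ι' F).det = (g : Matrix ι ι F).det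
      rw [← det_glRho, ← det_glRho, glRho_trG, det_conjEquiv])
    (fun c => ⟨c, trG_scalar j c⟩)
    (fun g hg => ⟨by
      change glRho (trG j g) ∈ S'.isom
      rw [glRho_trG, hj.conj_mem]; exact hg, by
      change dk (glRho (trG j g)) = _
      rw [glRho_trG, dk_conjEquiv]; rfl⟩) rfl
    (simMult_eq hS' (g := trS hj g) (isSemiSim_trG hj (simMult_spec hS g)))

end Transport

section Lang

variable {ι : Type*} [Fintype ι] [DecidableEq ι] [Nonempty ι] {F : Type*} [Field F] [Finite F]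
  {S : Form (orthParam F) (ι → F)} {G : Type*} [Group G] {ρ : G →* ((ι → F) ≃ₗ[F] (ι → F))}
  {F₀ : Type*} [Field F₀] [Finite F₀] {S₀ : Form (orthParam F₀) (ι → F₀)} {φ : F₀ →+* F}

theorem o_class_odd (ho : Odd (Fintype.card ι)) (hS₀ : S₀.Nondeg) (S₁ : Form (orthParam F₀) (ι → F₀))
    (hS₁ : S₁.Nondeg) : ∃ g κ, IsExt (RingHom.id F₀) S₀ S₁ g κ := by
  have ho' : Odd (finrank F₀ (ι → F₀)) := by rwa [finrank_of_card rfl]
  obtain ⟨c, hc, j, hj⟩ := hS₀.exists_similar_odd hS₁ (hS₀.two_ne_zero_of_odd ho') rfl ho'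
  refine ⟨glRho.symm j, c, isExt_o_iff.2 ⟨hc, fun v => ?_⟩⟩
  rw [← glRho_apply, MulEquiv.apply_symm_apply, vmap_id]
  exact (hj.Q v).trans (scale_Q c v)

theorem o_class_even {k : ℕ} (hk : Fintype.card ι = 2 * k) (hS₀ : S₀.Nondeg)
    {S₁ : Form (orthParam F₀) (ι → F₀)} (hS₁ : S₁.Nondeg) (h : S₀.IsPlus ↔ S₁.IsPlus) :
    ∃ g, IsExt (RingHom.id F₀) S₀ S₁ g 1 := by
  obtain ⟨j, hj⟩ := hS₀.exists_isom_even hS₁ rfl ⟨k, by rw [finrank_of_card hk, two_mul]⟩ h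
  exact ⟨_, isExt_of_isom hj⟩

theorem smu_descHom (hS : S.Nondeg) {σ : F ≃+* F} (D : DescP σ φ (orthParam F₀) (orthParam F))
    {P : GL ι F} {e : F} (he : IsExt φ S₀ S P e) (m : Sim S₀) :
    smu hS (descHom D he m) = chi (φ (simMult (he.nondeg hS) m)) := by
  rw [smu_apply, simMult_descHom]; rfl

theorem descHom_eq {σ : F ≃+* F} (D : DescP σ φ (orthParam F₀) (orthParam F))
    {P : GL ι F} {e : F} (he : IsExt φ S₀ S P e) {m : Sim S₀} {c : F₀ˣ} {h : GL ι F₀}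
    (hm : (m : GL ι F₀) = GeneralLinearGroup.scalar ι c * h) :
    (descHom D he m : GL ι F) = GeneralLinearGroup.scalar ι (Units.map (φ : F₀ →* F) c) * descG φ P h := by
  rw [coe_descHom, hm, map_mul, show GeneralLinearGroup.map φ (GeneralLinearGroup.scalar ι c) =
    GeneralLinearGroup.scalar ι (Units.map (φ : F₀ →* F) c) from ?_, descG_apply, ← mul_assoc P,
    ← scalar_comm]
  · simp only [mul_assoc]
  · ext i j
    by_cases hij : i = j <;> simp [GeneralLinearGroup.scalar, hij]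

variable (H : FSetup S ρ)

namespace FSetup

/-- class-preserving similarities acting on the simple group -/
noncomputable abbrev psiP (hG : GenC F ι) {k : ℕ} (hk : Fintype.card ι = 2 * k) :
    (sdk H.nd hG hk).ker →* MulAut (G ⧸ center G) := H.simPsi.comp (sdk H.nd hG hk).ker.subtype

variable (hG : GenC F ι) {k : ℕ} (hk : Fintype.card ι = 2 * k)

theorem mem_psiP {β : MulAut (G ⧸ center G)} :
    β ∈ (H.psiP hG hk).range ↔ ∃ g, sdk H.nd hG hk g = 1 ∧ H.simPsi g = β :=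
  ⟨fun ⟨g, hg⟩ => ⟨g.1, g.2, hg⟩, fun ⟨g, h1, h2⟩ => ⟨⟨g, h1⟩, h2⟩⟩

omit [Nonempty ι] in
theorem simPsi_conjS (γ : GammaS S) (g : Sim S) :
    H.simPsi (conjS γ g) = H.simPhi γ * H.simPsi g * (H.simPhi γ)⁻¹ := by
  rw [simPsi, MonoidHom.comp_apply, simIncl_conjS, map_mul, map_mul, map_inv]; rfl

theorem psiP_normal (hs : Function.Surjective H.simPhi) : (H.psiP hG hk).range.Normal := ⟨fun β hβ α => by
  obtain ⟨γ, rfl⟩ := hs α
  obtain ⟨g, h1, rfl⟩ := (H.mem_psiP hG hk).1 hβ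
  exact (H.mem_psiP hG hk).2 ⟨conjS γ g, (sdk_conjS _ _ _ _ _).trans h1, H.simPsi_conjS γ g⟩⟩

theorem conj_plus (hG₀ : GenC F₀ ι) {γ γ' : GammaS S} (hr : γ'.1.right = γ.1.right)
    (hφ : ∀ a, γ.1.right a = a ↔ ∃ b, φ b = a) {S₁ : Form (orthParam F₀) (ι → F₀)} {P P' : GL ι F}
    (h : IsDesc φ S₀ S γ P) (h' : IsDesc φ S₁ S γ' P') (ht : S₀.IsPlus ↔ S₁.IsPlus) :
    Cfsg.IsConjUnder (H.psiP hG hk).range (H.simPhi γ) (H.simPhi γ') := by
  have D := descP_orth hφ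
  have hS₀ := h.2.choose_spec.nondeg H.nd
  obtain ⟨g, hg⟩ := o_class_even hk hS₀ (h'.2.choose_spec.nondeg H.nd) ht
  have h1 := h'.comp (by rw [hr]; exact D) hg
  rcases Int.units_eq_one_or (sdk H.nd hG hk ⟨_, h.mem_Sim scal_orth h1⟩) with h2 | h2
  · exact ⟨_, (H.mem_psiP hG hk).2 ⟨_, h2, rfl⟩, H.conj_of_desc scal_orth hr h h1⟩
  obtain ⟨v, hv⟩ := hS₀.exists_Q_ne
  have h3 := h1.comp (by rw [hr]; exact D) (isExt_of_sim (isSemiSim_isom (mem_OG.1 (rfG_mem v))))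
  refine ⟨_, (H.mem_psiP hG hk).2 ⟨_, ?_, rfl⟩, H.conj_of_desc scal_orth hr h h3⟩
  rw [show (⟨_, h.mem_Sim scal_orth h3⟩ : Sim S) = ⟨_, h.mem_Sim scal_orth h1⟩ *
    descHom D h.2.choose_spec (rfS S₀ v) from Subtype.ext (by
      simp only [Subgroup.coe_mul, coe_descHom, coe_rfS]; group), map_mul, h2, sdk_descHom _ _ _ _ hG₀,
    sdk_rfS _ _ _ hv]
  rfl

variable {e f : ι → F} (hef : S.IsHyp e f) (h5 : 5 ≤ Fintype.card ι)
include hef h5

theorem lang_plus {γ : GammaS S} {r : ℕ} (hr : orderOf γ.1.right = r) (h1 : H.simPhi γ ^ r = 1) :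
    ∀ δ ∈ (H.psiP hG hk).range, (δ * H.simPhi γ) ^ r = 1 →
      Cfsg.IsConjUnder (H.psiP hG hk).range (H.simPhi γ) (δ * H.simPhi γ) := by
  intro δ hδ h
  obtain ⟨M, hM, rfl⟩ := (H.mem_psiP hG hk).1 hδ
  have hφ : ∀ a, γ.1.right a = a ↔ ∃ b, (fixF γ.1.right).subtype b = a := fun a =>
    ⟨fun h => ⟨⟨a, mem_fixF.2 h⟩, rfl⟩, by rintro ⟨b, rfl⟩; exact mem_fixF.1 b.2⟩
  obtain ⟨S₀, P₀, h₀⟩ := H.exists_desc' hef (by omega) (descP_orth hφ) (hr ▸ h1)
  obtain ⟨S₁, P, hP⟩ := H.exists_desc_mul hef (by omega) (descP_orth hφ) M (hr ▸ h)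
  have hr' : (simIncl S M * γ : GammaS S).1.right = γ.1.right := one_mul _
  have := H.conj_plus hG hk (genC_of h5) hr' hφ h₀ hP (by
    by_cases hp : S.IsPlus
    · rw [h₀.isPlus_iff H.nd hp hk hφ, hP.isPlus_iff H.nd hp hk (hr' ▸ hφ), map_mul,
        gdk_simIncl H.nd hp hG hk, hM, one_mul]
    · exact iff_of_false (fun h => hp (h₀.2.choose_spec.isPlus H.nd hk h))
        fun h => hp (hP.2.choose_spec.isPlus H.nd hk h))
  rwa [map_mul] at this

theorem lang_odd (ho : Odd (Fintype.card ι)) {γ : GammaS S} {r : ℕ} (hr : orderOf γ.1.right = r)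
    (h1 : H.simPhi γ ^ r = 1) : ∀ δ ∈ H.simPsi.range, (δ * H.simPhi γ) ^ r = 1 →
      Cfsg.IsConjUnder H.simPsi.range (H.simPhi γ) (δ * H.simPhi γ) := by
  have hφ : ∀ a, γ.1.right a = a ↔ ∃ b, (fixF γ.1.right).subtype b = a := fun a =>
    ⟨fun h => ⟨⟨a, mem_fixF.2 h⟩, rfl⟩, by rintro ⟨b, rfl⟩; exact mem_fixF.1 b.2⟩
  obtain ⟨S₀, P₀, h₀⟩ := H.exists_desc' hef (by omega) (descP_orth hφ) (hr ▸ h1)
  exact H.lang_sim hef (by omega) (descP_orth hφ) h₀ (o_class_odd ho (h₀.2.choose_spec.nondeg H.nd)) hr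

theorem commute_iff {γ : GammaS S} (D : DescP γ.1.right φ (orthParam F₀) (orthParam F)) {P : GL ι F}
    (h : IsDesc φ S₀ S γ P) (M : Sim S) : H.simPsi M * H.simPhi γ = H.simPhi γ * H.simPsi M ↔
      ∃ (c : Fˣ) (m : Sim S₀), M = ⟨_, scalar_mem_Sim c⟩ * descHom D h.2.choose_spec m :=
  H.commute_desc hef (by omega) D h.1.choose_spec h.2.choose_spec M

theorem centralizer_range {G₀ : Type*} [Group G₀] {ρ₀ : G₀ →* ((ι → F₀) ≃ₗ[F₀] (ι → F₀))}
    (H₀ : FSetup S₀ ρ₀) {γ : GammaS S} (hφ : ∀ a, γ.1.right a = a ↔ ∃ b, φ b = a) {P : GL ι F}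
    (h : IsDesc φ S₀ S γ P) :
    Nonempty (↥(H.simPsi.range ⊓ centralizer {H.simPhi γ}) ≃* H₀.simPsi.range) := by
  obtain ⟨e₀, f₀, hef₀⟩ := H₀.nd.exists_isHyp (by rw [finrank_of_card rfl]; omega)
  obtain ⟨e⟩ := H.centralizer_sim hef (by omega) (descP_orth hφ) h H₀.simPsi.ker fun m =>
    H₀.simPsi_eq_one hef₀ (by omega)
  exact ⟨e.trans (QuotientGroup.quotientKerEquivRange _)⟩

theorem centralizer_plus {ι₁ : Type*} [Fintype ι₁] [DecidableEq ι₁] [Nonempty ι₁]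
    {S₁ : Form (orthParam F₀) (ι₁ → F₀)} {G₁ : Type*} [Group G₁]
    {ρ₁ : G₁ →* ((ι₁ → F₀) ≃ₗ[F₀] (ι₁ → F₀))} (H₁ : FSetup S₁ ρ₁) (hG₁ : GenC F₀ ι₁)
    (hk₁ : Fintype.card ι₁ = 2 * k) {γ : GammaS S} (hφ : ∀ a, γ.1.right a = a ↔ ∃ b, φ b = a)
    {P : GL ι F} (h : IsDesc φ S₀ S γ P) (ht : S₁.IsPlus ↔ S₀.IsPlus) :
    Nonempty (↥((H.psiP hG hk).range ⊓ centralizer {H.simPhi γ}) ≃* (H₁.psiP hG₁ hk₁).range) := by
  have D := descP_orth hφ
  have he := h.2.choose_spec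
  have hS₀ := he.nondeg H.nd
  obtain ⟨e₀, f₀, hef₀⟩ := H₁.nd.exists_isHyp (by rw [finrank_of_card hk₁]; omega)
  obtain ⟨j, hj⟩ := H₁.nd.exists_isom_even hS₀ (by rw [finrank_of_card hk, finrank_of_card hk₁])
    ⟨k, by rw [finrank_of_card hk₁, two_mul]⟩ ht
  have hs : ∀ m, sdk H.nd hG hk (descHom D he (trS hj m)) = sdk H₁.nd hG₁ hk₁ m := fun m => by
    rw [sdk_descHom _ _ _ _ (genC_of h5), sdk_trS hj H₁.nd hS₀ hG₁ _ hk₁ hk]
  let J : (sdk H₁.nd hG₁ hk₁).ker →* (sdk H.nd hG hk).ker :=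
    (((descHom D he).comp (trS hj).toMonoidHom).comp (sdk H₁.nd hG₁ hk₁).ker.subtype).codRestrict _
      fun m => (hs m).trans m.2
  refine centralizer_equiv_range (H.psiP hG hk) (H₁.psiP hG₁ hk₁) J _ (fun M => ?_) fun m => ?_
  · refine (H.commute_iff hef h5 D h M).trans ⟨?_, ?_⟩
    · rintro ⟨c, m, hm⟩
      obtain ⟨m, rfl⟩ := (trS hj).surjective m
      have h1 : sdk H₁.nd hG₁ hk₁ m = 1 := by
        have := M.2
        rwa [MonoidHom.mem_ker, hm, map_mul, sdk_scalar, one_mul, hs] at this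
      refine ⟨⟨m, h1⟩, ?_⟩
      change H.simPsi (descHom D he (trS hj m)) = H.simPsi M
      rw [hm, map_mul, H.simPsi_scalar, one_mul]
    · rintro ⟨m, hm⟩
      change H.simPsi (descHom D he (trS hj m)) = H.simPsi M at hm
      rw [eq_comm, ← mul_inv_eq_one, ← map_inv, ← map_mul, H.simPsi_eq_one hef (by omega)] at hm
      obtain ⟨c, hc⟩ := hm
      exact ⟨c, _, mul_inv_eq_iff_eq_mul.1 (Subtype.ext hc)⟩
  · change H.simPsi (descHom D he (trS hj m)) = 1 ↔ H₁.simPsi m = 1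
    rw [H.simPsi_eq_one hef (by omega), descHom_scalar_iff, trS_scalar_iff,
      H₁.simPsi_eq_one hef₀ (by omega)]

include hk in
theorem odd_of_minus (hp : ¬ S.IsPlus) {γ : GammaS S} {r : ℕ} (hr : r.Prime)
    (ho : orderOf γ.1.right = r) (h1 : H.simPhi γ ^ r = 1) : Odd r := by
  refine hr.eq_two_or_odd'.resolve_left fun h2 => hp ?_
  have hφ : ∀ a, γ.1.right a = a ↔ ∃ b, (fixF γ.1.right).subtype b = a := fun a =>
    ⟨fun h => ⟨⟨a, mem_fixF.2 h⟩, rfl⟩, by rintro ⟨b, rfl⟩; exact mem_fixF.1 b.2⟩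
  obtain ⟨S₀, P₀, h₀⟩ := H.exists_desc' hef (by omega) (descP_orth hφ) (ho ▸ h1)
  exact h₀.2.choose_spec.isPlus_of_sq H.nd hk (by rw [card_fixF γ.1.right, ho, h2])

end FSetup

end Lang

section Cover

variable {ι : Type*} [Fintype ι] [DecidableEq ι] [Nonempty ι] {F : Type*} [Field F] [Finite F]
  {S : Form (orthParam F) (ι → F)} {F₀ : Type*} [Field F₀] [Finite F₀]
  {S₀ : Form (orthParam F₀) (ι → F₀)} {φ : F₀ →+* F} (hS : S.Nondeg) (hG : GenC F ι) (hG₀ : GenC F₀ ι)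
  {σ : F ≃+* F} (D : DescP σ φ (orthParam F₀) (orthParam F)) {P : GL ι F} {e : F}
  (he : IsExt φ S₀ S P e)

omit [Nonempty ι] in
theorem exists_OG_inv (hS : S.Nondeg) (h2 : (2 : F) ≠ 0) (hd : 2 ≤ Fintype.card ι) (s t : ℤˣ) :
    ∃ h ∈ OG S, dkG h = s ∧ spG S h = t := by
  obtain ⟨⟨g, hg⟩, e⟩ := hS.prod_surjective h2 (by rwa [finrank_of_card rfl]) (s, t)
  refine ⟨glRho.symm g, by rw [mem_OG, MulEquiv.apply_symm_apply]; exact hg, ?_, ?_⟩
  · rw [dkG, MulEquiv.apply_symm_apply]; exact congrArg Prod.fst e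
  · rw [spG, MulEquiv.apply_symm_apply]; exact congrArg Prod.snd e

omit [Finite F] [Finite F₀] in
theorem two_ne_iff (φ : F₀ →+* F) : (2 : F₀) ≠ 0 ↔ (2 : F) ≠ 0 := by
  rw [← map_ofNat φ 2, map_ne_zero]

include hG₀ in
theorem cover_OG (h2 : (2 : F) ≠ 0) (hd : 2 ≤ Fintype.card ι) (hc : ∀ a, chi (φ a) = chi a) {g : Sim S}
    {c : Fˣ} {h : GL ι F} (hh : h ∈ OG S) (h1 : dkG h = 1)
    (hg : (g : GL ι F) = GeneralLinearGroup.scalar ι c * h) :
    ∃ m : Sim S₀, (m : GL ι F₀) ∈ OG S₀ ∧ dkG (m : GL ι F₀) = 1 ∧ g * (descHom D he m)⁻¹ ∈ KO hS hG := by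
  obtain ⟨h₀, hh₀, k1, k2⟩ := exists_OG_inv (he.nondeg hS) ((two_ne_iff φ).2 h2) hd 1 (spG S h)
  obtain ⟨l1, l2, l3⟩ := descG_OG hS hG hG₀ he hc h₀ hh₀
  refine ⟨⟨h₀, OG_le_Sim hh₀⟩, hh₀, k1, c, h * (descG φ P h₀)⁻¹, mul_mem hh (inv_mem l1), ?_, ?_, ?_⟩
  · rw [dkG_mul hS hG hh (inv_mem l1), dkG_inv hS hG l1, l2, h1, k1, mul_one]
  · rw [spG_mul hS hh (inv_mem l1), spG_inv hS l1, l3, k1, k2, tw_one, mul_one, Int.units_mul_self]
  · rw [Subgroup.coe_mul, hg, mul_assoc]; rfl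

include hG₀ in
theorem cover_plus (h2 : (2 : F) ≠ 0) {k : ℕ} (hk : Fintype.card ι = 2 * k)
    (hc : ∀ a, chi (φ a) = chi a) {g : Sim S} (hg : sdk hS hG hk g = 1) :
    ∃ m : Sim S₀, sdk (he.nondeg hS) hG₀ hk m = 1 ∧ g * (descHom D he m)⁻¹ ∈ KO hS hG := by
  obtain ⟨m₀, hm₀⟩ := klein_surj (he.nondeg hS) hG₀ ((two_ne_iff φ).2 h2) hk (smu hS g, 1)
  have k1 : smu (he.nondeg hS) m₀ = smu hS g := congrArg Prod.fst hm₀
  have k2 : sdk (he.nondeg hS) hG₀ hk m₀ = 1 := congrArg Prod.snd hm₀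
  obtain ⟨c, h, hh, e1⟩ := (smu_eq_one_iff hS (g := g * (descHom D he m₀)⁻¹)).1 (by
    rw [map_mul, map_inv, smu_descHom, hc, ← smu_apply, k1, mul_inv_cancel])
  have h1 : dkG h = 1 := by
    rw [← sdk_eq hS hG hk hh e1, map_mul, map_inv, sdk_descHom _ _ _ _ hG₀, k2, hg]; rfl
  obtain ⟨m, l1, l2, l3⟩ := cover_OG hS hG hG₀ D he h2
    (by have := Fintype.card_pos (α := ι); omega) hc hh h1 e1
  refine ⟨m * m₀, by rw [map_mul, k2, sdk_OG _ _ _ l1, l2, mul_one], ?_⟩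
  rwa [map_mul, _root_.mul_inv_rev, ← mul_assoc]

include hG₀ in
theorem desc_mem_KO (hc : ∀ a, chi (φ a) = 1) {m : Sim S₀} {c : F₀ˣ} {h : GL ι F₀} (hh : h ∈ OG S₀)
    (h1 : dkG h = 1) (hm : (m : GL ι F₀) = GeneralLinearGroup.scalar ι c * h) :
    descHom D he m ∈ KO hS hG := by
  obtain ⟨l1, l2, l3⟩ := descG_OG_sq hS hG hG₀ he hc h hh
  exact ⟨_, _, l1, l2.trans h1, by rw [l3, h1, tw_one], descHom_eq D he hm⟩

include hS hG in
theorem exists_dk_one (ho : Odd (Fintype.card ι)) (g : Sim S) : ∃ (c : Fˣ), ∃ h ∈ OG S, dkG h = 1 ∧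
    (g : GL ι F) = GeneralLinearGroup.scalar ι c * h := by
  have h2 : (2 : F) ≠ 0 := hS.two_ne_zero_of_odd (by rwa [finrank_of_card rfl])
  obtain ⟨c, h, hh, hg⟩ := (smu_eq_one_iff hS).1 (smu_odd hS ho g)
  rcases Int.units_eq_one_or (dkG h) with h3 | h3
  · exact ⟨c, h, hh, h3, hg⟩
  refine ⟨-c, negG ι F * h, mul_mem neg_one_mem_OG hh, ?_, ?_⟩
  · rw [dkG_mul hS hG neg_one_mem_OG hh, dkG_neg h2, ho.neg_one_pow, h3]; simp
  · rw [hg, ← mul_assoc, ← map_mul]; simp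

theorem index_KO_d8 (h2 : (2 : F) ≠ 0) {k : ℕ} (hk : Fintype.card ι = 2 * k)
    (hn : spG S (negG ι F) = 1) : ((KO hS hG).subgroupOf (sdk hS hG hk).ker).index = 4 := by
  rcases Nat.even_or_odd k with h | h
  · obtain ⟨θ, h1, h3⟩ := (exists_theta_plus_d8 hS hG h2 hk hn).2 h
    rw [index_of_hom θ h1 (K := (KO hS hG).subgroupOf _) h3]; simp
  · obtain ⟨θ, h1, h3⟩ := (exists_theta_plus_d8 hS hG h2 hk hn).1 h
    rw [index_of_hom θ h1 (K := (KO hS hG).subgroupOf _) h3]; simp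

theorem index_smu (h2 : (2 : F) ≠ 0) {k : ℕ} (hk : Fintype.card ι = 2 * k) :
    ((smu hS).comp (sdk hS hG hk).ker.subtype).ker.index = 2 := by
  rw [index_of_hom ((smu hS).comp (sdk hS hG hk).ker.subtype) (fun s => ?_) fun _ => Iff.rfl]
  · simp
  · obtain ⟨g, hg⟩ := klein_surj hS hG h2 hk (s, 1)
    exact ⟨⟨g, congrArg Prod.snd hg⟩, congrArg Prod.fst hg⟩

theorem mul_mem_KO_d8 (h2 : (2 : F) ≠ 0) {k : ℕ} (hk : Fintype.card ι = 2 * k)
    (hn : spG S (negG ι F) = 1) {g g' : Sim S} (h1 : smu hS g = 1) (h1' : smu hS g' = 1)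
    (h3 : sdk hS hG hk g = 1) (h3' : sdk hS hG hk g' = 1) (h4 : g ∉ KO hS hG) (h4' : g' ∉ KO hS hG) :
    g * g'⁻¹ ∈ KO hS hG := by
  obtain ⟨v, hv⟩ := hS.exists_Q_ne
  obtain ⟨θ, -, k1, -, k2, k3⟩ := exists_theta_d8 hS hG h2 hk hn hv
  rw [← k1] at h4 h4' ⊢
  rw [k2] at h1 h1'
  rw [k3] at h3 h3'
  rw [map_mul, map_inv]
  revert h1 h1' h3 h3' h4 h4'
  generalize θ g = x
  generalize θ g' = y
  generalize (-1 : ℤˣ) ^ (k + 1) = s
  revert x y s
  decide

end Cover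

section Bridge

variable {ι : Type} [Fintype ι] [DecidableEq ι] [Nonempty ι] {F : Type*} [Field F] [Finite F]
  {S : Form (orthParam F) (ι → F)} {Q : (ι → F) → F} (hQ : ∀ v, S.Q v = Q v) (hS : S.Nondeg)
  (h5 : 5 ≤ Fintype.card ι) {F₀ : Type*} [Field F₀] [Finite F₀] {S₀ : Form (orthParam F₀) (ι → F₀)}
  {φ : F₀ →+* F}

theorem split_plus_eq {k : ℕ} (hk : Fintype.card ι = 2 * k) (a : MulAut (Cfsg.POmega F Q)) :
    Cfsg.splitClassCount ((fsetup_o hQ hS h5).psiP (genC_of h5) hk).range (Cfsg.Inn _) a =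
      ((KO hS (genC_of h5)).subgroupOf (sdk hS (genC_of h5) hk).ker ⊔
        (centralizer {a}).comap ((fsetup_o hQ hS h5).psiP (genC_of h5) hk)).index := by
  rw [splitClassCount_eq_index _ fun β hβ => ?_]
  · congr 2
    ext g
    exact o_mem_Inn' hQ hS h5 g
  · obtain ⟨g, rfl⟩ := (fsetup_o hQ hS h5).Inn_le_simPsi hβ
    exact ((fsetup_o hQ hS h5).mem_psiP _ hk).2
      ⟨g, sdk_of_KO hS _ hk ((o_mem_Inn' hQ hS h5 g).1 hβ), rfl⟩

theorem split_eq (a : MulAut (Cfsg.POmega F Q)) :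
    Cfsg.splitClassCount (fsetup_o hQ hS h5).simPsi.range (Cfsg.Inn _) a =
      (KO hS (genC_of h5) ⊔ (centralizer {a}).comap (fsetup_o hQ hS h5).simPsi).index := by
  rw [splitClassCount_eq_index _ (fsetup_o hQ hS h5).Inn_le_simPsi]
  congr 2
  ext g
  exact o_mem_Inn' hQ hS h5 g

theorem split_plus_two (h2 : (2 : F) = 0) {k : ℕ} (hk : Fintype.card ι = 2 * k)
    (a : MulAut (Cfsg.POmega F Q)) :
    Cfsg.splitClassCount ((fsetup_o hQ hS h5).psiP (genC_of h5) hk).range (Cfsg.Inn _) a = 1 := by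
  rw [split_plus_eq hQ hS h5, Subgroup.index_eq_one, eq_top_iff]
  exact fun g _ => mem_sup_left ((mem_KO_two hS _ h2 hk).2 g.2)

variable {γ : GammaS S} (hφ : ∀ a, γ.1.right a = a ↔ ∃ b, φ b = a) {P : GL ι F}
  (h : IsDesc φ S₀ S γ P)
include hφ h

theorem split_plus_odd {k : ℕ} (hk : Fintype.card ι = 2 * k) (ho : Odd (orderOf γ.1.right)) :
    Cfsg.splitClassCount ((fsetup_o hQ hS h5).psiP (genC_of h5) hk).range (Cfsg.Inn _)
      ((fsetup_o hQ hS h5).simPhi γ) = 1 := by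
  by_cases h2 : (2 : F) = 0
  · exact split_plus_two hQ hS h5 h2 hk _
  obtain ⟨e, f, hef⟩ := o_hyp hS h5
  rw [split_plus_eq hQ hS h5, Subgroup.index_eq_one, eq_top_iff]
  intro g _
  obtain ⟨m, h1, h3⟩ := cover_plus hS (genC_of h5) (genC_of h5) (descP_orth hφ) h.2.choose_spec h2 hk
    (chi_map_odd hφ ho) g.2
  let c : (sdk hS (genC_of h5) hk).ker := ⟨descHom (descP_orth hφ) h.2.choose_spec m,
    (sdk_descHom _ _ _ _ (genC_of h5) _ _).trans h1⟩
  rw [← inv_mul_cancel_right g c]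
  exact mul_mem_sup h3 (mem_centralizer_singleton_iff.2
    (((fsetup_o hQ hS h5).commute_iff hef h5 (descP_orth hφ) h _).2 ⟨1, m, Subtype.ext (by simp [c])⟩))

theorem split_odd_odd (hd : Odd (Fintype.card ι)) (ho : Odd (orderOf γ.1.right)) :
    Cfsg.splitClassCount (fsetup_o hQ hS h5).simPsi.range (Cfsg.Inn _)
      ((fsetup_o hQ hS h5).simPhi γ) = 1 := by
  have h2 : (2 : F) ≠ 0 := hS.two_ne_zero_of_odd (by rwa [finrank_of_card rfl])
  obtain ⟨e, f, hef⟩ := o_hyp hS h5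
  rw [split_eq hQ hS h5, Subgroup.index_eq_one, eq_top_iff]
  intro g _
  obtain ⟨c, t, ht, h1, h3⟩ := exists_dk_one hS (genC_of h5) hd g
  obtain ⟨m, -, -, h4⟩ := cover_OG hS (genC_of h5) (genC_of h5) (descP_orth hφ) h.2.choose_spec h2
    (by omega) (chi_map_odd hφ ho) ht h1 h3
  rw [← inv_mul_cancel_right g (descHom (descP_orth hφ) h.2.choose_spec m)]
  exact mul_mem_sup h4 (mem_centralizer_singleton_iff.2
    (((fsetup_o hQ hS h5).commute_iff hef h5 (descP_orth hφ) h _).2 ⟨1, m, Subtype.ext (by simp)⟩))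

theorem split_odd_two (hd : Odd (Fintype.card ι)) (ho : orderOf γ.1.right = 2) :
    Cfsg.splitClassCount (fsetup_o hQ hS h5).simPsi.range (Cfsg.Inn _)
      ((fsetup_o hQ hS h5).simPhi γ) = 2 := by
  obtain ⟨e, f, hef⟩ := o_hyp hS h5
  obtain ⟨θ, h1, h3, -⟩ := exists_theta_odd hS (genC_of h5) hd (by omega)
  rw [split_eq hQ hS h5, sup_eq_left.2, index_of_hom θ h1 h3]
  · simp
  intro g hg
  obtain ⟨c, m, rfl⟩ := ((fsetup_o hQ hS h5).commute_iff hef h5 (descP_orth hφ) h _).1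
    (mem_centralizer_singleton_iff.1 hg)
  obtain ⟨c', t, ht, h4, h6⟩ := exists_dk_one (h.2.choose_spec.nondeg hS) (genC_of h5) hd m
  exact mul_mem (scalar_mem_KO _ _ c) (desc_mem_KO hS _ (genC_of h5) _ _ (chi_map_two hφ ho) ht h4 h6)

theorem split_plus_sq (h2 : (2 : F) ≠ 0) {k : ℕ} (hk : Fintype.card ι = 2 * k)
    (hn : spG S (negG ι F) = 1) (ho : orderOf γ.1.right = 2) (M : Sim S)
    (hM : simIncl S M * γ = γ * simIncl S M) (hM1 : sdk hS (genC_of h5) hk M = 1) {l : F₀}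
    (hl : chi l = -1) (hM2 : (simMult hS M : F) = φ l) :
    (M ∈ KO hS (genC_of h5) → Cfsg.splitClassCount ((fsetup_o hQ hS h5).psiP (genC_of h5) hk).range
      (Cfsg.Inn _) ((fsetup_o hQ hS h5).simPhi γ) = 4) ∧
    (M ∉ KO hS (genC_of h5) → Cfsg.splitClassCount ((fsetup_o hQ hS h5).psiP (genC_of h5) hk).range
      (Cfsg.Inn _) ((fsetup_o hQ hS h5).simPhi γ) = 2) := by
  obtain ⟨e, f, hef⟩ := o_hyp hS h5
  have D := descP_orth hφ
  have he := h.2.choose_spec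
  have hS₀ := he.nondeg hS
  have hc := (fsetup_o hQ hS h5).commute_iff hef h5 D h
  have hMc : (fsetup_o hQ hS h5).simPsi M * (fsetup_o hQ hS h5).simPhi γ =
      (fsetup_o hQ hS h5).simPhi γ * (fsetup_o hQ hS h5).simPsi M := by
    have := congrArg (fsetup_o hQ hS h5).simPhi hM
    rwa [map_mul, map_mul] at this
  have hs : ∀ (c : Fˣ) m, sdk hS (genC_of h5) hk (⟨_, scalar_mem_Sim c⟩ * descHom D he m) =
      sdk hS₀ (genC_of h5) hk m := fun c m => by
    rw [map_mul, sdk_scalar, one_mul, sdk_descHom]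
  have hμ : ∀ (c : Fˣ) m, smu hS (⟨_, scalar_mem_Sim c⟩ * descHom D he m) = 1 := fun c m => by
    rw [map_mul, smu_of_KO hS (genC_of h5) (scalar_mem_KO _ _ c), one_mul, smu_descHom,
      chi_map_two hφ ho]
  have hK : ∀ m, smu hS₀ m = 1 → sdk hS₀ (genC_of h5) hk m = 1 →
      descHom D he m ∈ KO hS (genC_of h5) := fun m h1 h3 => by
    obtain ⟨c, t, ht, h4⟩ := (smu_eq_one_iff hS₀).1 h1
    exact desc_mem_KO hS _ (genC_of h5) _ _ (chi_map_two hφ ho) ht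
      ((sdk_eq hS₀ _ hk ht h4).symm.trans h3) h4
  obtain ⟨c₁, m₁, hm₁⟩ := (hc M).1 hMc
  have h1 : smu hS₀ m₁ = -1 := by
    have k1 := descHom_commute D h.1.choose_spec he m₁
    have k2 : simIncl S ⟨_, scalar_mem_Sim c₁⟩ * γ = γ * simIncl S ⟨_, scalar_mem_Sim c₁⟩ := by
      rw [hm₁, map_mul, mul_assoc, k1, ← mul_assoc, ← mul_assoc, mul_left_inj] at hM
      exact hM
    have k3 := congrArg (fun x : GammaS S => x.1.left) k2
    simp only [Subgroup.coe_mul, coe_simIncl, SemidirectProduct.mul_left, SemidirectProduct.left_inl,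
      SemidirectProduct.right_inl, map_one, MulAut.one_apply, fieldAutGL_scalar] at k3
    rw [← scalar_comm, mul_left_inj] at k3
    obtain ⟨c₀, hc₀⟩ := (hφ c₁).1 (congrArg Units.val (scalarGL_inj k3)).symm
    have h0 : c₀ ≠ 0 := by rintro rfl; exact c₁.ne_zero (by rw [← hc₀, map_zero])
    rw [hm₁, map_mul, simMult_scalar_o, simMult_descHom] at hM2
    push_cast at hM2
    rw [← hc₀, Units.coe_map, MonoidHom.coe_coe, ← map_pow, ← map_mul] at hM2
    rw [← φ.injective hM2, chi_sq_mul h0] at hl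
    exact hl
  have h3 : sdk hS₀ (genC_of h5) hk m₁ = 1 := by rw [← hs c₁, ← hm₁, hM1]
  rw [split_plus_eq hQ hS h5]
  refine ⟨fun hMK => ?_, fun hMK => ?_⟩
  · rw [sup_eq_left.2, index_KO_d8 hS _ h2 hk hn]
    intro g hg
    obtain ⟨c, m, hm⟩ := (hc _).1 (mem_centralizer_singleton_iff.1 hg)
    have h4 : sdk hS₀ (genC_of h5) hk m = 1 := by rw [← hs c, ← hm]; exact g.2
    change g.1 ∈ KO hS (genC_of h5)
    change g.1 = _ at hm
    rw [hm]
    refine mul_mem (scalar_mem_KO _ _ c) ?_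
    rcases Int.units_eq_one_or (smu hS₀ m) with h6 | h6
    · exact hK m h6 h4
    rw [← inv_mul_cancel_right m m₁, map_mul]
    refine mul_mem (hK _ (by rw [map_mul, map_inv, h6, h1, mul_inv_cancel])
      (by rw [map_mul, map_inv, h4, h3, mul_inv_cancel])) ?_
    rwa [hm₁, Subgroup.mul_mem_cancel_left _ (scalar_mem_KO _ _ c₁)] at hMK
  · rw [← index_smu hS (genC_of h5) h2 hk]
    congr 1
    refine le_antisymm (sup_le (fun g hg => smu_of_KO hS (genC_of h5) hg) fun g hg => ?_) fun g hg => ?_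
    · obtain ⟨c, m, hm⟩ := (hc _).1 (mem_centralizer_singleton_iff.1 hg)
      change g.1 = _ at hm
      change smu hS g.1 = 1
      rw [hm, hμ]
    · by_cases hgK : g.1 ∈ KO hS (genC_of h5)
      · exact mem_sup_left hgK
      rw [← inv_mul_cancel_right g ⟨M, hM1⟩]
      exact mul_mem_sup (mul_mem_KO_d8 hS _ h2 hk hn (g' := M) hg (by rw [hm₁, hμ]) g.2 hM1 hgK hMK)
        (mem_centralizer_singleton_iff.2 hMc)

omit hφ h

theorem exists_transport {ι' : Type} [Fintype ι'] [DecidableEq ι'] {S' : Form (orthParam F) (ι' → F)}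
    {Q' : (ι' → F) → F} (hQ' : ∀ v, S'.Q v = Q' v) (hS' : S'.Nondeg) (h5' : 5 ≤ Fintype.card ι')
    {j : (ι → F) ≃ₗ[F] (ι' → F)} (hj : IsIsom S S' j) :
    ∃ ψ : Cfsg.POmega F Q ≃* Cfsg.POmega F Q', ∀ (γ : GammaS S) (γ' : GammaS S'),
      (∀ v, semiAct γ'.1 (j v) = j (semiAct γ.1 v)) →
      MulAut.congr ψ ((fsetup_o hQ hS h5).simPhi γ) = (fsetup_o hQ' hS' h5').simPhi γ' := by
  let E : Cfsg.Omega F Q ≃* Cfsg.Omega F Q' := (omEquiv hQ).trans (hj.omEquiv.trans (omEquiv hQ').symm)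
  have hE : ∀ s v, omHom Q' (E s) (j v) = j (omHom Q s v) := fun s v => by
    have : omHom Q' (E s) = conjEquiv j (omHom Q s) :=
      congrArg Subtype.val ((omEquiv hQ').apply_symm_apply (hj.omEquiv (omEquiv hQ s)))
    rw [this, conjEquiv_apply, LinearEquiv.symm_apply_apply]
  have hZ : (center _).map (E : Cfsg.Omega F Q →* Cfsg.Omega F Q') = center _ := by
    ext x
    obtain ⟨x, rfl⟩ := E.surjective x
    refine (Subgroup.mem_map_iff_mem E.injective).trans ?_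
    simp only [mem_center_iff]
    refine ⟨fun h g => ?_, fun h g => E.injective ?_⟩
    · obtain ⟨g, rfl⟩ := E.surjective g
      rw [← map_mul, ← map_mul, h]
    · rw [map_mul, map_mul, h]
  refine ⟨QuotientGroup.congr _ _ E hZ, fun γ γ' hγ => ?_⟩
  ext x
  obtain ⟨x, rfl⟩ := (QuotientGroup.congr _ _ E hZ).surjective x
  induction x using QuotientGroup.induction_on with | H s =>
  obtain ⟨s', hs'⟩ := (fsetup_o hQ hS h5).exists_conj γ s
  rw [MulAut.congr_apply, MulEquiv.trans_apply, MulEquiv.trans_apply, MulEquiv.symm_apply_apply,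
    (fsetup_o hQ hS h5).simPhi_mk γ hs']
  refine ((fsetup_o hQ' hS' h5').simPhi_mk γ' (s := E s) (s' := E s') fun v => ?_).symm
  obtain ⟨v, rfl⟩ := j.surjective v
  rw [hγ, hE, hE, hγ, hs']

theorem right_eq_of_iso {ι' : Type} [Fintype ι'] [DecidableEq ι'] {S' : Form (orthParam F) (ι' → F)}
    {Q' : (ι' → F) → F} (hQ' : ∀ v, S'.Q v = Q' v) (hS' : S'.Nondeg) (h5' : 5 ≤ Fintype.card ι')
    {j : (ι → F) ≃ₗ[F] (ι' → F)} (hj : IsIsom S S' j)
    (hs : Function.Surjective (fsetup_o hQ' hS' h5').simPhi) (ψ : Cfsg.POmega F Q ≃* Cfsg.POmega F Q')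
    {γ : GammaS S} {γ' : GammaS S'}
    (h : MulAut.congr ψ ((fsetup_o hQ hS h5).simPhi γ) = (fsetup_o hQ' hS' h5').simPhi γ') :
    γ.1.right = γ'.1.right := by
  obtain ⟨ψ₀, hψ⟩ := exists_transport hQ hS h5 hQ' hS' h5' hj
  obtain ⟨γ₁, h1, h2⟩ := exists_trGamma j γ.1
  obtain ⟨e, f, hef⟩ := o_hyp hS' h5'
  have := hψ γ ⟨γ₁, _, isSemiSim_tr hj h1 h2 γ.2.choose_spec⟩ h2
  rw [← h1]
  refine (fsetup_o hQ' hS' h5').right_conj hef (by omega) hs
    (γ := ⟨γ₁, _, isSemiSim_tr hj h1 h2 γ.2.choose_spec⟩) (α := ψ₀.symm.trans ψ) ?_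
  rw [← this, ← h]
  ext x
  simp [MulAut.congr]

end Bridge

section Explicit

variable {F : Type*} [Field F] [Finite F]

omit [Finite F] in
theorem dgE_commute {ι κ : Type*} [Fintype ι] [DecidableEq ι] (b : Basis κ F (ι → F)) (u : κ → Fˣ)
    (γ : GammaL ι F) (π : κ → κ) (h1 : ∀ i, semiAct γ (b (π i)) = b i)
    (h2 : ∀ i, γ.right (u (π i)) = u i) : conjG γ (dgE b u) = dgE b u :=
  GL_ext_basis b fun i => by
    conv_lhs => rw [← h1, conjG_mulVec, dgE_mulVec, semiAct_smul, h1, h2]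
    rw [dgE_mulVec]

omit [Finite F] in
theorem basisFun_plus (m : ℕ) : ⇑(Pi.basisFun F (Fin m ⊕ Fin m)) =
    Sum.elim (fun i => Pi.single (.inl i) 1) (fun i => Pi.single (.inr i) 1) := by
  funext i
  rcases i with i | i <;> simp

variable {m : ℕ} [Nonempty (Fin m ⊕ Fin m)] (hm : 3 ≤ m) {F₀ : Type*} [Field F₀] [Finite F₀]
  {φ : F₀ →+* F}

theorem split_plus_dg (h2 : (2 : F) ≠ 0) {γ : GammaS (plusForm m F)}
    (hφ : ∀ a, γ.1.right a = a ↔ ∃ b, φ b = a) (ho : orderOf γ.1.right = 2)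
    (h1 : (fsP hm).simPhi γ ^ 2 = 1) (π : Fin m ⊕ Fin m → Fin m ⊕ Fin m)
    (hπ : ∀ i, semiAct γ.1 (Pi.single (π i) 1) = Pi.single i 1) {l : F₀} (hl : chi l = -1) {c : Fˣ}
    (hc : (c : F) ^ 2 = φ l) (u : Fin m ⊕ Fin m → Fˣ) (hu : ∀ i, u (.inl i) * u (.inr i) = c ^ 2)
    (hu' : ∀ i, γ.1.right (u (π i)) = u i) :
    Cfsg.splitClassCount ((fsP hm).psiP (genC_of (five_plus hm)) (card_plus m)).range (Cfsg.Inn _)
      ((fsP hm).simPhi γ) = if (∏ i, chi (u (.inl i) : F)) * (-chi (-1 : F₀)) ^ m = 1 then 4 else 2 := by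
  letI := Fintype.ofFinite F
  have hS := plusForm_nondeg (F := F) m
  have h5 := five_plus hm
  obtain ⟨e, f, hef⟩ := o_hyp hS h5
  obtain ⟨S₀, P, h⟩ := (fsP hm).exists_desc' hef (by omega) (descP_orth hφ) (ho ▸ h1)
  have hn : spG (plusForm m F) (negG _ F) = 1 := by
    rw [spG_neg_iff hS h2 (card_plus m), iff_true_intro (plusForm_isPlus m), true_iff]
    have h3 : chi (-1 : F) = 1 := by simpa using chi_map_two hφ ho (-1)
    have h4 : Odd (Fintype.card F) := by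
      rw [← Nat.not_even_iff_odd, Nat.even_iff, ← FiniteField.even_card_iff_char_two]
      exact ringChar_ne_two h2
    rw [Nat.pow_mod, (chi_neg_one_eq_one_iff h4).1 h3]
    simp
  have hH := plusForm_hypFam (F := F) m
  have hb := basisFun_plus (F := F) m
  have := split_plus_sq (plusForm_Q m) hS h5 hφ h h2 (card_plus m) hn ho ⟨_, dgE_mem_Sim hH hb hu⟩
    (by
      have := simIncl_conjS γ ⟨_, dgE_mem_Sim hH hb hu⟩
      rwa [show conjS γ ⟨_, dgE_mem_Sim hH hb hu⟩ = ⟨_, dgE_mem_Sim hH hb hu⟩ from Subtype.ext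
        (dgE_commute _ u γ.1 π (by simpa using hπ) hu'), eq_mul_inv_iff_mul_eq] at this)
    (sdk_dgE hH hb hS _ _ hu) hl (by rw [simMult_dgE hH hb hS hu, ← hc]; simp)
  have hK := mem_KO_d8 hS (genC_of h5) h2 (card_plus m) hn (g := ⟨_, dgE_mem_Sim hH hb hu⟩)
    (dgE_mem_OG hH hb _) (dgE_split hH hb hu)
  rw [(dkG_spG_dgE hH hb hS (genC_of h5) _).1, (dkG_spG_dgE hH hb hS (genC_of h5) _).2] at hK
  have hp : ∏ i, chi ((u (.inl i) / c : Fˣ) : F) = (∏ i, chi (u (.inl i) : F)) * (-chi (-1 : F₀)) ^ m := by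
    rw [← chi_sqrt hφ ho hl hc, ← Fin.prod_const, ← Finset.prod_mul_distrib]
    refine Finset.prod_congr rfl fun i _ => ?_
    rw [div_eq_mul_inv, Units.val_mul, chi_mul (Units.ne_zero _) (Units.ne_zero _), Units.val_inv_eq_inv_val,
      chi_inv]
  rw [hp, and_iff_right rfl] at hK
  split_ifs with h3
  · exact this.1 (hK.2 h3)
  · exact this.2 (hK.not.2 h3)

omit [Finite F] [Finite F₀] in
theorem exists_sqrt [Finite F] {σ : F ≃+* F} (hφ : ∀ a, σ a = a ↔ ∃ b, φ b = a) (ho : orderOf σ = 2)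
    {l : F₀} (hl : l ≠ 0) : ∃ c : Fˣ, (c : F) ^ 2 = φ l := by
  obtain ⟨c, hc⟩ := chi_eq_one_iff.1 (chi_map_two hφ ho l)
  have h0 : c ≠ 0 := by rintro rfl; exact hl (φ.injective (by simpa using hc))
  exact ⟨Units.mk0 c h0, by simp [hc, sq]⟩

theorem split_field_plus (h2 : (2 : F) ≠ 0) {σ : F ≃+* F} (hφ : ∀ a, σ a = a ↔ ∃ b, φ b = a)
    (ho : orderOf σ = 2) :
    Cfsg.splitClassCount ((fsP hm).psiP (genC_of (five_plus hm)) (card_plus m)).range (Cfsg.Inn _)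
      ((fsP hm).simPhi ⟨_, plus_inr_mem m σ⟩) = if (-chi (-1 : F₀)) ^ m = 1 then 4 else 2 := by
  obtain ⟨l, hl0, hl⟩ := exists_chi_eq_neg_one ((two_ne_iff φ).2 h2)
  obtain ⟨c, hc⟩ := exists_sqrt hφ ho hl0
  rw [split_plus_dg hm h2 (γ := ⟨_, plus_inr_mem m σ⟩) hφ ho (by
      rw [← map_pow, show (⟨_, plus_inr_mem m σ⟩ : GammaS _) ^ 2 = 1 from Subtype.ext (by
        rw [SubmonoidClass.coe_pow, ← map_pow, ← ho, pow_orderOf_eq_one, map_one]; rfl), map_one])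
    id (fun i => by
      rw [semiAct_inr]
      funext j
      by_cases h : j = i <;> simp [h]) hl hc (Sum.elim (fun _ => c ^ 2) fun _ => 1) (by simp) (by
      rintro (i | i)
      · simpa [hc] using (hφ _).2 ⟨l, rfl⟩
      · simp)]
  simp [chi_sq]

/-- the standard graph-field automorphism -/
noncomputable def grF (i : Fin m) (σ : F ≃+* F) : GammaS (plusForm m F) :=
  simIncl _ (rfS _ (Pi.single (.inl i) 1 + (-1 : F) • Pi.single (.inr i) 1)) * ⟨_, plus_inr_mem m σ⟩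

omit [Nonempty (Fin m ⊕ Fin m)] in
theorem grF_right (i : Fin m) (σ : F ≃+* F) : (grF i σ).1.right = σ := one_mul _

omit [Nonempty (Fin m ⊕ Fin m)] in
theorem rf_inr_sq {v : Fin m ⊕ Fin m → F} {σ : F ≃+* F} (hv : ∀ i, σ (v i) = v i) (ho : orderOf σ = 2) :
    (simIncl _ (rfS _ v) * ⟨_, plus_inr_mem m σ⟩) ^ 2 = 1 := by
  have hcm : Commute (simIncl _ (rfS _ v)) ⟨_, plus_inr_mem m σ⟩ := by
    have := simIncl_conjS ⟨_, plus_inr_mem m σ⟩ (rfS _ v)
    rw [conjS_rfS, semiAct_inr, funext hv, eq_mul_inv_iff_mul_eq] at this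
    exact this
  rw [hcm.mul_pow, ← map_pow, sq, rfS_mul_self, map_one, one_mul]
  exact Subtype.ext (by rw [SubmonoidClass.coe_pow, ← map_pow, ← ho, pow_orderOf_eq_one, map_one]; rfl)

omit [Nonempty (Fin m ⊕ Fin m)] in
theorem grF_sq (i : Fin m) {σ : F ≃+* F} (ho : orderOf σ = 2) : grF i σ ^ 2 = 1 :=
  rf_inr_sq (fun j => by rcases j with j | j <;> by_cases h : j = i <;> simp [h]) ho

theorem gdk_inr (σ : F ≃+* F) :
    gdk (plusForm_nondeg m) (plusForm_isPlus m) ⟨_, plus_inr_mem m σ⟩ = 1 := by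
  refine gdk_of_fix _ _ _ ((plusForm_hypFam m).isLag_left (by simp; omega)) (gmap_span ?_)
  rintro _ ⟨i, rfl⟩
  refine Submodule.subset_span ⟨i, ?_⟩
  rw [semiAct_inr]
  funext j
  by_cases h : j = .inl i <;> simp [h]

include hm in
theorem gdk_rf_inr {v : Fin m ⊕ Fin m → F} (hv : (plusForm m F).Q v ≠ 0) (σ : F ≃+* F) :
    gdk (plusForm_nondeg m) (plusForm_isPlus m) (simIncl _ (rfS _ v) * ⟨_, plus_inr_mem m σ⟩) = -1 := by
  rw [map_mul, gdk_inr, gdk_simIncl _ _ (genC_of (five_plus hm)) (card_plus m), sdk_rfS _ _ _ hv, mul_one]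

include hm in
theorem gdk_grF (i : Fin m) (σ : F ≃+* F) :
    gdk (plusForm_nondeg m) (plusForm_isPlus m) (grF i σ) = -1 :=
  gdk_rf_inr hm (by rw [((plusForm_hypFam m).isHyp i).Q_comb']; simp) σ

theorem split_graph_plus (h2 : (2 : F) ≠ 0) {σ : F ≃+* F} (hφ : ∀ a, σ a = a ↔ ∃ b, φ b = a)
    (ho : orderOf σ = 2) (i : Fin m) :
    Cfsg.splitClassCount ((fsP hm).psiP (genC_of (five_plus hm)) (card_plus m)).range (Cfsg.Inn _)
      ((fsP hm).simPhi (grF i σ)) = if (-chi (-1 : F₀)) ^ m = 1 then 2 else 4 := by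
  obtain ⟨l, hl0, hl⟩ := exists_chi_eq_neg_one ((two_ne_iff φ).2 h2)
  obtain ⟨c, hc⟩ := exists_sqrt hφ ho hl0
  obtain ⟨w, hw⟩ := exists_nrm_eq (σ := σ) two_ne_zero ho (c := c ^ 2) (by
    simpa [hc] using (hφ _).2 ⟨l, rfl⟩)
  have hw' : w * Units.map (σ : F →* F) w = c ^ 2 := by
    rw [← hw]; exact Units.ext (by rw [coe_nrm]; simp [Finset.prod_range_succ])
  have hσ : ∀ a, σ (σ a) = a := fun a => by
    rw [← RingAut.mul_apply, ← sq, ← ho, pow_orderOf_eq_one]; rfl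
  have hH := (plusForm_hypFam (F := F) m)
  rw [split_plus_dg hm h2 (γ := grF i σ) (by rwa [grF_right]) (by rwa [grF_right])
    (by rw [← map_pow, grF_sq i ho, map_one]) (Equiv.swap (.inl i) (.inr i)) (fun j => ?_) hl hc
    (Sum.elim (fun j => if j = i then w else c ^ 2) fun j => if j = i then Units.map (σ : F →* F) w else 1)
    (fun j => by by_cases h : j = i <;> simp [h, hw']) ?_]
  · rw [Finset.prod_eq_single i (fun j _ hj => by simp [hj, chi_sq]) (by simp)]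
    simp only [Sum.elim_inl, if_true]
    rw [chi_nrm_two hφ ho (n := l) (by rw [← hc]; simpa using (congrArg Units.val hw').symm), hl]
    generalize (-chi (-1 : F₀)) ^ m = s
    revert s
    decide
  · rw [grF_right]
    rintro (j | j) <;> by_cases h : j = i
    · subst h; simp [hσ]
    · rw [Equiv.swap_apply_of_ne_of_ne (by simpa using h) (by simp)]
      simpa [h, hc] using (hφ _).2 ⟨l, rfl⟩
    · subst h; simp
    · rw [Equiv.swap_apply_of_ne_of_ne (by simp) (by simpa using h)]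
      simp [h]
  · have : (fun k => σ ((Pi.single (Equiv.swap (.inl i) (.inr i) j) 1 : Fin m ⊕ Fin m → F) k)) =
        Pi.single (Equiv.swap (.inl i) (.inr i) j) 1 := by
      funext k
      by_cases h : k = Equiv.swap (.inl i) (.inr i) j <;> simp [h]
    rw [grF, Subgroup.coe_mul, semiAct_mul, semiAct_inr, this, coe_simIncl, semiAct_inl, coe_rfS,
      rfG_mulVec]
    by_cases h1 : j = .inl i
    · subst h1
      rw [Equiv.swap_apply_left, rf_hyp_f (hH.isHyp i) (by simp)]; simp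
    by_cases h3 : j = .inr i
    · subst h3
      rw [Equiv.swap_apply_right, rf_hyp_e (hH.isHyp i) (by simp)]; simp
    rw [Equiv.swap_apply_of_ne_of_ne h1 h3]
    refine rf_fix ?_
    rw [add_right, orth_smul_right, plusForm_B_inl, plusForm_B_inr]
    simp [Ne.symm h1, Ne.symm h3]

omit [Finite F₀] in
theorem neg_chi_pow [Fintype F₀] (ho : Odd (Fintype.card F₀)) (m : ℕ) :
    (-chi (-1 : F₀)) ^ m = 1 ↔ ¬ (Odd m ∧ Fintype.card F₀ % 4 = 1) := by
  rw [← chi_neg_one_eq_one_iff ho]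
  rcases Int.units_eq_one_or (chi (-1 : F₀)) with h | h <;> rw [h]
  · rw [neg_one_pow_eq_one_iff_even (by decide)]; simp
  · simp

theorem graphField_iff {x : MulAut (Cfsg.POmega F (Cfsg.quadFormPlus m F))}
    (hx : Cfsg.IsGraphFieldAutClassPOmegaPlus m x) : ∃ (α : MulAut _) (σ : F ≃+* F) (v : Fin m ⊕ Fin m → F),
      σ ≠ 1 ∧ (plusForm m F).Q v ≠ 0 ∧ (∀ i, σ (v i) = v i) ∧
      α * x * α⁻¹ = (fsP hm).simPhi (simIncl _ (rfS _ v) * ⟨_, plus_inr_mem m σ⟩) := by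
  obtain ⟨α, γ, ψ, σ, v, r, h1, h2, h3, h4, h5, h6, h7⟩ := hx
  obtain rfl : r = rfG (plusForm m F) v := GL_ext_mulVec fun w => by
    rw [h4, reflectionMatrix_mulVec (plusForm_Q m), rfG_mulVec]
  rw [fieldPO_iff (plusForm_Q m) (plusForm_nondeg m) (five_plus hm) (plus_inr_mem m σ)] at h6
  have h8 := (linearPO_iff (plusForm_Q m) (plusForm_nondeg m) (five_plus hm) (rfS _ v) γ).1 h5
  exact ⟨α, σ, v, h1, by rwa [plusForm_Q], h3, by rw [h7, h6, h8, map_mul]; rfl⟩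

end Explicit

end CfsgH8
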