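import Cfsg.Agent.H8.AutSp
import Cfsg.Agent.H5.UnitMat

/-!
Automorphisms of `PSU`.
-/

set_option autoImplicit false

namespace CfsgH8

open Subgroup Module Matrix CfsgH5 CfsgH5.Form

variable {F : Type*} [Field F] [Fintype F] {n q : ℕ} (hF : Fintype.card F = q ^ 2)
include hF

theorem fsetup_su (hn : 3 ≤ n) : FSetup (uForm hF n) (suHom n F q) :=
  ⟨uForm_nondeg hF n, suHom_inj n, range_suHom_EG hF hn, Or.inl (unit_Λ (frobQ_ne hF))⟩

theorem exists_cube_ne (hq : q ≠ 2) : ∃ μ : F, μ ≠ 0 ∧ (μ / frobQ hF μ) ^ 3 ≠ 1 := by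
  by_contra h
  push Not at h
  have h1 := card_normOne hF
  have h2 := two_le_of_card_sq hF
  have h3 : Nat.card (normOne hF) ≤ Nat.card {x : F // x ^ 3 = 1} :=
    Nat.card_le_card_of_injective (fun x => ⟨(x.1 : F), by
      obtain ⟨a, ha, hax⟩ := exists_div_of_norm_one (frobQ hF) (frobQ_invol hF) (frobQ_ne hF) x.2
      rw [← hax]; exact h a ha⟩) fun x y hxy => Subtype.ext (Units.ext (congrArg Subtype.val hxy))
  rw [card_pow_eq_one_field (by norm_num)] at h3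
  have := Nat.gcd_le_left (Fintype.card F - 1) (show 0 < 3 by norm_num)
  omega

theorem su_cases (hn : 3 ≤ n) (hs : ¬ (n = 3 ∧ q = 2)) {e f : Fin n → F} (hef : (uForm hF n).IsHyp e f) :
    Case1 (uForm hF n) e f ∨ Case2 (uForm hF n) (suHom n F q) e f := by
  have hW := (uForm_nondeg hF n).finrank_perp_hyp hef
  have hWn := (uForm_nondeg hF n).nondegOn_perp_hyp hef
  rw [finrank_fin_fun] at hW
  rcases hn.eq_or_lt with rfl | h4
  · right
    have h1 : finrank F ((uForm hF 3).perp {e, f}) = 1 := by omega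
    refine ⟨h1, rfl, frobQ_ne hF, fun P hsub hP a => ?_⟩
    obtain ⟨d, hdW, hd⟩ := hWn.unit_exists_aniso (frobQ_ne hF)
      (Submodule.one_le_finrank_iff.1 h1.ge)
    have hd' := (mem_perp_pair _).1 hdW
    have key : ∀ μ : F, μ ≠ 0 → P (frobQ hF μ * (frobQ hF μ / μ)) := fun μ hμ => by
      have hμ' : frobQ hF μ ≠ 0 := by simpa using hμ
      have hζ : frobQ hF μ / μ * frobQ hF (frobQ hF μ / μ) = 1 := by
        rw [map_div₀, frobQ_invol]; field_simp
      obtain ⟨g, hg⟩ := exists_suHom hF (g := dil hef hμ * (uForm hF 3).qrefl hd hζ)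
        ⟨mul_mem (dil_mem _ _) (qrefl_mem _ _), mem_slSub.2 (by
          rw [det_mul', det_dil, det_qrefl]
          change μ / frobQ hF μ * _ = 1
          field_simp)⟩
      refine hP g μ (frobQ hF μ)⁻¹ _ ?_ ?_ fun w hw => ?_
      · rw [hg, LinearEquiv.mul_apply, qrefl_fix _ _ (perp_symm hd'.1), dil_e]
      · rw [hg, LinearEquiv.mul_apply, qrefl_fix _ _ (perp_symm hd'.2), dil_f]; rfl
      · obtain ⟨c, hc⟩ := exists_smul_of_one h1 (v := ⟨d, hdW⟩)
          (fun h => hd (by rw [show d = 0 from congrArg Subtype.val h]; simp)) ⟨w, hw⟩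
        obtain rfl : w = c • d := congrArg Subtype.val hc
        rw [hg, map_smul, LinearEquiv.mul_apply, qrefl_self, map_smul, dil_fix _ _ hd'.1 hd'.2]
        change frobQ hF μ • _ = _
        module
    obtain ⟨μ, hμ, hμ3⟩ := exists_cube_ne hF fun h => hs ⟨rfl, h⟩
    have hμ' : frobQ hF μ ≠ 0 := by simpa using hμ
    have h0 : P 0 := by simpa using hsub _ _ (key 1 one_ne_zero) (key 1 one_ne_zero)
    have k1 : ∀ r, frobQ hF r = r → P r := fun r hr => by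
      rcases eq_or_ne r 0 with rfl | h
      · exact h0
      · simpa [hr, h] using key r h
    set c := frobQ hF μ * (frobQ hF μ / μ) with hc
    have k2 : ∀ r, frobQ hF r = r → P (r * c) := fun r hr => by
      rcases eq_or_ne r 0 with rfl | h
      · simpa using h0
      · convert key (r * μ) (mul_ne_zero h hμ) using 1
        rw [map_mul, hr, hc]; field_simp
    have hc0 : c - frobQ hF c ≠ 0 := by
      intro h
      apply hμ3
      rw [hc, map_mul, map_div₀, frobQ_invol] at h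
      field_simp at h ⊢
      linear_combination -h
    have hc1 : frobQ hF c - c ≠ 0 := fun h => hc0 (by linear_combination -h)
    have hs1 : frobQ hF (-((a - frobQ hF a) / (c - frobQ hF c))) = -((a - frobQ hF a) / (c - frobQ hF c)) := by
      simp only [map_neg, map_div₀, map_sub, frobQ_invol]
      field_simp
      ring
    have := hsub _ _ (k1 (a + -((a - frobQ hF a) / (c - frobQ hF c)) * c) (by
      rw [map_add, map_mul, hs1]
      field_simp
      ring)) (k2 _ hs1)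
    simpa using this
  · obtain ⟨u, hu, v, -, huv⟩ := hWn.unit_exists_hyp (frobQ_ne hF) (by omega)
    exact Or.inl ⟨u, hu, huv.ne_left, huv.qe⟩

theorem su_noExc (hn : 3 ≤ n) {e f : Fin n → F} (hef : (uForm hF n).IsHyp e f) :
    FSetup.NoExc (uForm hF n) e f := by
  obtain ⟨d, hdW, hd⟩ := ((uForm_nondeg hF n).nondegOn_perp_hyp hef).unit_exists_aniso (frobQ_ne hF)
    ((uForm_nondeg hF n).unit_perp_hyp_ne (by simpa using hn) hef)
  obtain ⟨a, ha⟩ := frobQ_ne hF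
  refine Or.inl ⟨d, hdW, a • d, Submodule.smul_mem _ _ hdW, fun h => ha ?_⟩
  rw [smul_left, smul_right] at h
  exact (mul_right_cancel₀ hd h).symm

theorem su_hyp (hn : 3 ≤ n) : ∃ e f, (uForm hF n).IsHyp e f :=
  (uForm_nondeg hF n).unit_exists_hyp (frobQ_ne hF) (by simp; omega)

theorem su_surj (hn : 3 ≤ n) (hs : ¬ (n = 3 ∧ q = 2)) : Function.Surjective (fsetup_su hF hn).simPhi := by
  obtain ⟨e, f, hef⟩ := su_hyp hF hn
  exact (fsetup_su hF hn).simPhi_surj hef (su_cases hF hn hs hef) (su_noExc hF hn hef)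

omit [Fintype F] hF in
theorem coe_rhoGL_su (s : Cfsg.SU n F q) :
    (rhoGL (suHom n F q) s : Matrix (Fin n) (Fin n) F) =
      ((s : Matrix.SpecialLinearGroup (Fin n) F) : Matrix (Fin n) (Fin n) F) :=
  mat_ext fun v => by rw [rhoGL_mulVec]; rfl

theorem isSemiSim_su {γ : GammaL (Fin n) F} {κ : F} (h0 : κ ≠ 0) (h1 : frobQ hF κ = κ)
    (h : ∀ x y, (uForm hF n).B (semiAct γ x) (semiAct γ y) = κ * γ.right ((uForm hF n).B x y)) :
    IsSemiSim (uForm hF n) γ κ := ⟨h0, h1, h, fun x l hl => by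
  rw [unit_q_eq_π] at hl ⊢
  rw [h, hl, map_add, map_mul, h1, mul_add]
  congr 2
  exact (ringHom_comm (frobQ hF) (γ.right : F →+* F) l).symm⟩

theorem isSemiSim_su_inr (σ : F ≃+* F) : IsSemiSim (uForm hF n) (SemidirectProduct.inr σ) 1 :=
  isSemiSim_su hF one_ne_zero (map_one _) fun x y => by simp [semiAct_inr, uForm_B_apply, frobQ_apply]

theorem su_inr_mem (σ : F ≃+* F) : SemidirectProduct.inr σ ∈ GammaS (uForm hF n) :=
  ⟨1, isSemiSim_su_inr hF σ⟩

theorem mem_GU_iff_isom {g : GL (Fin n) F} : g ∈ Cfsg.GU n F q ↔ glRho g ∈ (uForm hF n).isom := by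
  rw [GU_eq hF]; rfl

theorem GU_le_Sim : Cfsg.GU n F q ≤ Sim (uForm hF n) := fun _ hg =>
  isom_mem_Sim ((mem_GU_iff_isom hF).1 hg)

theorem su_mk_mem {g : GL (Fin n) F} (hg : g ∈ Cfsg.GU n F q) (σ : F ≃+* F) :
    (⟨g, σ⟩ : GammaL _ F) ∈ GammaS (uForm hF n) :=
  (mem_GammaS_of_inr (su_inr_mem hF σ)).2 (GU_le_Sim hF hg)

theorem exists_GU_of_Sim [Nonempty (Fin n)] (g : Sim (uForm hF n)) :
    ∃ (c : Fˣ) (h : Cfsg.GU n F q), (g : GL (Fin n) F) = GeneralLinearGroup.scalar (Fin n) c * (h : GL (Fin n) F) := by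
  have h := simMult_spec (uForm_nondeg hF n) g
  obtain ⟨c, hc⟩ := exists_norm hF h.fix
  have hc0 : c ≠ 0 := by rintro rfl; exact h.ne (by simpa using hc.symm)
  refine ⟨Units.mk0 c hc0, ⟨((⟨_, scalar_mem_Sim (Units.mk0 c hc0)⟩ : Sim (uForm hF n))⁻¹ * g : Sim _),
    (mem_GU_iff_isom hF).2 ((isom_iff_simMult (uForm_nondeg hF n) _).2 ?_)⟩, by simp⟩
  rw [map_mul, map_inv, inv_mul_eq_one]
  exact Units.ext ((simMult_scalar _ _).trans hc)

/-- inner-diagonal automorphisms of `PSU` -/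
noncomputable def suPsi (hn : 3 ≤ n) : Cfsg.GU n F q →* MulAut (Cfsg.PSU n F q) :=
  (fsetup_su hF hn).simPsi.comp (Subgroup.inclusion (GU_le_Sim hF))

theorem range_suPsi (hn : 3 ≤ n) : (suPsi hF hn).range = (fsetup_su hF hn).simPsi.range := by
  haveI : Nonempty (Fin n) := ⟨⟨0, by omega⟩⟩
  refine le_antisymm (by rintro _ ⟨g, rfl⟩; exact ⟨_, rfl⟩) ?_
  rintro _ ⟨g, rfl⟩
  obtain ⟨c, h, hg⟩ := exists_GU_of_Sim hF g
  refine ⟨h, ?_⟩
  have : g = ⟨_, scalar_mem_Sim c⟩ * Subgroup.inclusion (GU_le_Sim hF) h := Subtype.ext hg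
  rw [this, map_mul, FSetup.simPsi_scalar, one_mul]
  rfl

theorem semilinearPSU_iff (hn : 3 ≤ n) (γ : GammaS (uForm hF n)) (β : MulAut (Cfsg.PSU n F q)) :
    Cfsg.IsInducedBySemilinearPSU γ.1.left γ.1.right β ↔ β = (fsetup_su hF hn).simPhi γ := by
  rw [FSetup.eq_simPhi_iff]
  simp only [coe_rhoGL_su]
  rfl

theorem fieldPSU_iff (hn : 3 ≤ n) (σ : F ≃+* F) (β : MulAut (Cfsg.PSU n F q)) :
    Cfsg.IsFieldAutPSUOf σ β ↔ β = (fsetup_su hF hn).simPhi ⟨_, su_inr_mem hF σ⟩ := by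
  rw [← semilinearPSU_iff hF hn]
  simp [Cfsg.IsFieldAutPSUOf, Cfsg.IsInducedBySemilinearPSU]

theorem inndiagPSU_iff (hn : 3 ≤ n) (β : MulAut (Cfsg.PSU n F q)) :
    Cfsg.IsInnerDiagonalAutPSU β ↔ β ∈ (suPsi hF hn).range := by
  constructor
  · rintro ⟨g, hg, h⟩
    exact ⟨⟨g, hg⟩, ((semilinearPSU_iff hF hn ⟨_, su_mk_mem hF hg 1⟩ β).1 h).symm⟩
  · rintro ⟨g, rfl⟩
    exact ⟨g, g.2, (semilinearPSU_iff hF hn ⟨_, su_mk_mem hF g.2 1⟩ _).2 rfl⟩

theorem inndiagPSU_eq (hn : 3 ≤ n) : Cfsg.inndiagPSU n F q = (suPsi hF hn).range := by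
  rw [Cfsg.inndiagPSU, Cfsg.autSubgroupOf, ← closure_eq (MonoidHom.range _)]
  congr 1
  ext β
  exact inndiagPSU_iff hF hn β

theorem exists_su_split (hn : 3 ≤ n) (γ : GammaS (uForm hF n)) : ∃ g : Cfsg.GU n F q,
    (fsetup_su hF hn).simPhi γ = suPsi hF hn g * (fsetup_su hF hn).simPhi ⟨_, su_inr_mem hF γ.1.right⟩ := by
  rw [(fsetup_su hF hn).simPhi_split γ (su_inr_mem hF _)]
  obtain ⟨g, hg⟩ := (range_suPsi hF hn).ge ⟨⟨γ.1.left, (mem_GammaS_of_inr (su_inr_mem hF _)).1 γ.2⟩, rfl⟩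
  exact ⟨g, by rw [hg]⟩

theorem suPsi_mul_inr (hn : 3 ≤ n) (g : Cfsg.GU n F q) (σ : F ≃+* F) :
    suPsi hF hn g * (fsetup_su hF hn).simPhi ⟨_, su_inr_mem hF σ⟩ =
      (fsetup_su hF hn).simPhi ⟨_, su_mk_mem hF g.2 σ⟩ :=
  ((fsetup_su hF hn).simPhi_split ⟨_, su_mk_mem hF g.2 σ⟩ (su_inr_mem hF σ)).symm

/-- the determinant on `GU` -/
noncomputable def guDet : Cfsg.GU n F q →* (nrm (frobE hF) 2).ker :=
  (GeneralLinearGroup.det.comp (Cfsg.GU n F q).subtype).codRestrict _ fun g =>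
    det_GU (frobE_apply hF) g.2

theorem guDet_surj (hn : 1 ≤ n) : Function.Surjective (guDet (n := n) hF) := fun c => by
  obtain ⟨g, hg, h⟩ := exists_GU_det hn (frobE_apply hF) c.2
  exact ⟨⟨g, hg⟩, Subtype.ext h⟩

theorem card_ker_nrm : Nat.card (nrm (frobE hF) 2).ker = q + 1 := by
  rw [← card_normOne hF]
  congr 2
  ext c
  rw [MonoidHom.mem_ker, ← Units.val_inj, coe_nrm, Finset.prod_range_succ, Finset.prod_range_one]
  rfl

theorem scalar_mem_GU {c : Fˣ} :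
    GeneralLinearGroup.scalar (Fin n) c ∈ Cfsg.GU n F q ↔ n = 0 ∨ nrm (frobE hF) 2 c = 1 := by
  rcases Nat.eq_zero_or_pos n with rfl | hn
  · simp [Subsingleton.elim (GeneralLinearGroup.scalar (Fin 0) c) 1]
  haveI : Nonempty (Fin n) := ⟨⟨0, hn⟩⟩
  rw [mem_GU_iff_isom hF, isom_iff_simMult (uForm_nondeg hF n) ⟨_, scalar_mem_Sim c⟩, ← Units.val_inj,
    simMult_scalar, ← Units.val_inj, coe_nrm, Finset.prod_range_succ, Finset.prod_range_one]
  simp only [hn.ne', false_or]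
  rfl

theorem su_mem_Inn (hn : 3 ≤ n) (g : Cfsg.GU n F q) : suPsi hF hn g ∈ Cfsg.Inn _ ↔
    guDet hF g ∈ (powMonoidHom n : (nrm (frobE hF) 2).ker →* _).range := by
  obtain ⟨e, f, hef⟩ := su_hyp hF hn
  rw [suPsi, MonoidHom.comp_apply, (fsetup_su hF hn).simPsi_mem_Inn hef (by simpa using hn)]
  have hs : ∀ s : Cfsg.SU n F q, rhoGL (suHom n F q) s ∈ Cfsg.GU n F q := fun s =>
    (mem_GU_iff_isom hF).2 (by rw [glRho_rhoGL]; exact (fsetup_su hF hn).mem s)
  constructor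
  · rintro ⟨s, c, h⟩
    have hc : GeneralLinearGroup.scalar (Fin n) c ∈ Cfsg.GU n F q := by
      have := g.2
      rw [show (g : GL (Fin n) F) = _ from h] at this
      exact (mul_mem_cancel_right (hs s)).1 this
    refine ⟨⟨c, ((scalar_mem_GU hF).1 hc).resolve_left (by omega)⟩, Subtype.ext ?_⟩
    change c ^ n = GeneralLinearGroup.det (g : GL (Fin n) F)
    rw [show (g : GL (Fin n) F) = _ from h, map_mul, det_scalarGL, Fintype.card_fin]
    refine (mul_one _).symm.trans (congrArg _ (Units.ext ?_))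
    rw [GeneralLinearGroup.val_det_apply, coe_rhoGL_su]
    simp
  · rintro ⟨c, h⟩
    have h1 : (c : Fˣ) ^ n = GeneralLinearGroup.det (g : GL (Fin n) F) := congrArg Subtype.val h
    obtain ⟨s, hs⟩ := exists_suHom hF (g := glRho ((GeneralLinearGroup.scalar (Fin n) c.1)⁻¹ * (g : GL (Fin n) F)))
      ⟨(mem_GU_iff_isom hF).1 (mul_mem (inv_mem ((scalar_mem_GU hF).2 (Or.inr c.2))) g.2),
        mem_slSub.2 (by
          rw [det_glRho, ← GeneralLinearGroup.val_det_apply, map_mul, map_inv, det_scalarGL,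
            Fintype.card_fin, h1]; simp)⟩
    refine ⟨s, c, ?_⟩
    rw [← inv_mul_eq_iff_eq_mul]
    exact (rhoGL_eq fun v => by rw [hs]; rfl).symm

end CfsgH8
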