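import Cfsg.Agent.H8.AutSU

/-!
The outer automorphism group of `PSU`.
-/

set_option autoImplicit false

namespace CfsgH8

open Subgroup Module Matrix CfsgH5 CfsgH5.Form

variable {F : Type*} [Field F] [Fintype F] {n q : ℕ} (hF : Fintype.card F = q ^ 2)
include hF

theorem fieldAutGL_mem_GU {g : GL (Fin n) F} (hg : g ∈ Cfsg.GU n F q) (σ : F ≃+* F) :
    fieldAutGL σ g ∈ Cfsg.GU n F q := by
  rw [mem_GU_iff (frobE_apply hF)] at hg ⊢
  have := congrArg (fun M : Matrix (Fin n) (Fin n) F => M.map σ) hg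
  simp only [Matrix.map_mul, Matrix.map_one _ (map_zero σ) (map_one σ)] at this
  rw [← this, coe_fieldAutGL]
  congr 1
  ext i j
  simp [frobE_apply]

/-- semilinear unitary group -/
def GammaU (hF : Fintype.card F = q ^ 2) (n : ℕ) : Subgroup (GammaS (uForm hF n)) where
  carrier := {γ | γ.1.left ∈ Cfsg.GU n F q}
  mul_mem' := fun {a b} ha hb => mul_mem ha (fieldAutGL_mem_GU hF hb _)
  one_mem' := one_mem (Cfsg.GU n F q)
  inv_mem' := fun {a} ha => fieldAutGL_mem_GU hF (inv_mem ha) _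

theorem su_out {p f : ℕ} [Fact p.Prime] (hq : q = p ^ f) (hn : 3 ≤ n) (hs : ¬ (n = 3 ∧ q = 2)) :
    ∃ φ : Cfsg.Out (Cfsg.PSU n F q) →* Multiplicative (ZMod (2 * f)), Function.Surjective φ ∧
      IsCyclic φ.ker ∧ Nat.card φ.ker = Nat.gcd n (q + 1) := by
  haveI : Nonempty (Fin n) := ⟨⟨0, by omega⟩⟩
  obtain ⟨e⟩ := exists_ringAut_equiv (F := F) (p := p) (f := 2 * f) (by rw [hF, hq, ← pow_mul, mul_comm])
  let r : GammaU hF n →* Multiplicative (ZMod (2 * f)) :=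
    e.toMonoidHom.comp ((simRight _).comp (GammaU hF n).subtype)
  have hr : ∀ γ, r γ = 1 ↔ γ.1.1.right = 1 := fun γ => e.map_eq_one_iff
  let D : r.ker →* (nrm (frobE hF) 2).ker :=
    { toFun := fun γ => guDet hF ⟨γ.1.1.1.left, γ.1.2⟩
      map_one' := map_one (guDet hF)
      map_mul' := fun a b => by
        rw [← map_mul]
        congr 1
        ext1
        simp [(hr _).1 a.2] }
  let Φ := (fsetup_su hF hn).simPhi.comp (GammaU hF n).subtype
  have hΦ : Function.Surjective Φ := fun β => by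
    obtain ⟨γ, rfl⟩ := su_surj hF hn hs β
    obtain ⟨g, hg⟩ := exists_su_split hF hn γ
    exact ⟨⟨⟨_, su_mk_mem hF g.2 γ.1.right⟩, g.2⟩, by rw [hg, suPsi_mul_inr]; rfl⟩
  obtain ⟨e₁, f₁, hef⟩ := su_hyp hF hn
  obtain ⟨φ, h1, h2, h3⟩ := out_struct Φ hΦ r
    (fun a => ⟨⟨⟨_, su_inr_mem hF (e.symm a)⟩, one_mem (Cfsg.GU n F q)⟩, e.apply_symm_apply a⟩)
    (fun γ h => (hr γ).2 (((fsetup_su hF hn).simPhi_mem_Inn hef (by simpa using hn)).1 h).1) D
    (fun c => by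
      obtain ⟨M, hM⟩ := guDet_surj hF (n := n) (by omega) c
      exact ⟨⟨⟨⟨_, su_mk_mem hF M.2 1⟩, M.2⟩, (hr _).2 rfl⟩, hM⟩)
    (powMonoidHom n : (nrm (frobE hF) 2).ker →* _).range (fun γ => by
      obtain ⟨⟨⟨⟨M, a⟩, h₁⟩, h₂⟩, hγ⟩ := γ
      obtain rfl : a = 1 := (hr _).1 hγ
      exact su_mem_Inn hF hn ⟨M, h₂⟩)
  refine ⟨φ, h1, h2, ?_⟩
  rw [h3, IsCyclic.index_powMonoidHom_range, card_ker_nrm, Nat.gcd_comm]

end CfsgH8
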