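import Cfsg.Agent.H8.LangPSL

/-!
The general unitary group as the fixed group of a graph-field automorphism.
-/

set_option autoImplicit false

namespace CfsgH8

open Subgroup Matrix

variable {F : Type*} [Field F]

theorem hermForm_eq {n q : ℕ} {σ : F ≃+* F} (hσ : ∀ a, σ a = a ^ q) (u v : Fin n → F) :
    Cfsg.hermForm n F q u v = u ⬝ᵥ fun i => σ (v i) := by
  simp [Cfsg.hermForm, dotProduct, hσ]

theorem preserves_herm_iff {n q : ℕ} {σ : F ≃+* F} (hσ : ∀ a, σ a = a ^ q) (g : Matrix (Fin n) (Fin n) F) :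
    (∀ u v, Cfsg.hermForm n F q (g *ᵥ u) (g *ᵥ v) = Cfsg.hermForm n F q u v) ↔ gᵀ * g.map σ = 1 := by
  simp only [hermForm_eq hσ, mulVec_map_comp]
  have : ∀ u w : Fin n → F, (g *ᵥ u) ⬝ᵥ (g.map σ *ᵥ w) = u ⬝ᵥ ((gᵀ * g.map σ) *ᵥ w) := fun u w => by
    rw [← mulVec_mulVec, dotProduct_mulVec u, vecMul_transpose]
  simp only [this]
  constructor
  · intro h
    ext i j
    have := h (Pi.single i 1) (Pi.single j 1)
    have h2 : (fun i => σ ((Pi.single j 1 : Fin n → F) i)) = Pi.single j 1 := by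
      ext i; simp [Pi.single_apply, apply_ite σ]
    rw [h2] at this
    simpa [one_apply, Pi.single_apply, eq_comm] using this
  · intro h u v
    rw [h, one_mulVec]

theorem mem_GU_iff {n q : ℕ} {σ : F ≃+* F} (hσ : ∀ a, σ a = a ^ q) (g : GL (Fin n) F) :
    g ∈ Cfsg.GU n F q ↔ (g : Matrix (Fin n) (Fin n) F)ᵀ * (g : Matrix (Fin n) (Fin n) F).map σ = 1 :=
  preserves_herm_iff hσ _

theorem mem_GU_iff_fixed {n q : ℕ} {σ : F ≃+* F} (hσ : ∀ a, σ a = a ^ q)
    {x : Multiplicative (ZMod 2)} (hx : x ≠ 1) (g : GL (Fin n) F) :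
    g ∈ Cfsg.GU n F q ↔ graphAutGL (σ, x) g = g := by
  have h1 : graphAutGL (σ, x) g = g ↔ (graphAutGL (σ, x) g)⁻¹ * g = 1 := by
    rw [inv_mul_eq_one]
  rw [h1, mem_GU_iff hσ, ← Units.val_inj, Units.val_mul, coe_graphAutGL_ne _ hx, Units.val_one,
    ← transpose_inj, transpose_mul, transpose_transpose, transpose_one]

theorem det_GU {n q : ℕ} {σ : F ≃+* F} (hσ : ∀ a, σ a = a ^ q) {g : GL (Fin n) F}
    (hg : g ∈ Cfsg.GU n F q) : nrm σ 2 (GeneralLinearGroup.det g) = 1 := by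
  have := congrArg det ((mem_GU_iff hσ g).1 hg)
  rw [det_mul, det_transpose, det_one] at this
  ext
  rw [coe_nrm, Finset.prod_range_succ, Finset.prod_range_one, pow_zero, pow_one, Units.val_one, ← this]
  congr 1
  exact (σ : F →+* F).map_det _

theorem exists_GU_det {n q : ℕ} (hn : 1 ≤ n) {σ : F ≃+* F} (hσ : ∀ a, σ a = a ^ q) {c : Fˣ}
    (hc : nrm σ 2 c = 1) : ∃ g ∈ Cfsg.GU n F q, GeneralLinearGroup.det g = c := by
  have hc' : (c : F) * σ c = 1 := by
    have := congrArg Units.val hc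
    rwa [coe_nrm, Finset.prod_range_succ, Finset.prod_range_one, pow_zero, pow_one] at this
  let i : Fin n := ⟨0, hn⟩
  have hd : (diagonal (Function.update 1 i (c : F))).det = c := by
    rw [det_diagonal, Finset.prod_update_of_mem (Finset.mem_univ _)]; simp
  refine ⟨GeneralLinearGroup.mkOfDetNeZero _ (hd.trans_ne c.ne_zero), (mem_GU_iff hσ _).2 ?_, Units.ext hd⟩
  change (diagonal _)ᵀ * (diagonal _).map σ = 1
  rw [diagonal_transpose, diagonal_map (map_zero _), diagonal_mul_diagonal, ← diagonal_one]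
  congr 1
  ext j
  rcases eq_or_ne j i with rfl | h
  · simpa using hc'
  · simp [h]

theorem map_det_GU {n q : ℕ} (hn : 1 ≤ n) {σ : F ≃+* F} (hσ : ∀ a, σ a = a ^ q) :
    (Cfsg.GU n F q).map GeneralLinearGroup.det = (nrm σ 2).ker := by
  ext c
  exact ⟨by rintro ⟨g, hg, rfl⟩; exact det_GU hσ hg, fun hc => exists_GU_det hn hσ hc⟩

theorem invol_unique [Finite F] {σ τ : F ≃+* F} (hσ : σ * σ = 1) (hσ1 : σ ≠ 1) (hτ : τ * τ = 1)
    (hτ1 : τ ≠ 1) : σ = τ := by
  haveI := finite_ringAut (F := F)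
  haveI := isCyclic_ringAut (F := F)
  letI := Fintype.ofFinite (F ≃+* F)
  classical
  have h := IsCyclic.card_pow_eq_one_le (α := F ≃+* F) (n := 2) two_pos
  by_contra hne
  have : ({1, σ, τ} : Finset (F ≃+* F)) ⊆ Finset.univ.filter fun a => a ^ 2 = 1 := by
    intro a ha
    simp only [Finset.mem_insert, Finset.mem_singleton] at ha
    rcases ha with rfl | rfl | rfl <;> simp [pow_two, hσ, hτ]
  have h3 := Finset.card_le_card this
  rw [Finset.card_eq_three.2 ⟨1, σ, τ, hσ1.symm, hτ1.symm, hne, rfl⟩] at h3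
  omega

/-- the involutory automorphism of a field with `q ^ 2` elements -/
noncomputable def frobE [Fintype F] {q : ℕ} (hF : Fintype.card F = q ^ 2) : F ≃+* F :=
  RingEquiv.ofBijective (CfsgH5.frobQ hF) (Finite.injective_iff_bijective.1 (RingHom.injective _))

theorem frobE_apply [Fintype F] {q : ℕ} (hF : Fintype.card F = q ^ 2) (a : F) : frobE hF a = a ^ q := rfl

theorem frobE_sq [Fintype F] {q : ℕ} (hF : Fintype.card F = q ^ 2) : frobE hF * frobE hF = 1 :=
  RingEquiv.ext fun a => CfsgH5.frobQ_invol hF a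

theorem frobE_ne [Fintype F] {q : ℕ} (hF : Fintype.card F = q ^ 2) : frobE hF ≠ 1 := fun h => by
  obtain ⟨a, ha⟩ := CfsgH5.frobQ_ne hF
  exact ha (DFunLike.congr_fun h a)

theorem orderOf_frobE [Fintype F] {q : ℕ} (hF : Fintype.card F = q ^ 2) : orderOf (frobE hF) = 2 :=
  orderOf_eq_prime (by rw [pow_two, frobE_sq]) (frobE_ne hF)

theorem card_ker_cob [Finite F] (σ : F ≃+* F) : Nat.card (cob σ).ker = Nat.card (fixF σ) - 1 := by
  rw [← Nat.card_units]
  have : (cob σ).ker = (Units.map ((fixF σ).subtype : fixF σ →* F)).range := by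
    ext c
    rw [MonoidHom.mem_ker, cob_eq_one]
    constructor
    · intro h
      exact ⟨Units.mk0 ⟨c, mem_fixF.2 h⟩ (fun h0 => c.ne_zero (congrArg Subtype.val h0)), Units.ext rfl⟩
    · rintro ⟨d, rfl⟩
      exact mem_fixF.1 (d : fixF σ).2
  rw [this]
  exact (Nat.card_congr (MonoidHom.ofInjective (Units.map_injective (fixF σ).subtype.injective)).toEquiv).symm

theorem index_ker_nrm [Finite F] (σ : F ≃+* F) :
    (nrm σ (orderOf σ)).ker.index = Nat.card (fixF σ) - 1 := by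
  haveI := finite_ringAut (F := F)
  rw [index_ker, range_nrm (orderOf_pos σ).ne' rfl, card_ker_cob]

theorem isConjUnder_of_conj_inr {ι : Type*} [Fintype ι] [DecidableEq ι] [Finite F]
    (h2 : 2 ≤ Fintype.card ι) {α x : MulAut (Matrix.ProjectiveSpecialLinearGroup ι F)}
    {a : (F ≃+* F) × Multiplicative (ZMod 2)} (h : α * x * α⁻¹ = pslPhi (SemidirectProduct.inr a)) :
    Cfsg.IsConjUnder pslPsi.range (pslPhi (SemidirectProduct.inr a)) x := by
  obtain ⟨⟨M, b⟩, hb⟩ := pslPhi_surj h2 α⁻¹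
  refine ⟨pslPsi M, ⟨M, rfl⟩, ?_⟩
  have h1 : x = α⁻¹ * pslPhi (SemidirectProduct.inr a) * α⁻¹⁻¹ := by rw [← h]; group
  have h3 : b * a = a * b := Prod.ext (ringAut_mul_comm _ _) (mul_comm _ _)
  rw [h1, ← hb, ← pslPsi_mul_inr, mul_assoc (pslPsi M), ← map_mul, ← map_mul, h3, map_mul, map_mul]
  group

end CfsgH8
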