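import Cfsg.Agent.H8.AutForm5
import Cfsg.Agent.H8.GUMat

/-!
The group of semisimilarities of a form in coordinates and its action on the central quotient.
-/

set_option autoImplicit false

namespace CfsgH8

open Subgroup Module Matrix CfsgH5 CfsgH5.Form

variable {ι : Type*} [Fintype ι] [DecidableEq ι] {F : Type*} [Field F] {T : FParam F}
  {S : Form T (ι → F)}

theorem semiAct_mul (a b : GammaL ι F) (v : ι → F) : semiAct (a * b) v = semiAct a (semiAct b v) := by
  rw [map_mul]; rfl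

theorem semiAct_one (v : ι → F) : semiAct (1 : GammaL ι F) v = v := by rw [map_one]; rfl

theorem semiAct_inv_apply (a : GammaL ι F) (v : ι → F) : semiAct a (semiAct a⁻¹ v) = v := by
  rw [← semiAct_mul, mul_inv_cancel, semiAct_one]

theorem semiAct_apply_inv (a : GammaL ι F) (v : ι → F) : semiAct a⁻¹ (semiAct a v) = v := by
  rw [← semiAct_mul, inv_mul_cancel, semiAct_one]

theorem semiAct_smul (a : GammaL ι F) (c : F) (v : ι → F) :
    semiAct a (c • v) = a.right c • semiAct a v := by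
  rw [semiAct_apply, semiAct_apply, ← mulVec_smul]
  congr 1
  ext i
  simp

theorem semiAct_inl (M : GL ι F) (v : ι → F) :
    semiAct (SemidirectProduct.inl M : GammaL ι F) v = (M : Matrix ι ι F) *ᵥ v := rfl

theorem semiAct_inr (σ : F ≃+* F) (v : ι → F) :
    semiAct (SemidirectProduct.inr σ : GammaL ι F) v = fun i => σ (v i) := by
  simp [semiAct_apply]

theorem semiAct_ne_zero (a : GammaL ι F) {v : ι → F} (hv : v ≠ 0) : semiAct a v ≠ 0 := fun h =>
  hv (by rw [← semiAct_apply_inv a v, h, map_zero])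

theorem semiAct_surj (a : GammaL ι F) (v : ι → F) : ∃ w, semiAct a w = v := ⟨_, semiAct_inv_apply a v⟩

theorem gammaL_ext {a b : GammaL ι F} (h1 : a.right = b.right) (h : ∀ v, semiAct a v = semiAct b v) :
    a = b := by
  refine SemidirectProduct.ext (GL_ext_mulVec fun v => ?_) h1
  simpa [semiAct_apply, h1] using h fun i => b.right.symm (v i)

/-- semisimilarity with a given multiplier -/
structure IsSemiSim (S : Form T (ι → F)) (γ : GammaL ι F) (κ : F) : Prop where
  ne : κ ≠ 0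
  fix : T.σ κ = κ
  B : ∀ x y, S.B (semiAct γ x) (semiAct γ y) = κ * γ.right (S.B x y)
  q : ∀ x l, S.q x = T.π l → S.q (semiAct γ x) = T.π (κ * γ.right l)

theorem IsSemiSim.mul [Finite F] {a b : GammaL ι F} {κ κ' : F} (h : IsSemiSim S a κ)
    (h' : IsSemiSim S b κ') : IsSemiSim S (a * b) (κ * a.right κ') :=
  ⟨mul_ne_zero h.ne (by simpa using h'.ne), by
    rw [map_mul, h.fix]
    congr 1
    exact (ringHom_comm T.σ (a.right : F →+* F) κ').trans (by rw [h'.fix]; rfl), fun x y => by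
    rw [semiAct_mul, semiAct_mul, h.B, h'.B, map_mul, mul_assoc]; rfl, fun x l hl => by
    rw [semiAct_mul, h.q _ _ (h'.q _ _ hl), map_mul a.right, mul_assoc]; rfl⟩

theorem isSemiSim_one : IsSemiSim S 1 1 :=
  ⟨one_ne_zero, map_one _, fun x y => by simp [semiAct_one], fun x l hl => by simpa [semiAct_one]⟩

theorem isSemiSim_scalar (c : Fˣ) : IsSemiSim S (SemidirectProduct.inl (GeneralLinearGroup.scalar ι c))
    (c * T.σ c) :=
  have h : ∀ v, semiAct (SemidirectProduct.inl (GeneralLinearGroup.scalar ι c) : GammaL ι F) v =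
      (c : F) • v := fun v => by
    rw [semiAct_inl]; ext i; simp [mulVec_diagonal]
  ⟨mul_ne_zero c.ne_zero (T.σ_ne c.ne_zero), by simp [mul_comm], fun x y => by simp [h]; ring,
    fun x l hl => by simpa [h] using S.q_smul c x l hl⟩

theorem isSemiSim_isom {M : GL ι F} (h : glRho M ∈ S.isom) :
    IsSemiSim S (SemidirectProduct.inl M) 1 :=
  ⟨one_ne_zero, map_one _, fun x y => by simpa [glRho_apply, semiAct_inl] using h.1 x y,
    fun x l hl => by simpa [← hl, glRho_apply, semiAct_inl] using h.2 x⟩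

theorem IsSemiSim.isom {M : GL ι F} (h : IsSemiSim S (SemidirectProduct.inl M) 1) :
    glRho M ∈ S.isom :=
  ⟨fun x y => by simpa [glRho_apply, semiAct_inl] using h.B x y, fun x => by
    obtain ⟨l, hl⟩ := S.exists_rep x
    simpa [← hl, glRho_apply, semiAct_inl] using h.q x l hl⟩

theorem IsSemiSim.unique [Nonempty ι] (hS : S.Nondeg) {γ : GammaL ι F} {κ κ' : F}
    (h : IsSemiSim S γ κ) (h' : IsSemiSim S γ κ') : κ = κ' := by
  obtain ⟨x, hx⟩ := exists_ne (0 : ι → F)
  obtain ⟨y, hy⟩ := hS.exists_ne hx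
  exact mul_right_cancel₀ (by simpa using hy) ((h.B y x).symm.trans (h'.B y x))

theorem IsSemiSim.sing {γ : GammaL ι F} {κ : F} (h : IsSemiSim S γ κ) {x : ι → F} (hx : S.q x = 0) :
    S.q (semiAct γ x) = 0 := by simpa using h.q x 0 (by simpa using hx)

theorem IsSemiSim.conj_eich {γ : GammaL ι F} {κ : F} (h : IsSemiSim S γ κ) {u w : ι → F} {l : F}
    (he : S.IsEich u w l) : ∃ h' : S.IsEich (semiAct γ u) (κ⁻¹ • semiAct γ w) (κ⁻¹ * γ.right l),
      ∀ x, eich h' (semiAct γ x) = semiAct γ (eich he x) := by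
  have hκ := h.ne
  refine ⟨⟨h.sing he.sing, by simp [h.B, he.perp], ?_⟩, fun x => ?_⟩
  · rw [S.q_smul _ _ _ (h.q _ _ he.rep), map_inv₀, h.fix]
    congr 1; field_simp
  · simp only [eich_apply, smul_right, h.B, map_add, map_sub, semiAct_smul, map_mul, σ'_ε, map_inv₀,
      h.fix, smul_smul]
    congr 2
    · congr 1; field_simp
    · field_simp

variable [Finite F]

/-- the group of semisimilarities -/
def GammaS (S : Form T (ι → F)) : Subgroup (GammaL ι F) where
  carrier := {γ | ∃ κ, IsSemiSim S γ κ}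
  mul_mem' := fun ⟨_, h⟩ ⟨_, h'⟩ => ⟨_, h.mul h'⟩
  one_mem' := ⟨1, isSemiSim_one⟩
  inv_mem' := fun {a} ⟨κ, h⟩ => by
    haveI := finite_ringAut (F := F)
    haveI : Finite (GammaL ι F) := Finite.of_equiv _ SemidirectProduct.equivProd.symm
    have key : ∀ n : ℕ, ∃ κ, IsSemiSim S (a ^ n) κ := fun n => by
      induction n with
      | zero => exact ⟨1, isSemiSim_one⟩
      | succ n ih => obtain ⟨_, h'⟩ := ih; exact ⟨_, pow_succ a n ▸ h'.mul h⟩
    have : a⁻¹ = a ^ (orderOf a - 1) := by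
      rw [inv_eq_iff_mul_eq_one, ← pow_succ', Nat.sub_add_cancel (orderOf_pos a), pow_orderOf_eq_one]
    rw [this]
    exact key _

theorem mem_GammaS {γ : GammaL ι F} : γ ∈ GammaS S ↔ ∃ κ, IsSemiSim S γ κ := Iff.rfl

/-- the similarity group -/
def Sim (S : Form T (ι → F)) : Subgroup (GL ι F) := (GammaS S).comap SemidirectProduct.inl

theorem scalar_mem_Sim (c : Fˣ) : GeneralLinearGroup.scalar ι c ∈ Sim S := ⟨_, isSemiSim_scalar c⟩

/-- inclusion of similarities in semisimilarities -/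
def simIncl (S : Form T (ι → F)) : Sim S →* GammaS S :=
  (SemidirectProduct.inl.comp (Sim S).subtype).codRestrict _ fun g => g.2

theorem coe_simIncl (g : Sim S) : (simIncl S g : GammaL ι F) = SemidirectProduct.inl (g : GL ι F) := rfl

/-- the field automorphism of a semisimilarity -/
def simRight (S : Form T (ι → F)) : GammaS S →* (F ≃+* F) :=
  SemidirectProduct.rightHom.comp (GammaS S).subtype

theorem range_simIncl : (simIncl S).range = (simRight S).ker := by
  ext ⟨⟨M, σ⟩, h⟩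
  constructor
  · rintro ⟨g, hg⟩
    rw [← hg]; rfl
  · intro hσ
    obtain rfl : σ = 1 := hσ
    exact ⟨⟨M, h⟩, rfl⟩

theorem simIncl_inj : Function.Injective (simIncl S) := fun _ _ h =>
  Subtype.ext (SemidirectProduct.inl_injective (congrArg Subtype.val h))

/-- the multiplier of a similarity -/
noncomputable def simMult [Nonempty ι] (hS : S.Nondeg) : Sim S →* Fˣ where
  toFun g := Units.mk0 g.2.choose g.2.choose_spec.ne
  map_one' := Units.ext ((1 : Sim S).2.choose_spec.unique hS isSemiSim_one)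
  map_mul' a b := Units.ext ((a * b).2.choose_spec.unique hS (by
    have := a.2.choose_spec.mul b.2.choose_spec
    rwa [← map_mul] at this))

theorem simMult_spec [Nonempty ι] (hS : S.Nondeg) (g : Sim S) :
    IsSemiSim S (SemidirectProduct.inl (g : GL ι F)) (simMult hS g) := g.2.choose_spec

theorem simMult_eq [Nonempty ι] (hS : S.Nondeg) {g : Sim S} {κ : F}
    (h : IsSemiSim S (SemidirectProduct.inl (g : GL ι F)) κ) : (simMult hS g : F) = κ :=
  (simMult_spec hS g).unique hS h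

variable {G : Type*} [Group G] {ρ : G →* ((ι → F) ≃ₗ[F] (ι → F))}

/-- the matrix of a group element -/
noncomputable def rhoGL (ρ : G →* ((ι → F) ≃ₗ[F] (ι → F))) : G →* GL ι F :=
  glRho.symm.toMonoidHom.comp ρ

omit [Finite F] in
theorem rhoGL_mulVec (g : G) (v : ι → F) : (rhoGL ρ g : Matrix ι ι F) *ᵥ v = ρ g v := by
  rw [← glRho_apply]; simp [rhoGL]

omit [Finite F] in
theorem glRho_rhoGL (g : G) : glRho (rhoGL ρ g) = ρ g := by simp [rhoGL]

omit [Finite F] in
theorem rhoGL_eq {g : G} {M : GL ι F} (h : ∀ v, (M : Matrix ι ι F) *ᵥ v = ρ g v) : rhoGL ρ g = M :=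
  GL_ext_mulVec fun v => by rw [rhoGL_mulVec, h]

omit [Finite F] in
theorem conj_inl_iff (γ : GammaL ι F) (s s' : G) :
    (SemidirectProduct.inl (rhoGL ρ s') : GammaL ι F) = γ * SemidirectProduct.inl (rhoGL ρ s) * γ⁻¹ ↔
      ∀ v, ρ s' (semiAct γ v) = semiAct γ (ρ s v) := by
  rw [eq_mul_inv_iff_mul_eq]
  refine ⟨fun h v => ?_, fun h => gammaL_ext (by simp) fun v => ?_⟩
  · rw [← rhoGL_mulVec, ← rhoGL_mulVec, ← semiAct_inl, ← semiAct_inl, ← semiAct_mul, h, semiAct_mul]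
  · rw [semiAct_mul, semiAct_mul, semiAct_inl, semiAct_inl, rhoGL_mulVec, rhoGL_mulVec, h]

namespace FSetup

variable (H : FSetup S ρ)
include H

omit [Finite F] in
theorem rhoGL_inj : Function.Injective (rhoGL ρ) := glRho.symm.injective.comp H.inj

theorem exists_conj (γ : GammaS S) (s : G) : ∃ s', ∀ v, ρ s' (semiAct γ.1 v) = semiAct γ.1 (ρ s v) := by
  obtain ⟨κ, hκ⟩ := γ.2
  let K : Subgroup ((ι → F) ≃ₗ[F] (ι → F)) :=
    { carrier := {t | ∃ s', ∀ v, ρ s' (semiAct γ.1 v) = semiAct γ.1 (t v)}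
      mul_mem' := fun ⟨a, ha⟩ ⟨b, hb⟩ => ⟨a * b, fun v => by rw [rho_mul_apply, hb, ha]; rfl⟩
      one_mem' := ⟨1, fun v => rho_one_apply ρ _⟩
      inv_mem' := fun {t} ⟨a, ha⟩ => ⟨a⁻¹, fun v => rho_inv_eq (by rw [ha, apply_inv_apply])⟩ }
  have : S.EG ≤ K := EG_le.2 fun u w l h => by
    obtain ⟨h', hh⟩ := hκ.conj_eich h
    obtain ⟨s', hs'⟩ := H.exists_eich h'
    exact ⟨s', fun v => by rw [hs', hh]⟩
  exact this (H.mem_EG s)

/-- the action of semisimilarities on the central quotient -/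
noncomputable def simPhi : GammaS S →* MulAut (G ⧸ center G) :=
  indAut (SemidirectProduct.inl.comp (rhoGL ρ))
    (SemidirectProduct.inl_injective.comp H.rhoGL_inj) (GammaS S).subtype fun γ s =>
      (H.exists_conj γ s).imp fun _ h => (conj_inl_iff _ _ _).2 h

theorem simPhi_mk (γ : GammaS S) {s s' : G} (h : ∀ v, ρ s' (semiAct γ.1 v) = semiAct γ.1 (ρ s v)) :
    H.simPhi γ (QuotientGroup.mk s) = QuotientGroup.mk s' :=
  indAut_mk _ _ _ _ _ ((conj_inl_iff _ _ _).2 h)

theorem eq_simPhi (γ : GammaS S) {β : MulAut (G ⧸ center G)} (h : IsInd ρ β (semiAct γ.1)) :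
    β = H.simPhi γ :=
  eq_indAut _ _ _ _ _ fun s s' hs => h s s' ((conj_inl_iff _ _ _).1 hs)

theorem eq_simPhi_iff (γ : GammaS S) {β : MulAut (G ⧸ center G)} :
    β = H.simPhi γ ↔ ∀ s s' : G, (rhoGL ρ s' : Matrix ι ι F) = (γ.1.left : Matrix ι ι F) *
      (rhoGL ρ s : Matrix ι ι F).map γ.1.right * ((γ.1.left⁻¹ : GL ι F) : Matrix ι ι F) →
      β (QuotientGroup.mk s) = QuotientGroup.mk s' := by
  have key : ∀ s s' : G, (rhoGL ρ s' : Matrix ι ι F) = (γ.1.left : Matrix ι ι F) *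
      (rhoGL ρ s : Matrix ι ι F).map γ.1.right * ((γ.1.left⁻¹ : GL ι F) : Matrix ι ι F) ↔
      ∀ v, ρ s' (semiAct γ.1 v) = semiAct γ.1 (ρ s v) := fun s s' => by
    rw [← conj_inl_iff, sdp_conj, SemidirectProduct.inl_inj, ← Units.val_inj]
    rfl
  constructor
  · rintro rfl s s' h
    exact H.simPhi_mk γ ((key s s').1 h)
  · intro h
    exact H.eq_simPhi γ fun s s' hs => h s s' ((key s s').2 hs)

theorem rhoGL_mem (s : G) : rhoGL ρ s ∈ Sim S :=
  ⟨1, isSemiSim_isom (by rw [glRho_rhoGL]; exact H.mem s)⟩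

/-- inner-diagonal automorphisms -/
noncomputable def simPsi : Sim S →* MulAut (G ⧸ center G) := H.simPhi.comp (simIncl S)

theorem simPsi_rho (s : G) :
    H.simPsi ⟨rhoGL ρ s, H.rhoGL_mem s⟩ = MulAut.conj (QuotientGroup.mk s : G ⧸ center G) := by
  rw [simPsi, MonoidHom.comp_apply, simPhi]
  exact indAut_of_eq _ _ _ _ _ (coe_simIncl _)

theorem simPhi_scalar {γ : GammaS S} {c : Fˣ}
    (h : γ.1 = SemidirectProduct.inl (GeneralLinearGroup.scalar ι c)) : H.simPhi γ = 1 := by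
  refine indAut_eq_one_of_commute _ _ _ _ fun s => ?_
  rw [Subgroup.coe_subtype, h, MonoidHom.comp_apply, ← map_mul, ← map_mul, scalar_comm]

theorem exists_simPhi {β : MulAut (G ⧸ center G)} (h : ∃ (σ' : F ≃+* F) (κ : F)
    (g : (ι → F) ≃+ (ι → F)), SemiSim S σ' κ g ∧ IsInd ρ β g) : ∃ γ, H.simPhi γ = β := by
  obtain ⟨σ', κ, g, hS, hI⟩ := h
  obtain ⟨M, hM⟩ := exists_GL_of_semilinear σ' g hS.smul
  have hg : ∀ v, semiAct (⟨M, σ'⟩ : GammaL ι F) v = g v := fun v => (hM v).symm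
  refine ⟨⟨⟨M, σ'⟩, κ, hS.ne, hS.fix, fun x y => by rw [hg, hg, hS.B], fun x l hl => by
    rw [hg, hS.q x l hl]⟩, (H.eq_simPhi _ ?_).symm⟩
  have : (semiAct (⟨M, σ'⟩ : GammaL ι F) : (ι → F) → (ι → F)) = g := funext hg
  rw [← this] at hI
  exact hI

theorem simPhi_surj [Finite G] {e f : ι → F} (hef : S.IsHyp e f) (hc : Case1 S e f ∨ Case2 S ρ e f)
    (hE : NoExc S e f) : Function.Surjective H.simPhi := fun β =>
  H.exists_simPhi (H.main hef hc hE β)

theorem simPhi_eq_one {e f : ι → F} (hef : S.IsHyp e f) (h3 : 3 ≤ Fintype.card ι) {γ : GammaS S} :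
    H.simPhi γ = 1 ↔ ∃ c : Fˣ, γ.1 = SemidirectProduct.inl (GeneralLinearGroup.scalar ι c) := by
  refine ⟨fun h => ?_, fun ⟨c, hc⟩ => H.simPhi_scalar hc⟩
  obtain ⟨p, hp⟩ := CharP.exists F
  haveI : Fact p.Prime := ⟨CharP.char_is_prime F p⟩
  have hcomm : ∀ {u w l} (h : S.IsEich u w l) v, eich h (semiAct γ.1 v) = semiAct γ.1 (eich h v) := by
    intro u w l he
    obtain ⟨s, hs⟩ := H.exists_eich he
    have := commute_of_indAut_eq_one _ _ (H.centerP' (p := p) hef.qe hef.ne_left) _ _ h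
      (H.unip_of_eq hs)
    rw [← hs]
    exact (conj_inl_iff _ _ _).1 (eq_mul_inv_iff_mul_eq.2 this.symm)
  have hline : ∀ u, S.q u = 0 → u ≠ 0 → ∃ c : F, semiAct γ.1 u = c • u := fun u hu hu0 =>
    H.fix_QP hu hu0 fun t ht => by
      obtain ⟨w, l, he, ht⟩ := (mem_QP hu).1 ht
      rw [ht, hcomm, eich_self]
  obtain ⟨a, ha⟩ := hline e hef.qe hef.ne_left
  obtain ⟨c, hc⟩ := hline f hef.qf hef.ne_right
  obtain ⟨κ, hκ⟩ := γ.2
  have hc0 : c ≠ 0 := by rintro rfl; exact semiAct_ne_zero _ hef.ne_right (by simpa using hc)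
  have key : ∀ w ∈ S.perp {e, f}, ∀ l, S.q w = T.π l →
      semiAct γ.1 w = c • w ∧ γ.1.right l * a = c * l := by
    intro w hw l hl
    have hw' := S.mem_perp_pair.1 hw
    have he : S.IsEich e w l := ⟨hef.qe, hw'.1, hl⟩
    have h1 := hcomm he f
    rw [hc, map_smul, eich_f hef he hw'.2, map_sub, map_add, semiAct_smul, semiAct_smul, hc, ha,
      σ'_ε] at h1
    have h2 : S.B (semiAct γ.1 w) f = 0 := by
      have := hκ.B w f
      rw [hc, hw'.2] at this
      simpa [hc0] using this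
    have h3 := congrArg (S.B · f) h1
    simp only [smul_left, sub_left, add_left, hef.ff, hef.ef, hw'.2, h2] at h3
    have h4 : γ.1.right l * a = c * l := by linear_combination h3
    refine ⟨?_, h4⟩
    linear_combination (norm := module) (-T.ε) • h1 + (T.ε * h4) • e - T.εε • (semiAct γ.1 w) +
      (c * T.εε) • w
  have hfin : finrank F (ι → F) = Fintype.card ι := by simp
  have hW := H.nd.finrank_perp_hyp hef
  obtain ⟨w, hw, hw0⟩ := Submodule.exists_mem_ne_zero_of_ne_bot (p := S.perp {e, f})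
    (Submodule.one_le_finrank_iff.1 (by omega))
  have hσ : γ.1.right = 1 := by
    ext x
    obtain ⟨l, hl⟩ := S.exists_rep w
    obtain ⟨l', hl'⟩ := S.exists_rep (x • w)
    have h1 := (key _ (Submodule.smul_mem _ x hw) _ hl').1
    rw [semiAct_smul, (key _ hw _ hl).1, smul_smul, smul_smul] at h1
    exact mul_right_cancel₀ hc0 ((smul_left_injective F hw0 h1).trans (mul_comm _ _))
  obtain ⟨w', hw', l, hl0, hl⟩ := H.nd.exists_rep_perp' hef H.dim2
  have hac : a = c := by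
    have := (key _ hw' _ hl).2
    rw [hσ] at this
    exact mul_left_cancel₀ hl0 (this.trans (mul_comm _ _))
  refine ⟨Units.mk0 c hc0, gammaL_ext hσ fun v => ?_⟩
  have hd := hef.decomp v
  obtain ⟨l', hl'⟩ := S.exists_rep (v - (S.B v f • e + (T.ε * S.B v e) • f))
  have h1 := (key _ hd _ hl').1
  rw [map_sub, map_add, semiAct_smul, semiAct_smul, ha, hc, hσ, hac] at h1
  have h2 : semiAct (SemidirectProduct.inl (GeneralLinearGroup.scalar ι (Units.mk0 c hc0)) : GammaL ι F)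
      v = c • v := by rw [semiAct_inl]; ext i; simp [mulVec_diagonal]
  rw [h2]
  simp only [RingAut.one_apply] at h1
  linear_combination (norm := module) h1

theorem simPsi_eq_one {e f : ι → F} (hef : S.IsHyp e f) (h3 : 3 ≤ Fintype.card ι) {g : Sim S} :
    H.simPsi g = 1 ↔ ∃ c : Fˣ, (g : GL ι F) = GeneralLinearGroup.scalar ι c :=
  (H.simPhi_eq_one hef h3).trans (exists_congr fun _ => SemidirectProduct.inl_inj)

theorem simPsi_scalar (c : Fˣ) : H.simPsi ⟨_, scalar_mem_Sim c⟩ = 1 := H.simPhi_scalar rfl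

theorem mem_Inn_iff {β : MulAut (G ⧸ center G)} :
    β ∈ Cfsg.Inn _ ↔ ∃ s : G, H.simPsi ⟨rhoGL ρ s, H.rhoGL_mem s⟩ = β := by
  constructor
  · rintro ⟨x, rfl⟩
    induction x using QuotientGroup.induction_on with | H s => exact ⟨s, H.simPsi_rho s⟩
  · rintro ⟨s, rfl⟩
    exact ⟨_, (H.simPsi_rho s).symm⟩

theorem simPhi_mem_Inn {e f : ι → F} (hef : S.IsHyp e f) (h3 : 3 ≤ Fintype.card ι) {γ : GammaS S} :
    H.simPhi γ ∈ Cfsg.Inn _ ↔ γ.1.right = 1 ∧ ∃ (s : G) (c : Fˣ),
      γ.1.left = GeneralLinearGroup.scalar ι c * rhoGL ρ s := by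
  rw [H.mem_Inn_iff]
  constructor
  · rintro ⟨s, hs⟩
    rw [simPsi, MonoidHom.comp_apply, eq_comm, ← mul_inv_eq_one, ← map_inv, ← map_mul,
      H.simPhi_eq_one hef h3] at hs
    obtain ⟨c, hc⟩ := hs
    rw [Subgroup.coe_mul, Subgroup.coe_inv, mul_inv_eq_iff_eq_mul] at hc
    exact ⟨by rw [hc]; rfl, s, c, by rw [hc]; simp [coe_simIncl]⟩
  · rintro ⟨h1, s, c, h2⟩
    refine ⟨s, ?_⟩
    rw [← one_mul (H.simPsi _), ← H.simPsi_scalar c, ← map_mul]
    exact congrArg H.simPhi (Subtype.ext (SemidirectProduct.ext h2.symm h1.symm))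

theorem simPsi_mem_Inn {e f : ι → F} (hef : S.IsHyp e f) (h3 : 3 ≤ Fintype.card ι) {g : Sim S} :
    H.simPsi g ∈ Cfsg.Inn _ ↔ ∃ (s : G) (c : Fˣ),
      (g : GL ι F) = GeneralLinearGroup.scalar ι c * rhoGL ρ s :=
  (H.simPhi_mem_Inn hef h3).trans (and_iff_right rfl)

theorem Inn_le_simPsi : Cfsg.Inn _ ≤ H.simPsi.range := fun _ h => by
  obtain ⟨s, rfl⟩ := H.mem_Inn_iff.1 h
  exact ⟨_, rfl⟩

theorem simPsi_normal (h : Function.Surjective H.simPhi) : H.simPsi.range.Normal :=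
  range_normal_of_surj _ h _ _ range_simIncl

theorem card_ker_simPhi {e f : ι → F} (hef : S.IsHyp e f) (h3 : 3 ≤ Fintype.card ι) :
    Nat.card H.simPhi.ker = Nat.card F - 1 := by
  haveI : Nonempty ι := Fintype.card_pos_iff.1 (by omega)
  rw [← Nat.card_units]
  refine (Nat.card_congr (Equiv.ofBijective (fun c : Fˣ => (⟨simIncl S ⟨_, scalar_mem_Sim c⟩,
    H.simPsi_scalar c⟩ : H.simPhi.ker)) ⟨fun a b h => ?_, fun γ => ?_⟩)).symm
  · exact scalarGL_inj (congrArg Subtype.val (simIncl_inj (congrArg Subtype.val h)))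
  · obtain ⟨c, hc⟩ := (H.simPhi_eq_one hef h3).1 γ.2
    exact ⟨c, Subtype.ext (Subtype.ext hc.symm)⟩

end FSetup

end CfsgH8
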