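import Cfsg.Agent.H8.AutSim
import Cfsg.Agent.H5.SpMat

/-!
Automorphisms of `PSp`; general complements on semisimilarities.
-/

set_option autoImplicit false

namespace CfsgH8

open Subgroup Module Matrix CfsgH5 CfsgH5.Form

section General

variable {ι : Type*} [Fintype ι] [DecidableEq ι] {F : Type*} [Field F] {T : FParam F}
  {S : Form T (ι → F)} [Finite F]

theorem IsSemiSim.inv [Nonempty ι] (hS : S.Nondeg) {γ : GammaL ι F} {κ : F} (h : IsSemiSim S γ κ) :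
    IsSemiSim S γ⁻¹ (γ.right⁻¹ κ⁻¹) := by
  obtain ⟨κ', h'⟩ := (GammaS S).inv_mem ⟨κ, h⟩
  have := (h.mul h').unique hS (by rw [mul_inv_cancel]; exact isSemiSim_one)
  rw [← eq_inv_of_mul_eq_one_right this]
  simpa using h'

theorem mem_GammaS_of_inr {γ : GammaL ι F} (h : SemidirectProduct.inr γ.right ∈ GammaS S) :
    γ ∈ GammaS S ↔ γ.left ∈ Sim S := by
  conv_lhs => rw [← SemidirectProduct.inl_left_mul_inr_right γ]
  exact (GammaS S).mul_mem_cancel_right h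

theorem simMult_scalar [Nonempty ι] (hS : S.Nondeg) (c : Fˣ) :
    (simMult hS ⟨_, scalar_mem_Sim c⟩ : F) = c * T.σ c := simMult_eq hS (isSemiSim_scalar c)

theorem isom_iff_simMult [Nonempty ι] (hS : S.Nondeg) (g : Sim S) :
    glRho (g : GL ι F) ∈ S.isom ↔ simMult hS g = 1 :=
  ⟨fun h => Units.ext (simMult_eq hS (isSemiSim_isom h)), fun h => IsSemiSim.isom (by
    have := simMult_spec hS g
    rwa [h] at this)⟩

theorem isom_mem_Sim {M : GL ι F} (h : glRho M ∈ S.isom) : M ∈ Sim S := ⟨1, isSemiSim_isom h⟩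

variable {G : Type*} [Group G] {ρ : G →* ((ι → F) ≃ₗ[F] (ι → F))}

namespace FSetup

variable (H : FSetup S ρ)
include H

theorem simPhi_split (γ : GammaS S) (h : SemidirectProduct.inr γ.1.right ∈ GammaS S) :
    H.simPhi γ = H.simPsi ⟨γ.1.left, (mem_GammaS_of_inr h).1 γ.2⟩ * H.simPhi ⟨_, h⟩ := by
  rw [simPsi, MonoidHom.comp_apply, ← map_mul]
  congr 1
  exact Subtype.ext (SemidirectProduct.inl_left_mul_inr_right γ.1).symm

theorem card_aut {e f : ι → F} (hef : S.IsHyp e f) (h3 : 3 ≤ Fintype.card ι) :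
    Nat.card (MulAut (G ⧸ center G)) = Nat.card (Cfsg.Out (G ⧸ center G)) * Nat.card (G ⧸ center G) := by
  rw [Subgroup.card_eq_card_quotient_mul_card_subgroup (Cfsg.Inn (G ⧸ center G))]
  congr 1
  refine (Nat.card_congr (MonoidHom.ofInjective ((injective_iff_map_eq_one _).2 fun x hx => ?_)).toEquiv).symm
  induction x using QuotientGroup.induction_on with | H s =>
  rw [← H.simPsi_rho, H.simPsi_eq_one hef h3] at hx
  obtain ⟨c, hc⟩ := hx
  refine (QuotientGroup.eq_one_iff _).2 (central_of_scalar H.inj (c := c) fun v => ?_)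
  rw [← rhoGL_mulVec, show rhoGL ρ s = _ from hc]
  ext i; simp [mulVec_diagonal]

theorem orderOf_simPhi_inr {e f : ι → F} (hef : S.IsHyp e f) (h3 : 3 ≤ Fintype.card ι) {σ' : F ≃+* F}
    (h : SemidirectProduct.inr σ' ∈ GammaS S) : orderOf (H.simPhi ⟨_, h⟩) = orderOf σ' := by
  refine orderOf_eq_orderOf_iff.2 fun k => ?_
  rw [← map_pow, H.simPhi_eq_one hef h3, SubgroupClass.coe_pow, ← map_pow]
  refine ⟨fun ⟨c, hc⟩ => congrArg SemidirectProduct.right hc, fun hk => ⟨1, by simp [hk]⟩⟩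

end FSetup

end General

theorem card_out_of {X A : Type*} [Group X] [Group A] {φ : Cfsg.Out X →* A}
    (h : Function.Surjective φ) : Nat.card (Cfsg.Out X) = Nat.card A * Nat.card φ.ker :=
  card_of_surj_ker φ h

variable {F : Type*} [Field F] {m : ℕ}

theorem fsetup_sp (m : ℕ) (F : Type*) [Field F] : FSetup (spForm m F) (spHom m F) :=
  ⟨spForm_nondeg m, spHom_inj m, (range_spHom m).trans (spForm_nondeg m).sp_EG.symm, Or.inl sp_Λ⟩

theorem sp_hyp (i : Fin m) : (spForm m F).IsHyp (Pi.single (.inr i) 1) (Pi.single (.inl i) 1) :=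
  (spForm_hypFam m).isHyp i

theorem sp_mem_W {i j : Fin m} (h : j ≠ i) :
    (Pi.single (.inr j) 1 : Fin m ⊕ Fin m → F) ∈
      (spForm m F).perp {Pi.single (.inr i) 1, Pi.single (.inl i) 1} ∧
    (Pi.single (.inl j) 1 : Fin m ⊕ Fin m → F) ∈
      (spForm m F).perp {Pi.single (.inr i) 1, Pi.single (.inl i) 1} :=
  ⟨(mem_perp_pair _).2 ⟨(spForm_hypFam m).ee _ _, (spForm_hypFam m).ef_ne h⟩,
    (mem_perp_pair _).2 ⟨(spForm_hypFam m).fe_ne h, (spForm_hypFam m).ff _ _⟩⟩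

theorem sp_case1 {i j : Fin m} (h : j ≠ i) :
    Case1 (spForm m F) (Pi.single (.inr i) 1) (Pi.single (.inl i) 1) :=
  ⟨_, (sp_mem_W h).1, (sp_hyp j).ne_left, sp_q _ _⟩

theorem sp_noExc {i j : Fin m} (h : j ≠ i) (h2 : (2 : F) ≠ 0 ∨ 3 ≤ m) :
    FSetup.NoExc (spForm m F) (Pi.single (.inr i) 1) (Pi.single (.inl i) 1) := by
  rcases h2 with h2 | h2
  · refine Or.inl ⟨_, (sp_mem_W h).1, _, (sp_mem_W h).2, ?_⟩
    rw [(sp_hyp j).fe, (sp_hyp j).ef]
    exact fun h => h2 (by change (-1 : F) = 1 at h; linear_combination -h)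
  · exact Or.inr (Or.inl ⟨rfl, by rw [finrank_sp]; omega⟩)

theorem coe_rhoGL_sp (s : symplecticGroup (Fin m) F) :
    (rhoGL (spHom m F) s : Matrix (Fin m ⊕ Fin m) (Fin m ⊕ Fin m) F) =
      (s : Matrix (Fin m ⊕ Fin m) (Fin m ⊕ Fin m) F) := mat_ext fun v => by rw [rhoGL_mulVec]; rfl

theorem isSemiSim_sp {γ : GammaL (Fin m ⊕ Fin m) F} {κ : F} (h0 : κ ≠ 0)
    (h : ∀ x y, Cfsg.sympForm m F (semiAct γ x) (semiAct γ y) = κ * γ.right (Cfsg.sympForm m F x y)) :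
    IsSemiSim (spForm m F) γ κ := ⟨h0, rfl, h, fun _ _ _ => spParam_eq _ _⟩

variable [Finite F]

theorem sp_surj (hm : 2 ≤ m) (h2 : (2 : F) ≠ 0 ∨ 3 ≤ m) :
    Function.Surjective (fsetup_sp m F).simPhi :=
  have h : (⟨1, hm⟩ : Fin m) ≠ ⟨0, by omega⟩ := by simp
  (fsetup_sp m F).simPhi_surj (sp_hyp _) (Or.inl (sp_case1 h)) (sp_noExc h h2)

theorem Sim_sp : Sim (spForm m F) = Cfsg.GSp m F := by
  ext g
  exact ⟨fun ⟨κ, h⟩ => ⟨Units.mk0 κ h.ne, h.B⟩, fun ⟨c, h⟩ => ⟨c, isSemiSim_sp c.ne_zero h⟩⟩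

omit [Finite F] in
theorem isSemiSim_sp_inr (σ : F ≃+* F) : IsSemiSim (spForm m F) (SemidirectProduct.inr σ) 1 :=
  isSemiSim_sp one_ne_zero fun x y => by simp [semiAct_inr, sympForm_eq]

theorem sp_inr_mem (σ : F ≃+* F) : SemidirectProduct.inr σ ∈ GammaS (spForm m F) :=
  ⟨1, isSemiSim_sp_inr σ⟩

theorem sp_mk_mem {g : GL (Fin m ⊕ Fin m) F} (hg : g ∈ Cfsg.GSp m F) (σ : F ≃+* F) :
    (⟨g, σ⟩ : GammaL _ F) ∈ GammaS (spForm m F) :=
  (mem_GammaS_of_inr (sp_inr_mem σ)).2 (Sim_sp (F := F) ▸ hg)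

theorem semilinearPSp_iff (γ : GammaS (spForm m F)) (β : MulAut (Cfsg.PSp m F)) :
    Cfsg.IsInducedBySemilinearPSp γ.1.left γ.1.right β ↔ β = (fsetup_sp m F).simPhi γ := by
  rw [FSetup.eq_simPhi_iff]
  simp only [coe_rhoGL_sp]
  rfl

theorem stdFieldPSp_iff (σ : F ≃+* F) (β : MulAut (Cfsg.PSp m F)) :
    Cfsg.IsStdFieldAutPSp σ β ↔ β = (fsetup_sp m F).simPhi ⟨_, sp_inr_mem σ⟩ := by
  rw [← semilinearPSp_iff]
  simp [Cfsg.IsStdFieldAutPSp, Cfsg.IsInducedBySemilinearPSp]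

theorem inndiagPSp_iff (β : MulAut (Cfsg.PSp m F)) :
    Cfsg.IsInnerDiagonalAutPSp β ↔ β ∈ (fsetup_sp m F).simPsi.range := by
  constructor
  · rintro ⟨g, hg, h⟩
    exact ⟨⟨g, Sim_sp (F := F) ▸ hg⟩, ((semilinearPSp_iff ⟨_, sp_mk_mem hg 1⟩ β).1 h).symm⟩
  · rintro ⟨g, rfl⟩
    exact ⟨g, Sim_sp (F := F) ▸ g.2, (semilinearPSp_iff (simIncl _ g) _).2 rfl⟩

theorem inndiagPSp_eq : Cfsg.inndiagPSp m F = (fsetup_sp m F).simPsi.range := by
  rw [Cfsg.inndiagPSp, Cfsg.autSubgroupOf, ← closure_eq (MonoidHom.range _)]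
  congr 1
  ext β
  exact inndiagPSp_iff β

theorem gammaPSp_eq : Cfsg.gammaPSp m F = (fsetup_sp m F).simPhi.range := by
  rw [Cfsg.gammaPSp, Cfsg.autSubgroupOf, ← closure_eq (MonoidHom.range _)]
  congr 1
  ext β
  constructor
  · rintro ⟨g, σ, hg, h⟩
    exact ⟨_, ((semilinearPSp_iff ⟨_, sp_mk_mem hg σ⟩ β).1 h).symm⟩
  · rintro ⟨γ, rfl⟩
    exact ⟨γ.1.left, γ.1.right, Sim_sp (F := F) ▸ (mem_GammaS_of_inr (sp_inr_mem _)).1 γ.2,
      (semilinearPSp_iff γ _).2 rfl⟩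

theorem sp_simMult_surj [Nonempty (Fin m ⊕ Fin m)] :
    Function.Surjective (simMult (spForm_nondeg (F := F) m)) := by
  intro c
  let d : Fin m ⊕ Fin m → F := Sum.elim (fun _ => c) fun _ => 1
  have hd : (diagonal d).det ≠ 0 := by
    rw [det_diagonal]
    exact Finset.prod_ne_zero_iff.2 fun i _ => by rcases i with i | i <;> simp [d]
  have h : IsSemiSim (spForm m F) (SemidirectProduct.inl (GeneralLinearGroup.mkOfDetNeZero _ hd)) c :=
    isSemiSim_sp c.ne_zero fun x y => by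
      change Cfsg.sympForm m F (diagonal d *ᵥ x) (diagonal d *ᵥ y) = c * Cfsg.sympForm m F x y
      simp only [sympForm_eq, mulVec_diagonal, d, Sum.elim_inl, Sum.elim_inr, Finset.mul_sum]
      exact Finset.sum_congr rfl fun i _ => by ring
  exact ⟨⟨_, c, h⟩, Units.ext (simMult_eq _ h)⟩

theorem sp_mem_Inn [Nonempty (Fin m ⊕ Fin m)] (hm : 2 ≤ m) (g : Sim (spForm m F)) :
    (fsetup_sp m F).simPsi g ∈ Cfsg.Inn _ ↔
      simMult (spForm_nondeg m) g ∈ (powMonoidHom 2 : Fˣ →* Fˣ).range := by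
  rw [(fsetup_sp m F).simPsi_mem_Inn (sp_hyp ⟨0, by omega⟩) (by simp; omega)]
  have hc : ∀ c : Fˣ, simMult (spForm_nondeg m) ⟨_, scalar_mem_Sim c⟩ = c ^ 2 := fun c =>
    Units.ext (by rw [simMult_scalar]; simp [pow_two])
  constructor
  · rintro ⟨s, c, h⟩
    have : g = ⟨_, scalar_mem_Sim c⟩ * ⟨_, (fsetup_sp m F).rhoGL_mem s⟩ := Subtype.ext h
    rw [this, map_mul, hc, (isom_iff_simMult _ _).1 (by
      rw [glRho_rhoGL]; exact (fsetup_sp m F).mem s), mul_one]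
    exact ⟨c, rfl⟩
  · rintro ⟨c, h⟩
    obtain ⟨s, hs⟩ := exists_spHom ((isom_iff_simMult (spForm_nondeg m)
      ((⟨_, scalar_mem_Sim c⟩ : Sim (spForm m F))⁻¹ * g)).2 (by rw [map_mul, map_inv, hc, ← h]; simp))
    refine ⟨s, c, ?_⟩
    rw [← inv_mul_eq_iff_eq_mul]
    exact (rhoGL_eq fun v => by rw [hs]; rfl).symm

end CfsgH8
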