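import Cfsg.Agent.H6.StE

/-! Classical root systems of arbitrary rank from a set of unit weights. -/

set_option autoImplicit false

namespace CfsgH8

open Matrix Finset CfsgH6

/-- coroot of a vector of norm 2 or 4 -/
def cv {M : Type} [Fintype M] (v : M → ℤ) : M → ℤ := if v ⬝ᵥ v = 4 then fun m => v m / 2 else v

/-- root data from unit weights -/
structure WD (I M J : Type) [Fintype I] [DecidableEq I] [Fintype M] where
  wt : J → M → ℤ
  k : ℤ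
  α : I → M → ℤ
  T : (M → ℤ) →+ (I → ℤ)
  wt_inj : Function.Injective wt
  wt_unit : ∀ a, wt a ⬝ᵥ wt a = 1
  negs : ∀ a d c, wt a = -wt d → ∃ b, wt b = -wt c
  α_root : ∀ i, (∃ a b, α i = wt a - wt b) ∧ α i ≠ 0 ∧ α i ⬝ᵥ α i ≤ k
  T_α : ∀ i, T (α i) = Pi.single i 2
  span : ∀ a b, (wt a - wt b) ⬝ᵥ (wt a - wt b) ≤ k → wt a - wt b ∈ AddSubgroup.closure (Set.range α)
  sign : ∀ a b, (wt a - wt b) ⬝ᵥ (wt a - wt b) ≤ k → 0 ≤ T (wt a - wt b) ∨ T (wt a - wt b) ≤ 0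
  long : ∀ a i, 4 ≤ k → (∃ b, wt b = -wt a) → α i ⬝ᵥ α i = 2 → Even (T (wt a) i)

theorem dot_self_nonneg {M : Type} [Fintype M] (v : M → ℤ) : 0 ≤ v ⬝ᵥ v :=
  sum_nonneg fun _ _ => mul_self_nonneg _

theorem dot_self_pos {M : Type} [Fintype M] {v : M → ℤ} (h : v ≠ 0) : 0 < v ⬝ᵥ v :=
  lt_of_le_of_ne (dot_self_nonneg v) fun h' => h (dotProduct_self_eq_zero.1 h'.symm)

theorem norm_sub {M : Type} [Fintype M] (v w : M → ℤ) : (v - w) ⬝ᵥ (v - w) = v ⬝ᵥ v - 2 * (v ⬝ᵥ w) + w ⬝ᵥ w := by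
  rw [sub_dotProduct, dotProduct_sub, dotProduct_sub, dotProduct_comm w v]; ring

theorem norm_add {M : Type} [Fintype M] (v w : M → ℤ) : (v + w) ⬝ᵥ (v + w) = v ⬝ᵥ v + 2 * (v ⬝ᵥ w) + w ⬝ᵥ w := by
  rw [add_dotProduct, dotProduct_add, dotProduct_add, dotProduct_comm w v]; ring

namespace WD

variable {I M J : Type} [Fintype I] [DecidableEq I] [Fintype M] (D : WD I M J)

/-- roots -/
def IsRoot (v : M → ℤ) : Prop := (∃ a b, v = D.wt a - D.wt b) ∧ v ≠ 0 ∧ v ⬝ᵥ v ≤ D.k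

/-- the type of roots -/
abbrev R : Type := {v : M → ℤ // D.IsRoot v}

theorem root_α (i : I) : D.IsRoot (D.α i) := D.α_root i

instance [Finite J] : Finite D.R :=
  Set.Finite.subset (Set.finite_range fun p : J × J => D.wt p.1 - D.wt p.2)
    fun _ (h : D.IsRoot _) => by obtain ⟨⟨a, b, e⟩, -⟩ := h; exact ⟨(a, b), e.symm⟩

theorem norm_wt_sub (a b : J) : (D.wt a - D.wt b) ⬝ᵥ (D.wt a - D.wt b) = 2 - 2 * (D.wt a ⬝ᵥ D.wt b) := by
  rw [norm_sub, D.wt_unit, D.wt_unit]; ring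

theorem eq_of_dot {a b : J} (h : 1 ≤ D.wt a ⬝ᵥ D.wt b) : a = b := by
  by_contra h'
  have := dot_self_pos (sub_ne_zero.2 (D.wt_inj.ne h'))
  rw [norm_wt_sub] at this; omega

theorem eq_neg_of_dot {a b : J} (h : D.wt a ⬝ᵥ D.wt b ≤ -1) : D.wt a = -D.wt b := by
  by_contra h'
  have := dot_self_pos (sub_ne_zero.2 h')
  rw [sub_neg_eq_add, norm_add, D.wt_unit, D.wt_unit] at this; omega

theorem dot_le (a b : J) : D.wt a ⬝ᵥ D.wt b ≤ 1 := by
  have := dot_self_nonneg (D.wt a - D.wt b)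
  rw [norm_wt_sub] at this; omega

theorem le_dot (a b : J) : -1 ≤ D.wt a ⬝ᵥ D.wt b := by
  have := dot_self_nonneg (D.wt a + D.wt b)
  rw [norm_add, D.wt_unit, D.wt_unit] at this; omega

theorem norm_wt_le (a b : J) : (D.wt a - D.wt b) ⬝ᵥ (D.wt a - D.wt b) ≤ 4 := by
  have := D.le_dot a b
  rw [norm_wt_sub]; omega

variable {D}

theorem IsRoot.neg {v : M → ℤ} (h : D.IsRoot v) : D.IsRoot (-v) := by
  obtain ⟨⟨a, b, e⟩, h1, h2⟩ := h
  exact ⟨⟨b, a, by rw [e, neg_sub]⟩, neg_ne_zero.2 h1, by simpa using h2⟩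

theorem IsRoot.cases {v : M → ℤ} (h : D.IsRoot v) :
    (v ⬝ᵥ v = 2 ∧ cv v = v) ∨ (v ⬝ᵥ v = 4 ∧ ∃ a, (∃ b, D.wt b = -D.wt a) ∧ cv v = D.wt a ∧ v = (2 : ℤ) • D.wt a) := by
  obtain ⟨⟨a, b, rfl⟩, h1, -⟩ := h
  have h2 := dot_self_pos h1
  have h3 := D.norm_wt_le a b
  have h4 := D.norm_wt_sub a b
  by_cases h5 : D.wt b ⬝ᵥ D.wt a ≤ -1
  · have h6 := D.eq_neg_of_dot h5
    rw [dotProduct_comm] at h5
    refine Or.inr ⟨by omega, a, ⟨b, h6⟩, ?_, by rw [h6, two_smul, sub_neg_eq_add]⟩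
    rw [cv, if_pos (by omega), h6]
    ext m; simp; omega
  · rw [dotProduct_comm] at h5
    exact Or.inl ⟨by omega, if_neg (by omega)⟩

theorem IsRoot.norm {v : M → ℤ} (h : D.IsRoot v) : v ⬝ᵥ v = 2 ∨ v ⬝ᵥ v = 4 :=
  h.cases.imp And.left And.left

theorem IsRoot.norm_smul_cv {v : M → ℤ} (h : D.IsRoot v) : (v ⬝ᵥ v) • cv v = (2 : ℤ) • v := by
  rcases h.cases with ⟨h1, h2⟩ | ⟨h1, a, -, h2, h3⟩
  · rw [h1, h2]
  · rw [h1, h2, h3, smul_smul]; rfl

theorem IsRoot.norm_mul {v : M → ℤ} (h : D.IsRoot v) (w : M → ℤ) : (v ⬝ᵥ v) * (cv v ⬝ᵥ w) = 2 * (v ⬝ᵥ w) := by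
  rw [← smul_eq_mul, ← smul_dotProduct, h.norm_smul_cv, smul_dotProduct, smul_eq_mul]

theorem IsRoot.cv_self {v : M → ℤ} (h : D.IsRoot v) : cv v ⬝ᵥ v = 2 := by
  have := h.norm_mul v
  rcases h.norm with h1 | h1 <;> rw [h1] at this <;> omega

theorem IsRoot.cv_neg {v : M → ℤ} (h : D.IsRoot v) : cv (-v) = -cv v := by
  have h1 := h.neg.norm_smul_cv
  have h2 := h.norm_smul_cv
  simp only [neg_dotProduct, dotProduct_neg, neg_neg] at h1
  refine smul_right_injective _ (dot_self_pos h.2.1).ne' ?_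
  simp only [h1, smul_neg, h2]

theorem IsRoot.pair_le {v : M → ℤ} (h : D.IsRoot v) (a : J) : cv v ⬝ᵥ D.wt a ≤ 1 := by
  rcases h.cases with ⟨h1, h2⟩ | ⟨-, b, -, h2, -⟩
  · have := dot_self_nonneg (v - D.wt a)
    rw [norm_sub, h1, D.wt_unit] at this
    rw [h2]; omega
  · rw [h2]; exact D.dot_le _ _

theorem IsRoot.le_pair {v : M → ℤ} (h : D.IsRoot v) (a : J) : -1 ≤ cv v ⬝ᵥ D.wt a := by
  have := h.neg.pair_le a
  rw [h.cv_neg, neg_dotProduct] at this; omega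

theorem IsRoot.exists_sub_iff {v : M → ℤ} (h : D.IsRoot v) (a : J) :
    (∃ b, D.wt a - D.wt b = v) ↔ cv v ⬝ᵥ D.wt a = 1 := by
  constructor
  · rintro ⟨b, rfl⟩
    have h1 := h.norm_mul (D.wt a)
    have h2 := dot_self_pos h.2.1
    rw [norm_wt_sub] at h1 h2
    rw [sub_dotProduct, D.wt_unit, dotProduct_comm (D.wt b)] at h1
    exact mul_left_cancel₀ h2.ne' (by rw [h1]; ring)
  · intro h1
    rcases h.cases with ⟨h2, h3⟩ | ⟨-, c, ⟨d, hd⟩, h3, h4⟩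
    · obtain ⟨⟨c, d, rfl⟩, -⟩ := h
      rw [h3, sub_dotProduct] at h1
      rw [norm_wt_sub] at h2
      by_cases h4 : 1 ≤ D.wt c ⬝ᵥ D.wt a
      · exact ⟨d, by rw [D.eq_of_dot h4]⟩
      · have h5 := D.le_dot d a
        have h6 := D.eq_neg_of_dot (a := a) (b := d) (by rw [dotProduct_comm]; omega)
        obtain ⟨b, hb⟩ := D.negs a d c h6
        exact ⟨b, by rw [hb, h6]; abel⟩
    · rw [h3] at h1
      exact ⟨d, by rw [← D.eq_of_dot h1.ge, hd, h4, two_smul, sub_neg_eq_add]⟩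

/-- reflection -/
def rf (r v : M → ℤ) : M → ℤ := v - (cv r ⬝ᵥ v) • r

theorem rf_sub (r v w : M → ℤ) : rf r (v - w) = rf r v - rf r w := by
  simp only [rf, dotProduct_sub, sub_smul]; abel

theorem IsRoot.rf_norm {r : M → ℤ} (h : D.IsRoot r) (v : M → ℤ) : rf r v ⬝ᵥ rf r v = v ⬝ᵥ v := by
  have := h.norm_mul v
  rw [rf, norm_sub, dotProduct_smul, smul_dotProduct, dotProduct_smul, dotProduct_comm v r]
  simp only [smul_eq_mul]
  linear_combination (cv r ⬝ᵥ v) * this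

theorem IsRoot.rf_wt {r : M → ℤ} (h : D.IsRoot r) (a : J) : ∃ b, D.wt b = rf r (D.wt a) := by
  have h1 := h.pair_le a
  have h2 := h.le_pair a
  rcases (by omega : cv r ⬝ᵥ D.wt a = 1 ∨ cv r ⬝ᵥ D.wt a = 0 ∨ cv r ⬝ᵥ D.wt a = -1) with h3 | h3 | h3
  · obtain ⟨b, hb⟩ := (h.exists_sub_iff a).2 h3
    exact ⟨b, by rw [rf, h3, ← hb]; simp⟩
  · exact ⟨a, by rw [rf, h3]; simp⟩
  · obtain ⟨b, hb⟩ := (h.neg.exists_sub_iff a).2 (by rw [h.cv_neg, neg_dotProduct, h3]; rfl)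
    exact ⟨b, by rw [rf, h3, ← neg_neg r, ← hb]; simp⟩

theorem IsRoot.rf {r v : M → ℤ} (h : D.IsRoot r) (hv : D.IsRoot v) : D.IsRoot (rf r v) := by
  refine ⟨?_, fun h0 => hv.2.1 (dotProduct_self_eq_zero.1 (by rw [← h.rf_norm, h0]; simp)),
    by rw [h.rf_norm]; exact hv.2.2⟩
  obtain ⟨⟨a, b, rfl⟩, -⟩ := hv
  obtain ⟨a', ha⟩ := h.rf_wt a
  obtain ⟨b', hb⟩ := h.rf_wt b
  exact ⟨a', b', by rw [rf_sub, ha, hb]⟩

variable (D)

theorem T_sum (c : I → ℤ) : D.T (∑ i, c i • D.α i) = (2 : ℤ) • c := by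
  rw [map_sum]
  ext j
  simp only [map_zsmul, D.T_α, Finset.sum_apply, Pi.smul_apply, smul_eq_mul]
  rw [sum_eq_single j (fun i _ h => by rw [Pi.single_eq_of_ne' h, mul_zero]) (by simp)]
  simp [mul_comm]

/-- coordinates of a root -/
def rt (r : D.R) : I → ℤ := fun i => D.T r.1 i / 2
/-- coordinates of a coroot -/
def co (r : D.R) : I → ℤ := fun i => D.rt r i * (D.α i ⬝ᵥ D.α i) / (r.1 ⬝ᵥ r.1)

theorem exists_coord (r : D.R) : ∃ c : I → ℤ, r.1 = ∑ i, c i • D.α i := by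
  obtain ⟨_, ⟨a, b, rfl⟩, -, h⟩ := r
  have := D.span a b h
  rw [← Submodule.span_int_eq_addSubgroupClosure, Submodule.mem_toAddSubgroup,
    Submodule.mem_span_range_iff_exists_fun] at this
  exact this.imp fun c hc => hc.symm

theorem T_eq (r : D.R) : D.T r.1 = (2 : ℤ) • D.rt r := by
  obtain ⟨c, hc⟩ := D.exists_coord r
  ext i
  rw [Pi.smul_apply, rt, hc, T_sum]
  simp

theorem val_eq (r : D.R) : r.1 = ∑ i, D.rt r i • D.α i := by
  obtain ⟨c, hc⟩ := D.exists_coord r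
  have := D.T_eq r
  rw [hc, T_sum] at this
  rw [← smul_right_injective _ (two_ne_zero (α := ℤ)) this, hc]

theorem rt_eq_of {r : D.R} {c : I → ℤ} (h : D.T r.1 = (2 : ℤ) • c) : D.rt r = c :=
  smul_right_injective _ (two_ne_zero (α := ℤ)) ((D.T_eq r).symm.trans h)

theorem norm_mul_co (r : D.R) (i : I) : (r.1 ⬝ᵥ r.1) * D.co r i = D.rt r i * (D.α i ⬝ᵥ D.α i) := by
  refine Int.mul_ediv_cancel' ?_
  have h0 : D.IsRoot (D.α i) := D.α_root i
  rcases r.2.cases with ⟨h1, -⟩ | ⟨h1, a, h2, -, h3⟩ <;> rcases h0.norm with h4 | h4 <;> rw [h1, h4]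
  · simp
  · omega
  · have h5 := D.long a i (h1 ▸ r.2.2.2) h2 h4
    have h6 := congrFun (D.T_eq r) i
    rw [h3, map_zsmul] at h6
    simp only [Pi.smul_apply, smul_eq_mul] at h6
    obtain ⟨x, hx⟩ := h5
    omega
  · simp

theorem co_eq_of {r : D.R} {c : I → ℤ} (h : ∀ i, (r.1 ⬝ᵥ r.1) * c i = D.rt r i * (D.α i ⬝ᵥ D.α i)) : D.co r = c :=
  funext fun i => mul_left_cancel₀ (dot_self_pos r.2.2.1).ne' ((D.norm_mul_co r i).trans (h i).symm)

theorem cv_eq (r : D.R) : cv r.1 = ∑ i, D.co r i • cv (D.α i) := by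
  refine smul_right_injective _ (dot_self_pos r.2.2.1).ne' ?_
  simp only
  rw [r.2.norm_smul_cv, smul_sum]
  conv_lhs => rw [D.val_eq r, smul_sum]
  refine sum_congr rfl fun i _ => ?_
  rw [smul_smul (r.1 ⬝ᵥ r.1), norm_mul_co, ← smul_smul, IsRoot.norm_smul_cv (D := D) (D.α_root i), smul_comm]

theorem sum_C_rt (i : I) (r : D.R) : ∑ j, cv (D.α i) ⬝ᵥ D.α j * D.rt r j = cv (D.α i) ⬝ᵥ r.1 := by
  conv_rhs => rw [D.val_eq r, dotProduct_sum]
  simp [mul_comm, -zsmul_eq_mul]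

theorem sum_co_C (i : I) (r : D.R) : ∑ j, D.co r j * (cv (D.α j) ⬝ᵥ D.α i) = cv r.1 ⬝ᵥ D.α i := by
  rw [D.cv_eq r, sum_dotProduct]
  simp [-zsmul_eq_mul]

theorem rt_sign (r : D.R) : 0 ≤ D.rt r ∨ D.rt r ≤ 0 := by
  have := D.T_eq r
  obtain ⟨⟨a, b, e⟩, -, h⟩ := r.2
  rcases D.sign a b (e ▸ h) with h1 | h1 <;> rw [← e, this] at h1
  · exact Or.inl fun i => by have := h1 i; simp at this ⊢; omega
  · exact Or.inr fun i => by have := h1 i; simp at this ⊢; omega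

theorem co_sign (r : D.R) (i : I) : (0 ≤ D.rt r i → 0 ≤ D.co r i) ∧ (D.rt r i ≤ 0 → D.co r i ≤ 0) ∧
    (D.rt r i = 0 ↔ D.co r i = 0) := by
  have h := D.norm_mul_co r i
  have h0 : D.IsRoot (D.α i) := D.α_root i
  rcases r.2.norm with h1 | h1 <;> rcases h0.norm with h4 | h4 <;> rw [h1, h4] at h <;> omega

theorem rt_rf (i : I) (r : D.R) : D.rt ⟨rf (D.α i) r.1, (D.root_α i).rf r.2⟩ =
    D.rt r - Pi.single i (cv (D.α i) ⬝ᵥ r.1) := by
  apply D.rt_eq_of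
  simp only [rf, map_sub, map_zsmul, T_eq, T_α, smul_sub, ← Pi.single_smul, smul_eq_mul, mul_comm]

theorem mul_le_three {r s : M → ℤ} (hr : D.IsRoot r) (hs : D.IsRoot s) (h1 : r ≠ s) (h2 : r ≠ -s) :
    cv s ⬝ᵥ r * (cv r ⬝ᵥ s) ≤ 3 := by
  have a1 := dot_self_pos (sub_ne_zero.2 h1)
  have a2 := dot_self_pos (sub_ne_zero.2 h2)
  rw [sub_neg_eq_add, norm_add] at a2
  rw [norm_sub] at a1
  have a3 := hr.norm_mul s
  have a4 := hs.norm_mul r
  rw [dotProduct_comm s r] at a4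
  generalize cv s ⬝ᵥ r = x at *
  generalize cv r ⬝ᵥ s = y at *
  rcases hr.norm with h3 | h3 <;> rcases hs.norm with h4 | h4 <;> rw [h3, h4] at a1 a2 <;> rw [h3] at a3 <;>
    rw [h4] at a4
  all_goals
    have b1 : -2 ≤ x := by omega
    have b2 : x ≤ 2 := by omega
    interval_cases x <;> omega

/-- the root system -/
def rs : RS I D.R where
  rt := D.rt
  co := D.co
  C i j := cv (D.α i) ⬝ᵥ D.α j
  neg r := ⟨-r.1, r.2.neg⟩
  sim i := ⟨D.α i, D.root_α i⟩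
  w i r := ⟨rf (D.α i) r.1, (D.root_α i).rf r.2⟩
  rt_inj r s h := Subtype.ext (by rw [D.val_eq r, D.val_eq s, h])
  rt_neg r := D.rt_eq_of (by rw [map_neg, T_eq, smul_neg])
  co_neg r := D.co_eq_of fun i => by
    rw [D.rt_eq_of (c := -D.rt r) (by rw [map_neg, T_eq, smul_neg])]
    simp [← D.norm_mul_co]
  rt_sim j := D.rt_eq_of (by rw [T_α, ← Pi.single_smul]; rfl)
  co_sim j := D.co_eq_of fun i => by
    rw [D.rt_eq_of (c := Pi.single j 1) (by rw [T_α, ← Pi.single_smul]; rfl)]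
    by_cases h : i = j
    · subst h; simp
    · simp [Pi.single_eq_of_ne h]
  C_self i := IsRoot.cv_self (D := D) (D.α_root i)
  sign r := (D.rt_sign r).imp (fun h => ⟨h, fun i => (D.co_sign r i).1 (h i)⟩)
    fun h => ⟨h, fun i => (D.co_sign r i).2.1 (h i)⟩
  rt_ne r h := r.2.2.1 (by rw [D.val_eq r, h]; simp)
  zero_iff r i := (D.co_sign r i).2.2
  rt_w i r := by rw [rt_rf, sum_C_rt]
  co_w i r := D.co_eq_of fun j => by
    have h0 : D.IsRoot (D.α i) := D.α_root i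
    rw [rt_rf, sum_co_C, h0.rf_norm, Pi.sub_apply, Pi.sub_apply, mul_sub, sub_mul, norm_mul_co]
    by_cases h : j = i
    · subst h
      simp only [Pi.single_eq_same]
      rw [r.2.norm_mul, mul_comm (cv _ ⬝ᵥ _), h0.norm_mul, dotProduct_comm r.1]
    · simp [Pi.single_eq_of_ne h]
  pos_w i r h1 h2 := by
    refine (D.rt_sign _).resolve_right fun h3 => h2 (Subtype.ext ?_)
    have h0 : D.IsRoot (D.α i) := D.α_root i
    rw [rt_rf] at h3
    have h4 : r.1 = D.rt r i • D.α i := by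
      conv_lhs => rw [D.val_eq r]
      refine sum_eq_single i (fun j _ hj => ?_) (by simp)
      have a1 := h1 j
      have a2 := h3 j
      simp only [Pi.sub_apply, Pi.single_eq_of_ne hj, Pi.zero_apply] at a1 a2
      rw [show D.rt r j = 0 by omega, zero_smul]
    have h5 := r.2.norm
    have h6 : 0 ≤ D.rt r i := h1 i
    rw [h4, smul_dotProduct, dotProduct_smul] at h5
    have h7 : D.rt r i = 1 := by
      generalize D.rt r i = c at *
      simp only [smul_eq_mul] at h5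
      have : c ≤ 1 := by rcases h0.norm with h | h <;> rw [h] at h5 <;> rcases h5 with h5 | h5 <;> nlinarith
      interval_cases c <;> omega
    rw [h4, h7, one_smul]
  desc r h := by
    by_contra h'
    push Not at h'
    simp only [sum_C_rt] at h'
    have h1 := r.2.cv_self
    rw [D.cv_eq r, sum_dotProduct] at h1
    have h2 : ∑ i, (D.co r i • cv (D.α i)) ⬝ᵥ r.1 ≤ 0 := sum_nonpos fun i _ => by
      rw [smul_dotProduct]
      exact mul_nonpos_of_nonneg_of_nonpos ((D.co_sign r i).1 (h i)) (h' i)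
    omega
  bound i r h1 h2 := by
    rw [sum_C_rt, sum_co_C]
    exact D.mul_le_three r.2 (D.α_root i) (fun h => h1 (Subtype.ext h)) fun h => h2 (Subtype.ext h)

theorem rs_A (r s : D.R) : D.rs.A r s = cv r.1 ⬝ᵥ s.1 := by
  rw [RS.A_eq_sum, D.cv_eq r, sum_dotProduct]
  refine sum_congr rfl fun i _ => ?_
  rw [RS.A_sim_left, smul_dotProduct]
  exact congrArg _ (D.sum_C_rt i s)

theorem rs_neg (r : D.R) : (D.rs.neg r).1 = -r.1 := rfl
theorem rs_sim (i : I) : (D.rs.sim i).1 = D.α i := rfl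
theorem rs_rt (r : D.R) : D.rs.rt r = D.rt r := rfl

theorem val_eq_of_rt {r s t : D.R} {i j : ℤ} (h : D.rt r = i • D.rt s + j • D.rt t) : r.1 = i • s.1 + j • t.1 := by
  rw [D.val_eq r, D.val_eq s, D.val_eq t, h, smul_sum, smul_sum, ← sum_add_distrib]
  simp [add_smul, smul_smul, -zsmul_eq_mul]

theorem rt_eq_of_val {r s t : D.R} {i j : ℤ} (h : r.1 = i • s.1 + j • t.1) : D.rt r = i • D.rt s + j • D.rt t :=
  D.rt_eq_of (by rw [h, map_add, map_zsmul, map_zsmul, T_eq, T_eq, smul_add, smul_comm i, smul_comm j])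

theorem rs_refl (r s : D.R) : (D.rs.refl r s).1 = rf r.1 s.1 := by
  have := D.rs.rt_refl r s
  rw [rs_A, sub_eq_add_neg, ← neg_smul, ← one_smul ℤ (D.rs.rt s)] at this
  rw [D.val_eq_of_rt this, rf, one_smul, neg_smul, sub_eq_add_neg]

end WD

end CfsgH8
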