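import Cfsg.Agent.H8.CR1

/-! Root matrices of the natural representations of the classical groups and their commutator data. -/

set_option autoImplicit false

namespace CfsgH8

open Matrix Finset CfsgH6

theorem comm_ident {F A : Type*} [CommRing F] [Ring A] [Algebra F A] {X Y : A} (hX : X * X = 0) (hY : Y * Y = 0)
    (h1 : X * Y * (X * Y) = 0) (h2 : Y * X * (Y * X) = 0) (t u : F) :
    (1 + u • Y) * (1 + t • X) = (1 + t • X) * (1 + u • Y) * ((1 + (-t * u) • (X * Y - Y * X)) *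
      ((1 + (t ^ 2 * u) • (-(X * Y * X))) * (1 + (-t * u ^ 2) • (-(Y * X * Y))))) := by
  have a1 : ∀ Z, X * (X * Z) = 0 := fun Z => by rw [← mul_assoc, hX, zero_mul]
  have a2 : ∀ Z, Y * (Y * Z) = 0 := fun Z => by rw [← mul_assoc, hY, zero_mul]
  have a3 : X * (Y * (X * Y)) = 0 := by rw [← h1, mul_assoc]
  have a4 : Y * (X * (Y * X)) = 0 := by rw [← h2, mul_assoc]
  have a5 : ∀ Z, X * (Y * (X * (Y * Z))) = 0 := fun Z => by
    rw [← zero_mul Z, ← a3]; simp only [mul_assoc]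
  have a6 : ∀ Z, Y * (X * (Y * (X * Z))) = 0 := fun Z => by
    rw [← zero_mul Z, ← a4]; simp only [mul_assoc]
  simp only [mul_add, add_mul, mul_sub, sub_mul, mul_one, one_mul, smul_mul_assoc, mul_smul_comm, mul_assoc, mul_neg,
    neg_mul, smul_neg, smul_sub, smul_add, hX, hY, a1, a2, a3, a4, a5, a6, smul_zero, mul_zero, neg_zero, add_zero,
    zero_add, sub_zero, smul_smul]
  module

/-- natural representation data -/
structure MR (I M J : Type) [Fintype I] [DecidableEq I] [Fintype M] [DecidableEq M] [Fintype J] [DecidableEq J]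
    extends WD I M J where
  s : J → J → ℤ
  G : Matrix J J ℤ
  s_sq : ∀ a b, s a b * s a b = 1
  s_symm : ∀ a b, s a b = s b a
  L_X : ∀ v, v ≠ 0 → v ⬝ᵥ v ≤ k → (of fun a b => if wt a - wt b = v then s a b else 0)ᵀ * G +
    G * (of fun a b => if wt a - wt b = v then s a b else 0) = 0
  L_eq : ∀ Z : Matrix J J ℤ, Zᵀ * G + G * Z = 0 → ∀ a b c d, a ≠ b → wt a - wt b = wt c - wt d →
    s a b * Z a b = s c d * Z c d
  L_zero : ∀ Z : Matrix J J ℤ, Zᵀ * G + G * Z = 0 → ∀ a b, k < (wt a - wt b) ⬝ᵥ (wt a - wt b) → Z a b = 0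
  gen : ∀ v, toWD.IsRoot v → ∃ a, toWD.IsRoot a ∧ a ≠ v ∧ 0 < a ⬝ᵥ v

namespace MR

variable {I M J : Type} [Fintype I] [DecidableEq I] [Fintype M] [DecidableEq M] [Fintype J] [DecidableEq J]
  (D : MR I M J)

/-- root matrices -/
def X (v : M → ℤ) : Matrix J J ℤ := of fun a b => if D.wt a - D.wt b = v then D.s a b else 0
/-- the Lie algebra -/
def L (Z : Matrix J J ℤ) : Prop := Zᵀ * D.G + D.G * Z = 0
/-- matrices of a given weight -/
def Wt (Z : Matrix J J ℤ) (v : M → ℤ) : Prop := ∀ a b, Z a b ≠ 0 → D.wt a - D.wt b = v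

theorem X_apply (v : M → ℤ) (a b : J) : D.X v a b = if D.wt a - D.wt b = v then D.s a b else 0 := rfl

theorem wt_X (v : M → ℤ) : D.Wt (D.X v) v := fun a b h => by
  by_contra h'; exact h (if_neg h')

theorem X_neg (v : M → ℤ) : D.X (-v) = (D.X v)ᵀ := by
  ext a b
  rw [transpose_apply, X_apply, X_apply, D.s_symm a b]
  exact if_congr (by rw [← neg_eq_iff_eq_neg, neg_sub]) rfl rfl

variable {D}

theorem L_X' {v : M → ℤ} (h : D.IsRoot v) : D.L (D.X v) := D.L_X v h.2.1 h.2.2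

theorem Wt.mul {A B : Matrix J J ℤ} {v w : M → ℤ} (hA : D.Wt A v) (hB : D.Wt B w) : D.Wt (A * B) (v + w) := by
  intro a b h
  obtain ⟨c, -, hc⟩ := exists_ne_zero_of_sum_ne_zero (mul_apply (M := A) ▸ h)
  rw [← hA a c (left_ne_zero_of_mul hc), ← hB c b (right_ne_zero_of_mul hc)]; abel

theorem Wt.neg {A : Matrix J J ℤ} {v : M → ℤ} (hA : D.Wt A v) : D.Wt (-A) v := fun a b h =>
  hA a b (by simpa using h)

theorem Wt.sub {A B : Matrix J J ℤ} {v : M → ℤ} (hA : D.Wt A v) (hB : D.Wt B v) : D.Wt (A - B) v := fun a b h => by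
  by_cases h1 : A a b = 0
  · exact hB a b (by simpa [h1] using h)
  · exact hA a b h1

theorem Wt.congr {A : Matrix J J ℤ} {v w : M → ℤ} (hA : D.Wt A v) (h : v = w) : D.Wt A w := h ▸ hA

theorem Wt.eq_zero {A : Matrix J J ℤ} {v : M → ℤ} (hA : D.Wt A v) (h : 4 < v ⬝ᵥ v) : A = 0 := by
  ext a b
  by_contra h'
  have := D.norm_wt_le a b
  rw [hA a b h'] at this; omega

theorem L.neg {A : Matrix J J ℤ} (hA : D.L A) : D.L (-A) := by
  unfold L at *; rw [transpose_neg, neg_mul, mul_neg, ← neg_add, hA, neg_zero]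

theorem L.tr {A : Matrix J J ℤ} (hA : D.L A) : Aᵀ * D.G = -(D.G * A) := eq_neg_of_add_eq_zero_left hA

theorem L.br {A B : Matrix J J ℤ} (hA : D.L A) (hB : D.L B) : D.L (A * B - B * A) := by
  unfold L
  rw [transpose_sub, transpose_mul, transpose_mul, sub_mul, mul_assoc, mul_assoc, hA.tr, hB.tr, mul_neg, mul_neg,
    ← mul_assoc, ← mul_assoc, hA.tr, hB.tr]
  noncomm_ring

theorem L.tri {A B : Matrix J J ℤ} (hA : D.L A) (hB : D.L B) : D.L (A * B * A) := by
  unfold L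
  rw [transpose_mul, transpose_mul, mul_assoc, mul_assoc, hA.tr, mul_neg, mul_neg, ← mul_assoc Bᵀ, hB.tr, neg_mul,
    mul_neg, ← mul_assoc, ← mul_assoc, hA.tr]
  noncomm_ring

theorem L.exists_smul {Z : Matrix J J ℤ} {v : M → ℤ} (hL : D.L Z) (hZ : D.Wt Z v) (h : D.IsRoot v) :
    ∃ c : ℤ, Z = c • D.X v := by
  obtain ⟨⟨c, d, e⟩, h1, -⟩ := h
  refine ⟨D.s c d * Z c d, ?_⟩
  ext a b
  rw [Matrix.smul_apply, X_apply]
  split_ifs with h2
  · rw [← D.L_eq Z hL a b c d (by rintro rfl; exact h1 (by rw [← h2, sub_self])) (h2.trans e), smul_eq_mul,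
      mul_right_comm, D.s_sq, one_mul]
  · by_contra h3
    exact h2 (hZ a b (by simpa using h3))

theorem L.eq_zero {Z : Matrix J J ℤ} {v : M → ℤ} (hL : D.L Z) (hZ : D.Wt Z v) (h0 : v ≠ 0) (h : ¬ D.IsRoot v) :
    Z = 0 := by
  ext a b
  by_contra h1
  have h2 := hZ a b h1
  exact h1 (D.L_zero Z hL a b (by by_contra h3; exact h ⟨⟨a, b, h2.symm⟩, h0, h2 ▸ not_lt.1 h3⟩))

theorem X_sq {v : M → ℤ} (h : D.IsRoot v) : D.X v * D.X v = 0 :=
  ((D.wt_X v).mul (D.wt_X v)).eq_zero (by rw [norm_add]; rcases h.norm with h | h <;> omega)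

theorem XX_sq {v w : M → ℤ} (hv : D.IsRoot v) (hw : D.IsRoot w) (h : w ≠ -v) :
    D.X v * D.X w * (D.X v * D.X w) = 0 := by
  refine (((D.wt_X v).mul (D.wt_X w)).mul ((D.wt_X v).mul (D.wt_X w))).eq_zero ?_
  have h1 := dot_self_pos (sub_ne_zero.2 h)
  rw [sub_neg_eq_add, add_comm] at h1
  rw [norm_add]
  rw [norm_add] at h1 ⊢
  rcases hv.norm with h2 | h2 <;> rcases hw.norm with h3 | h3 <;> omega

theorem exists_X_unit {v : M → ℤ} (h : D.IsRoot v) : ∃ a b, D.wt a - D.wt b = v ∧ D.X v a b * D.X v a b = 1 := by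
  obtain ⟨⟨a, b, e⟩, -⟩ := h
  exact ⟨a, b, e.symm, by rw [X_apply, if_pos e.symm, D.s_sq]⟩

theorem unit_of_smul {v : M → ℤ} (h : D.IsRoot v) {c : ℤ} {Z : Matrix J J ℤ} (e : D.X v = c • Z) : c = 1 ∨ c = -1 := by
  obtain ⟨a, b, -, h1⟩ := exists_X_unit h
  rw [e, Matrix.smul_apply, smul_eq_mul, mul_assoc] at h1
  exact Int.eq_one_or_neg_one_of_mul_eq_one h1

theorem X_mul_X_neg {v : M → ℤ} (h : D.IsRoot v) :
    D.X v * D.X (-v) = diagonal fun a => if cv v ⬝ᵥ D.wt a = 1 then 1 else 0 := by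
  ext a c
  by_cases hac : a = c
  · subst hac
    rw [diagonal_apply_eq, X_neg, mul_apply]
    simp only [transpose_apply, X_apply, ← h.exists_sub_iff a]
    split_ifs with h1
    · obtain ⟨b, hb⟩ := h1
      rw [sum_eq_single b (fun c _ hc => by
        rw [if_neg fun h2 => hc (D.wt_inj (sub_right_injective (h2.trans hb.symm))), zero_mul]) (by simp),
        if_pos hb, D.s_sq]
    · exact sum_eq_zero fun b _ => by rw [if_neg fun h2 => h1 ⟨b, h2⟩, zero_mul]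
  · rw [diagonal_apply_ne _ hac]
    by_contra h1
    have := (D.wt_X v).mul (D.wt_X (-v)) a c h1
    rw [add_neg_cancel, sub_eq_zero] at this
    exact hac (D.wt_inj this)

theorem pair_of_X {v : M → ℤ} (h : D.IsRoot v) {a b : J} (h1 : D.wt a - D.wt b = v) :
    cv v ⬝ᵥ D.wt a = 1 ∧ cv v ⬝ᵥ D.wt b = -1 := by
  have h2 := h.cv_self
  have h3 := h.pair_le a
  have h4 := h.le_pair b
  nth_rw 2 [← h1] at h2
  rw [dotProduct_sub] at h2
  omega

theorem XYX {v : M → ℤ} (h : D.IsRoot v) : D.X v * D.X (-v) * D.X v = D.X v := by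
  rw [X_mul_X_neg h]
  ext a b
  rw [diagonal_mul]
  by_cases h1 : D.X v a b = 0
  · rw [h1, mul_zero]
  · rw [if_pos (pair_of_X h (D.wt_X v a b h1)).1, one_mul]

theorem YXY {v : M → ℤ} (h : D.IsRoot v) : D.X (-v) * D.X v * D.X (-v) = D.X (-v) := by
  simpa using XYX h.neg

theorem br_X {v : M → ℤ} (h : D.IsRoot v) :
    D.X v * D.X (-v) - D.X (-v) * D.X v = diagonal fun a => cv v ⬝ᵥ D.wt a := by
  have h1 := X_mul_X_neg h.neg
  rw [neg_neg] at h1
  rw [h1, X_mul_X_neg h, diagonal_sub]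
  congr 1; ext a
  have h2 := h.pair_le a
  have h3 := h.le_pair a
  rw [h.cv_neg, neg_dotProduct]
  split_ifs <;> omega

theorem Wt.diag {Z : Matrix J J ℤ} {v : M → ℤ} (hZ : D.Wt Z v) (l : M → ℤ) :
    (diagonal fun a => l ⬝ᵥ D.wt a) * Z - Z * (diagonal fun a => l ⬝ᵥ D.wt a) = (l ⬝ᵥ v) • Z := by
  ext a b
  rw [Matrix.sub_apply, diagonal_mul, mul_diagonal, Matrix.smul_apply]
  by_cases h : Z a b = 0
  · simp [h]
  · rw [← hZ a b h, dotProduct_sub, smul_eq_mul]; ring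

variable (D)

open Classical in
/-- coefficient of a matrix along a root matrix -/
noncomputable def cf (Z : Matrix J J ℤ) (v : M → ℤ) : ℤ := if h : ∃ c : ℤ, Z = c • D.X v then h.choose else 0

open Classical in
/-- one term of the commutator formula -/
noncomputable def tl (v : M → ℤ) (Z : Matrix J J ℤ) (i j : ℕ) : List (D.R × ℤ × ℕ × ℕ) :=
  if h : D.IsRoot v then [(⟨v, h⟩, D.cf Z v, i, j)] else []

variable {D}

theorem cf_smul {Z : Matrix J J ℤ} {v : M → ℤ} (hL : D.L Z) (hZ : D.Wt Z v) (h : D.IsRoot v) :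
    Z = D.cf Z v • D.X v := by
  have := hL.exists_smul hZ h
  rw [cf, dif_pos this]
  exact this.choose_spec

theorem mem_tl {v : M → ℤ} {Z : Matrix J J ℤ} {i j : ℕ} {c : D.R × ℤ × ℕ × ℕ} :
    c ∈ D.tl v Z i j ↔ c.1.1 = v ∧ c.2 = (D.cf Z v, i, j) := by
  unfold tl
  split_ifs with h
  · simp [Prod.ext_iff, Subtype.ext_iff]
  · simp only [List.not_mem_nil, false_iff, not_and]
    intro h1; exact absurd (h1 ▸ c.1.2) h

theorem nodup_tl (v : M → ℤ) (Z : Matrix J J ℤ) (i j : ℕ) : ((D.tl v Z i j).map Prod.fst).Nodup := by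
  unfold tl; split_ifs <;> simp

theorem tl_pos {v : M → ℤ} (h : D.IsRoot v) (Z : Matrix J J ℤ) (i j : ℕ) :
    D.tl v Z i j = [(⟨v, h⟩, D.cf Z v, i, j)] := dif_pos h

theorem tl_neg {v : M → ℤ} (h : ¬ D.IsRoot v) (Z : Matrix J J ℤ) (i j : ℕ) : D.tl v Z i j = [] := dif_neg h

variable (D) in
/-- the commutator data -/
noncomputable def tm (r s : D.R) : List (D.R × ℤ × ℕ × ℕ) :=
  D.tl (r.1 + s.1) (D.X r.1 * D.X s.1 - D.X s.1 * D.X r.1) 1 1 ++
    (D.tl (r.1 + s.1 + r.1) (-(D.X r.1 * D.X s.1 * D.X r.1)) 2 1 ++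
      D.tl (s.1 + r.1 + s.1) (-(D.X s.1 * D.X r.1 * D.X s.1)) 1 2)

theorem wt_br (r s : M → ℤ) : D.Wt (D.X r * D.X s - D.X s * D.X r) (r + s) :=
  ((D.wt_X _).mul (D.wt_X _)).sub (((D.wt_X _).mul (D.wt_X _)).congr (add_comm _ _))

theorem wt_tri (r s : M → ℤ) : D.Wt (-(D.X r * D.X s * D.X r)) (r + s + r) :=
  (((D.wt_X _).mul (D.wt_X _)).mul (D.wt_X _)).neg

theorem cf_one {a b : M → ℤ} (ha : D.IsRoot a) (hb : D.IsRoot b) (h : cv a ⬝ᵥ b = -1) (hr : D.IsRoot (a + b)) :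
    D.cf (D.X a * D.X b - D.X b * D.X a) (a + b) = 1 ∨ D.cf (D.X a * D.X b - D.X b * D.X a) (a + b) = -1 := by
  have h1 := cf_smul ((L_X' ha).br (L_X' hb)) (wt_br a b) hr
  have h2 : D.X (-a) * D.X b - D.X b * D.X (-a) = 0 := (wt_br (-a) b).eq_zero (by
    have := ha.norm_mul b
    rw [norm_add, neg_dotProduct_neg, neg_dotProduct]
    rcases ha.norm with h3 | h3 <;> rcases hb.norm with h4 | h4 <;> rw [h3, h] at this <;> omega)
  have h3 := (D.wt_X b).diag (cv a)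
  rw [← br_X ha, h] at h3
  refine unit_of_smul hb (Z := D.X (-a) * D.X (a + b) - D.X (a + b) * D.X (-a)) ?_
  rw [smul_sub, ← mul_smul_comm, ← smul_mul_assoc, ← h1]
  rw [sub_eq_zero] at h2
  rw [neg_smul, one_smul] at h3
  generalize D.X a = X at *
  generalize D.X (-a) = Y at *
  generalize D.X b = Z at *
  have h4 : ∀ W, Y * (Z * W) = Z * (Y * W) := fun W => by rw [← mul_assoc, h2, mul_assoc]
  refine (neg_eq_iff_eq_neg.1 h3.symm).trans ?_
  simp only [mul_sub, sub_mul, mul_assoc, h4, h2]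
  abel

theorem cf_two {a b : M → ℤ} (ha : D.IsRoot a) (hb : D.IsRoot b) (h : cv a ⬝ᵥ b = -2) (hr : D.IsRoot (a + b + a)) :
    D.cf (-(D.X a * D.X b * D.X a)) (a + b + a) = 1 ∨ D.cf (-(D.X a * D.X b * D.X a)) (a + b + a) = -1 := by
  have h1 := cf_smul ((L_X' ha).tri (L_X' hb)).neg (wt_tri a b) hr
  refine unit_of_smul hb (Z := -(D.X (-a) * D.X (a + b + a) * D.X (-a))) ?_
  rw [smul_neg, ← smul_mul_assoc, ← mul_smul_comm, ← h1]
  have h2 := X_mul_X_neg ha.neg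
  rw [neg_neg] at h2
  rw [mul_neg, neg_mul, neg_neg, ← mul_assoc, ← mul_assoc, h2, mul_assoc, X_mul_X_neg ha]
  ext c d
  rw [mul_diagonal, diagonal_mul]
  by_cases h3 : D.X b c d = 0
  · simp [h3]
  · have h4 := ha.le_pair c
    have h5 := ha.pair_le d
    rw [← D.wt_X b c d h3, dotProduct_sub] at h
    rw [if_pos (by rw [ha.cv_neg, neg_dotProduct]; omega), if_pos (by omega)]; simp

theorem nodup_tm {a b : D.R} (h : b ≠ a) : ((D.tm a b).map Prod.fst).Nodup := by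
  have h1 := a.2.2.1
  have h2 := b.2.2.1
  have h3 : b.1 ≠ a.1 := fun e => h (Subtype.ext e)
  simp only [tm, List.map_append, List.nodup_append, nodup_tl, true_and, List.mem_append, List.mem_map, mem_tl]
  refine ⟨?_, ?_⟩
  · rintro _ ⟨c, hc, rfl⟩ _ ⟨c', hc', rfl⟩ e
    apply h3
    have := (hc.1.symm.trans (congrArg Subtype.val e)).trans hc'.1
    linear_combination (exp := 1) -this
  · rintro _ ⟨c, hc, rfl⟩ _ (⟨c', hc', rfl⟩ | ⟨c', hc', rfl⟩) e
    · apply h1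
      have := (hc.1.symm.trans (congrArg Subtype.val e)).trans hc'.1
      linear_combination (exp := 1) -this
    · apply h2
      have := (hc.1.symm.trans (congrArg Subtype.val e)).trans hc'.1
      linear_combination (exp := 1) -this

theorem pair_le_two {a b : M → ℤ} (ha : D.IsRoot a) (hb : D.IsRoot b) : cv a ⬝ᵥ b ≤ 2 := by
  obtain ⟨⟨c, d, rfl⟩, -⟩ := hb
  have := ha.pair_le c
  have := ha.le_pair d
  rw [dotProduct_sub]; omega

variable (D) in
/-- the root system with commutator data -/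
noncomputable def cd : CD I D.R where
  toRS := D.rs
  tm := D.tm
  tm_add r s c hc := by
    simp only [tm, List.mem_append, mem_tl] at hc
    rcases hc with ⟨h1, h2⟩ | ⟨h1, h2⟩ | ⟨h1, h2⟩ <;> rw [h2] <;> refine ⟨by simp, by simp, ?_⟩ <;>
      simp only [← natCast_zsmul] <;> refine D.rt_eq_of_val (h1.trans ?_) <;> simp [two_smul, -zsmul_eq_mul] <;> abel
  gen r := by
    obtain ⟨a, ha, h1, h2⟩ := D.gen r.1 r.2
    have h3 := ha.norm_mul r.1
    have h4 : 0 < cv a ⬝ᵥ r.1 := by rcases ha.norm with h | h <;> rw [h] at h3 <;> omega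
    have h5 := pair_le_two ha r.2
    have h6 : cv a ⬝ᵥ WD.rf a r.1 = -(cv a ⬝ᵥ r.1) := by
      rw [WD.rf, dotProduct_sub, dotProduct_smul, ha.cv_self]; simp; ring
    have h7 : (⟨_, ha.rf r.2⟩ : D.R) ≠ ⟨a, ha⟩ := fun e => by
      have e : WD.rf a r.1 = a := congrArg Subtype.val e
      rw [e, ha.cv_self] at h6; omega
    refine ⟨⟨a, ha⟩, ⟨_, ha.rf r.2⟩, h7, fun e => h1 ?_, nodup_tm h7, ?_⟩
    · have e : WD.rf a r.1 = -a := congrArg Subtype.val e
      rw [e, dotProduct_neg, ha.cv_self] at h6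
      rw [WD.rf, ← neg_inj.1 h6, two_smul] at e
      linear_combination (exp := 1) -e
    rcases (by omega : cv a ⬝ᵥ r.1 = 1 ∨ cv a ⬝ᵥ r.1 = 2) with h | h
    · have e : r.1 = a + WD.rf a r.1 := by rw [WD.rf, h]; simp
      exact ⟨(r, _, 1, 1), List.mem_append_left _ (mem_tl.2 ⟨e, rfl⟩), rfl,
        cf_one ha (ha.rf r.2) (by rw [h6, h]) (e ▸ r.2), Or.inl rfl⟩
    · have e : r.1 = a + WD.rf a r.1 + a := by rw [WD.rf, h, two_smul]; abel
      exact ⟨(r, _, 2, 1), List.mem_append_right _ (List.mem_append_left _ (mem_tl.2 ⟨e, rfl⟩)), rfl,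
        cf_two ha (ha.rf r.2) (by rw [h6, h]) (e ▸ r.2), Or.inr rfl⟩

end MR

end CfsgH8
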