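import Cfsg.Agent.H8.CR2

/-! The root elements of the natural representations satisfy the full system of Steinberg relations. -/

set_option autoImplicit false

namespace CfsgH8

open Matrix Finset CfsgH6
open scoped MatrixGroups

section alg
variable {F A : Type*} [Field F] [Ring A] [Algebra F A] {X Y : A}

theorem one_add_mul_one_add (hX : X * X = 0) (t u : F) : (1 + t • X) * (1 + u • X) = 1 + (t + u) • X := by
  simp only [mul_add, add_mul, mul_one, one_mul, smul_mul_assoc, mul_smul_comm, hX, smul_zero, add_smul]; abel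

theorem n_ident (hX : X * X = 0) (h1 : X * Y * X = X) {t : F} (ht : t ≠ 0) :
    (1 + t • X) * (1 + (-t⁻¹) • Y) * (1 + t • X) = 1 - X * Y - Y * X + t • X - t⁻¹ • Y := by
  simp only [mul_add, add_mul, mul_one, one_mul, smul_mul_assoc, mul_smul_comm, hX, h1, smul_zero, smul_add,
    smul_smul, neg_mul, mul_neg, inv_mul_cancel₀ ht, mul_inv_cancel₀ ht, mul_inv_cancel_left₀ ht]
  module

/-- the unit `1 + t X` -/
def oneAdd (hX : X * X = 0) (t : F) : Aˣ :=
  ⟨1 + t • X, 1 + (-t) • X, by rw [one_add_mul_one_add hX]; simp, by rw [one_add_mul_one_add hX]; simp⟩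

end alg

/-- diagonal matrices -/
def dgG {J : Type} [Fintype J] [DecidableEq J] (F : Type*) [Field F] : (J → Fˣ) →* GL J F := MonoidHom.toHomUnits
  { toFun := fun c => diagonal fun a => (c a : F)
    map_one' := by simp
    map_mul' := fun a b => by simp [diagonal_mul_diagonal] }

theorem coe_dgG {J : Type} [Fintype J] [DecidableEq J] {F : Type*} [Field F] (c : J → Fˣ) :
    ((dgG F c : GL J F) : Matrix J J F) = diagonal fun a => (c a : F) := rfl

namespace MR

variable {I M J : Type} [Fintype I] [DecidableEq I] [Fintype M] [DecidableEq M] [Fintype J] [DecidableEq J]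
  (D : MR I M J) (F : Type*) [Field F]

/-- reduction of integer matrices -/
abbrev φ (J : Type) [Fintype J] [DecidableEq J] (F : Type*) [Field F] : Matrix J J ℤ →+* Matrix J J F :=
  (Int.castRingHom F).mapMatrix

theorem φ_apply (Z : Matrix J J ℤ) (a b : J) : φ J F Z a b = (Z a b : F) := rfl

theorem φ_smul (c : ℤ) (Z : Matrix J J ℤ) : φ J F (c • Z) = (c : F) • φ J F Z := by
  rw [map_zsmul, Int.cast_smul_eq_zsmul]

/-- root elements -/
def xx (r : D.R) (t : F) : GL J F :=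
  oneAdd (X := φ J F (D.X r.1)) (by rw [← map_mul, X_sq r.2, map_zero]) t

theorem coe_xx (r : D.R) (t : F) : (D.xx F r t : Matrix J J F) = 1 + t • φ J F (D.X r.1) := rfl

variable {D F}

theorem coe_tl_prod {v : M → ℤ} {Z : Matrix J J ℤ} (hL : D.L Z) (hZ : D.Wt Z v) (h0 : v ≠ 0) (i j : ℕ) (t u : F) :
    ((((D.tl v Z i j).map fun c => D.xx F c.1 ((c.2.1 : F) * (-t) ^ c.2.2.1 * u ^ c.2.2.2)).prod : GL J F) :
      Matrix J J F) = 1 + ((-t) ^ i * u ^ j) • φ J F Z := by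
  by_cases h : D.IsRoot v
  · rw [tl_pos h]
    simp only [List.map_cons, List.map_nil, List.prod_cons, List.prod_nil, mul_one, coe_xx]
    conv_rhs => rw [cf_smul hL hZ h, φ_smul, smul_smul]
    congr 2; ring
  · rw [tl_neg h, hL.eq_zero hZ h0 h]; simp

theorem tri_ne_zero {r s : M → ℤ} (hr : D.IsRoot r) (hs : D.IsRoot s) : r + s + r ≠ 0 := fun h => by
  have h1 : s = -(r + r) := by linear_combination (exp := 1) h
  have h2 := hs.norm
  rw [h1, neg_dotProduct_neg, norm_add] at h2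
  rcases hr.norm with h | h <;> omega

variable (D F)

/-- the root elements as a system -/
noncomputable def pre : PreSt D.cd F (GL J F) where
  x := D.xx F
  add r t u := Units.ext (one_add_mul_one_add (by rw [← map_mul, X_sq r.2, map_zero]) t u)
  comm r s t u h1 h2 := by
    have h3 : s.1 ≠ -r.1 := fun e => h2 (Subtype.ext e)
    apply Units.ext
    change _ = ((_ * _ * ((D.tm r s).map _).prod : GL J F) : Matrix J J F)
    simp only [tm, List.map_append, List.prod_append, Units.val_mul]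
    rw [coe_tl_prod ((L_X' r.2).br (L_X' s.2)) (wt_br _ _) (fun e => h3 (by linear_combination (exp := 1) e)),
      coe_tl_prod ((L_X' r.2).tri (L_X' s.2)).neg (wt_tri _ _) (tri_ne_zero r.2 s.2),
      coe_tl_prod ((L_X' s.2).tri (L_X' r.2)).neg (wt_tri _ _) (tri_ne_zero s.2 r.2), coe_xx, coe_xx,
      comm_ident (by rw [← map_mul, X_sq r.2, map_zero]) (by rw [← map_mul, X_sq s.2, map_zero])
        (by rw [← map_mul, ← map_mul, XX_sq r.2 s.2 h3, map_zero])
        (by rw [← map_mul, ← map_mul, XX_sq s.2 r.2 (fun e => h3 (by rw [e, neg_neg])), map_zero])]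
    simp only [map_mul, map_sub, map_neg, pow_one, neg_sq]

theorem coe_x (r : D.R) (t : F) : ((D.pre F).x r t : Matrix J J F) = 1 + t • φ J F (D.X r.1) := rfl

/-- the integral Weyl group representative -/
def n0 (v : M → ℤ) : Matrix J J ℤ := 1 - D.X v * D.X (-v) - D.X (-v) * D.X v + D.X v - D.X (-v)

variable {D F}

theorem n0_neg (v : M → ℤ) : D.n0 (-v) = (D.n0 v)ᵀ := by
  simp only [n0, transpose_add, transpose_sub, transpose_mul, transpose_one, ← X_neg, neg_neg]; abel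

theorem n0_eq {v : M → ℤ} (h : D.IsRoot v) : D.n0 v = (1 + D.X v) * (1 - D.X (-v)) * (1 + D.X v) := by
  simp only [n0, mul_add, add_mul, mul_sub, sub_mul, mul_one, one_mul, X_sq h, XYX h]; abel

theorem n0_mul {v : M → ℤ} (h : D.IsRoot v) : D.n0 v * (D.n0 v)ᵀ = 1 := by
  have h1 := X_sq h
  have h2 := X_sq h.neg
  have h3 := XYX h
  have h4 := YXY h
  rw [← n0_neg, n0_eq h, n0, neg_neg]
  generalize D.X v = X at *
  generalize D.X (-v) = Y at *
  have a1 : ∀ Z, X * (X * Z) = 0 := fun Z => by rw [← mul_assoc, h1, zero_mul]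
  have a2 : ∀ Z, Y * (Y * Z) = 0 := fun Z => by rw [← mul_assoc, h2, zero_mul]
  have a3 : ∀ Z, X * (Y * (X * Z)) = X * Z := fun Z => by rw [← mul_assoc, ← mul_assoc, h3]
  have a4 : ∀ Z, Y * (X * (Y * Z)) = Y * Z := fun Z => by rw [← mul_assoc, ← mul_assoc, h4]
  rw [mul_assoc] at h3 h4
  simp only [mul_add, add_mul, mul_sub, sub_mul, mul_one, one_mul, mul_assoc, h1, h2, h3, h4, a1, a2, a3, a4, mul_zero,
    zero_mul]
  abel

theorem pres_G {Z : Matrix J J ℤ} (hL : D.L Z) (h : Z * Z = 0) : (1 + Z)ᵀ * D.G * (1 + Z) = D.G := by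
  rw [transpose_add, transpose_one, add_mul, one_mul, hL.tr, add_mul, mul_add, mul_add, neg_mul, neg_mul, mul_assoc,
    mul_assoc, h]
  simp

theorem L_conj {v : M → ℤ} (h : D.IsRoot v) {Z : Matrix J J ℤ} (hZ : D.L Z) : D.L (D.n0 v * Z * (D.n0 v)ᵀ) := by
  have h1 : (D.n0 v)ᵀ * D.G * D.n0 v = D.G := by
    have a1 := pres_G (L_X' h) (X_sq h)
    have a2 := pres_G (L_X' h.neg).neg (by rw [neg_mul_neg, X_sq h.neg])
    rw [n0_eq h, sub_eq_add_neg, transpose_mul, transpose_mul]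
    calc _ = (1 + D.X v)ᵀ * ((1 + -D.X (-v))ᵀ * ((1 + D.X v)ᵀ * D.G * (1 + D.X v)) * (1 + -D.X (-v))) * (1 + D.X v) := by
          simp only [mul_assoc]
      _ = _ := by rw [a1, a2, a1]
  have h2 := n0_mul h
  have h3 : (D.n0 v)ᵀ * D.G = D.G * (D.n0 v)ᵀ := by
    conv_rhs => rw [← h1, mul_assoc, h2, mul_one]
  have h4 : D.G * D.n0 v = D.n0 v * D.G := by
    conv_rhs => rw [← h1, ← mul_assoc, ← mul_assoc, h2, one_mul]
  unfold L
  rw [transpose_mul, transpose_mul, transpose_transpose, mul_assoc, mul_assoc, h3, ← mul_assoc Zᵀ, hZ.tr, ← mul_assoc D.G,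
    ← mul_assoc D.G, h4]
  noncomm_ring

theorem n0_wt {v : M → ℤ} (h : D.IsRoot v) {a b : J} (h1 : D.n0 v a b ≠ 0) : D.wt a = WD.rf v (D.wt b) := by
  by_cases h2 : D.wt a - D.wt b = v
  · rw [WD.rf, (pair_of_X h h2).2, ← h2]; simp
  by_cases h3 : D.wt a - D.wt b = -v
  · have := (pair_of_X h.neg h3).2
    rw [h.cv_neg, neg_dotProduct, neg_inj] at this
    rw [WD.rf, this, one_smul, sub_eq_add_neg, ← h3]; simp
  have h4 := X_mul_X_neg h.neg
  rw [neg_neg] at h4
  simp only [n0, X_mul_X_neg h, h4, Matrix.sub_apply, Matrix.add_apply, X_apply, if_neg h2, if_neg h3] at h1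
  by_cases h5 : a = b
  · subst h5
    have h6 := h.pair_le a
    have h7 := h.le_pair a
    simp only [one_apply_eq, diagonal_apply_eq, h.cv_neg, neg_dotProduct] at h1
    rw [WD.rf, show cv v ⬝ᵥ D.wt a = 0 by split_ifs at h1 <;> omega]; simp
  · simp [h5] at h1

theorem wt_conj {v w : M → ℤ} (h : D.IsRoot v) {Z : Matrix J J ℤ} (hZ : D.Wt Z w) :
    D.Wt (D.n0 v * Z * (D.n0 v)ᵀ) (WD.rf v w) := by
  intro a b h1
  obtain ⟨d, -, hd⟩ := exists_ne_zero_of_sum_ne_zero (mul_apply (M := D.n0 v * Z) ▸ h1)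
  obtain ⟨c, -, hc⟩ := exists_ne_zero_of_sum_ne_zero (mul_apply (M := D.n0 v) ▸ left_ne_zero_of_mul hd)
  rw [n0_wt h (left_ne_zero_of_mul hc), n0_wt h (right_ne_zero_of_mul hd), ← WD.rf_sub,
    hZ c d (right_ne_zero_of_mul hc)]

theorem exists_eta {v w : M → ℤ} (h : D.IsRoot v) (hw : D.IsRoot w) : ∃ η : ℤ, (η = 1 ∨ η = -1) ∧
    D.n0 v * D.X w * (D.n0 v)ᵀ = η • D.X (WD.rf v w) ∧ D.n0 v * D.X (-w) * (D.n0 v)ᵀ = η • D.X (-WD.rf v w) := by
  obtain ⟨η, h1⟩ := (L_conj h (L_X' hw)).exists_smul (wt_conj h (D.wt_X w)) (h.rf hw)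
  refine ⟨η, unit_of_smul hw (Z := (D.n0 v)ᵀ * D.X (WD.rf v w) * D.n0 v) ?_, h1, ?_⟩
  · have h2 := mul_eq_one_comm.1 (n0_mul h)
    rw [← smul_mul_assoc, ← mul_smul_comm, ← h1, ← mul_assoc, ← mul_assoc, h2, one_mul, mul_assoc, h2, mul_one]
  · rw [X_neg, X_neg, ← transpose_smul, ← h1]; simp [mul_assoc]

theorem n0_self {v : M → ℤ} (h : D.IsRoot v) : D.n0 v * D.X v * (D.n0 v)ᵀ = -D.X (-v) := by
  have h1 := X_sq h
  have h3 := XYX h
  have h4 := YXY h
  rw [← n0_neg, n0, n0, neg_neg]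
  generalize D.X v = X at *
  generalize D.X (-v) = Y at *
  have a1 : ∀ Z, X * (X * Z) = 0 := fun Z => by rw [← mul_assoc, h1, zero_mul]
  have a3 : ∀ Z, X * (Y * (X * Z)) = X * Z := fun Z => by rw [← mul_assoc, ← mul_assoc, h3]
  have a4 : ∀ Z, Y * (X * (Y * Z)) = Y * Z := fun Z => by rw [← mul_assoc, ← mul_assoc, h4]
  rw [mul_assoc] at h3 h4
  simp only [mul_add, add_mul, mul_sub, sub_mul, mul_one, one_mul, mul_assoc, h1, h3, h4, a1, a3, a4, mul_zero]
  abel

variable (D) in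
/-- the torus elements -/
def dd (l : M → ℤ) (t : Fˣ) : GL J F := dgG F fun a => t ^ (l ⬝ᵥ D.wt a)

theorem dd_mul_φ {Z : Matrix J J ℤ} (l : M → ℤ) (t : Fˣ) {k : ℤ} (h : ∀ a b, Z a b ≠ 0 → l ⬝ᵥ D.wt a = k) :
    (D.dd l t : Matrix J J F) * φ J F Z = ((t : F) ^ k) • φ J F Z := by
  ext a b
  rw [dd, coe_dgG, diagonal_mul, Matrix.smul_apply, φ_apply, smul_eq_mul]
  by_cases h1 : Z a b = 0
  · simp [h1]
  · simp [h a b h1]

theorem dd_conj (l : M → ℤ) (t : Fˣ) (s : D.R) (u : F) :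
    D.dd l t * (D.pre F).x s u * (D.dd l t)⁻¹ = (D.pre F).x s ((t : F) ^ (l ⬝ᵥ s.1) * u) := by
  rw [mul_inv_eq_iff_eq_mul]
  ext a b
  simp only [Units.val_mul, dd, coe_dgG, coe_x, diagonal_mul, mul_diagonal, Matrix.add_apply, Matrix.smul_apply,
    φ_apply, smul_eq_mul, X_apply]
  by_cases h1 : a = b
  · subst h1
    rw [if_neg (by rw [sub_self]; exact s.2.2.1.symm)]; simp
  · rw [one_apply_ne h1]
    split_ifs with h2
    · rw [← h2, dotProduct_sub, zpow_sub₀ t.ne_zero]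
      simp only [Units.val_zpow_eq_zpow_val]
      field_simp
      ring
    · simp

theorem coe_n (r : D.R) {t : F} (ht : t ≠ 0) :
    ((D.pre F).n r t : Matrix J J F) = (D.dd (cv r.1) (Units.mk0 t ht) : Matrix J J F) * φ J F (D.n0 r.1) := by
  have h := r.2
  have h4 := X_mul_X_neg h.neg
  rw [neg_neg] at h4
  rw [PreSt.n, Units.val_mul, Units.val_mul, coe_x, coe_x, n_ident (by rw [← map_mul, X_sq r.2, map_zero])
    (by rw [← map_mul, ← map_mul]; exact congrArg _ (XYX h)) ht, n0, map_sub, map_add, mul_sub, mul_add,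
    dd_mul_φ (Z := D.X r.1) (k := 1) _ _ fun a b h1 => (pair_of_X h (D.wt_X _ a b h1)).1,
    dd_mul_φ (Z := D.X (-r.1)) (k := -1) _ _ fun a b h1 => by
      have := (pair_of_X h.neg (D.wt_X _ a b h1)).1
      rw [h.cv_neg, neg_dotProduct] at this; omega,
    dd_mul_φ (k := 0) _ _ fun a b h1 => by
      have h6 := h.pair_le a
      have h7 := h.le_pair a
      simp only [X_mul_X_neg h, h4, Matrix.sub_apply] at h1
      by_cases h5 : a = b
      · subst h5
        simp only [one_apply_eq, diagonal_apply_eq, h.cv_neg, neg_dotProduct] at h1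
        split_ifs at h1 <;> omega
      · simp [h5] at h1]
  simp only [map_mul, map_sub, map_one, zpow_zero, one_smul, zpow_one, _root_.zpow_neg, Units.val_mk0]
  rfl

theorem coe_n_one (r : D.R) : ((D.pre F).n r 1 : Matrix J J F) = φ J F (D.n0 r.1) := by
  rw [coe_n r one_ne_zero]; simp [dd, coe_dgG]

theorem h_eq (r : D.R) {t : F} (ht : t ≠ 0) : (D.pre F).h r t = D.dd (cv r.1) (Units.mk0 t ht) := by
  rw [PreSt.h, ← PreSt.n_inv, mul_inv_eq_iff_eq_mul]
  exact Units.ext (by rw [Units.val_mul, coe_n_one, coe_n])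

theorem n_one_conj (r s s' : D.R) {c : ℤ} (h : D.n0 r.1 * D.X s.1 * (D.n0 r.1)ᵀ = c • D.X s'.1) (u : F) :
    (D.pre F).n r 1 * (D.pre F).x s u * ((D.pre F).n r 1)⁻¹ = (D.pre F).x s' (c * u) := by
  rw [mul_inv_eq_iff_eq_mul]
  apply Units.ext
  have h2 : D.n0 r.1 * D.X s.1 = c • D.X s'.1 * D.n0 r.1 := by
    rw [← h, mul_assoc, mul_eq_one_comm.1 (n0_mul r.2), mul_one]
  simp only [Units.val_mul, coe_n_one, coe_x, mul_add, add_mul, mul_one, one_mul, mul_smul_comm, smul_mul_assoc,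
    ← map_mul, h2, φ_smul, smul_smul, mul_comm u]

theorem n_conj (r s s' : D.R) {c : ℤ} (h : D.n0 r.1 * D.X s.1 * (D.n0 r.1)ᵀ = c • D.X s'.1) {t : F} (ht : t ≠ 0)
    (u : F) : (D.pre F).n r t * (D.pre F).x s u * ((D.pre F).n r t)⁻¹ =
      (D.pre F).x s' (c * t ^ (cv r.1 ⬝ᵥ s'.1) * u) := by
  rw [PreSt.n_eq, h_eq r ht, _root_.mul_inv_rev, mul_assoc, mul_assoc, ← mul_assoc _ _ (D.dd _ _)⁻¹,
    ← mul_assoc _ _ (D.dd _ _)⁻¹, ← mul_assoc ((D.pre F).n r 1), n_one_conj r s s' h, ← mul_assoc, dd_conj]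
  congr 1; simp; ring

theorem cv_rf {r : M → ℤ} (h : D.IsRoot r) (v : M → ℤ) : cv r ⬝ᵥ WD.rf r v = -(cv r ⬝ᵥ v) := by
  rw [WD.rf, dotProduct_sub, dotProduct_smul, h.cv_self]; simp; ring

theorem H_le_range : (D.pre F).H ≤ (dgG F).range :=
  (D.pre F).H_le.2 fun r _ ht => ⟨_, (h_eq r ht).symm⟩

theorem sub_one_of_mem (f : (I → ℤ) →+ ℤ) {m : ℤ} (hm : 0 < m) {S : Set D.R} (hS : ∀ s ∈ S, m ≤ f (D.rt s))
    {g : GL J F} (hg : g ∈ (D.pre F).XS S) (a b : J) (h : f (D.T (D.wt a - D.wt b)) ≤ 2 * m)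
    (h' : ∀ s ∈ S, s.1 ≠ D.wt a - D.wt b) : (g : Matrix J J F) a b = (1 : Matrix J J F) a b := by
  have key : ∀ s ∈ S, ∀ a b, D.X s.1 a b ≠ 0 → 2 * m ≤ f (D.T (D.wt a - D.wt b)) := fun s hs a b h => by
    rw [D.wt_X _ a b h, D.T_eq, map_zsmul, smul_eq_mul]
    have := hS s hs; omega
  revert a b
  refine (D.pre F).XS_induction (p := fun g => ∀ a b, f (D.T (D.wt a - D.wt b)) ≤ 2 * m →
    (∀ s ∈ S, s.1 ≠ D.wt a - D.wt b) → (g : Matrix J J F) a b = (1 : Matrix J J F) a b) (fun _ _ _ _ => rfl)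
    (fun s hs t g _ ih a b h h' => ?_) hg
  rw [Units.val_mul, coe_x, add_mul, one_mul, smul_mul_assoc, Matrix.add_apply, ih a b h h', Matrix.smul_apply,
    mul_apply, sum_eq_zero, smul_zero, add_zero]
  intro c _
  rw [φ_apply]
  by_cases h1 : D.X s.1 a c = 0
  · simp [h1]
  have h2 := key s hs a c h1
  have h3 : f (D.T (D.wt a - D.wt b)) = f (D.T (D.wt a - D.wt c)) + f (D.T (D.wt c - D.wt b)) := by
    rw [← map_add, ← map_add]; congr 2; abel
  rw [ih c b (by omega) fun s' hs' e => ?_, one_apply_ne, mul_zero]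
  · rintro rfl
    exact h' s hs (D.wt_X _ a c h1).symm
  · have := hS s' hs'
    rw [← e, D.T_eq, map_zsmul, smul_eq_mul] at h3
    omega

variable (D F)

theorem isSt : (D.pre F).IsSt where
  nconj r s := by
    obtain ⟨η, h1, h2, h3⟩ := exists_eta r.2 s.2
    have e : (D.cd.refl r s).1 = WD.rf r.1 s.1 := D.rs_refl r s
    have e' : D.cd.A r s = cv r.1 ⬝ᵥ s.1 := D.rs_A r s
    refine ⟨η, h1, fun t ht u => ⟨?_, ?_⟩⟩
    · rw [n_conj r s (D.cd.refl r s) (by rw [e]; exact h2) ht, e, cv_rf r.2, e']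
    · rw [n_conj r (D.cd.neg s) (D.cd.neg (D.cd.refl r s)) (by
        change _ * D.X (-s.1) * _ = η • D.X (-(D.cd.refl r s).1); rw [e]; exact h3) ht, e']
      change (D.pre F).x _ (η * t ^ (cv r.1 ⬝ᵥ -(D.cd.refl r s).1) * u) = _
      rw [e, dotProduct_neg, cv_rf r.2, neg_neg]
  nself r t ht u := by
    rw [n_conj r r (D.cd.neg r) (c := -1) (by rw [n0_self r.2]; simp [cd, WD.rs_neg]) ht]
    change (D.pre F).x _ (_ * t ^ (cv r.1 ⬝ᵥ -r.1) * u) = _
    rw [dotProduct_neg, r.2.cv_self]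
    congr 1; simp [zpow_ofNat]
  hconj r s t ht u := by
    rw [h_eq r ht, dd_conj]
    exact congrArg (fun k : ℤ => (D.pre F).x s (t ^ k * u)) (D.rs_A r s).symm
  sep1 f r t h1 h2 := by
    obtain ⟨a, b, h3, h4⟩ := exists_X_unit r.2
    have h5 := sub_one_of_mem f h1 (fun s hs => hs.1) h2 a b (by rw [h3, D.T_eq, map_zsmul]; rfl)
      fun s hs e => hs.2 (Subtype.ext (e.trans h3))
    rw [coe_x, Matrix.add_apply, add_eq_left, Matrix.smul_apply, φ_apply, smul_eq_mul] at h5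
    refine (mul_eq_zero.1 h5).resolve_right fun h6 => ?_
    have := congrArg (Int.cast : ℤ → F) h4
    simp [h6] at this
  sep2 u hu h hh v hv e := by
    obtain ⟨c, rfl⟩ := H_le_range hh
    rw [PreSt.U_eq] at hu
    rw [PreSt.V_eq] at hv
    have h1 : ∀ a b, RS.ht (D.T (D.wt a - D.wt b)) ≤ 0 → (u : Matrix J J F) a b = (1 : Matrix J J F) a b :=
      fun a b h => sub_one_of_mem RS.ht one_pos (fun s hs => hs) hu a b (by omega) fun s hs e => by
        have : 0 < RS.ht (D.rt s) := hs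
        rw [← e, D.T_eq, map_zsmul, smul_eq_mul] at h; omega
    have h2 : ∀ a b, 0 ≤ RS.ht (D.T (D.wt a - D.wt b)) → (v : Matrix J J F) a b = (1 : Matrix J J F) a b :=
      fun a b h => sub_one_of_mem (-RS.ht) one_pos (fun s hs => hs) hv a b (by
        rw [AddMonoidHom.neg_apply]; omega) fun s hs e => by
        have : 0 < -RS.ht (D.rt s) := hs
        rw [← e, D.T_eq, map_zsmul, smul_eq_mul] at h; omega
    have h3 : ∀ a b, (u : Matrix J J F) a b * c b = (v : Matrix J J F) a b := fun a b => by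
      rw [← e, Units.val_mul, coe_dgG, mul_diagonal]
    have h4 : ∀ a, (c a : F) = 1 := fun a => by
      have := h3 a a
      rwa [h1 a a (by simp), h2 a a (by simp), one_apply_eq, one_mul] at this
    simp only [h4, mul_one] at h3
    have h5 : u = 1 := by
      ext a b
      rcases le_total (RS.ht (D.T (D.wt a - D.wt b))) 0 with h | h
      · exact h1 a b h
      · exact (h3 a b).trans (h2 a b h)
    exact ⟨h5, by rw [← h5]; ext a b; exact (h3 a b).symm⟩

theorem mult : (D.pre F).Mult := fun r t u ht hu => by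
  rw [h_eq r ht, h_eq r hu, h_eq r (mul_ne_zero ht hu), dd, dd, dd, ← map_mul]
  congr 1; ext a; simp [mul_zpow]

end MR

end CfsgH8
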