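import Cfsg.Agent.H8.CR3
import Cfsg.Agent.H6.Sch5
import Cfsg.Agent.H6.Stb3
import Cfsg.Agent.H8.Small1
import Cfsg.Agent.H4.Pairs3

/-! Generic consequences of the Steinberg relations over finite fields. -/

set_option autoImplicit false

namespace CfsgH8

open Cfsg CfsgH6 CfsgH6.PreSt CfsgH4 CfsgH1

/-- existence of a character of Steinberg type -/
def HasSt (p : ℕ) (G : Type*) [Group G] : Prop :=
  ∃ χ : G → ℂ, IsIrrCharacter G χ ∧ ∀ P : Sylow p G, χ 1 = Nat.card P ∧ ∀ x : G, x ∈ P → x ≠ 1 → χ x = 0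

theorem hasSt_of {p : ℕ} [hp : Fact p.Prime] {G : Type*} [Group G] [Finite G] {χ : G → ℂ} (h : IsIrrCharacter G χ)
    (P : Sylow p G) (h1 : χ 1 = Nat.card P) : HasSt p G := by
  refine ⟨χ, h, fun Q => ⟨by rw [h1, P.card_eq_multiplicity, Q.card_eq_multiplicity], fun x hx h2 => ?_⟩⟩
  refine vanish_dz hp.out h h1 ?_ ?_
  · rw [← P.1.card_mul_index, Nat.mul_div_cancel_left _ Nat.card_pos]
    exact P.not_dvd_index
  · obtain ⟨k, hk⟩ := IsPGroup.iff_orderOf.1 Q.isPGroup' ⟨x, hx⟩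
    rw [Subgroup.orderOf_mk] at hk
    rcases k with _ | k
    · exact absurd (orderOf_eq_one_iff.1 hk) h2
    · exact hk ▸ dvd_pow_self p k.succ_ne_zero

variable {I R : Type} [Fintype I] [DecidableEq I] {Φ : CD I R} {F : Type*} [Field F]
  {Γ : Type*} [Group Γ] {X : PreSt Φ F Γ} {Γ' : Type*} [Group Γ']

/-- pull-back of a system along an embedding -/
noncomputable def pull (X' : PreSt Φ F Γ') (ι : Γ →* Γ') (hι : Function.Injective ι) (h : ∀ r t, X'.x r t ∈ ι.range) :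
    PreSt Φ F Γ where
  x r t := (h r t).choose
  add r t u := hι (by rw [map_mul, (h r t).choose_spec, (h r u).choose_spec, (h r _).choose_spec, X'.add])
  comm r s t u h1 h2 := hι (by
    simp only [map_mul, map_list_prod, List.map_map, Function.comp_def, (h _ _).choose_spec]
    exact X'.comm r s t u h1 h2)

theorem pull_x (X' : PreSt Φ F Γ') (ι : Γ →* Γ') (hι : Function.Injective ι) (h : ∀ r t, X'.x r t ∈ ι.range)
    (r : R) (t : F) : ι ((pull X' ι hι h).x r t) = X'.x r t := (h r t).choose_spec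

theorem mult_fin [Finite F] (hX : X.IsSt) : X.Mult := fun r t u ht hu => by
  obtain ⟨σ, hσ, i, rfl⟩ := Φ.exists_W_sim r
  obtain ⟨y, -, ha⟩ := hX.exists_N hσ
  exact PreSt.mult_of_act ha (fun t u ht hu => hX.mult_pos (Φ.pos_sim i) ht hu) ht hu

variable [Finite R]

theorem inj_of_sc [Finite F] {X' : PreSt Φ F Γ'} (hX' : X'.IsSt) (hi : Function.Injective (hX'.hh (mult_fin hX')))
    (hG : X.G = ⊤) (θ : Γ →* Γ') (hθ : ∀ r t, θ (X.x r t) = X'.x r t) : Function.Injective θ := by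
  have hX := X.isSt_of_hom X' θ hθ hX'
  refine (injective_iff_map_eq_one θ).2 fun g hg => ?_
  obtain ⟨c, rfl⟩ := (hX.range_hh (mult_fin hX)).ge (X.ker_mem_H X' θ hθ hX' (hG ▸ Subgroup.mem_top g) hg)
  rw [hh_map hX _ hX' (mult_fin hX') θ hθ, ← map_one (hX'.hh (mult_fin hX'))] at hg
  rw [hi hg, map_one]

theorem exists_hom_sc [Finite F] (hX : X.IsSt) (hi : Function.Injective (hX.hh (mult_fin hX))) (hG : X.G = ⊤)
    (Y : PreSt Φ F Γ') : ∃ θ : Γ →* Γ', ∀ r t, θ (X.x r t) = Y.x r t := by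
  let π : (X.prod Y).G →* Γ := (MonoidHom.fst Γ Γ').comp (X.prod Y).G.subtype
  have hπ : ∀ r t, π ((X.prod Y).toG.x r t) = X.x r t := fun _ _ => rfl
  have h1 := inj_of_sc hX hi (X.prod Y).toG_G π hπ
  have h2 : Function.Surjective π := by
    rw [← MonoidHom.range_eq_top, MonoidHom.range_eq_map, ← (X.prod Y).toG_G, map_G _ _ _ hπ, hG]
  let e := MulEquiv.ofBijective π ⟨h1, h2⟩
  refine ⟨((MonoidHom.snd Γ Γ').comp (X.prod Y).G.subtype).comp e.symm.toMonoidHom, fun r t => ?_⟩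
  have : e.symm (X.x r t) = (X.prod Y).toG.x r t := e.symm_apply_eq.2 rfl
  simp only [MonoidHom.comp_apply, MulEquiv.coe_toMonoidHom, this]
  rfl

theorem SM_of_sys [Finite F] (hX : X.IsSt) (hi : Function.Injective (hX.hh (mult_fin hX))) (hG : X.G = ⊤)
    (H : ∀ f : Z2 Γ ℂˣ, CX (Ext.σ f) → ∃ Z : PreSt Φ F (Ext f), ∀ r t, Ext.σ f (Z.x r t) = X.x r t) :
    Subsingleton (SM Γ) := SM_of_split fun f hf => by
  obtain ⟨Z, hZ⟩ := H f hf
  obtain ⟨θ, hθ⟩ := exists_hom_sc hX hi hG Z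
  refine ⟨θ, fun x => DFunLike.congr_fun (hom_ext' hG (θ := (Ext.σ f).comp θ) (θ' := MonoidHom.id _) ?_) x⟩
  intro r t
  rw [MonoidHom.comp_apply, hθ, hZ, MonoidHom.id_apply]

theorem isSt_map [Finite F] (hX : X.IsSt) (θ : Γ →* Γ')
    (hk : ∀ g ∈ X.G, θ g = 1 → ∀ r t, g * X.x r t = X.x r t * g) : (X.map θ).IsSt := by
  have hθ : ∀ r t, θ (X.x r t) = (X.map θ).x r t := fun _ _ => rfl
  refine ⟨fun r s => ?_, fun r t ht u => ?_, fun r s t ht u => ?_, fun f r t h1 h2 => ?_, fun u hu h hh v hv e => ?_⟩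
  · obtain ⟨η, h1, h2⟩ := hX.nconj r s
    refine ⟨η, h1, fun t ht u => ?_⟩
    simp only [← X.map_n _ θ hθ, ← hθ, ← map_mul, ← map_inv, (h2 t ht u).1, (h2 t ht u).2, and_self]
  · simp only [← X.map_n _ θ hθ, ← hθ, ← map_mul, ← map_inv, hX.nself r t ht u]
  · simp only [← X.map_h _ θ hθ, ← hθ, ← map_mul, ← map_inv, hX.hconj r s t ht u]
  · rw [← X.map_XS _ θ hθ] at h2
    obtain ⟨y, hy, e⟩ := h2
    have h3 : y⁻¹ * X.x r t ∈ X.XS {s | 0 < f (Φ.rt s)} :=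
      mul_mem (inv_mem (X.XS_mono (fun s hs => lt_of_lt_of_le h1 hs.1) hy)) (X.x_mem_XS h1 t)
    have h4 : y⁻¹ * X.x r t ∈ X.H := hX.center_le_H (X.XS_le_G _ h3)
      (hk _ (X.XS_le_G _ h3) (by rw [map_mul, map_inv, e, hθ, inv_mul_cancel]))
    have := Fintype.ofFinite F
    obtain ⟨p, hp⟩ := CharP.exists F
    obtain ⟨n, hp', hn⟩ := FiniteField.card F p
    rw [← Nat.card_eq_fintype_card] at hn
    have h5 := Subgroup.orderOf_dvd_natCard _ h3
    rw [X.card_XS (S := {s | 0 < f (Φ.rt s)}) hX.sep1 f (fun _ h => h) (closed_phi f zero_le_one)] at h5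
    have h6 := (Subgroup.orderOf_dvd_natCard _ h4).trans (hX.card_H_dvd (mult_fin hX))
    have h7 := Nat.eq_one_of_dvd_coprimes (Nat.Coprime.pow _ _ ((Nat.coprime_self_sub_right
      Nat.card_pos).2 (Nat.coprime_one_right _))) h5 h6
    rw [orderOf_eq_one_iff, inv_mul_eq_one] at h7
    exact hX.sep1 f r t h1 (h7 ▸ hy)
  · obtain ⟨u, hu', rfl⟩ := (X.map_XS _ θ hθ _).ge hu
    obtain ⟨h, hh', rfl⟩ := (X.map_H _ θ hθ).ge hh
    obtain ⟨v, hv', rfl⟩ := (X.map_XS _ θ hθ _).ge hv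
    have h3 : (u * h)⁻¹ * v ∈ X.G := mul_mem (inv_mem (mul_mem (X.U_le_G hu') (X.H_le_G hh'))) (X.V_le_G hv')
    have h4 := hX.center_le_H h3 (hk _ h3 (by rw [map_mul, map_inv, map_mul, e, inv_mul_cancel]))
    obtain ⟨rfl, rfl⟩ := hX.sep2 u hu' _ (mul_mem hh' h4) v hv' (by group)
    exact ⟨map_one _, map_one _⟩

theorem map_G_top (hG : X.G = ⊤) {θ : Γ →* Γ'} (h : Function.Surjective θ) : (X.map θ).G = ⊤ := by
  rw [← X.map_G _ θ fun _ _ => rfl, hG, ← MonoidHom.range_eq_map, MonoidHom.range_eq_top.2 h]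

variable [Finite F] (hX : X.IsSt) (hG : X.G = ⊤) (p : ℕ) [hp : Fact p.Prime] [CharP F p]
include hX hG

theorem finite_of_st : Finite Γ := by
  have := hX.finite_G (mult_fin hX)
  rw [hG] at this
  exact Finite.of_equiv _ Subgroup.topEquiv.toEquiv

theorem hasSt_st : HasSt p Γ := by
  have := finite_of_st hX hG
  obtain ⟨P, hP⟩ := hX.exists_sylow (mult_fin hX) hG p
  exact hasSt_of (hX.irr_St hG) P (by rw [hX.St_one hG, hP])

theorem hasSt_quot {θ : Γ →* Γ'} (h : Function.Surjective θ) (hk : θ.ker ≤ Subgroup.center Γ) : HasSt p Γ' :=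
  hasSt_st (isSt_map hX θ fun _ _ e _ _ => (Subgroup.mem_center_iff.1 (hk e) _).symm) (map_G_top hG h) p

theorem card_dz {M : Ideal AlgInt} (hM : IsPModular p M) :
    Nat.card {B : Set (IrrCharacter Γ) // IsPBlock M B ∧ blockDefect p B = 0} = 1 := by
  have := finite_of_st hX hG
  have := hM.2.1
  have := charP_of_isPModular hM
  obtain ⟨P, hP⟩ := hX.exists_sylow (mult_fin hX) hG p
  obtain ⟨-, h2⟩ := Chev.Good.isDef_bot (M := M) p (χ := ⟨_, hX.irr_St hG⟩) (by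
    rw [nu, charDegree_eq (hX.St_one hG), ← hP, P.card_eq_multiplicity, hp.out.factorization_pow,
      Finsupp.single_eq_same])
  refine Nat.card_eq_one_iff_exists.2 ⟨⟨_, isPBlock_blockOf _, (blockDefect_eq_zero_iff (isPBlock_blockOf _) h2).2 rfl⟩,
    fun ⟨B, hB, h0⟩ => Subtype.ext ?_⟩
  obtain ⟨Q, hQ⟩ := exists_isDef_blk p hB
  rw [(blockDefect_eq_zero_iff hB hQ).1 h0] at hQ
  exact bId_injective hB (isPBlock_blockOf _) (hX.dz_unique (mult_fin hX) hG p (isPrim_bId hB)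
    (isPrim_bId (isPBlock_blockOf _)) hQ h2)

end CfsgH8
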