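import Cfsg.Agent.H8.CR4

/-! The root system of type `A` and the special linear groups. -/

set_option autoImplicit false

namespace CfsgH8

open Matrix Finset CfsgH6 CfsgH6.PreSt
open scoped MatrixGroups

theorem zpow_sum' {G ι : Type*} [CommGroup G] (a : G) (s : Finset ι) (f : ι → ℤ) :
    a ^ ∑ i ∈ s, f i = ∏ i ∈ s, a ^ f i := by
  classical
  induction s using Finset.induction_on with
  | empty => simp
  | insert i s h ih => rw [sum_insert h, prod_insert h, _root_.zpow_add, ih]

namespace MR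

variable {I M J : Type} [Fintype I] [DecidableEq I] [Fintype M] [DecidableEq M] [Fintype J] [DecidableEq J]
  {D : MR I M J} {F : Type*} [Field F]

theorem hh_eq (c : I → Fˣ) :
    (D.isSt F).hh (D.mult F) c = dgG F fun a => ∏ i, c i ^ (cv (D.α i) ⬝ᵥ D.wt a) := by
  let φ : (I → Fˣ) →* J → Fˣ := MonoidHom.mk' (fun c a => ∏ i, c i ^ (cv (D.α i) ⬝ᵥ D.wt a)) fun c d => by
    ext a; simp [mul_zpow, prod_mul_distrib]
  refine DFunLike.congr_fun (MonoidHom.pi_ext (f := (D.isSt F).hh (D.mult F)) (g := (dgG F).comp φ) fun i t => ?_) c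
  rw [IsSt.hh_single, h_eq _ t.ne_zero, dd, MonoidHom.comp_apply]
  congr 1
  ext a
  simp only [φ, MonoidHom.mk'_apply, Units.mk0_val]
  rw [prod_eq_single i (fun j _ h => by simp [Pi.mulSingle_eq_of_ne h]) (by simp), Pi.mulSingle_eq_same]
  rfl

theorem hh_inj (h : ∀ j, ∃ s : Finset J, ∀ i, ∑ a ∈ s, cv (D.α i) ⬝ᵥ D.wt a = if i = j then 1 else 0) :
    Function.Injective ((D.isSt F).hh (D.mult F)) := by
  refine (injective_iff_map_eq_one _).2 fun c hc => funext fun j => ?_
  obtain ⟨s, hs⟩ := h j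
  have h1 : ∀ a, ∏ i, c i ^ (cv (D.α i) ⬝ᵥ D.wt a) = 1 := fun a => by
    have := congrArg (fun g : GL J F => (g : Matrix J J F) a a) ((hh_eq c).symm.trans hc)
    simpa only [coe_dgG, diagonal_apply_eq, Units.val_one, one_apply_eq, Units.val_eq_one] using this
  have h2 := prod_eq_one (s := s) fun a _ => h1 a
  rw [prod_comm] at h2
  simpa [← zpow_sum', hs] using h2

theorem tm_two (hk : D.k = 2) {r s : D.R} (h : s.1 ≠ -r.1) :
    D.tm r s = D.tl (r.1 + s.1) (D.X r.1 * D.X s.1 - D.X s.1 * D.X r.1) 1 1 := by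
  have h1 := dot_self_pos (sub_ne_zero.2 h)
  have h2 := r.2.2.2
  have h3 := s.2.2.2
  have h4 := r.2.norm
  have h5 := s.2.norm
  rw [sub_neg_eq_add, norm_add, dotProduct_comm] at h1
  rw [tm, tl_neg (v := r.1 + s.1 + r.1), tl_neg (v := s.1 + r.1 + s.1)]
  · simp
  all_goals
    intro h6
    have := h6.2.2
    rw [norm_add, norm_add, add_dotProduct] at this
    simp only [dotProduct_comm r.1 s.1] at this
    omega

end MR

/-- unit vectors -/
abbrev ev {n : Type} [DecidableEq n] (a : n) : n → ℤ := Pi.single a 1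

theorem ev_dot {n : Type} [DecidableEq n] [Fintype n] (a b : n) : ev a ⬝ᵥ ev b = if a = b then 1 else 0 := by
  simp [Pi.single_apply, eq_comm]

theorem ev_inj {n : Type} [DecidableEq n] : Function.Injective (ev : n → n → ℤ) := fun a b h => by
  by_contra h'
  simpa [Pi.single_eq_of_ne h'] using congrFun h a

theorem ev_sub_eq {n : Type} [DecidableEq n] {a b c d : n} (h : a ≠ b) : ev a - ev b = ev c - ev d ↔ a = c ∧ b = d := by
  refine ⟨fun e => ?_, fun e => by rw [e.1, e.2]⟩
  have h1 := congrFun e a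
  have h2 := congrFun e b
  simp only [Pi.sub_apply, Pi.single_apply] at h1 h2
  constructor <;> by_contra h3 <;> split_ifs at h1 h2 <;> simp_all

theorem exists_third {n : Type} [Fintype n] (s : Finset n) (h : #s < Fintype.card n) : ∃ c, c ∉ s := by
  by_contra h'
  push Not at h'
  exact absurd (card_le_card fun c _ => h' c) (not_le.2 h)

/-- partial sums -/
def psum {n m : Type} [Fintype n] [LinearOrder n] (f : m → n) : (n → ℤ) →+ (m → ℤ) :=
  AddMonoidHom.mk' (fun v i => 2 * ∑ a with a ≤ f i, v a) fun v w => by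
    ext i; simp [sum_add_distrib, mul_add]

theorem psum_ev {n m : Type} [Fintype n] [LinearOrder n] (f : m → n) (a : n) (i : m) :
    psum f (ev a) i = if a ≤ f i then 2 else 0 := by
  simp [psum, Pi.single_apply]

theorem chain_mem {l : ℕ} {A : Type} [AddCommGroup A] (e : Fin (l + 1) → A) {K : AddSubgroup A}
    (h : ∀ i : Fin l, e i.castSucc - e i.succ ∈ K) (a b : Fin (l + 1)) : e a - e b ∈ K := by
  have : ∀ a, e 0 - e a ∈ K := Fin.induction (by simp [zero_mem]) fun i ih => by
    simpa using add_mem ih (h i)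
  simpa using sub_mem (this b) (this a)

/-- type `A` -/
def mrA (l : ℕ) (hl : 2 ≤ l) : MR (Fin l) (Fin (l + 1)) (Fin (l + 1)) where
  wt := ev
  k := 2
  α i := ev i.castSucc - ev i.succ
  T := psum Fin.castSucc
  wt_inj := ev_inj
  wt_unit a := by simp
  negs a d c h := by
    have := congrFun h a
    simp only [Pi.neg_apply, Pi.single_apply] at this
    split_ifs at this <;> omega
  α_root i := ⟨⟨_, _, rfl⟩, sub_ne_zero.2 (ev_inj.ne Fin.castSucc_lt_succ.ne), by
    rw [norm_sub, ev_dot, ev_dot, ev_dot]; split_ifs <;> omega⟩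
  T_α i := by
    ext j
    simp only [map_sub, Pi.sub_apply, psum_ev, Pi.single_apply, Fin.le_def, Fin.ext_iff, Fin.val_castSucc, Fin.val_succ]
    split_ifs <;> omega
  span a b _ := chain_mem ev (fun i => AddSubgroup.subset_closure (Set.mem_range_self i)) a b
  sign a b _ := by
    refine (le_total a b).imp (fun h i => ?_) fun h i => ?_ <;>
      simp only [map_sub, Pi.sub_apply, psum_ev, Pi.zero_apply] <;> split_ifs <;> omega
  long _ _ h := by omega
  s _ _ := 1
  G := 0
  s_sq _ _ := rfl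
  s_symm _ _ := rfl
  L_X := by simp
  L_eq Z _ a b c d h e := by obtain ⟨rfl, rfl⟩ := (ev_sub_eq h).1 e; rfl
  L_zero Z _ a b h := by
    rw [norm_sub, ev_dot, ev_dot, ev_dot] at h; split_ifs at h <;> omega
  gen := by
    rintro _ ⟨⟨a, b, rfl⟩, h, -⟩
    have hab : a ≠ b := fun e => h (by simp [e])
    obtain ⟨c, hc⟩ := exists_third {a, b} (card_le_two.trans_lt (by simp; omega))
    simp only [mem_insert, mem_singleton, not_or] at hc
    refine ⟨ev a - ev c, ⟨⟨a, c, rfl⟩, sub_ne_zero.2 (ev_inj.ne (Ne.symm hc.1)), ?_⟩,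
      fun e => hc.2 ((ev_sub_eq (Ne.symm hc.1)).1 e).2, ?_⟩
    · simp only [norm_sub, ev_dot]; split_ifs <;> omega
    · simp [ev_dot, hab, hc.1, hc.2, Pi.single_apply, hab.symm, Ne.symm hc.1, Ne.symm hc.2]

section A

variable {l : ℕ} (hl : 2 ≤ l)

/-- roots of type `A` -/
def rA {a b : Fin (l + 1)} (h : a ≠ b) : (mrA l hl).R :=
  ⟨ev a - ev b, ⟨a, b, rfl⟩, sub_ne_zero.2 (ev_inj.ne h), by
    change _ ≤ (2 : ℤ)
    simp only [norm_sub, ev_dot]; split_ifs <;> omega⟩

variable {hl}

@[simp] theorem rA_val {a b : Fin (l + 1)} (h : a ≠ b) : (rA hl h).1 = ev a - ev b := rfl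

theorem exists_rA (r : (mrA l hl).R) : ∃ a b, ∃ h : a ≠ b, r = rA hl h := by
  obtain ⟨_, ⟨a, b, rfl⟩, h, _⟩ := r
  exact ⟨a, b, fun e => h (by simp [e]), rfl⟩

theorem rA_inj {a b c d : Fin (l + 1)} {h : a ≠ b} {h' : c ≠ d} : rA hl h = rA hl h' ↔ a = c ∧ b = d :=
  Subtype.ext_iff.trans (ev_sub_eq h)

theorem neg_rA {a b : Fin (l + 1)} (h : a ≠ b) : (mrA l hl).cd.neg (rA hl h) = rA hl h.symm :=
  Subtype.ext (neg_sub _ _)

theorem X_rA {a b : Fin (l + 1)} (h : a ≠ b) : (mrA l hl).X (ev a - ev b) = single a b 1 := by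
  ext c d
  rw [MR.X_apply, single_apply]
  exact if_congr (eq_comm.trans (ev_sub_eq h)) rfl rfl

theorem cv_A {a b : Fin (l + 1)} (h : a ≠ b) : cv (ev a - ev b) = ev a - ev b :=
  if_neg (by simp only [norm_sub, ev_dot]; split_ifs <;> omega)

theorem A_rA {a b : Fin (l + 1)} (h : a ≠ b) (s : (mrA l hl).R) : (mrA l hl).cd.A (rA hl h) s = s.1 a - s.1 b :=
  ((mrA l hl).rs_A _ _).trans (by simp [cv_A h])

variable (hl) (F : Type*) [Field F]

theorem x_rA {a b : Fin (l + 1)} (h : a ≠ b) (t : F) :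
    ((mrA l hl).pre F).x (rA hl h) t = SpecialLinearGroup.toGL (SpecialLinearGroup.transvection h t) := by
  apply Units.ext
  rw [MR.coe_x, rA_val, X_rA h]
  ext c d
  simp [SpecialLinearGroup.transvection_coe, transvection, single_apply]

/-- the root elements of `SL` -/
noncomputable def preA : PreSt (mrA l hl).cd F SL(l + 1, F) :=
  pull ((mrA l hl).pre F) SpecialLinearGroup.toGL SpecialLinearGroup.toGL_injective fun r t => by
    obtain ⟨a, b, h, rfl⟩ := exists_rA r
    exact ⟨_, (x_rA hl F h t).symm⟩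

theorem toGL_preA (r : (mrA l hl).R) (t : F) : SpecialLinearGroup.toGL ((preA hl F).x r t) = ((mrA l hl).pre F).x r t :=
  pull_x _ _ _ _ _ _

theorem preA_x {a b : Fin (l + 1)} (h : a ≠ b) (t : F) :
    (preA hl F).x (rA hl h) t = SpecialLinearGroup.transvection h t :=
  SpecialLinearGroup.toGL_injective ((toGL_preA hl F _ t).trans (x_rA hl F h t))

theorem isSt_A : (preA hl F).IsSt := isSt_of_hom _ _ _ (toGL_preA hl F) ((mrA l hl).isSt F)

theorem preA_G : (preA hl F).G = ⊤ := by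
  have : Nontrivial (Fin (l + 1)) := Fin.nontrivial_iff_two_le.2 (by omega)
  refine top_unique fun g _ => SpecialLinearGroup.diagonal_transvection_induction' (· ∈ (preA hl F).G) g
    (fun i j h c hc => ?_) (fun i j h t => preA_x hl F h t ▸ x_mem_G _ _ _) fun _ _ => mul_mem
  convert (preA hl F).h_mem_G (rA hl h) c
  apply SpecialLinearGroup.toGL_injective
  rw [map_h _ _ _ (toGL_preA hl F), MR.h_eq _ hc, rA_val, cv_A h]
  apply Units.ext
  rw [MR.dd, coe_dgG]
  refine (SpecialLinearGroup.diag2n_coe h c hc).trans (congrArg _ (funext fun k => ?_))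
  change _ = (((Units.mk0 c hc) ^ ((ev i - ev j) ⬝ᵥ ev k) : Fˣ) : F)
  simp only [sub_dotProduct, ev_dot, @eq_comm _ k]
  split_ifs <;> simp_all

theorem hh_inj_A [Finite F] : Function.Injective ((isSt_A hl F).hh (mult_fin (isSt_A hl F))) := by
  refine Function.Injective.of_comp (f := SpecialLinearGroup.toGL) ?_
  rw [show _ ∘ _ = _ from funext (hh_map _ _ ((mrA l hl).isSt F) ((mrA l hl).mult F) _ (toGL_preA hl F))]
  refine MR.hh_inj fun j => ⟨univ.filter (· ≤ j.castSucc), fun i => ?_⟩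
  change ∑ a ∈ _, cv (ev i.castSucc - ev i.succ) ⬝ᵥ ev a = _
  simp only [cv_A Fin.castSucc_lt_succ.ne, sub_dotProduct, ev_dot, sum_sub_distrib, sum_ite_eq, mem_filter, mem_univ,
    true_and]
  simp only [Fin.le_def, Fin.ext_iff, Fin.val_castSucc, Fin.val_succ]
  split_ifs <;> omega

end A

end CfsgH8
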