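import Cfsg.Agent.H8.CRA
import Cfsg.Agent.H8.Loc5
import Cfsg.Agent.H1.GL2d
import Cfsg.Agent.S0906
import Cfsg.Agent.S0908
import Cfsg.Agent.S0953
import Cfsg.Agent.S0955
import Cfsg.Agent.S0956

/-! Blocks in the defining characteristic. -/

set_option autoImplicit false

namespace CfsgH8

open Cfsg CfsgH2 CfsgH3 CfsgH4 Subgroup CfsgH5 Matrix
open scoped MatrixGroups

variable {G : Type*} [Group G] [Finite G] {p : ℕ} [hp : Fact p.Prime] {Z : Subgroup G}

theorem LocA.cent (h : LocA p (⊤ : Subgroup G) Z) {D : Subgroup G} (hD : IsPGroup p D) (h0 : D ≠ ⊥)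
    (hr : pCoreOf p (normalizer (D : Set G)) ≤ D) {x : G} (hx : ¬ p ∣ orderOf x) (hc : x ∈ centralizer (D : Set G)) :
    x ∈ Z := by
  obtain ⟨P, Q, a1, -, -, a4, a5, a6⟩ := h.bt D le_top hD h0
  rw [top_inf_eq] at a1
  have h1 : Q ⊓ normalizer (D : Set G) ≤ D := (le_Op inf_le_right (le_normalizer_inf' (a1.trans a4) le_normalizer)
    (a5.to_le inf_le_left)).trans hr
  have h2 : D ≤ normalizer (Q : Set G) := (le_normalizer.trans a1).trans a4
  have h3 : Q ≤ D := by
    by_contra h3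
    obtain ⟨y, ⟨y1, y2⟩, y3⟩ := SetLike.exists_of_lt (lt_inf_normalizer (IsPGroup.to_sup_of_normal_right' hD a5 h2)
      (lt_of_le_of_ne le_sup_left fun e => h3 (e ▸ le_sup_right)))
    obtain ⟨d, hd, q, hq, rfl⟩ := (mem_sup_of_normalizer' h2).1 y1
    exact y3 (mul_mem hd (h1 ⟨hq, (mul_mem_cancel_left (le_normalizer hd)).1 y2⟩))
  exact a6 x (a1 (centralizer_le_normalizer _ hc)) ((hp.out.coprime_iff_not_dvd.2 hx).symm) (centralizer_le h3 hc)

theorem LocA.defect (h : LocA p (⊤ : Subgroup G) Z) {M : Ideal AlgInt} (hM : IsPModular p M)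
    {B : Set (IrrCharacter G)} (hB : IsPBlock M B) :
    blockDefect p B = 0 ∨ blockDefect p B = (Nat.card G).factorization p := by
  have := hM.2.1
  have := charP_of_isPModular hM
  obtain ⟨D, hD⟩ := exists_isDefectGroup (p := p) hB
  have hDp := ((isDefectGroup_iff hB).1 hD).pgroup
  have h1 := Cfsg.Agent.S0908.result p M hM B hB D hD
  by_cases h0 : D = ⊥
  · left
    rw [h0, card_bot, eq_comm, Nat.pow_eq_one] at h1
    exact h1.resolve_left hp.out.one_lt.ne'
  right
  have h2 : pCoreOf p (normalizer (D : Set G)) = D := Cfsg.Agent.S0955.result p M hM B hB D hD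
  obtain ⟨P, hP⟩ := hDp.exists_le_sylow
  obtain ⟨x, hx, ⟨T, hT⟩, h3⟩ := Cfsg.Agent.S0956.result p M hM B hB D hD P hP
  have h5 : x ∈ centralizer (D : Set G) := fun d hd => by
    have : d ∈ centralizer ({x} : Set G) := (IsSylowIn.of_sylow_map T).le (hT ▸ hd)
    exact (this x rfl).symm
  have h6 := h.cent hDp h0 h2.le hx h5
  rw [CfsgH2.cj_def, cj_eq_iff_mem_normalizer.2 (centralizer_le_normalizer _ fun y _ => h.zc x h6 y trivial), inf_idem] at h3
  rw [← h3, P.card_eq_multiplicity] at h1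
  exact (Nat.pow_right_injective hp.out.two_le h1).symm

theorem LocA.card_blocks (h : LocA p (⊤ : Subgroup G) Z) (hd : p ∣ Nat.card G) {M : Ideal AlgInt}
    (hM : IsPModular p M) : Nat.card {B : Set (IrrCharacter G) // IsPBlock M B} =
      Nat.card Z + Nat.card {B : Set (IrrCharacter G) // IsPBlock M B ∧ blockDefect p B = 0} := by
  classical
  have := hM.2.1
  have := charP_of_isPModular hM
  obtain ⟨P⟩ : Nonempty (Sylow p G) := inferInstance
  have hf : (Nat.card G).factorization p ≠ 0 := (hp.out.factorization_pos_of_dvd Nat.card_pos.ne' hd).ne'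
  have h1 : ∀ B, IsPBlock M B → (IsDefectGroup p M B (P : Subgroup G) ↔ ¬ blockDefect p B = 0) := fun B hB => by
    refine ⟨fun hD e => ?_, fun e => ?_⟩
    · have := Cfsg.Agent.S0908.result p M hM B hB _ hD
      rw [e, P.card_eq_multiplicity] at this
      exact hf (Nat.pow_right_injective hp.out.two_le this)
    · obtain ⟨D, hD⟩ := exists_isDef_blk p hB
      obtain ⟨Q, hQ⟩ := hD.pgroup.exists_le_sylow
      have h2 := eq_of_le_of_card_le hQ (by
        rw [card_isDef hB hD, (h.defect hM hB).resolve_left e, Q.card_eq_multiplicity])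
      obtain ⟨g, rfl⟩ := MulAction.exists_smul_eq G Q P
      rw [isDefectGroup_iff hB, sylow_smul_coe, ← h2]
      exact hD.cj (isPrim_bId hB).mem.2 (mem_top g)
  have h2 : Nat.card Z = Nat.card {B : Set (IrrCharacter G) // IsPBlock M B ∧ ¬ blockDefect p B = 0} := by
    rw [← Nat.card_congr (Equiv.subtypeEquivRight fun B => and_congr_right (h1 B)), Cfsg.Agent.S0953.result p M hM P]
    have hz : ∀ z ∈ Z, z ∈ centralizer ((P : Subgroup G) : Set G) := fun z hz y _ => h.zc z hz y trivial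
    have hz' : ∀ z ∈ Z, ∀ n : normalizer ((P : Subgroup G) : Set G), ∀ hz', IsConj n ⟨z, hz'⟩ → n = z := by
      rintro z hz n hz' hn
      obtain ⟨c, hc⟩ := isConj_iff.1 hn.symm
      rw [← hc]
      simp [h.zc z hz c trivial]
    refine Nat.card_congr (Equiv.ofBijective (fun z => ⟨ConjClasses.mk ⟨z.1, centralizer_le_normalizer _ (hz _ z.2)⟩,
      fun n hn => ?_⟩) ⟨fun z w e => Subtype.ext ?_, fun ⟨C, hC⟩ => ?_⟩)
    · have e := hz' _ z.2 n _ (ConjClasses.mk_eq_mk_iff_isConj.1 hn)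
      refine ⟨fun h3 => ?_, e ▸ hz _ z.2⟩
      rw [← orderOf_coe, e] at h3
      have h4 := orderOf_pow_orderOf_div (orderOf_pos z.1).ne' h3
      rw [h.zp _ (pow_mem z.2 _) ⟨1, by rw [pow_one]; exact orderOf_dvd_iff_pow_eq_one.1 h4.dvd⟩, orderOf_one] at h4
      exact hp.out.one_lt.ne h4
    · exact hz' _ w.2 _ _ (ConjClasses.mk_eq_mk_iff_isConj.1 (Subtype.ext_iff.1 e))
    · obtain ⟨n, rfl⟩ := ConjClasses.mk_surjective C
      refine ⟨⟨n, h.cent P.isPGroup' (fun e => hf ?_) (Op_le_sylow ((IsSylowIn.of_sylow_top P).mono le_normalizer le_top))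
        (by simpa using (hC n rfl).1) (hC n rfl).2⟩, rfl⟩
      have := P.card_eq_multiplicity
      rw [e, card_bot, eq_comm, Nat.pow_eq_one] at this
      exact this.resolve_left hp.out.one_lt.ne'
  rw [h2, add_comm, ← Nat.card_sum]
  exact Nat.card_congr ((Equiv.sumCompl fun B : {B : Set (IrrCharacter G) // IsPBlock M B} =>
    blockDefect p B.1 = 0).symm.trans (Equiv.sumCongr (Equiv.subtypeSubtypeEquivSubtypeInter _ fun B => blockDefect p B = 0)
      (Equiv.subtypeSubtypeEquivSubtypeInter _ fun B => ¬ blockDefect p B = 0)))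

variable {F : Type*} [Field F] [Fintype F] (p) [CharP F p]

theorem locA_SL {n : ℕ} (hn : 2 ≤ n) : LocA p (⊤ : Subgroup SL(n, F)) (center _) := by
  convert (sl_locA (p := p) (F := F) (V := Fin n → F) (by simpa using hn)).comap slHom_inj range_slHom
  ext g
  rw [mem_center_SL, mem_comap, mem_scalG]
  refine exists_congr fun c => ⟨fun h v => by simp [h, smul_mulVec], fun h => mat_ext fun v => ?_⟩
  simpa [smul_mulVec] using h v

theorem card_pow (F : Type*) [Field F] [Fintype F] [CharP F p] : ∃ k, 0 < k ∧ Fintype.card F = p ^ k := by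
  obtain ⟨n, -, hn⟩ := FiniteField.card F p
  exact ⟨n, n.2, hn⟩

theorem fact_SL2 : p ^ (Nat.card SL(2, F)).factorization p = Fintype.card F := by
  obtain ⟨k, h0, hk⟩ := card_pow p F
  have h1 : 1 < Fintype.card F ^ 2 := Nat.one_lt_pow two_ne_zero Fintype.one_lt_card
  rw [card_SL_two, Nat.factorization_mul Fintype.card_ne_zero (by omega), Finsupp.add_apply,
    Nat.factorization_eq_zero_of_not_dvd (n := _ - 1), hk, hp.out.factorization_pow]
  · simp
  · intro h
    exact hp.out.one_lt.ne' (Nat.dvd_one.1 ((Nat.dvd_sub_iff_right h1.le (by rw [hk, ← pow_mul]; exact dvd_pow_self _ (by omega))).1 h))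

theorem card_dz_SL {n : ℕ} (hn : 2 ≤ n) {M : Ideal AlgInt} (hM : IsPModular p M) :
    Nat.card {B : Set (IrrCharacter SL(n, F)) // IsPBlock M B ∧ blockDefect p B = 0} = 1 := by
  classical
  obtain rfl | h3 := hn.eq_or_lt
  · have := hM.2.1
    have := charP_of_isPModular hM
    obtain ⟨k, h0, hk⟩ := card_pow p F
    have hf := fact_SL2 p (F := F)
    obtain ⟨h1, h2⟩ := CfsgH6.Chev.Good.isDef_bot (M := M) p (χ := ⟨_, CfsgH1.L2.St_irr (F := F)⟩) (by
      rw [nu, charDegree_eq CfsgH1.L2.St_one, ← hf, hp.out.factorization_pow, Finsupp.single_eq_same])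
    refine Nat.card_eq_one_iff_exists.2 ⟨⟨_, isPBlock_blockOf _, (blockDefect_eq_zero_iff (isPBlock_blockOf _) h2).2 rfl⟩,
      fun ⟨B, hB, h0⟩ => Subtype.ext ?_⟩
    obtain ⟨ψ, rfl⟩ := hB
    obtain ⟨χ, h3, h4⟩ := exists_nu_eq_minNu (p := p) ⟨ψ, mem_blockOf_self (M := M) ψ⟩
    rw [blockDefect_eq, ← h4, Nat.sub_eq_zero_iff_le, nu, ← hp.out.pow_dvd_iff_le_factorization (charDegree_pos χ.2).ne',
      hf] at h0
    obtain ⟨w, hw⟩ := CfsgH1.L2.exists_ellS (F := F)
    have h5 := Nat.le_of_dvd (charDegree_pos χ.2) h0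
    have h6 : 2 ≤ Fintype.card F := Fintype.one_lt_card
    rcases CfsgH1.L2.irrS_deg hw χ.2 (coe_charDegree χ.2.isChar).symm with
      ⟨e, -⟩ | ⟨-, e⟩ | ⟨e, -⟩ | ⟨e, -⟩ | ⟨e, -⟩ | ⟨e, -⟩
    · omega
    · change blockOf M ψ.1 = blockOf M (CfsgH1.L2.St F)
      rw [← e]
      exact block_eq_blockOf (isPBlock_blockOf ψ) h3
    · rw [e, Nat.dvd_add_right dvd_rfl, Nat.dvd_one] at h0; omega
    all_goals omega
  · obtain ⟨l, rfl⟩ : ∃ l, n = l + 1 := ⟨n - 1, by omega⟩
    exact card_dz (isSt_A (l := l) (by omega) F) (preA_G _ F) p hM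

theorem hasSt_PSL {n : ℕ} (hn : 2 ≤ n) : HasSt p (ProjectiveSpecialLinearGroup (Fin n) F) := by
  classical
  obtain rfl | h3 := hn.eq_or_lt
  · obtain ⟨χ, h1, h2⟩ := (CfsgH1.L2.St_irr (F := F)).exists_quotient (center _) fun z hz => by
      rw [CfsgH1.L2.St_one, CfsgH1.L2.St_sc (CfsgH1.L2.mem_centerS.1 hz)]
    obtain ⟨P⟩ : Nonempty (Sylow p (ProjectiveSpecialLinearGroup (Fin 2) F)) := inferInstance
    refine hasSt_of h1 P ((h2 1).trans ?_)
    obtain ⟨k, h0, hk⟩ := card_pow p F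
    rw [CfsgH1.L2.St_one, ← fact_SL2 p, P.card_eq_multiplicity, ← card_PSL_mul,
      Nat.factorization_mul (by simp) Nat.card_pos.ne', Finsupp.add_apply, Nat.factorization_eq_zero_of_not_dvd, zero_add]
    intro h
    exact hp.out.one_lt.ne' (Nat.dvd_one.1 ((Nat.dvd_sub_iff_right Fintype.card_pos (hk ▸ dvd_pow_self _ h0.ne')).1
      (h.trans (Nat.gcd_dvd_right _ _))))
  · obtain ⟨l, rfl⟩ : ∃ l, n = l + 1 := ⟨n - 1, by omega⟩
    exact hasSt_quot (isSt_A (l := l) (by omega) F) (preA_G _ F) p (QuotientGroup.mk'_surjective _)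
      (QuotientGroup.ker_mk' _).le

end CfsgH8
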