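import Cfsg.Agent.H8.CRA

/-! The root systems of types `C` and `D` with their natural representations. -/

set_option autoImplicit false

namespace CfsgH8

open Matrix Finset CfsgH6 CfsgH6.PreSt

section wb

variable {n : Type} [DecidableEq n]

/-- weights of the natural module -/
def wb : n ⊕ n → n → ℤ := Sum.elim ev fun i => -ev i
/-- the index of a weight -/
def ix : n ⊕ n → n := Sum.elim id id

@[simp] theorem wb_inl (i : n) : wb (.inl i) = ev i := rfl
@[simp] theorem wb_inr (i : n) : wb (.inr i) = -ev i := rfl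
omit [DecidableEq n] in
@[simp] theorem ix_inl (i : n) : ix (.inl i) = i := rfl
omit [DecidableEq n] in
@[simp] theorem ix_inr (i : n) : ix (.inr i) = i := rfl
omit [DecidableEq n] in
@[simp] theorem ix_swap (a : n ⊕ n) : ix a.swap = ix a := by cases a <;> rfl
@[simp] theorem wb_swap (a : n ⊕ n) : wb a.swap = -wb a := by cases a <;> simp

omit [DecidableEq n] in
theorem ix_eq {a b : n ⊕ n} (h : ix a = ix b) : a = b ∨ a = b.swap := by cases a <;> cases b <;> simp_all

omit [DecidableEq n] in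
theorem ne_swap (a : n ⊕ n) : a ≠ a.swap := by cases a <;> simp

variable [Fintype n]

@[simp] theorem wb_self (a : n ⊕ n) : wb a ⬝ᵥ wb a = 1 := by cases a <;> simp

theorem wb_ne {a b : n ⊕ n} (h : ix a ≠ ix b) : wb a ⬝ᵥ wb b = 0 := by
  cases a <;> cases b <;> simp_all [ev_dot]

theorem wb_cases (a b : n ⊕ n) : (a = b ∧ wb a ⬝ᵥ wb b = 1) ∨ (a = b.swap ∧ wb a ⬝ᵥ wb b = -1) ∨
    (ix a ≠ ix b ∧ wb a ⬝ᵥ wb b = 0) := by
  by_cases h : ix a = ix b
  · rcases ix_eq h with rfl | rfl <;> simp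
  · simp [h, wb_ne h]

theorem wb_inj : Function.Injective (wb : n ⊕ n → n → ℤ) := fun a b h => by
  have := wb_self a
  nth_rw 2 [h] at this
  rcases wb_cases a b with h | h | h <;> first | exact h.1 | omega

theorem wb_add_eq {a b c d : n ⊕ n} (h : a ≠ b.swap) (e : wb a + wb b = wb c + wb d) :
    (a = c ∧ b = d) ∨ (a = d ∧ b = c) := by
  have h1 := congrArg (wb a ⬝ᵥ ·) e
  simp only [dotProduct_add, wb_self] at h1
  have h2 : 0 ≤ wb a ⬝ᵥ wb b := by rcases wb_cases a b with h' | h' | h' <;> first | exact absurd h'.1 h | omega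
  by_cases h3 : a = c
  · exact Or.inl ⟨h3, wb_inj (by simpa [h3] using e)⟩
  · have h4 : a = d := by
      rcases wb_cases a c with h' | h' | h' <;> rcases wb_cases a d with h'' | h'' | h'' <;>
        first | exact absurd h'.1 h3 | exact h''.1 | omega
    exact Or.inr ⟨h4, wb_inj (by simpa [h4, add_comm] using e)⟩

theorem wb_sub_eq {a b c d : n ⊕ n} (h : a ≠ b) (e : wb a - wb b = wb c - wb d) :
    (a = c ∧ b = d) ∨ (a = d.swap ∧ b = c.swap) := by
  rcases wb_add_eq (a := a) (b := b.swap) (c := c) (d := d.swap) (by simpa) (by simpa [sub_eq_add_neg] using e) with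
    h | h
  · exact Or.inl ⟨h.1, by simpa using congrArg Sum.swap h.2⟩
  · exact Or.inr ⟨h.1, by simp [← h.2]⟩

theorem norm_wb_add (a b : n ⊕ n) : (wb a + wb b) ⬝ᵥ (wb a + wb b) = 2 + 2 * (wb a ⬝ᵥ wb b) := by
  rw [norm_add, wb_self, wb_self]; ring

/-- the Gram matrix -/
def gram (g : n ⊕ n → ℤ) : Matrix (n ⊕ n) (n ⊕ n) ℤ := of fun a b => if b = a.swap then g a else 0

theorem lie_gram (g : n ⊕ n → ℤ) (Z : Matrix (n ⊕ n) (n ⊕ n) ℤ) :
    Zᵀ * gram g + gram g * Z = 0 ↔ ∀ a b, g b.swap * Z b.swap a.swap + g a.swap * Z a b = 0 := by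
  have : ∀ a b, (Zᵀ * gram g + gram g * Z) a.swap b = g b.swap * Z b.swap a.swap + g a.swap * Z a b := fun a b => by
    simp only [Matrix.add_apply, mul_apply, gram, of_apply, transpose_apply, mul_ite, mul_zero, ite_mul, zero_mul,
      Sum.swap_swap, sum_ite_eq', mem_univ, if_true]
    rw [sum_eq_single b.swap (fun c _ h => if_neg fun e => h (by simp [e])) (by simp)]
    simp [mul_comm]
  refine ⟨fun h a b => by rw [← this, h]; rfl, fun h => ?_⟩
  ext a b
  rw [← Sum.swap_swap a, this, h]; rfl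

end wb

/-- data for the types `C` and `D` -/
structure BD (l : ℕ) where
  k : ℤ
  p : Fin (l + 1)
  t : Fin (l + 1) → Fin (l + 1) → ℤ
  g : Fin (l + 1) ⊕ Fin (l + 1) → ℤ
  s : Fin (l + 1) ⊕ Fin (l + 1) → Fin (l + 1) ⊕ Fin (l + 1) → ℤ
  hk : (k = 4 ∧ 1 ≤ l ∧ p = Fin.last l) ∨ (k = 2 ∧ 2 ≤ l ∧ p ≠ Fin.last l ∧ ∀ a, g a = 1)
  t1 : ∀ (i : Fin l) j, t j i.castSucc - t j i.succ = if j = i.castSucc then 2 else 0
  t2 : ∀ j, t j p + t j (Fin.last l) = if j = Fin.last l then 2 else 0
  t3 : ∀ i a b, a ≤ b → t i b ≤ t i a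
  t4 : ∀ i a b, k = 4 ∨ a ≠ b → 0 ≤ t i a + t i b
  t5 : k = 4 → ∀ (i : Fin l) a, Even (t i.castSucc a)
  g_sq : ∀ a, g a * g a = 1
  s_sq : ∀ a b, s a b * s a b = 1
  s_symm : ∀ a b, s a b = s b a
  gs : ∀ a b, a ≠ b → k = 4 ∨ a ≠ b.swap → g b.swap * s b.swap a.swap + g a.swap * s a b = 0

namespace BD

variable {l : ℕ} (B : BD l)

/-- the simple roots -/
def α : Fin (l + 1) → Fin (l + 1) → ℤ := Fin.lastCases (ev B.p + ev (Fin.last l)) fun i => ev i.castSucc - ev i.succ

theorem α_last : B.α (Fin.last l) = ev B.p + ev (Fin.last l) := Fin.lastCases_last ..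
theorem α_cast (i : Fin l) : B.α i.castSucc = ev i.castSucc - ev i.succ := Fin.lastCases_castSucc ..

theorem two_le : 2 ≤ B.k := by have := B.hk; omega

theorem le_iff (a b : Fin (l + 1) ⊕ Fin (l + 1)) : (wb a + wb b) ⬝ᵥ (wb a + wb b) ≤ B.k ↔ B.k = 4 ∨ a ≠ b := by
  have := B.hk
  rw [norm_wb_add]
  rcases wb_cases a b with h | h | h
  · simp [h.1]; omega
  · simp [h.1, (ne_swap b).symm]; omega
  · have : a ≠ b := fun e => h.1 (e ▸ rfl)
    simp [this, h.2]; omega

theorem le_iff' (a b : Fin (l + 1) ⊕ Fin (l + 1)) : (wb a - wb b) ⬝ᵥ (wb a - wb b) ≤ B.k ↔ B.k = 4 ∨ a ≠ b.swap := by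
  rw [← le_iff, wb_swap, sub_eq_add_neg]

/-- the natural representation -/
def mr : MR (Fin (l + 1)) (Fin (l + 1)) (Fin (l + 1) ⊕ Fin (l + 1)) where
  wt := wb
  k := B.k
  α := B.α
  T := (mulVecLin (of B.t)).toAddMonoidHom
  wt_inj := wb_inj
  wt_unit := wb_self
  negs _ _ c _ := ⟨c.swap, wb_swap c⟩
  α_root i := by
    refine Fin.lastCases ?_ (fun i => ?_) i
    · rw [α_last]
      refine ⟨⟨.inl _, .inr _, sub_neg_eq_add _ _ |>.symm⟩, fun h => ?_, (B.le_iff (.inl _) (.inl _)).2 ?_⟩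
      · have := congrFun h (Fin.last l)
        simp only [Pi.add_apply, Pi.single_apply, Pi.zero_apply] at this
        split_ifs at this <;> omega
      · have := B.hk; simp; tauto
    · rw [α_cast]
      exact ⟨⟨.inl _, .inl _, rfl⟩, sub_ne_zero.2 (ev_inj.ne Fin.castSucc_lt_succ.ne), (B.le_iff' (.inl _) (.inl _)).2
        (Or.inr (by simp))⟩
  T_α i := by
    ext j
    refine Fin.lastCases ?_ (fun i => ?_) i
    · simp [α_last, mulVec_add, B.t2, Pi.single_apply]
    · simp [α_cast, mulVec_sub, B.t1, Pi.single_apply]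
  span a b _ := by
    have h1 := chain_mem (l := l) ev (K := AddSubgroup.closure (Set.range B.α))
      fun i => B.α_cast i ▸ AddSubgroup.subset_closure (Set.mem_range_self _)
    have h2 : ∀ i j, ev i + ev j ∈ AddSubgroup.closure (Set.range B.α) := fun i j => by
      convert add_mem (add_mem (h1 i B.p) (h1 j (Fin.last l)))
        (AddSubgroup.subset_closure ⟨_, B.α_last⟩) using 1
      abel
    rcases a with a | a <;> rcases b with b | b
    · exact h1 a b
    · simpa using h2 a b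
    · convert neg_mem (h2 a b) using 1; simp; abel
    · convert h1 b a using 1; simp; abel
  sign a b h := by
    rw [le_iff'] at h
    have h3 := B.t3
    have h4 := B.t4
    rcases a with a | a <;> rcases b with b | b
    · refine (le_total a b).imp (fun h i => ?_) fun h i => ?_ <;> simpa [mulVec_sub] using h3 i _ _ h
    · exact Or.inl fun i => by simpa [mulVec_add] using h4 i a b (by simpa using h)
    · exact Or.inr fun i => by
        have := h4 i a b (by simpa using h)
        simp [mulVec_sub, mulVec_neg]; omega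
    · refine (le_total b a).imp (fun h i => ?_) fun h i => ?_ <;> simpa [mulVec_add, mulVec_neg] using h3 i _ _ h
  long a i h _ := by
    have h1 := B.hk
    refine Fin.lastCases (fun h2 => ?_) (fun i _ => ?_) i
    · rw [α_last, (h1.resolve_right (by omega)).2.2] at h2
      simp at h2
    · cases a <;> simpa [mulVec_neg] using B.t5 (by omega) i _
  s := B.s
  G := gram B.g
  s_sq := B.s_sq
  s_symm := B.s_symm
  L_X v h0 h := (lie_gram _ _).2 fun a b => by
    simp only [of_apply, wb_swap, neg_sub_neg]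
    split_ifs with e
    · subst e
      exact B.gs a b (fun e => h0 (by simp [e])) ((B.le_iff' a b).1 h)
    · simp
  L_eq Z hZ a b c d h e := by
    rcases wb_sub_eq h e with ⟨rfl, rfl⟩ | ⟨rfl, rfl⟩
    · rfl
    have h1 := (lie_gram _ _).1 hZ c d
    have h3 := B.g_sq c.swap
    have h4 := B.g_sq d.swap
    by_cases h2 : B.k = 4 ∨ c ≠ d.swap
    · have h5 := B.gs c d (fun e => h (by simp [e])) h2
      linear_combination (B.g d.swap * Z d.swap c.swap) * h5 - (B.g d.swap * B.s c d * B.g c.swap * B.g d.swap) * h1 +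
        (B.s c d * Z c d * B.g c.swap * B.g c.swap - B.s d.swap c.swap * Z d.swap c.swap + B.s c d * Z d.swap c.swap *
          B.g c.swap * B.g d.swap) * h4 + (B.s c d * Z c d) * h3
    · obtain rfl : c = d.swap := by tauto
      simp
  L_zero Z hZ a b h := by
    have h1 := (lie_gram _ _).1 hZ a b
    rw [← not_le, le_iff', not_or, not_not] at h
    obtain ⟨h2, rfl⟩ := h
    have h3 := (B.hk.resolve_left (by omega)).2.2.2
    simp only [h3, Sum.swap_swap] at h1; omega
  gen := by
    rintro _ ⟨⟨a, b, rfl⟩, h, h'⟩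
    have hab : a ≠ b := fun e => h (by simp [e])
    have key : ∀ c, ix c ≠ ix a → ix c ≠ ix b → ∃ r, ((∃ a b, r = wb a - wb b) ∧ r ≠ 0 ∧ r ⬝ᵥ r ≤ B.k) ∧
        r ≠ wb a - wb b ∧ 0 < r ⬝ᵥ (wb a - wb b) := fun c h1 h2 => by
      have h3 : a ≠ c := fun e => h1 (e ▸ rfl)
      refine ⟨wb a - wb c, ⟨⟨a, c, rfl⟩, sub_ne_zero.2 (wb_inj.ne h3), (B.le_iff' _ _).2 (Or.inr fun e => h1 ?_)⟩,
        fun e => h2 (by rw [wb_inj (sub_right_injective e)]), ?_⟩
      · simp [e]
      · simp only [sub_dotProduct, dotProduct_sub, wb_self, wb_ne h1, wb_ne h2]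
        rcases wb_cases a b with h | h | h <;> first | exact absurd h.1 hab | omega
    by_cases h1 : #{ix a, ix b} < l + 1
    · obtain ⟨c, hc⟩ := exists_third {ix a, ix b} (by simpa using h1)
      simp only [mem_insert, mem_singleton, not_or] at hc
      exact key (.inl c) hc.1 hc.2
    · have h2 := B.hk
      have h3 := card_le_two (a := ix a) (b := ix b)
      have h4 : ix a ≠ ix b := fun e => h1 (by simp [e]; omega)
      refine ⟨wb a - wb a.swap, ⟨⟨_, _, rfl⟩, sub_ne_zero.2 (wb_inj.ne (ne_swap a)), (B.le_iff' _ _).2 (by omega)⟩,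
        fun e => h4 (by rw [← wb_inj (sub_right_injective e)]; simp), ?_⟩
      simp [wb_ne h4]

end BD

/-- type `C` -/
def bdC (l : ℕ) (hl : 1 ≤ l) : BD l where
  k := 4
  p := Fin.last l
  t i a := if a ≤ i then (if i.1 < l then 2 else 1) else 0
  g := Sum.elim (fun _ => -1) fun _ => 1
  s a b := if a.isRight ∧ b.isRight then -1 else 1
  hk := Or.inl ⟨rfl, hl, rfl⟩
  t1 i j := by grind
  t2 j := by grind
  t3 i a b h := by grind
  t4 i a b h := by grind
  t5 _ i a := by simp; split_ifs <;> simp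
  g_sq a := by cases a <;> rfl
  s_sq a b := by split_ifs <;> rfl
  s_symm a b := by simp [and_comm]
  gs a b _ _ := by cases a <;> cases b <;> simp

/-- signs -/
def sgn {n : Type} : n ⊕ n → ℤ := Sum.elim (fun _ => 1) fun _ => -1

/-- type `D` -/
def bdD (l : ℕ) (hl : 2 ≤ l) : BD l where
  k := 2
  p := ⟨l - 1, by omega⟩
  t i a := if i.1 + 1 < l then (if a ≤ i then 2 else 0) else if i.1 < l then (if a ≤ i then 1 else -1) else 1
  g _ := 1
  s a b := if ix a < ix b then sgn a else if ix b < ix a then sgn b else 1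
  hk := Or.inr ⟨rfl, hl, by simp [Fin.ext_iff]; omega, fun _ => rfl⟩
  t1 i j := by grind
  t2 j := by grind
  t3 i a b h := by grind
  t4 i a b h := by grind
  t5 h := by omega
  g_sq a := rfl
  s_sq a b := by cases a <;> cases b <;> split_ifs <;> rfl
  s_symm a b := by grind
  gs a b h1 h2 := by
    have : ix a ≠ ix b := fun e => by rcases ix_eq e with e | e <;> simp_all
    cases a <;> cases b <;> simp [sgn] at this ⊢ <;> grind

end CfsgH8
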