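import Cfsg.Agent.H8.CRC1
import Cfsg.Agent.H5.OrthMat
import Cfsg.Agent.H5.SpMat

/-! The root elements of types `C` and `D` generate the symplectic and orthogonal groups. -/

set_option autoImplicit false

namespace CfsgH8

open Matrix Finset Cfsg CfsgH6 CfsgH6.PreSt CfsgH5 CfsgH5.Form

namespace BD

variable {l : ℕ} (B : BD l)

/-- roots -/
def rt' {a b : Fin (l + 1) ⊕ Fin (l + 1)} (h : a ≠ b) (h' : B.k = 4 ∨ a ≠ b.swap) : B.mr.R :=
  ⟨wb a - wb b, ⟨a, b, rfl⟩, sub_ne_zero.2 (wb_inj.ne h), (B.le_iff' a b).2 h'⟩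

theorem exists_rt' (r : B.mr.R) : ∃ a b, ∃ (h : a ≠ b) (h' : B.k = 4 ∨ a ≠ b.swap), r = B.rt' h h' := by
  obtain ⟨_, ⟨a, b, rfl⟩, h, h'⟩ := r
  exact ⟨a, b, fun e => h (by simp [e]), (B.le_iff' a b).1 h', rfl⟩

theorem X_short {a b : Fin (l + 1) ⊕ Fin (l + 1)} (h : a ≠ b) (h' : a ≠ b.swap) :
    B.mr.X (wb a - wb b) = single a b (B.s a b) + single b.swap a.swap (B.s b.swap a.swap) := by
  ext c d
  rw [MR.X_apply, Matrix.add_apply, single_apply, single_apply]
  change (if wb c - wb d = _ then B.s c d else 0) = _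
  by_cases h1 : wb c - wb d = wb a - wb b
  · rw [if_pos h1]
    rcases wb_sub_eq h h1.symm with ⟨rfl, rfl⟩ | ⟨rfl, rfl⟩
    · simp [h'.symm]
    · simp [show d.swap ≠ c by simpa using h']
  · rw [if_neg h1, if_neg, if_neg, add_zero] <;> rintro ⟨rfl, rfl⟩ <;> simp [neg_add_eq_sub] at h1

theorem X_long (b : Fin (l + 1) ⊕ Fin (l + 1)) : B.mr.X (wb b.swap - wb b) = single b.swap b (B.s b.swap b) := by
  ext c d
  rw [MR.X_apply, single_apply]
  change (if wb c - wb d = _ then B.s c d else 0) = _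
  by_cases h1 : wb c - wb d = wb b.swap - wb b
  · rw [if_pos h1]
    rcases wb_sub_eq (ne_swap b).symm h1.symm with ⟨rfl, rfl⟩ | ⟨h2, rfl⟩
    · simp
    · obtain rfl : d = c.swap := by simpa using congrArg Sum.swap h2.symm
      simp
  · rw [if_neg h1, if_neg]; rintro ⟨rfl, rfl⟩; simp at h1

variable {F : Type*} [Field F] {T : FParam F} {S : Form T (Fin (l + 1) ⊕ Fin (l + 1) → F)}

/-- the form matches the data -/
structure Fits (S : Form T (Fin (l + 1) ⊕ Fin (l + 1) → F)) : Prop where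
  σ : ∀ a, T.σ a = a
  hB : ∀ x b, S.B x (Pi.single b 1) = x b.swap * B.g b.swap
  hq : ∀ a, S.q (Pi.single a 1) = 0
  top : B.k = 4 → ∀ a, a ∈ T.Λ
  bot : B.k ≠ 4 → ∀ a ∈ T.Λ, a = 0
  nd : S.Nondeg

variable {B} (H : B.Fits S)
include H

theorem Fits.g_swap (b : Fin (l + 1) ⊕ Fin (l + 1)) : (B.g b.swap : F) = T.ε * B.g b := by
  have := S.herm (Pi.single b 1) (Pi.single b.swap 1)
  simpa [H.hB, H.σ] using this

theorem Fits.isEich {a b : Fin (l + 1) ⊕ Fin (l + 1)} (h : a ≠ b) (t : F) :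
    S.IsEich (Pi.single b.swap 1) (t • Pi.single a 1) 0 :=
  ⟨H.hq _, by simp [H.hB, h.symm], by rw [S.q_smul_zero _ (H.hq _), map_zero]⟩

theorem Fits.isEich' (h : B.k = 4) (b : Fin (l + 1) ⊕ Fin (l + 1)) (t : F) : S.IsEich (Pi.single b 1) 0 t :=
  ⟨H.hq _, by simp, by rw [S.q_zero, T.π_eq_zero_iff.2 (H.top h _)]⟩

theorem Fits.x_short {a b : Fin (l + 1) ⊕ Fin (l + 1)} (h : a ≠ b) (h' : a ≠ b.swap) (t : F) :
    glEquiv _ F ((B.mr.pre F).x (B.rt' h (Or.inr h')) (t * B.s a b * B.g b)) = eich (H.isEich h t) := by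
  ext x c
  have h1 := congrArg (Int.cast : ℤ → F) (B.gs a b h (Or.inr h'))
  have h2 := congrArg (Int.cast : ℤ → F) (B.g_sq b)
  have h3 := congrArg (Int.cast : ℤ → F) (B.s_sq a b)
  have h4 := T.εε
  push_cast at h1 h2 h3
  rw [H.g_swap b] at h1
  rw [glEquiv_apply, MR.coe_x, rt', X_short _ h h', eich_apply, map_add]
  simp only [MR.φ, RingHom.mapMatrix_apply, map_single, add_mulVec, smul_mulVec, one_mulVec, single_mulVec, H.hB, H.σ,
    smul_right, Pi.add_apply, Pi.sub_apply, Pi.smul_apply, smul_eq_mul, Function.update_apply, Pi.single_apply,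
    Sum.swap_swap, eq_intCast, Pi.zero_apply]
  have h5 : ¬ (c = a ∧ c = b.swap) := fun e => h' (e.1.symm.trans e.2)
  split_ifs with e1 e2 e2
  · exact absurd ⟨e1, e2⟩ h5
  · linear_combination (t * B.g b * x b) * h3
  · linear_combination (t * x a.swap * B.s a b * T.ε) * h1 - (t * x a.swap * T.ε * B.g a.swap) * h3 -
      (t * x a.swap * B.s a b * B.g b * B.s b.swap a.swap) * h4
  · ring

theorem Fits.x_long (h : B.k = 4) (b : Fin (l + 1) ⊕ Fin (l + 1)) (t : F) :
    glEquiv _ F ((B.mr.pre F).x (B.rt' (ne_swap b).symm (Or.inl h)) (-T.ε * t * B.s b.swap b * B.g b)) =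
      eich (H.isEich' h b.swap t) := by
  ext x c
  have h3 := congrArg (Int.cast : ℤ → F) (B.s_sq b.swap b)
  push_cast at h3
  rw [glEquiv_apply, MR.coe_x, rt', X_long, eich_apply]
  simp only [MR.φ, RingHom.mapMatrix_apply, map_single, add_mulVec, smul_mulVec, one_mulVec, single_mulVec, H.hB,
    zero_right, Pi.add_apply, Pi.sub_apply, Pi.smul_apply, smul_eq_mul, Function.update_apply, Pi.single_apply,
    Sum.swap_swap, eq_intCast, Pi.zero_apply]
  split_ifs
  · linear_combination (-T.ε * t * B.g b * x b) * h3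
  · ring

theorem Fits.Qu_le (c : Fin (l + 1) ⊕ Fin (l + 1)) :
    S.Qu (Pi.single c.swap 1) ≤ (B.mr.pre F).G.map (glEquiv _ F).toMonoidHom := by
  set K := (B.mr.pre F).G.map (glEquiv _ F).toMonoidHom
  let P : (Fin (l + 1) ⊕ Fin (l + 1) → F) → Prop := fun w => ∃ l, ∃ h : S.IsEich (Pi.single c.swap 1) w l, eich h ∈ K
  have h0 : P 0 := ⟨0, IsEich.zero (H.hq _), by rw [eich_zero]; exact one_mem _⟩
  have h1 : ∀ a (t : F), a ≠ c → P (t • (Pi.single a 1 : _ → F)) := fun a t h => by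
    by_cases h' : a = c.swap
    · subst h'
      refine ⟨-t - T.ε * T.σ (-t), ⟨H.hq _, (H.isEich h t).perp, by
        rw [S.q_smul_zero _ (H.hq _), T.π_eq_zero_iff.2 (T.mem_min _)]⟩, ?_⟩
      convert one_mem K
      ext x a
      simp only [eich_apply, smul_right, H.σ, Pi.add_apply, Pi.sub_apply, Pi.smul_apply, smul_eq_mul,
        LinearEquiv.coe_one, id]
      linear_combination (S.B x (Pi.single c.swap 1) * t * Pi.single (M := fun _ => F) c.swap 1 a) * -T.εε
    · exact ⟨0, H.isEich h t, _, x_mem_G _ _ _, H.x_short h h' t⟩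
  have h2 : ∀ w, w c = 0 → P w := fun w hw => by
    rw [pi_eq_sum_univ' w]
    refine sum_induction _ P ?_ h0 fun a _ => ?_
    · rintro _ _ ⟨_, h, e⟩ ⟨_, h', e'⟩
      exact ⟨_, h.add h', eich_mul h h' ▸ mul_mem e e'⟩
    · by_cases h : a = c
      · rwa [h, hw, zero_smul]
      · exact h1 a _ h
  refine Form.Qu_le.2 fun w l h => ?_
  obtain ⟨l', h', e⟩ := h2 w (by
    have := h.perp
    rw [H.hB, Sum.swap_swap] at this
    refine (mul_eq_zero.1 this).resolve_right fun e => ?_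
    simpa [e] using congrArg (Int.cast : ℤ → F) (B.g_sq c))
  have h3 : l - l' ∈ T.Λ := T.π_eq_iff.1 (h.rep.symm.trans h'.rep)
  by_cases h4 : B.k = 4
  · rw [eich_congr h (h'.add (H.isEich' h4 c.swap (l - l'))) (by simp) (by simp), ← eich_mul h' (H.isEich' h4 c.swap (l - l'))]
    exact mul_mem e ⟨_, x_mem_G _ _ _, H.x_long h4 c _⟩
  · rwa [eich_congr h h' rfl (sub_eq_zero.1 (H.bot h4 _ h3))]

theorem Fits.x_mem (r : B.mr.R) (t : F) : glEquiv _ F ((B.mr.pre F).x r t) ∈ S.EG := by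
  obtain ⟨a, b, h, h', rfl⟩ := B.exists_rt' r
  have h2 := congrArg (Int.cast : ℤ → F) (B.g_sq b)
  have h3 := congrArg (Int.cast : ℤ → F) (B.s_sq a b)
  push_cast at h2 h3
  by_cases h1 : a = b.swap
  · subst h1
    have := H.x_long (by tauto) b (-T.ε * t * B.s b.swap b * B.g b)
    rw [show -T.ε * (-T.ε * t * B.s b.swap b * B.g b) * B.s b.swap b * B.g b = t by
      linear_combination (t * B.s b.swap b ^ 2 * B.g b ^ 2) * T.εε + t * B.g b ^ 2 * h3 + t * h2] at this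
    exact this ▸ eich_mem_EG _
  · have := H.x_short h h1 (t * B.s a b * B.g b)
    rw [show t * B.s a b * B.g b * B.s a b * B.g b = t by linear_combination t * B.g b ^ 2 * h3 + t * h2] at this
    exact this ▸ eich_mem_EG _

theorem Fits.map_G : (B.mr.pre F).G.map (glEquiv _ F).toMonoidHom = S.EG := by
  refine le_antisymm ?_ (H.nd.EG_le_of_opp (H.hq _) (H.hq _) ?_ (H.Qu_le (.inl 0)) (H.Qu_le (.inr 0)))
  · rw [Subgroup.map_le_iff_le_comap]
    exact (Subgroup.closure_le _).2 (by rintro _ ⟨r, -, t, rfl⟩; exact H.x_mem r t)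
  · rw [H.hB]
    intro e
    simpa [show (B.g (.inl 0) : F) = 0 by simpa using e] using congrArg (Int.cast : ℤ → F) (B.g_sq (.inl 0))

theorem Fits.exists_pre {Γ : Type*} [Group Γ] (ι : Γ →* GL (Fin (l + 1) ⊕ Fin (l + 1)) F) (hι : Function.Injective ι)
    (h : ((glEquiv _ F).toMonoidHom.comp ι).range = S.EG) :
    ∃ X : PreSt B.mr.cd F Γ, X.IsSt ∧ X.G = ⊤ ∧ ∀ r t, ι (X.x r t) = (B.mr.pre F).x r t := by
  have h1 : ι.range = (B.mr.pre F).G := Subgroup.map_injective (f := (glEquiv _ F).toMonoidHom)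
    (glEquiv _ F).injective (by rw [H.map_G, ← h, MonoidHom.map_range])
  have h2 := pull_x (B.mr.pre F) ι hι fun r t => h1 ▸ x_mem_G _ r t
  refine ⟨_, isSt_of_hom _ _ _ h2 (B.mr.isSt F), Subgroup.map_injective hι ?_, h2⟩
  rw [PreSt.map_G _ _ _ h2, ← h1, MonoidHom.range_eq_map]

end BD

variable (F : Type*) [Field F] {l : ℕ}

theorem fits_C (hl : 1 ≤ l) : (bdC l hl).Fits (spForm (l + 1) F) where
  σ _ := rfl
  hB x b := by cases b <;> simp [spForm_B, sympForm_eq, bdC, Pi.single_apply]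
  hq _ := spParam_eq _ _
  top _ _ := trivial
  bot h := absurd rfl h
  nd := spForm_nondeg _

theorem fits_D (hl : 2 ≤ l) : (bdD l hl).Fits (plusForm (l + 1) F) where
  σ _ := rfl
  hB x b := by cases b <;> simp [plusForm_B, bdD, Pi.single_apply]
  hq a := by cases a; exacts [(plusForm_hypFam _).qe _, (plusForm_hypFam _).qf _]
  top h := by simp [bdD] at h
  bot _ _ h := h
  nd := plusForm_nondeg _

theorem exists_pre_C (hl : 1 ≤ l) : ∃ X : PreSt (bdC l hl).mr.cd F (symplecticGroup (Fin (l + 1)) F),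
    X.IsSt ∧ X.G = ⊤ ∧ ∀ r t, (spToMat _ F).toHomUnits (X.x r t) = ((bdC l hl).mr.pre F).x r t :=
  (fits_C F hl).exists_pre _ (Function.Injective.of_comp (f := glEquiv _ F) (spHom_inj _))
    ((range_spHom _).trans (spForm_nondeg _).sp_EG.symm)

theorem exists_pre_D [Finite F] (hl : 2 ≤ l) : ∃ X : PreSt (bdD l hl).mr.cd F (Omega F (quadFormPlus (l + 1) F)),
    X.IsSt ∧ X.G = ⊤ ∧ ∀ r t, (X.x r t).1.1 = ((bdD l hl).mr.pre F).x r t :=
  (fits_D F hl).exists_pre ((Subgroup.subtype _).comp (Subgroup.subtype _))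
    (Subtype.val_injective.comp Subtype.val_injective)
    (range_omHom_EG (plusForm_Q _) (plusForm_nondeg _) (by simp; omega))

end CfsgH8
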