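import Cfsg.Agent.H8.CRC2
import Cfsg.Agent.H8.CRB
import Cfsg.Agent.H9.Sgn
import Cfsg.Agent.H4.Ord2
import Cfsg.Agent.S0169
import Cfsg.Agent.S0244
import Cfsg.Agent.S0299
import Cfsg.Agent.S0305
import Cfsg.Agent.S2315

/-! Steinberg characters of the symplectic groups and the orthogonal groups of plus type. -/

set_option autoImplicit false

namespace CfsgH8

open Matrix Finset Cfsg CfsgH6 CfsgH6.PreSt CfsgH5 CfsgH5.Form CfsgH3
open scoped MatrixGroups

section grp

variable {p : ℕ} [hp : Fact p.Prime] {G H : Type*} [Group G] [Group H] [Finite G]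

theorem HasSt.equiv (h : HasSt p G) (e : H ≃* G) : HasSt p H := by
  have := Finite.of_equiv _ e.symm.toEquiv
  obtain ⟨χ, h1, h2⟩ := h
  obtain ⟨P⟩ : Nonempty (Sylow p G) := inferInstance
  obtain ⟨Q⟩ : Nonempty (Sylow p H) := inferInstance
  exact hasSt_of (h1.comp_equiv e) Q (by
    rw [map_one, (h2 P).1, P.card_eq_multiplicity, Q.card_eq_multiplicity, Nat.card_congr e.toEquiv])

theorem HasSt.prod [Finite H] (h : HasSt p G) (h' : HasSt p H) : HasSt p (G × H) := by
  obtain ⟨χ, h1, h2⟩ := h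
  obtain ⟨ψ, h3, h4⟩ := h'
  obtain ⟨P⟩ : Nonempty (Sylow p G) := inferInstance
  obtain ⟨Q⟩ : Nonempty (Sylow p H) := inferInstance
  obtain ⟨R⟩ : Nonempty (Sylow p (G × H)) := inferInstance
  exact hasSt_of (CfsgH4.irr_prod h1 h3) R (by
    rw [Prod.fst_one, Prod.snd_one, (h2 P).1, (h4 Q).1, P.card_eq_multiplicity, Q.card_eq_multiplicity,
      R.card_eq_multiplicity, Nat.card_prod, Nat.factorization_mul Nat.card_pos.ne' Nat.card_pos.ne', Finsupp.add_apply,
      pow_add, Nat.cast_mul])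

theorem hasSt_of_not_dvd (h : ¬ p ∣ Nat.card G) : HasSt p G := by
  obtain ⟨P⟩ : Nonempty (Sylow p G) := inferInstance
  exact hasSt_of isIrr_one P (by rw [P.card_eq_multiplicity, Nat.factorization_eq_zero_of_not_dvd h]; simp)

theorem hasSt_of_comm (h : ∀ a b : G, a * b = b * a) : HasSt p (G ⧸ Subgroup.center G) :=
  hasSt_of_not_dvd (by
    rw [← Subgroup.index, (Subgroup.eq_top_iff' _).2 fun a => Subgroup.mem_center_iff.2 fun b => h b a,
      Subgroup.index_top]
    exact hp.out.not_dvd_one)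

theorem hasSt_two (h : Nat.card G ∣ 18) (h' : ¬ ∀ a b : G, a * b = b * a) : HasSt 2 G := by
  by_cases h2 : 2 ∣ Nat.card G
  swap
  · exact hasSt_of_not_dvd h2
  have : Fact (Nat.Prime 3) := ⟨Nat.prime_three⟩
  obtain ⟨A⟩ : Nonempty (Sylow 3 G) := inferInstance
  obtain ⟨P⟩ : Nonempty (Sylow 2 G) := inferInstance
  have h3 := A.1.card_mul_index
  have h4 := A.card_eq_multiplicity
  have h5 := P.card_eq_multiplicity
  obtain ⟨h6, h7, h8⟩ : A.1.index = 2 ∧ Nat.card P = 2 ∧ ∃ k ≤ 2, Nat.card A = 3 ^ k := by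
    have h9 := Nat.le_of_dvd (by decide) h
    generalize Nat.card G = n at *
    interval_cases n <;> simp at h h2 <;> simp only [Nat.factorization_def _ Nat.prime_two,
      Nat.factorization_def _ Nat.prime_three] at h4 h5
    · rw [show padicValNat 2 2 = 1 by decide +kernel] at h5
      rw [show padicValNat 3 2 = 0 by decide +kernel] at h4
      exact ⟨by rw [h4] at h3; omega, h5, 0, by decide, h4⟩
    · rw [show padicValNat 2 6 = 1 by decide +kernel] at h5
      rw [show padicValNat 3 6 = 1 by decide +kernel] at h4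
      exact ⟨by rw [h4] at h3; omega, h5, 1, by decide, h4⟩
    · rw [show padicValNat 2 18 = 1 by decide +kernel] at h5
      rw [show padicValNat 3 18 = 2 by decide +kernel] at h4
      exact ⟨by rw [h4] at h3; omega, h5, 2, by decide, h4⟩
  have := Subgroup.normal_of_index_eq_two h6
  have h9 : IsMulCommutative A := by
    obtain ⟨k, h1, h9⟩ := h8
    interval_cases k
    · have := (Nat.card_eq_one_iff_unique.1 h9).1
      exact ⟨⟨fun _ _ => Subsingleton.elim _ _⟩⟩
    · have := isCyclic_of_prime_card h9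
      infer_instance
    · exact IsPGroup.isMulCommutative_of_card_eq_prime_sq h9
  by_contra h10
  refine h' fun a b => commutatorElement_eq_one_iff_mul_comm.1 (eq_one_of_forall_irr fun χ hχ => ?_)
  obtain ⟨d, -, hd⟩ := hχ.exists_deg
  have := CfsgH4.deg_dvd_index_of_abelian (N := A.1) hχ hd fun a ha b hb =>
    congrArg Subtype.val (h9.1.1 ⟨a, ha⟩ ⟨b, hb⟩)
  rw [h6] at this
  rcases (Nat.dvd_prime Nat.prime_two).1 this with rfl | rfl
  · obtain ⟨lam, rfl⟩ := hχ.isChar.exists_hom_of_deg_one (by simpa using hd)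
    simp [map_commutatorElement, commutatorElement_eq_one_iff_mul_comm, mul_comm]
  · exact absurd (hasSt_of hχ P (by rw [hd, h7])) h10

theorem hasSt_eighteen (h : Nat.card G ∣ 18) : HasSt 2 (G ⧸ Subgroup.center G) := by
  by_cases h1 : ∀ a b : G, a * b = b * a
  · exact hasSt_of_comm h1
  have h2 := (Subgroup.center G).card_mul_index
  refine hasSt_two ((Subgroup.center G).index_dvd_card.trans h) fun h3 => h1 ?_
  by_cases h4 : Subgroup.center G = ⊥
  · intro a b
    have := QuotientGroup.eq.1 (h3 (a : G ⧸ _) b)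
    rw [h4, Subgroup.mem_bot, inv_mul_eq_one] at this
    exact this
  have h5 : Nat.card (Subgroup.center G) ≠ 1 := by rwa [Ne, Subgroup.card_eq_one]
  by_cases h6 : Squarefree (Subgroup.center G).index
  · let _ : CommGroup (G ⧸ Subgroup.center G) := { mul_comm := h3 }
    have := IsZGroup.of_squarefree h6
    exact commutative_of_cyclic_center_quotient (QuotientGroup.mk' _) (QuotientGroup.ker_mk' _).le
  have h7 : Nat.card G = 18 ∧ Nat.card (Subgroup.center G) = 2 := by
    rw [← h2] at h ⊢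
    generalize Nat.card (Subgroup.center G) = z at *
    generalize (Subgroup.center G).index = n at *
    have a1 := Nat.le_of_dvd (by decide) (dvd_of_mul_left_dvd h)
    have a2 := Nat.le_of_dvd (by decide) (dvd_of_mul_right_dvd h)
    interval_cases n <;> first | exact absurd (by decide +kernel) h6 | omega | (interval_cases z <;> omega)
  have : Fact (Nat.Prime 3) := ⟨Nat.prime_three⟩
  obtain ⟨A⟩ : Nonempty (Sylow 3 G) := inferInstance
  have h8 := A.card_eq_multiplicity
  rw [h7.1, Nat.factorization_def _ Nat.prime_three, show padicValNat 3 18 = 2 by decide +kernel] at h8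
  have h9 := IsPGroup.isMulCommutative_of_card_eq_prime_sq h8
  have h10 : A.1 ⊔ Subgroup.center G = ⊤ := by
    have a1 := Subgroup.card_dvd_of_le (le_sup_left : A.1 ≤ A.1 ⊔ Subgroup.center G)
    have a2 := Subgroup.card_dvd_of_le (le_sup_right : _ ≤ A.1 ⊔ Subgroup.center G)
    have a3 := (A.1 ⊔ Subgroup.center G).card_subgroup_dvd_card
    rw [h8] at a1
    rw [h7.2] at a2
    refine Subgroup.eq_top_of_card_eq _ (Nat.dvd_antisymm a3 (h7.1 ▸ ?_))
    exact Nat.Coprime.mul_dvd_of_dvd_of_dvd (by decide : Nat.Coprime 9 2) a1 a2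
  intro a b
  obtain ⟨a, ha, z, hz, rfl⟩ := Subgroup.mem_sup_of_normal_right.1 (h10.ge (Subgroup.mem_top a))
  obtain ⟨b, hb, w, hw, rfl⟩ := Subgroup.mem_sup_of_normal_right.1 (h10.ge (Subgroup.mem_top b))
  have e := congrArg Subtype.val (h9.1.1 ⟨a, ha⟩ ⟨b, hb⟩)
  simp only [Subgroup.coe_mul] at e
  rw [Subgroup.mem_center_iff] at hz hw
  calc _ = a * b * (z * w) := by rw [mul_assoc, ← mul_assoc z, ← hz b]; simp only [mul_assoc]
    _ = _ := by rw [e, hw z, mul_assoc b w, ← mul_assoc w, ← hw a]; simp only [mul_assoc]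

end grp

variable (F : Type*) [Field F]

/-- `Sp₂ = SL₂` -/
noncomputable def sp1Equiv : symplecticGroup (Fin 1) F ≃* SL(2, F) where
  toFun g := ⟨reindexAlgEquiv F F finSumFinEquiv g.1, by
    rw [det_reindexAlgEquiv]; exact (Cfsg.Agent.S0244.result _).1 g.2⟩
  invFun g := ⟨(reindexAlgEquiv F F finSumFinEquiv).symm g.1, (Cfsg.Agent.S0244.result _).2 (by
    rw [symm_reindexAlgEquiv, det_reindexAlgEquiv]; exact g.2)⟩
  left_inv g := Subtype.ext (AlgEquiv.symm_apply_apply _ _)
  right_inv g := Subtype.ext (AlgEquiv.apply_symm_apply _ _)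
  map_mul' g h := Subtype.ext (map_mul _ _ _)

variable {F} [Fintype F]

theorem card_omega_two (hF : Fintype.card F = 2) : Nat.card (Omega F (quadFormPlus 2 F)) ∣ 18 := by
  classical
  set S := plusForm 2 F
  have hS : S.Nondeg := plusForm_nondeg 2
  have hf := plusForm_hypFam (F := F) 2
  have hU := hf.isLag_left (by rw [finrank_sp]; simp)
  set U := Submodule.span F (Set.range fun i : Fin 2 => (Pi.single (.inl i) 1 : Fin 2 ⊕ Fin 2 → F))
  let lam : S.isom →* ℤˣ := MonoidHom.mk' (fun g => lagSign U (U.map (g.1 : _ →ₗ[F] _))) fun g h => by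
    rw [← lagSign_map U (U.map (h.1 : _ →ₗ[F] _)) g.1, lagSign_mul hS hU (hU.map g.2) ((hU.map h.2).map g.2), ← Submodule.map_comp]
    rfl
  let ρ : S.isom →* Equiv.Perm {v // S.Q v = 1} := MonoidHom.mk'
    (fun g => Equiv.Perm.subtypePerm g.1.toEquiv fun v => by
      change S.Q (g.1 v) = 1 ↔ _
      rw [S.orth_mem_isom.1 g.2]) fun _ _ => rfl
  let φ := lam.prod (Equiv.Perm.sign.comp ρ)
  have h1 : Nat.card S.isom = 72 := by
    rw [hS.orth_card_plus (plusForm_isPlus 2) (m := 2) (by decide) (finrank_sp 2), Nat.card_eq_fintype_card, hF]; rfl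
  have h2 : Fintype.card {v // S.Q v = 1} = 2 ^ (0 + 1) * 3 := by
    have := orth_card_Q_even (1 : F) 2 hS (finrank_sp 2)
    rw [tp_eq_one_iff.2 (plusForm_isPlus 2), if_neg one_ne_zero, Nat.card_eq_fintype_card, Nat.card_eq_fintype_card,
      hF] at this
    simp at this; omega
  have h3 : S.IsEich (Pi.single (.inl 0) 1) (Pi.single (.inl 1) 1) 0 :=
    ⟨hf.qe _, hf.ee _ _, by rw [hf.qe, map_zero]⟩
  have h4 : (2 : F) = 0 := by simpa [hF] using FiniteField.cast_card_eq_zero F
  have h5 : φ ⟨_, eich_mem h3⟩ = (1, -1) := by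
    refine Prod.ext ?_ (CfsgH9.sign_eq_neg (k := 0) ?_ ?_ h2 (by decide))
    · change lagSign U (U.map _) = 1
      rw [mem_stab_iff_map.1 (hU.ts.Qu_le_stab (Submodule.subset_span ⟨0, rfl⟩) (eich_mem_Qu h3)), lagSign_self]
    · ext ⟨v, hv⟩ a
      change eich h3 (eich h3 v) a = v a
      simp only [orth_eich_apply, S, plusForm_B_inl]
      simp
      linear_combination (v (.inr 0) * Pi.single (M := fun _ => F) (Sum.inl 1) 1 a -
        v (.inr 1) * Pi.single (M := fun _ => F) (Sum.inl 0) 1 a) * h4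
    · rintro ⟨v, hv⟩ e
      have e : eich h3 v = v := congrArg Subtype.val e
      simp only [orth_eich_apply, S, plusForm_B_inl] at e
      have e0 := congrFun e (.inl 0)
      have e1 := congrFun e (.inl 1)
      simp at e0 e1
      rw [plusForm_Q] at hv
      simp [quadFormPlus, e0, e1] at hv
  obtain ⟨v, hv⟩ := hS.exists_Q_ne
  have h6 : (φ ⟨_, rf_mem v⟩).1 = -1 := lagSign_rf hS hU hv
  have h7 : φ.range = ⊤ := by
    have a1 : ((1, -1) : ℤˣ × ℤˣ) ∈ φ.range := ⟨_, h5⟩
    have a2 : φ ⟨_, rf_mem v⟩ ∈ φ.range := ⟨_, rfl⟩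
    have a3 := mul_mem a1 a2
    have a4 := one_mem φ.range
    generalize φ _ = x at h6 a2 a3
    obtain ⟨x, y⟩ := x
    subst h6
    rw [Subgroup.eq_top_iff']
    rintro ⟨a, b⟩
    rcases Int.units_eq_one_or a with rfl | rfl <;> rcases Int.units_eq_one_or b with rfl | rfl <;>
      rcases Int.units_eq_one_or y with rfl | rfl <;> first | assumption | simpa using a3
  have h8 := φ.ker.card_mul_index
  rw [Subgroup.index_ker, h7, Subgroup.card_top, Nat.card_prod, Nat.card_eq_fintype_card (α := ℤˣ),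
    Fintype.card_units_int, h1] at h8
  rw [Nat.card_congr (commCongr (oEquiv (plusForm_Q 2))).toEquiv, show 18 = Nat.card φ.ker by omega]
  exact Subgroup.card_dvd_of_le (Abelianization.commutator_subset_ker φ)

variable (p : ℕ) [hp : Fact p.Prime] [CharP F p]

theorem hasSt_PSp {m : ℕ} (hm : 1 ≤ m) : HasSt p (PSp m F) := by
  obtain rfl | h := hm.eq_or_lt
  · exact (hasSt_PSL p le_rfl).equiv (qcCongr (sp1Equiv F))
  obtain ⟨l, rfl⟩ : ∃ l, m = l + 1 := ⟨m - 1, by omega⟩
  obtain ⟨X, h1, h2, -⟩ := exists_pre_C F (l := l) (by omega)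
  exact hasSt_quot h1 h2 p (QuotientGroup.mk'_surjective _) (QuotientGroup.ker_mk' _).le

theorem hasSt_POmega_plus {m : ℕ} (hm : 1 ≤ m) : HasSt p (POmega F (quadFormPlus m F)) := by
  obtain rfl | h := hm.eq_or_lt
  · obtain ⟨e⟩ := Cfsg.Agent.S0305.result (F := F) rfl
    refine hasSt_of_comm fun a b => (commCongr e).injective ?_
    have key : ∀ x ∈ commutator (DihedralGroup (Fintype.card F - 1)), ∃ i, x = DihedralGroup.r i := fun x hx => by
      let s : DihedralGroup (Fintype.card F - 1) →* ℤˣ := MonoidHom.mk'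
        (fun x => match x with | .r _ => 1 | .sr _ => -1) (by rintro (_ | _) (_ | _) <;> simp)
      have := Abelianization.commutator_subset_ker s hx
      cases x
      · exact ⟨_, rfl⟩
      · simp [s] at this
    rw [map_mul, map_mul]
    obtain ⟨i, hi⟩ := key _ (commCongr e a).2
    obtain ⟨j, hj⟩ := key _ (commCongr e b).2
    apply Subtype.ext
    simp [hi, hj, add_comm]
  obtain rfl | h := (Nat.succ_le_of_lt h).eq_or_lt
  · rcases (Nat.succ_le_of_lt (Fintype.one_lt_card (α := F))).eq_or_lt with h2 | h2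
    · obtain rfl : p = 2 := (Nat.prime_dvd_prime_iff_eq hp.out Nat.prime_two).1
        ((CharP.cast_eq_zero_iff F p 2).1 (by simpa [← h2] using FiniteField.cast_card_eq_zero F))
      exact hasSt_eighteen (card_omega_two h2.symm)
    · obtain ⟨e⟩ := Cfsg.Agent.S0299.result (F := F) h2
      exact ((hasSt_PSL p le_rfl).prod (hasSt_PSL p le_rfl)).equiv e
  obtain ⟨l, rfl⟩ : ∃ l, m = l + 1 := ⟨m - 1, by omega⟩
  obtain ⟨X, h1, h2, -⟩ := exists_pre_D F (l := l) (by omega)
  exact hasSt_quot h1 h2 p (QuotientGroup.mk'_surjective _) (QuotientGroup.ker_mk' _).le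

theorem card_unip_Sp (m : ℕ) :
    Nat.card {g : symplecticGroup (Fin m) F // ∃ k : ℕ, orderOf g = p ^ k} = Fintype.card F ^ (2 * m ^ 2) := by
  classical
  rcases m with _ | _ | l
  · exact Nat.card_eq_one_iff_exists.2 ⟨⟨1, 0, by simp⟩, fun _ => Subsingleton.elim _ _⟩
  · refine (Nat.card_congr (Equiv.ofBijective (fun g : {g : symplecticGroup (Fin 1) F // _} => (⟨SpecialLinearGroup.toGL (sp1Equiv F g.1), by
      rw [orderOf_injective _ SpecialLinearGroup.toGL_injective, MulEquiv.orderOf_eq]; exact g.2⟩ :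
        {g : GL (Fin 2) F // ∃ k : ℕ, orderOf g = p ^ k})) <| And.intro (fun a b e =>
        Subtype.ext ((sp1Equiv F).injective (SpecialLinearGroup.toGL_injective (congrArg Subtype.val e)))) ?_)).trans
      (Cfsg.Agent.S2315.result p 2)
    rintro ⟨g, k, hk⟩
    have h1 : g.1.det = 1 := by
      have := congrArg (fun g : GL (Fin 2) F => g.1.det) (hk ▸ pow_orderOf_eq_one g)
      simp only [Units.val_pow_eq_pow_val, det_pow, Units.val_one, det_one] at this
      exact sub_eq_zero.1 (pow_eq_zero_iff (pow_ne_zero k hp.out.ne_zero) |>.1 (by rw [sub_pow_char_pow, this]; simp))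
    obtain ⟨g, rfl⟩ : ∃ a : SL(2, F), SpecialLinearGroup.toGL a = g := ⟨⟨g.1, h1⟩, Units.ext rfl⟩
    refine ⟨⟨(sp1Equiv F).symm g, k, ?_⟩, Subtype.ext (by simp)⟩
    rw [MulEquiv.orderOf_eq, ← orderOf_injective _ SpecialLinearGroup.toGL_injective, ← hk]
  obtain ⟨X, h1, h2, -⟩ := exists_pre_C F (l := l + 1) (by omega)
  obtain ⟨P, hP⟩ := h1.exists_sylow (mult_fin h1) h2 p
  obtain ⟨k, h0, hk⟩ := card_pow p F
  rw [h1.card_unip h2 (mult_fin h1) p, ← hP, P.card_eq_multiplicity, card_sp, Nat.card_eq_fintype_card, hk,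
    Nat.factorization_mul (by simp [hp.out.ne_zero]) (prod_ne_zero_iff.2 fun i _ => Nat.sub_ne_zero_of_lt
      (Nat.one_lt_pow (by omega) (Nat.one_lt_pow h0.ne' hp.out.one_lt))), Finsupp.add_apply,
    Nat.factorization_eq_zero_of_not_dvd (n := ∏ _ ∈ _, _), add_zero, ← pow_mul p k, hp.out.factorization_pow,
    Finsupp.single_eq_same]
  · ring
  · rw [hp.out.prime.dvd_finsetProd_iff]
    rintro ⟨i, -, h⟩
    exact hp.out.not_dvd_one ((Nat.dvd_sub_iff_right (Nat.one_le_pow _ _ (pow_pos hp.out.pos _))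
      (dvd_pow (dvd_pow_self _ h0.ne') (by omega))).1 h)

end CfsgH8
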