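import Cfsg.Agent.H8.CRC2
import Cfsg.Agent.H6.All

/-! Identification of Chevalley groups given by tables with matrix groups. -/

set_option autoImplicit false

namespace CfsgH8

open Matrix Finset Cfsg CfsgH6 CfsgH6.PreSt CfsgH6.Chev Cfsg.Lie CfsgH5 CfsgH5.Form

theorem sum_eq_zero_of_keys {K A : Type*} [DecidableEq K] [AddCommGroup A] (f : K → A) (L : List (K × ℤ))
    (h : ∀ e ∈ L, ((L.filter (·.1 = e.1)).map (·.2)).sum = 0) : (L.map fun e => e.2 • f e.1).sum = 0 := by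
  have h1 : ∀ (L : List (K × ℤ)) k, (L.map fun e => Finsupp.single e.1 e.2).sum k =
      ((L.filter (·.1 = k)).map (·.2)).sum := fun L k => by
    induction L with
    | nil => simp
    | cons e L ih => by_cases h : e.1 = k <;> simp [h, ih]
  have h2 : (L.map fun e => Finsupp.single e.1 e.2).sum = 0 := by
    ext k
    rw [h1]
    by_cases hk : ∃ e ∈ L, e.1 = k
    · obtain ⟨e, he, rfl⟩ := hk
      exact h e he
    · rw [List.filter_eq_nil_iff.2 fun e he h => hk ⟨e, he, by simpa using h⟩]; rfl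
  have := congrArg (Finsupp.linearCombination ℤ f) h2
  simpa [map_list_sum, Function.comp_def] using this

section pm

variable {J : Type} [DecidableEq J] [Fintype J] {F : Type*} [Field F]

/-- sparse matrices with entries polynomial in two variables -/
abbrev PM (J : Type) : Type := List ((J × J × ℕ × ℕ) × ℤ)

/-- evaluation -/
def PM.ev (t u : F) (L : PM J) : Matrix J J F :=
  (L.map fun e => e.2 • single e.1.1 e.1.2.1 (t ^ e.1.2.2.1 * u ^ e.1.2.2.2)).sum

/-- product -/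
def PM.mul (L L' : PM J) : PM J := L.flatMap fun e => (L'.filter (e.1.2.1 = ·.1.1)).map fun e' =>
  ((e.1.1, e'.1.2.1, e.1.2.2.1 + e'.1.2.2.1, e.1.2.2.2 + e'.1.2.2.2), e.2 * e'.2)

theorem PM.ev_mul (t u : F) (L L' : PM J) : (L.mul L').ev t u = L.ev t u * L'.ev t u := by
  unfold PM.ev PM.mul
  induction L with
  | nil => simp
  | cons e L ih =>
    rw [List.flatMap_cons, List.map_append, List.sum_append, ih, List.map_cons, List.sum_cons, add_mul]
    congr 1
    clear ih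
    induction L' with
    | nil => simp
    | cons e' L' ih =>
      rw [List.map_cons, List.sum_cons, mul_add, ← ih, smul_mul_smul_comm]
      by_cases h : e.1.2.1 = e'.1.1
      · rw [List.filter_cons_of_pos (by simpa), ← h, single_mul_single_same]
        simp only [List.map_cons, List.sum_cons]
        congr 3; ring
      · rw [List.filter_cons_of_neg (by simpa), single_mul_single_of_ne _ _ _ _ h]; simp

/-- equality test -/
def PM.Eq (L L' : PM J) : Prop := ∀ e ∈ L ++ L'.map fun e => (e.1, -e.2),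
  (((L ++ L'.map fun e => (e.1, -e.2)).filter (·.1 = e.1)).map (·.2)).sum = 0

instance (L L' : PM J) : Decidable (L.Eq L') := by unfold PM.Eq; infer_instance

omit [Fintype J] in
theorem PM.Eq.ev {L L' : PM J} (h : L.Eq L') (t u : F) : L.ev t u = L'.ev t u := by
  have := sum_eq_zero_of_keys (fun k : J × J × ℕ × ℕ => single k.1 k.2.1 (t ^ k.2.2.1 * u ^ k.2.2.2)) _ h
  rw [List.map_append, List.sum_append, List.map_map] at this
  rw [PM.ev, PM.ev, eq_neg_of_add_eq_zero_left this, List.sum_neg, List.map_map]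
  simp only [Function.comp_def, neg_smul, neg_neg]

/-- a matrix polynomial in one variable -/
def xm (P : List (J × J × ℕ × ℤ)) (t : F) : Matrix J J F := (P.map fun e => single e.1 e.2.1 (e.2.2.2 * t ^ e.2.2.1)).sum

/-- substitution of a monomial -/
def sb (P : List (J × J × ℕ × ℤ)) (c : ℤ × ℕ × ℕ) : PM J :=
  P.map fun e => ((e.1, e.2.1, c.2.1 * e.2.2.1, c.2.2 * e.2.2.1), e.2.2.2 * (c.1 * (-1) ^ c.2.1) ^ e.2.2.1)

omit [Fintype J] in
theorem ev_sb (P : List (J × J × ℕ × ℤ)) (c : ℤ × ℕ × ℕ) (t u : F) :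
    (sb P c).ev t u = xm P (c.1 * (-t) ^ c.2.1 * u ^ c.2.2) := by
  rw [PM.ev, sb, xm, List.map_map]
  congr 2; ext e : 1
  simp only [Function.comp, smul_single, zsmul_eq_mul]
  congr 1
  rw [neg_pow t]; push_cast; ring

theorem exists_pre_of_chk {D : ChevalleyDatum} (g : Good D) (P : ℕ → List (J × J × ℕ × ℤ))
    (h : ∀ r < D.nroots, ∀ s < D.nroots, s ≠ r → s ≠ g.T.neg r → ((sb (P s) (1, 0, 1)).mul (sb (P r) (-1, 1, 0))).Eq
      ((g.T.tm r s).foldl (fun L c => L.mul (sb (P c.1) c.2)) ((sb (P r) (-1, 1, 0)).mul (sb (P s) (1, 0, 1)))))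
    {Γ : Type*} [Group Γ] (ι : Γ →* Matrix J J F) (hι : Function.Injective ι) (y : Fin D.nroots → F → Γ)
    (hy : ∀ r t, ι (y r t) = xm (P r) t) (add : ∀ r t u, y r t * y r u = y r (t + u)) :
    ∃ Y : PreSt g.cd F Γ, Y.x = y := by
  refine ⟨⟨y, add, fun r s t u e1 e2 => hι ?_⟩, rfl⟩
  have h1 := (h r r.2 s s.2 (fun e => e1 (Fin.ext e)) fun e => e2 (Fin.ext (e.trans (g.ag.neg _ r.2).symm))).ev t u
  have h2 : ∀ (l : List (ℕ × ℤ × ℕ × ℕ)) (L : PM J), (l.foldl (fun L c => L.mul (sb (P c.1) c.2)) L).ev t u =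
      L.ev t u * (l.map fun c => xm (P c.1) (c.2.1 * (-t) ^ c.2.2.1 * u ^ c.2.2.2)).prod := fun l => by
    induction l with
    | nil => simp
    | cons c l ih => intro L; rw [List.foldl_cons, ih, PM.ev_mul, ev_sb, List.map_cons, List.prod_cons, mul_assoc]
  rw [h2, PM.ev_mul, PM.ev_mul, ev_sb, ev_sb, ← g.commTerms_eq r.2 s.2] at h1
  simp only [map_mul, map_list_prod, hy, Good.cd, List.map_map]
  simp only [Int.cast_one, Int.cast_neg, pow_zero, pow_one, mul_one, one_mul, neg_mul_neg] at h1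
  rw [h1]
  refine congrArg _ (congrArg _ (List.map_congr_left fun c hc => ?_))
  obtain ⟨-, -, h4, -⟩ := g.commTerms_add hc
  simp only [Function.comp, Good.toF_of_lt _ h4, hy]

end pm

theorem liftC_surj {D : ChevalleyDatum} {g : Good D} {F : Type*} [Field F] {Γ : Type*} [Group Γ] (Y : PreSt g.cd F Γ)
    (hG : Y.G = ⊤) : Function.Surjective (Good.liftC Y) := by
  rw [← MonoidHom.range_eq_top, MonoidHom.range_eq_map, ← g.stC_G F, map_G _ _ _ (Good.liftC_x Y), hG]

theorem equiv_adj {D : ChevalleyDatum} (g : Good D) {F : Type*} [Field F] (hs : IsSimpleGroup (D.group F))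
    {Γ : Type*} [Group Γ] (Y : PreSt g.cd F Γ) (hG : Y.G = ⊤) (hn : ¬ ∀ a b : Γ, a * b = b * a) :
    Nonempty (D.group F ≃* Γ ⧸ Subgroup.center Γ) := by
  have h1 := liftC_surj Y hG
  have h2 := liftC_surj _ (g.adjG_G F)
  have h3 := g.ker_eq_center F (g.stC_G F) _ (Good.liftC_x (g.adjG F))
  let θ := (QuotientGroup.mk' (Subgroup.center Γ)).comp (Good.liftC Y)
  have h4 : Function.Surjective θ := (QuotientGroup.mk'_surjective _).comp h1
  have h5 : (Good.liftC (g.adjG F)).ker ≤ θ.ker := fun z hz => (QuotientGroup.eq_one_iff _).2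
    (Subgroup.mem_center_iff.2 fun y => by
      obtain ⟨y, rfl⟩ := h1 y
      rw [← map_mul, ← map_mul, Subgroup.mem_center_iff.1 (h3.le hz)])
  have h6 := Subgroup.comap_map_eq_self h5
  rcases (Subgroup.Normal.map inferInstance _ h2 : (θ.ker.map _).Normal).eq_bot_or_eq_top with h | h <;> rw [h] at h6
  · exact ⟨(QuotientGroup.quotientKerEquivOfSurjective _ h2).symm.trans
      ((QuotientGroup.quotientMulEquivOfEq h6).trans (QuotientGroup.quotientKerEquivOfSurjective _ h4))⟩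
  · refine absurd (fun a b => ?_) hn
    obtain ⟨b, rfl⟩ := h1 b
    exact Subgroup.mem_center_iff.1 ((QuotientGroup.eq_one_iff _).1 (h6.le trivial : θ b = 1)) a

/-- the roots of type `D₄` -/
def datD4 (r : ℕ) : (Fin 4 ⊕ Fin 4) × (Fin 4 ⊕ Fin 4) × ℤ :=
  [(.inr 0, .inl 1, 1), (.inr 0, .inl 2, 1), (.inl 3, .inl 0, 1), (.inr 0, .inl 3, 1), (.inl 2, .inl 0, -1),
    (.inl 1, .inl 0, 1), (.inr 1, .inl 2, -1), (.inl 3, .inl 1, -1), (.inr 1, .inl 3, -1), (.inl 2, .inl 1, 1),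
    (.inl 3, .inl 2, 1), (.inr 2, .inl 3, 1), (.inl 2, .inr 3, -1), (.inl 2, .inl 3, 1), (.inl 1, .inl 2, 1),
    (.inl 1, .inr 3, 1), (.inl 1, .inl 3, -1), (.inl 1, .inr 2, 1), (.inl 0, .inl 1, 1), (.inl 0, .inl 2, -1),
    (.inl 0, .inr 3, -1), (.inl 0, .inl 3, 1), (.inl 0, .inr 2, -1), (.inl 0, .inr 1, -1)].getD r (.inl 0, .inl 1, 1)

/-- the root elements of type `D₄` -/
def polD4 (r : ℕ) : List ((Fin 4 ⊕ Fin 4) × (Fin 4 ⊕ Fin 4) × ℕ × ℤ) :=
  ((datD4 r).1, (datD4 r).2.1, 1, (datD4 r).2.2) :: ((datD4 r).2.1.swap, (datD4 r).1.swap, 1, -(datD4 r).2.2) ::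
    [.inl 0, .inl 1, .inl 2, .inl 3, .inr 0, .inr 1, .inr 2, .inr 3].map fun a => (a, a, 0, 1)

theorem chk_D4 : ∀ r < chevD4.nroots, ∀ s < chevD4.nroots, s ≠ r → s ≠ gD4.T.neg r →
    ((sb (polD4 s) (1, 0, 1)).mul (sb (polD4 r) (-1, 1, 0))).Eq ((gD4.T.tm r s).foldl
      (fun L c => L.mul (sb (polD4 c.1) c.2)) ((sb (polD4 r) (-1, 1, 0)).mul (sb (polD4 s) (1, 0, 1)))) := by
  decide +kernel

theorem exists_pre_D' (F : Type*) [Field F] {l : ℕ} (hl : 2 ≤ l) :
    ∃ X : PreSt (bdD l hl).mr.cd F (Omega F (quadFormPlus (l + 1) F)),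
      X.IsSt ∧ X.G = ⊤ ∧ ∀ r t, (X.x r t).1.1 = ((bdD l hl).mr.pre F).x r t :=
  (fits_D F hl).exists_pre ((Subgroup.subtype _).comp (Subgroup.subtype _))
    (Subtype.val_injective.comp Subtype.val_injective)
    ((range_omHom (plusForm_Q _)).trans ((plusForm_nondeg _).om_eq_EG ((plusForm_hypFam _).isHyp 0)
      (by rw [finrank_sp]; omega) (Or.inr (by rw [finrank_sp]; omega))))

theorem equiv_D4 (F : Type*) [Field F] : Nonempty (chevD4.group F ≃* POmega F (quadFormPlus 4 F)) := by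
  obtain ⟨X, h1, h2, h3⟩ := exists_pre_D' F (l := 3) (by decide)
  have h4 : ∀ r < 24, (datD4 r).1 ≠ (datD4 r).2.1 ∧ (datD4 r).1 ≠ (datD4 r).2.1.swap ∧
      (datD4 r).2.2 * (datD4 r).2.2 = 1 := by decide +kernel
  let B := bdD 3 (by decide)
  obtain ⟨Y, hY⟩ := exists_pre_of_chk gD4 polD4 chk_D4
    ((Units.coeHom _).comp ((Subgroup.subtype _).comp (Subgroup.subtype _)))
    (Units.val_injective.comp (Subtype.val_injective.comp Subtype.val_injective))
    (fun r t => X.x (B.rt' (h4 r r.2).1 (Or.inr (h4 r r.2).2.1)) ((datD4 r).2.2 * B.s (datD4 r).1 (datD4 r).2.1 * t))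
    (fun r t => by
      obtain ⟨a1, a2, -⟩ := h4 r r.2
      refine (congrArg Units.val (h3 _ _)).trans ?_
      rw [MR.coe_x, BD.rt', B.X_short a1 a2, xm, polD4]
      have b1 := congrArg (Int.cast : ℤ → F) (B.gs _ _ a1 (Or.inr a2))
      have b2 := congrArg (Int.cast : ℤ → F) (B.s_sq (datD4 r).1 (datD4 r).2.1)
      generalize datD4 r = d at *
      obtain ⟨a, b, e⟩ := d
      change ((1 * _ + 1 * _ : ℤ) : F) = _ at b1
      push_cast at b1 b2
      rw [List.map_cons, List.map_cons, List.sum_cons, List.sum_cons, map_add, smul_add, add_comm (1 : Matrix _ _ F), add_assoc]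
      simp only [MR.φ, RingHom.mapMatrix_apply, Matrix.map_single, smul_single, smul_eq_mul, eq_intCast]
      congr 2
      · linear_combination (e * t) * b2
      · congr 1; push_cast
        linear_combination (e * t * B.s a b) * b1 - e * t * b2
      · ext a b
        rcases a with a | a <;> rcases b with b | b <;> fin_cases a <;> fin_cases b <;> simp)
    fun r t u => by rw [X.add, mul_add]
  refine equiv_adj gD4 (gD4.simple F highD4 (perfD4 F)).1 Y (top_unique (h2.ge.trans ((Subgroup.closure_le _).2 ?_)))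
    fun h => h1.not_comm ⟨⟨fun a b => Subtype.ext (h a b)⟩⟩
  rintro _ ⟨r, -, t, rfl⟩
  obtain ⟨a, b, e1, e2, rfl⟩ := B.exists_rt' r
  obtain ⟨r, hr, e⟩ := (by decide +kernel : ∀ a b : Fin 4 ⊕ Fin 4, a ≠ b → a ≠ b.swap → ∃ r < 24,
    wb a - wb b = wb (datD4 r).1 - wb (datD4 r).2.1) a b e1 (e2.resolve_left (by decide))
  have := Y.x_mem_G ⟨r, hr⟩ ((datD4 r).2.2 * B.s (datD4 r).1 (datD4 r).2.1 * t)
  rw [hY] at this
  have b1 := congrArg (Int.cast : ℤ → F) (h4 r hr).2.2
  have b2 := congrArg (Int.cast : ℤ → F) (B.s_sq (datD4 r).1 (datD4 r).2.1)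
  push_cast at b1 b2
  rwa [show B.rt' e1 e2 = B.rt' (h4 r hr).1 (Or.inr (h4 r hr).2.1) from Subtype.ext e, show t = (datD4 r).2.2 *
    B.s (datD4 r).1 (datD4 r).2.1 * ((datD4 r).2.2 * B.s (datD4 r).1 (datD4 r).2.1 * t) by
      linear_combination -(t * (datD4 r).2.2 ^ 2) * b2 - t * b1]

end CfsgH8
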