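import Cfsg.Agent.H8.CRE1
import Cfsg.Agent.H6.Sch5
import Cfsg.Agent.H5.Iso1

/-! The orthogonal groups of odd dimension over arbitrary fields; type `B₂`. -/

set_option autoImplicit false

namespace CfsgH8

open Matrix Finset Cfsg CfsgH6 CfsgH6.PreSt CfsgH6.Chev Cfsg.Lie CfsgH5 CfsgH5.Form
open scoped commutatorElement

variable {F : Type*} [Field F] {m : ℕ}

/-- hyperbolic basis vectors -/
abbrev eb (a : Fin m ⊕ Fin m) : Unit ⊕ (Fin m ⊕ Fin m) → F := Pi.single (.inr a) 1
/-- the anisotropic basis vector -/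
abbrev e0 : Unit ⊕ (Fin m ⊕ Fin m) → F := Pi.single (.inl ()) 1

theorem B_eb (x) (a : Fin m ⊕ Fin m) : (oddForm m F).B x (eb a) = x (.inr a.swap) := by
  cases a <;> simp [oddForm_B, Pi.single_apply]

theorem B_e0 (x) : (oddForm m F).B x e0 = 2 * x (.inl ()) := by simp [oddForm_B]

theorem Q_eb (a : Fin m ⊕ Fin m) : (oddForm m F).Q (eb a) = 0 := by
  cases a; exacts [((oddForm_hypFam m).isHyp _).Qe, ((oddForm_hypFam m).isHyp _).Qf]

theorem Q_e0 : (oddForm m F).Q e0 = 1 := by simp [oddForm_Q, quadFormOdd]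

theorem q_eb (a : Fin m ⊕ Fin m) : (oddForm m F).q (eb a) = 0 := (q_eq_zero_iff _).2 (Q_eb a)

theorem isE_long {a b : Fin m ⊕ Fin m} (h : a ≠ b) (t : F) : (oddForm m F).IsEich (eb b.swap) (t • eb a) 0 :=
  ⟨q_eb _, by simp [B_eb, h.symm], by rw [q_smul_zero _ _ (q_eb _), map_zero]⟩

theorem isE_short (a : Fin m ⊕ Fin m) (t : F) : (oddForm m F).IsEich (eb a) (t • e0) (t ^ 2) := by
  have := orth_isEich (S := oddForm m F) (w := t • e0) (Q_eb a) (by rw [B_eb]; simp)
  rwa [Q_smul, Q_e0, mul_one] at this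

theorem exists_coord {u} (hu : (oddForm m F).Q u = 0) (h0 : u ≠ 0) : ∃ a, u (.inr a) ≠ 0 := by
  by_contra! h
  refine h0 (funext fun a => ?_)
  rcases a with a | a
  · simpa [oddForm_Q, quadFormOdd, h] using hu
  · exact h a

theorem odd_EG_le {K : Subgroup _} (h1 : ∀ a b (h : a ≠ b), a ≠ b.swap → ∀ t : F, eich (isE_long h t) ∈ K)
    (h2 : ∀ (a : Fin m ⊕ Fin m) t, eich (isE_short a t) ∈ K) : (oddForm m F).EG ≤ K := by
  have key : ∀ c : Fin m ⊕ Fin m, (oddForm m F).Qu (eb c.swap) ≤ K := fun c => by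
    let P : (Unit ⊕ (Fin m ⊕ Fin m) → F) → Prop := fun w => ∃ l, ∃ h : (oddForm m F).IsEich (eb c.swap) w l, eich h ∈ K
    have h3 : ∀ w, w (.inr c) = 0 → P w := fun w hw => by
      have h0 : P 0 := ⟨0, IsEich.zero (q_eb _), by rw [eich_zero]; exact one_mem _⟩
      rw [pi_eq_sum_univ' w]
      refine sum_induction _ P ?_ h0 fun a _ => ?_
      · rintro _ _ ⟨_, h, e⟩ ⟨_, h', e'⟩
        exact ⟨_, h.add h', eich_mul h h' ▸ mul_mem e e'⟩
      rcases a with a | a
      · exact ⟨_, _, h2 _ _⟩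
      by_cases h : a = c
      · rwa [h, hw, zero_smul]
      by_cases h' : a = c.swap
      · exact ⟨_, isE_long h _, by
          rw [eich_eq_one_of_mem _ (h' ▸ Submodule.smul_mem _ _ (Submodule.mem_span_singleton_self _))]; exact one_mem _⟩
      · exact ⟨_, _, h1 a c h h' _⟩
    refine Form.Qu_le.2 fun w l h => ?_
    obtain ⟨l', h', e⟩ := h3 w (by simpa [B_eb] using h.perp)
    rwa [eich_congr h h' rfl (h.Q_eq.symm.trans h'.Q_eq)]
  refine EG_le.2 fun u w l h => ?_
  by_cases h0 : u = 0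
  · subst h0
    exact (Qu_zero.le.trans bot_le : _ ≤ K) (eich_mem_Qu h)
  obtain ⟨a, ha⟩ := exists_coord h.Qu_eq h0
  exact Qu_le_of_ne (f := eb a.swap.swap) (q_eb _) (q_eb _) h.sing (by simp [B_eb]) (by simpa [B_eb] using ha)
    (key a) (key a.swap) (eich_mem_Qu h)

theorem exists_EG_fix {V : Type*} [AddCommGroup V] [Module F V] {S : Form (orthParam F) V} {P : Set V} {x y z : V}
    (hx : S.q x = 0) (hy : S.q y = 0) (hz : S.q z = 0) (h1 : S.B x z ≠ 0) (h2 : S.B y z ≠ 0)
    (h : ∀ p ∈ P, S.B p x = 0 ∧ S.B p y = 0 ∧ S.B p z = 0) :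
    ∃ k ∈ S.EG, k z = z ∧ (∀ p ∈ P, k p = p) ∧ ∃ c : F, k x = c • y := by
  obtain ⟨l, hE, e⟩ := exists_eich_map (y := (S.B x z / S.B y z) • y) hz h1 (by simp [h2])
    (by rw [hx, q_smul_zero _ _ hy])
  exact ⟨_, eich_mem_EG hE, eich_self hE, fun p hp => eich_fix hE (h p hp).2.2 (by simp [h p hp]), _, e⟩

theorem exists_diag {g} (hg : g ∈ (oddForm m F).isom) : ∃ k ∈ (oddForm m F).EG, ∃ d, ∀ x, (k * g) x = d * x := by
  set S := oddForm m F
  have hp : ∀ {g}, g ∈ S.isom → ∀ {a x}, (∃ c : F, g (eb a) = c • eb a) → S.B (eb a) x = 0 → S.B (eb a) (g x) = 0 := by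
    rintro g hg a x ⟨c, hc⟩ h
    rw [← hg.1, hc, smul_left] at h
    refine (mul_eq_zero.1 h).resolve_left fun h0 => ?_
    simpa [h0] using hc
  have key : ∀ s : Finset (Fin m), ∃ k ∈ S.EG, ∀ a, ix a ∈ s → ∃ c : F, (k * g) (eb a) = c • eb a := fun s => by
    induction s using Finset.induction_on with
    | empty => exact ⟨1, one_mem _, by simp⟩
    | insert i s hi ih =>
      obtain ⟨k, hk, ih⟩ := ih
      have h1 := mul_mem (EG_le_isom hk) hg
      generalize hg' : k * g = g' at ih h1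
      have h2 : ∀ a b, ix a ∈ s → ix b ∉ s → S.B (eb a) (eb b) = 0 := fun a b ha hb => by
        rw [B_eb, eb, Pi.single_eq_of_ne]
        rintro ⟨rfl⟩
        simp_all
      have h3 : S.q (g' (eb (.inl i))) = 0 := by rw [h1.2, q_eb]
      obtain ⟨z, z1, z2, z3, z4⟩ : ∃ z, S.q z = 0 ∧ S.B (g' (eb (.inl i))) z ≠ 0 ∧ S.B (eb (.inl i)) z ≠ 0 ∧
          ∀ a, ix a ∈ s → S.B (eb a) z = 0 := by
        have h4 : ∀ a, ix a ∈ s → g' (eb (.inl i)) (.inr a) = 0 := fun a ha => by
          simpa [S, B_eb] using perp_symm (hp h1 (ih a.swap (by simpa)) (h2 _ (.inl i) (by simpa) hi))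
        have h5 : g' (eb (.inl i)) ≠ 0 := by simp
        generalize g' (eb (.inl i)) = u at h3 h4 h5
        by_cases h6 : u (.inr (.inl i)) = 0
        swap
        · exact ⟨eb (.inr i), q_eb _, by simpa [S, B_eb], by simp [S, B_eb], fun a ha => h2 _ _ ha hi⟩
        by_cases h7 : ∃ a, ix a ≠ i ∧ u (.inr a) ≠ 0
        · obtain ⟨a, a1, a2⟩ := h7
          have a3 : Sum.inl i ≠ a := by rintro rfl; simp at a1
          refine ⟨eb a.swap + eb (.inr i), ?_, by simpa [S, B_eb, h6], by simp [S, B_eb, a3.symm], fun b hb => ?_⟩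
          · rw [q_add, q_eb, q_eb, B_eb, eb, Pi.single_eq_of_ne]
            · simp
            · intro e
              simpa [a1.symm] using congrArg ix (Sum.inr_injective e)
          · rw [add_right, h2 _ _ hb (fun h => a2 (h4 _ (by simpa using h))), h2 _ (.inr i) hb hi, add_zero]
        push Not at h7
        obtain ⟨a, ha⟩ := exists_coord ((q_eq_zero_iff _).1 h3) h5
        obtain rfl : a = .inr i := by
          by_contra h8
          rcases ix_eq (a := a) (b := .inr i) (not_not.1 fun h => ha (h7 a h)) with h | rfl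
          exacts [h8 h, ha h6]
        have h8 : u (.inl ()) = 0 := by
          rw [q_eq_zero_iff, oddForm_Q, quadFormOdd, sum_eq_zero fun j _ => by
            by_cases h : j = i
            · rw [h, h6, zero_mul]
            · rw [h7 (.inl j) h, zero_mul]] at h3
          simpa using h3
        refine ⟨eb (.inl i) + e0 - eb (.inr i), ?_, by simpa [S, B_eb, B_e0, h6, h8], by simp [S, B_eb, B_e0],
          fun b hb => by rw [sub_right, add_right, h2 _ (.inl i) hb hi, h2 _ (.inr i) hb hi, B_e0]; simp⟩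
        rw [q_eq_zero_iff, oddForm_Q]
        simp [quadFormOdd, Pi.single_apply]
      obtain ⟨k1, a1, -, a2, c1, a3⟩ := exists_EG_fix (P := {p | ∃ a, ix a ∈ s ∧ p = eb a}) h3 (q_eb _) z1 z2 z3 (by
        rintro _ ⟨a, ha, rfl⟩
        exact ⟨hp h1 (ih a ha) (h2 _ (.inl i) ha hi), h2 _ (.inl i) ha hi, z4 a ha⟩)
      have h4 := mul_mem (EG_le_isom a1) h1
      have h5 : ∀ a, ix a ∈ s → ∃ c : F, (k1 * g') (eb a) = c • eb a := fun a ha => (ih a ha).imp fun c hc => by
        rw [LinearEquiv.mul_apply, hc, map_smul, a2 _ ⟨a, ha, rfl⟩]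
      obtain ⟨k2, b1, b2, b3, c2, b4⟩ := exists_EG_fix (P := {p | ∃ a, ix a ∈ s ∧ p = eb a})
        (x := (k1 * g') (eb (.inr i))) (y := eb (.inr i)) (z := eb (.inl i)) (by rw [h4.2, q_eb]) (q_eb _) (q_eb _)
        (fun h => by
          have := h4.1 (eb (.inr i)) (eb (.inl i))
          rw [LinearEquiv.mul_apply _ _ (eb (.inl i)), a3, smul_right, h] at this
          simp [S, B_eb] at this) (by simp [S, B_eb]) (by
        rintro _ ⟨a, ha, rfl⟩
        exact ⟨hp h4 (h5 a ha) (h2 _ (.inr i) ha hi), h2 _ (.inr i) ha hi, h2 _ (.inl i) ha hi⟩)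
      refine ⟨k2 * k1 * k, mul_mem (mul_mem b1 a1) hk, fun a ha => ?_⟩
      rw [mul_assoc, hg', mul_assoc, LinearEquiv.mul_apply]
      rcases mem_insert.1 ha with ha | ha
      · rcases ix_eq (a := a) (b := .inl i) ha with rfl | rfl
        · exact ⟨c1, by rw [LinearEquiv.mul_apply, a3, map_smul, b2]⟩
        · exact ⟨c2, b4⟩
      · exact (h5 a ha).imp fun c hc => by rw [hc, map_smul, b3 _ ⟨a, ha, rfl⟩]
  obtain ⟨k, hk, h⟩ := key univ
  have h1 := mul_mem (EG_le_isom hk) hg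
  refine ⟨k, hk, fun a => (k * g) (Pi.single a 1) a, fun x => ?_⟩
  generalize k * g = g at h h1
  conv_lhs => rw [pi_eq_sum_univ' x, map_sum]
  ext b
  rw [Finset.sum_apply, sum_eq_single b (fun a _ hab => ?_) (by simp), map_smul, Pi.smul_apply, Pi.mul_apply, smul_eq_mul,
    mul_comm]
  rw [map_smul, Pi.smul_apply, smul_eq_mul, mul_eq_zero]
  right
  rcases a with a | a
  · rcases b with b | b
    · exact absurd rfl hab
    · simpa [S, B_eb] using perp_symm (hp h1 (h b.swap (mem_univ _)) (x := e0) (by simp [S, B_e0]))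
  · obtain ⟨c, hc⟩ := h a (mem_univ _)
    rw [hc, Pi.smul_apply, eb, Pi.single_eq_of_ne hab.symm, smul_zero]

theorem odd_om_le : (oddForm m F).om ≤ (oddForm m F).EG := by
  set S := oddForm m F
  have h1 : Subgroup.closure (S.EG ∪ {g ∈ S.isom | ∃ d, ∀ x, g x = d * x} : Set _) = S.isom := by
    refine le_antisymm ((Subgroup.closure_le _).2 (Set.union_subset EG_le_isom fun _ h => h.1)) fun g hg => ?_
    obtain ⟨k, hk, h⟩ := exists_diag hg
    rw [← inv_mul_cancel_left k g]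
    exact mul_mem (inv_mem (Subgroup.subset_closure (Or.inl hk)))
      (Subgroup.subset_closure (Or.inr ⟨mul_mem (EG_le_isom hk) hg, h⟩))
  rw [om, ← h1]
  refine commutator_closure_le (fun g hg n hn => conj_mem_EG (h1 ▸ hg) hn) fun a ha b hb => ?_
  rcases ha with ha | ⟨ha, d, hd⟩
  · simpa [commutatorElement_def, mul_assoc] using
      mul_mem ha (conj_mem_EG (h1 ▸ Subgroup.subset_closure hb) (inv_mem ha))
  rcases hb with hb | ⟨-, d', hd'⟩
  · exact mul_mem (conj_mem_EG ha hb) (inv_mem hb)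
  · rw [commutatorElement_eq_one_iff_mul_comm.2 (LinearEquiv.ext fun x => by simp [hd, hd', mul_left_comm])]
    exact one_mem _

/-- the roots of type `B₂` -/
def datB2 (r : ℕ) : (Fin 2 ⊕ Fin 2) × (Fin 2 ⊕ Fin 2) × ℤ :=
  [(.inr 0, .inl 1, 1), (.inr 0, .inr 0, 1), (.inr 1, .inr 1, -1), (.inl 1, .inl 0, -1), (.inl 0, .inl 1, -1),
    (.inl 1, .inl 1, 1), (.inl 0, .inl 0, -1), (.inl 0, .inr 1, -1)].getD r (.inl 0, .inl 1, 1)

/-- the root elements of type `B₂` -/
def polB2 (r : ℕ) : List ((Unit ⊕ (Fin 2 ⊕ Fin 2)) × (Unit ⊕ (Fin 2 ⊕ Fin 2)) × ℕ × ℤ) :=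
  (if (datB2 r).1 = (datB2 r).2.1 then [(.inl (), .inr (datB2 r).1.swap, 1, (datB2 r).2.2),
    (.inr (datB2 r).1, .inl (), 1, -2 * (datB2 r).2.2), (.inr (datB2 r).1, .inr (datB2 r).1.swap, 2, -1)]
  else [(.inr (datB2 r).1, .inr (datB2 r).2.1, 1, (datB2 r).2.2),
    (.inr (datB2 r).2.1.swap, .inr (datB2 r).1.swap, 1, -(datB2 r).2.2)]) ++
    [.inl (), .inr (.inl 0), .inr (.inl 1), .inr (.inr 0), .inr (.inr 1)].map fun a => (a, a, 0, 1)

theorem equiv_B2 (hF : ∃ a : F, a ≠ 0 ∧ a ≠ 1) : Nonempty (chevB2.group F ≃* POmega F (quadFormOdd 2 F)) := by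
  set S := oddForm 2 F
  let ι : S.EG →* Matrix _ _ F := (Units.coeHom _).comp ((glEquiv _ F).symm.toMonoidHom.comp S.EG.subtype)
  let y : Fin 8 → F → S.EG := fun r t => if h : (datB2 r).1 = (datB2 r).2.1 then
    ⟨_, eich_mem_EG (isE_short (datB2 r).1 ((datB2 r).2.2 * t))⟩ else ⟨_, eich_mem_EG (isE_long h ((datB2 r).2.2 * t))⟩
  obtain ⟨Y, hY⟩ := exists_pre_of_chk gB2 polB2 (by decide +kernel) ι
    (Units.val_injective.comp ((glEquiv _ F).symm.injective.comp Subtype.val_injective)) y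
    (fun r t => CfsgH5.mat_ext fun v => (glEquiv_symm_mulVec _ v).trans (by
      ext a
      fin_cases r <;> rcases a with _ | a | a <;> (try fin_cases a) <;>
        simp [y, datB2, polB2, xm, orth_eich_apply, B_eb, B_e0, add_mulVec, single_mulVec] <;> ring))
    fun r t u => by
      simp only [y]
      split_ifs with h
      · exact Subtype.ext ((eich_mul (isE_short _ _) (isE_short _ _)).trans (eich_congr _ (isE_short _ _)
          (by rw [mul_add, add_smul]) (by simp [B_e0]; ring)))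
      · exact Subtype.ext ((eich_mul (isE_long h _) (isE_long h _)).trans (eich_congr _ (isE_long h _)
          (by rw [mul_add, add_smul]) (by simp [B_eb, Pi.single_eq_of_ne (Sum.inr_injective.ne (ne_swap _).symm)])))
  have h1 : Y.G = ⊤ := by
    refine Subgroup.map_injective S.EG.subtype_injective (le_antisymm (Subgroup.map_mono le_top) ?_)
    rw [← MonoidHom.range_eq_map, Subgroup.range_subtype]
    have h2 : ∀ r t, (y r t).1 ∈ Y.G.map S.EG.subtype := fun r t => ⟨_, by simpa [hY] using Y.x_mem_G r t, rfl⟩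
    refine odd_EG_le (fun a b h h' t => ?_) fun a t => ?_
    · obtain ⟨r, c, hc, e⟩ := (by decide : ∀ a b : Fin 2 ⊕ Fin 2, a ≠ b → a ≠ b.swap → ∃ r : Fin 8, ∃ c ∈ [(1 : ℤ), -1],
        datB2 r = (a, b, c) ∨ datB2 r = (b.swap, a.swap, -c)) a b h h'
      have hc : (c : F) * (c * t) = t := by simp at hc; rcases hc with rfl | rfl <;> simp
      convert h2 r (c * t) using 1
      ext1 x
      rcases e with e | e
      · simp [y, e, h, orth_eich_apply, hc]
      · simp [y, e, Sum.swap_leftInverse.injective.ne h.symm, orth_eich_apply, hc]; module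
    · obtain ⟨r, c, hc, e⟩ := (by decide : ∀ a : Fin 2 ⊕ Fin 2, ∃ r : Fin 8, ∃ c ∈ [(1 : ℤ), -1],
        datB2 r = (a, a, c)) a
      have hc : (c : F) * (c * t) = t := by simp at hc; rcases hc with rfl | rfl <;> simp
      convert h2 r (c * t) using 1
      ext1 x
      simp [y, e, orth_eich_apply, hc]
  have h2 : S.om = S.EG := by
    refine le_antisymm odd_om_le ?_
    have := congrArg (Subgroup.map (S.EG.subtype.comp (Good.liftC Y))) (perf_stC (D := chevB2) (by simp) fun _ => hF)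
    rw [commutator_def, Subgroup.map_commutator, ← MonoidHom.range_eq_map, ← MonoidHom.map_range,
      MonoidHom.range_eq_top.2 (liftC_surj Y h1), ← MonoidHom.range_eq_map, Subgroup.range_subtype] at this
    exact this.ge.trans (Subgroup.commutator_mono EG_le_isom EG_le_isom)
  obtain ⟨e⟩ := equiv_adj gB2 (gB2.simple F highB2 (perfB2 F hF)).1 Y h1 fun h => by
    have := congrArg (fun g : S.EG => g.1 (eb (.inl 1)) (.inr (.inl 1))) (h (y 3 1) (y 4 1))
    simp [y, datB2, orth_eich_apply, B_eb] at this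
  exact ⟨e.trans (qcCongr ((omEquiv (oddForm_Q 2)).trans (MulEquiv.subgroupCongr h2))).symm⟩

end CfsgH8
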