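import Cfsg.Agent.H8.CRA

/-! Lifting the Steinberg relations of classical type to central extensions: general lemmas. -/

set_option autoImplicit false

namespace CfsgH8

open Matrix Finset CfsgH6 CfsgH6.PreSt
open scoped commutatorElement

section gen

variable {I R : Type} [Fintype I] [DecidableEq I] {Φ : CD I R} {F : Type*} [Field F]
  {Γ : Type*} [Group Γ] {X : PreSt Φ F Γ} {E : Type*} [Group E] {π : E →* Γ}

/-- a diagonal element fixes the first root group and moves the second -/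
def KH (Φ : CD I R) (F : Type*) [Field F] (a b : R) : Prop :=
  ∃ γ δ, ∃ v w : F, v ≠ 0 ∧ w ≠ 0 ∧ v ^ Φ.A γ a * w ^ Φ.A δ a = 1 ∧ v ^ Φ.A γ b * w ^ Φ.A δ b ≠ 1

theorem KH.of {a b : R} (γ : R) {v : F} (h0 : v ≠ 0) (h1 : v ^ Φ.A γ a = 1) (h2 : v ^ Φ.A γ b ≠ 1) : KH Φ F a b :=
  ⟨γ, γ, v, 1, h0, one_ne_zero, by simpa, by simpa⟩

theorem exists_sys' [Finite R] (hX : X.IsSt) (h : CX π) (Q : R → R → Prop) (hy : ∀ r, X.Gd h Q r)
    (H : ∀ a b, b ≠ a → b ≠ Φ.neg a → KH Φ F a b ∨ KH Φ F b a ∨ X.LC h a b ∨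
      (Q a b ∧ ∃ r, Φ.rt r = Φ.rt a + Φ.rt b)) : ∃ Z : PreSt Φ F E, ∀ r t, π (Z.x r t) = X.x r t := by
  choose y hy hi using hy
  let Y : X.Lifts π := ⟨y, fun r => (hy r).π_y, fun r => (hy r).add⟩
  have hk : ∀ a b, KH Φ F a b → Y.Kill a b := by
    rintro a b ⟨γ, δ, v, w, h0, h0', h1, h2⟩
    refine ⟨h.s (X.h γ v * X.h δ w), fun s => v ^ Φ.A γ s * w ^ Φ.A δ s, fun s t => ?_, h1, h2⟩
    obtain ⟨u, hu⟩ := (hy s).eqv (h.s (X.h γ v * X.h δ w))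
      (by rw [h.π_s]; exact mul_mem (X.h_mem_H γ h0) (X.h_mem_H δ h0')) t
    have := congrArg π hu
    simp only [map_mul, map_inv, h.π_s, (hy s).π_y] at this
    rw [show ∀ a b c : Γ, a * b * c * (a * b)⁻¹ = a * (b * c * b⁻¹) * a⁻¹ from fun _ _ _ => by group,
      hX.hconj _ _ _ h0', hX.hconj _ _ _ h0, ← mul_assoc] at this
    exact hu.trans (congrArg (y s) (X.x_injective hX.sep1 s this).symm)
  refine Y.exists_preSt h hX.sep1 fun a b h1 h2 => ?_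
  rcases H a b h1 h2 with H | H | H | ⟨hq, r, hr⟩
  · exact Or.inl (hk _ _ H)
  · exact Or.inr (Or.inl (hk _ _ H))
  · exact Or.inr (Or.inr fun t u => by rw [H]; exact one_mem _)
  · refine Or.inr (Or.inr fun t u => ?_)
    obtain ⟨s, hs⟩ := hi r a b hq hr t u
    rw [hs]
    exact Y.y_mem (r := r) hr s

/-- the conjugation trick -/
theorem br_trick (h : CX π) (h1 : X.Sep1) {θ : R} {y : F → E} (hy : X.IsL π θ y) {a b a' b' k : Γ} (c1 : Commute a b)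
    (c2 : Commute a' b') (e1 : k * a' * k⁻¹ = a' * a) (e2 : k * b' * k⁻¹ = b' * b) {s s' : F} (i1 : h.br a b' = y s)
    (i2 : h.br a' b = y s') (l1 : ∀ t, h.br a' (X.x θ t) = 1) (l2 : ∀ t, h.br b' (X.x θ t) = 1) : h.br a b = 1 := by
  have e := h.br_conj' c2 k
  have z1 := h.br_ker c1
  have z2 := h.br_ker c2
  rw [e1, e2, h.br_mul_right _ _ (h.π_s _), h.br_mul_left _ _ (h.π_s _), h.br_mul_left _ _ (h.π_s _), i1, i2,
    h.conj_z z1, (h.commute_iff (h.π_s _) (hy.π_y s)).1 (l1 s), mul_inv_cancel_right, h.comm z1, ← mul_assoc (h.s b'),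
    (h.commute_iff (h.π_s _) (hy.π_y s')).1 (l2 s'), mul_assoc (y s'), ← h.comm z1, ← mul_assoc (y s'),
    mul_inv_cancel_right, ← h.comm z2, mul_assoc, mul_eq_left] at e
  have e3 : h.br a b = y (-s' + -s) := by
    rw [← hy.add, ← hy.inv, ← hy.inv, ← _root_.mul_inv_rev, eq_inv_iff_mul_eq_one, h.comm z1, mul_assoc, e]
  have e4 := z1
  rw [e3, hy.π_y, ← X.x_zero θ] at e4
  rw [e3, X.x_injective h1 θ e4, hy.zero]

end gen

namespace MR

variable {I M J : Type} [Fintype I] [DecidableEq I] [Fintype M] [DecidableEq M] [Fintype J] [DecidableEq J]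
  {D : MR I M J} {F : Type*} [Field F]

/-- short roots -/
abbrev Sh (a : D.R) : Prop := a.1 ⬝ᵥ a.1 = 2

theorem cv_sh {a : D.R} (h : Sh a) : cv a.1 = a.1 := if_neg (by rw [h]; decide)

theorem A_sh {a : D.R} (h : Sh a) (b : D.R) : D.cd.A a b = a.1 ⬝ᵥ b.1 := (D.rs_A a b).trans (by rw [cv_sh h])

theorem sh_of_two (hk : D.k = 2) (a : D.R) : Sh a := a.2.norm.resolve_right fun h => by
  have := a.2.2.2; omega

theorem add_root {a b : D.R} (h : cv a.1 ⬝ᵥ b.1 = -1) : D.IsRoot (a.1 + b.1) := by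
  simpa [WD.rf, h, add_comm] using a.2.rf b.2

theorem sub_root {a b : D.R} (h : cv a.1 ⬝ᵥ b.1 = 1) : D.IsRoot (b.1 - a.1) := by
  simpa [WD.rf, h] using a.2.rf b.2

theorem neg_val (a : D.R) : (D.cd.neg a).1 = -a.1 := rfl

theorem refl_val (a b : D.R) : (D.cd.refl a b).1 = WD.rf a.1 b.1 := D.rs_refl a b

theorem rt_add_iff {r a b : D.R} : D.cd.rt r = D.cd.rt a + D.cd.rt b ↔ r.1 = a.1 + b.1 :=
  ⟨fun h => by simpa using D.val_eq_of_rt (r := r) (s := a) (t := b) (i := 1) (j := 1) (by simp only [one_smul]; exact h),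
    fun h => by
      have := D.rt_eq_of_val (r := r) (s := a) (t := b) (i := 1) (j := 1) (by simpa using h)
      simp only [one_smul] at this; exact this⟩

theorem ne_of_dot {a b : D.R} (h : a.1 ⬝ᵥ b.1 ≠ a.1 ⬝ᵥ a.1) : b ≠ a := by rintro rfl; exact h rfl

theorem ne_neg_of_dot {a b : D.R} (h : a.1 ⬝ᵥ b.1 ≠ -(a.1 ⬝ᵥ a.1)) : b ≠ D.cd.neg a := by
  rintro rfl; exact h (dotProduct_neg _ _)

theorem not_root {v : M → ℤ} (h : 4 < v ⬝ᵥ v) : ¬ D.IsRoot v := fun h' => by have := h'.norm; omega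

theorem tm_one {a b : D.R} (h : -1 ≤ a.1 ⬝ᵥ b.1) :
    D.cd.tm a b = D.tl (a.1 + b.1) (D.X a.1 * D.X b.1 - D.X b.1 * D.X a.1) 1 1 := by
  have h4 := a.2.norm
  have h5 := b.2.norm
  change D.tm a b = _
  rw [tm, tl_neg (v := a.1 + b.1 + a.1), tl_neg (v := b.1 + a.1 + b.1)]
  · simp
  all_goals
    apply not_root
    rw [norm_add, norm_add, add_dotProduct]
    simp only [dotProduct_comm b.1 a.1]
    omega

theorem cf_eq {v : M → ℤ} (h : D.IsRoot v) {Z : Matrix J J ℤ} {c : ℤ} (e : Z = c • D.X v) : D.cf Z v = c := by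
  have h1 : ∃ c : ℤ, Z = c • D.X v := ⟨c, e⟩
  obtain ⟨a, b, -, h2⟩ := exists_X_unit h
  have h3 := congrFun (congrFun (e.symm.trans h1.choose_spec) a) b
  rw [cf, dif_pos h1]
  exact (mul_right_cancel₀ (left_ne_zero_of_mul_eq_one h2) h3).symm

theorem cf_one' {a b : M → ℤ} (ha : D.IsRoot a) (hb : D.IsRoot b) (h : cv b ⬝ᵥ a = -1) (hr : D.IsRoot (a + b)) :
    D.cf (D.X a * D.X b - D.X b * D.X a) (a + b) = 1 ∨ D.cf (D.X a * D.X b - D.X b * D.X a) (a + b) = -1 := by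
  have h1 := cf_smul ((L_X' hb).br (L_X' ha)) (wt_br b a) (add_comm a b ▸ hr)
  have h2 := cf_one hb ha h (add_comm a b ▸ hr)
  rw [add_comm] at h1 h2
  rw [cf_eq hr (c := -D.cf (D.X b * D.X a - D.X a * D.X b) (a + b)) (by rw [neg_smul, ← h1, neg_sub])]
  omega

theorem tm_dec {a b r : D.R} (ha : Sh a) (h : a.1 ⬝ᵥ b.1 = -1) (e : r.1 = a.1 + b.1) :
    ∃ c : ℤ, (c = 1 ∨ c = -1) ∧ D.cd.tm a b = [(r, c, 1, 1)] := by
  obtain ⟨r, hr⟩ := r
  subst e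
  exact ⟨_, cf_one a.2 b.2 (by rw [cv_sh ha, h]) hr, by rw [tm_one h.ge, tl_pos hr]⟩

theorem tm_B2 {a b p r : D.R} (ha : Sh a) (h : a.1 ⬝ᵥ b.1 = -2) (hb : b.1 ⬝ᵥ b.1 = 4) (e : p.1 = a.1 + b.1)
    (e' : r.1 = a.1 + b.1 + a.1) :
    ∃ c d : ℤ, (c = 1 ∨ c = -1) ∧ (d = 1 ∨ d = -1) ∧ D.cd.tm a b = [(p, c, 1, 1), (r, d, 2, 1)] := by
  obtain ⟨p, hp⟩ := p
  obtain ⟨r, hr⟩ := r
  subst e e'
  have h1 := b.2.norm_mul a.1
  rw [hb, dotProduct_comm b.1, h] at h1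
  refine ⟨_, _, cf_one' a.2 b.2 (by omega) hp, cf_two a.2 b.2 (by rw [cv_sh ha, h]) hr, ?_⟩
  change D.tm a b = _
  rw [tm, tl_pos hp, tl_pos hr, tl_neg (not_root (by
    rw [norm_add, norm_add, add_dotProduct, dotProduct_comm b.1 a.1]; omega))]
  rfl

theorem tm_long {a b r : D.R} (h : a.1 ⬝ᵥ b.1 = 0) (e : r.1 = a.1 + b.1) :
    ∃ c : ℤ, (c = 2 ∨ c = -2) ∧ D.cd.tm a b = [(r, c, 1, 1)] := by
  obtain ⟨r, hr⟩ := r
  subst e
  refine ⟨_, ?_, by rw [tm_one (by omega), tl_pos hr]⟩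
  have h1 := hr.norm
  have h2 := a.2.norm
  have h3 := b.2.norm
  rw [norm_add, h] at h1
  have ha : Sh a := by omega
  have h4 : cv a.1 ⬝ᵥ (a.1 + b.1) = 2 := by rw [cv_sh ha, dotProduct_add, ha, h]; rfl
  have h5 : D.IsRoot (b.1 - a.1) := by
    have := a.2.rf hr
    rw [WD.rf, h4, two_smul] at this
    convert this using 1; abel
  have h6 := h5.norm_mul a.1
  rw [norm_sub, sub_dotProduct, dotProduct_comm b.1 a.1, h] at h6
  have e1 : a.1 + (b.1 - a.1) = b.1 := by abel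
  have e2 : a.1 + (b.1 - a.1) + a.1 = a.1 + b.1 := by abel
  have a1 := cf_smul ((L_X' a.2).br (L_X' h5)) (wt_br _ _) (e1.symm ▸ b.2)
  have a2 := cf_one' a.2 h5 (by rw [ha, show b.1 ⬝ᵥ b.1 = 2 by omega] at h6; omega) (e1.symm ▸ b.2)
  have a3 := cf_smul ((L_X' a.2).tri (L_X' h5)).neg (wt_tri _ _) (e2.symm ▸ hr)
  have a4 := cf_two a.2 h5 (by rw [cv_sh ha, dotProduct_sub, h, ha]; rfl) (e2.symm ▸ hr)
  rw [e1] at a1 a2
  rw [e2] at a3 a4
  generalize D.cf _ b.1 = c at a1 a2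
  generalize D.cf (-_) _ = d at a3 a4
  have hc : c * c = 1 := by rcases a2 with rfl | rfl <;> rfl
  rw [cf_eq hr (c := 2 * c * d)]
  · rcases a2 with rfl | rfl <;> omega
  · rw [mul_smul, ← a3, ← one_smul ℤ (D.X b.1), ← hc, mul_smul, ← a1]
    have := X_sq a.2
    generalize D.X a.1 = P at *
    generalize D.X (b.1 - a.1) = Q
    simp only [mul_smul_comm, smul_mul_assoc, mul_sub, sub_mul, ← mul_assoc, this, zero_mul]
    simp only [mul_assoc, this, mul_zero]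
    module

variable {Γ : Type*} [Group Γ] {X : PreSt D.cd F Γ} {E : Type*} [Group E] {π : E →* Γ} {h : CX π}

theorem cm_of {a b : D.R} (h0 : 0 ≤ a.1 ⬝ᵥ b.1) (h : ¬ D.IsRoot (a.1 + b.1) ∨ (2 : F) = 0) : X.Cm a b := by
  by_cases h1 : b = a
  · exact h1 ▸ X.cm_self b
  have h2 := a.2.norm
  have h3 := b.2.norm
  refine X.cm_of_tm h1 (ne_neg_of_dot (by omega)) fun c hc => ?_
  by_cases h4 : D.IsRoot (a.1 + b.1)
  · have h5 := h4.norm
    rw [norm_add] at h5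
    obtain ⟨d, h6, h7⟩ := tm_long (r := ⟨_, h4⟩) (by omega) rfl
    rw [h7, List.mem_singleton] at hc
    rcases h6 with rfl | rfl <;> simp [hc, h.resolve_left (not_not.2 h4)]
  · rw [tm_one (by omega), tl_neg h4] at hc
    simp at hc

theorem cm_of_pos {a b : D.R} (h0 : 0 < a.1 ⬝ᵥ b.1) : X.Cm a b := by
  have h2 := a.2.norm
  have h3 := b.2.norm
  exact cm_of h0.le (Or.inl (not_root (by rw [norm_add]; omega)))

theorem cm_of_long {a b : D.R} (h0 : 0 ≤ a.1 ⬝ᵥ b.1) (h : a.1 ⬝ᵥ a.1 = 4) : X.Cm a b := by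
  have h3 := b.2.norm
  exact cm_of h0 (Or.inl (not_root (by rw [norm_add]; omega)))

theorem cm_of_two (H : D.k = 2 ∨ (2 : F) = 0) {a b : D.R} (h0 : 0 ≤ a.1 ⬝ᵥ b.1) : X.Cm a b := by
  refine cm_of h0 (H.imp_left fun hk h => ?_)
  have h2 := a.2.norm
  have h3 := b.2.norm
  have := h.2.2
  rw [norm_add] at this; omega

theorem pm_ne {c : ℤ} (h : c = 1 ∨ c = -1) : (c : F) ≠ 0 := by rcases h with rfl | rfl <;> simp

/-- lifts commute when a short root splits into commuting pieces -/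
theorem lc_dec {s r d : D.R} (hr : Sh r) (hd : Sh d) (h1 : d.1 ⬝ᵥ r.1 = 1) (c1 : X.Cm s d)
    (c2 : ∀ c : D.R, c.1 = r.1 - d.1 → X.Cm s c) : X.LC h s r := by
  have h2 := sub_root (a := d) (b := r) (by rw [cv_sh hd, h1])
  have h3 : d.1 ⬝ᵥ (r.1 - d.1) = -1 := by rw [dotProduct_sub, h1, hd]; rfl
  obtain ⟨c, h4, h5⟩ := tm_dec (b := ⟨_, h2⟩) (r := r) hd h3 (by simp)
  exact lc_of_dec (ne_of_dot (by rw [h3, hd]; decide)) (ne_neg_of_dot (by rw [h3, hd]; decide)) h5 (pm_ne h4) c1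
    (c2 _ rfl)

theorem lc_self {r d : D.R} (hr : Sh r) (hd : Sh d) (h1 : d.1 ⬝ᵥ r.1 = 1) : X.LC h r r :=
  lc_dec hr hd h1 (cm_of_pos (by rw [dotProduct_comm, h1]; decide)) fun c e =>
    cm_of_pos (by rw [e, dotProduct_sub, hr, dotProduct_comm, h1]; decide)

theorem lc_two (H : D.k = 2 ∨ (2 : F) = 0) {s r d : D.R} (hr : Sh r) (hd : Sh d) (h1 : d.1 ⬝ᵥ r.1 = 1)
    (h2 : d.1 ⬝ᵥ s.1 = 0) (h3 : 0 ≤ s.1 ⬝ᵥ r.1) : X.LC h s r :=
  lc_dec hr hd h1 (cm_of_two H (by rw [dotProduct_comm, h2])) fun c e =>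
    cm_of_two H (by rw [e, dotProduct_sub, dotProduct_comm s.1 d.1, h2]; omega)

end MR

end CfsgH8
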