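import Cfsg.Agent.H8.CRS1

/-! Lifting the Steinberg relations: short roots over the field with two elements, simply laced systems. -/

set_option autoImplicit false

namespace CfsgH8

open Matrix Finset CfsgH6 CfsgH6.PreSt
open scoped commutatorElement

namespace MR

variable {I M J : Type} [Fintype I] [DecidableEq I] [Fintype M] [DecidableEq M] [Fintype J] [DecidableEq J]
  (D : MR I M J) {F : Type*} [Field F]

/-- an orthogonal pair inside a subsystem `A₂ × A₁` -/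
def Gv (γ r : M → ℤ) : Prop := ∃ d : D.R, Sh d ∧ d.1 ⬝ᵥ γ = 1 ∧ d.1 ⬝ᵥ r = 0
/-- every short root lies in a subsystem `A₂` -/
def C0 : Prop := ∀ r : D.R, Sh r → ∃ a : D.R, Sh a ∧ a.1 ⬝ᵥ r.1 = 1
/-- orthogonal short roots are connected -/
def C1 : Prop := ∀ a b : D.R, Sh a → Sh b → a.1 ⬝ᵥ b.1 = 0 → ∃ d : D.R, Sh d ∧ d.1 ⬝ᵥ a.1 = 1 ∧ d.1 ⬝ᵥ b.1 = 1
/-- subsystems `A₂` extend to `A₃` -/
def C2 : Prop := ∀ a b : D.R, Sh a → Sh b → a.1 ⬝ᵥ b.1 = 1 → ∃ d : D.R, Sh d ∧ d.1 ⬝ᵥ a.1 = 0 ∧ d.1 ⬝ᵥ b.1 = 1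
/-- connectedness of the decompositions of a short root -/
def C3 (G : (M → ℤ) → (M → ℤ) → Prop) : Prop := ∀ r a a' : D.R, Sh r → Sh a → Sh a' → a.1 ⬝ᵥ r.1 = 1 → a'.1 ⬝ᵥ r.1 = 1 →
  a.1 ⬝ᵥ a'.1 = 1 → G (a.1 - a'.1) r.1 ∨ ∃ b : D.R, Sh b ∧ b.1 ⬝ᵥ r.1 = 1 ∧ (r.1 - a.1) ⬝ᵥ b.1 = 1 ∧ b.1 ⬝ᵥ a'.1 = 1 ∧
    G (r.1 - a.1 - b.1) r.1 ∧ G (b.1 - a'.1) r.1

variable {D} {Γ : Type*} [Group Γ] {X : PreSt D.cd F Γ} {E : Type*} [Group E] {π : E →* Γ} {h : CX π}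

theorem sh_neg {a : D.R} (h : Sh a) : Sh (D.cd.neg a) := (neg_dotProduct_neg _ _).trans h

theorem exists_sub {a b : D.R} (ha : Sh a) (hb : Sh b) (h : a.1 ⬝ᵥ b.1 = 1) : ∃ c : D.R, Sh c ∧ c.1 = b.1 - a.1 :=
  ⟨⟨_, sub_root (by rw [cv_sh ha, h])⟩, by
    change (b.1 - a.1) ⬝ᵥ (b.1 - a.1) = 2
    rw [norm_sub, ha, hb, dotProduct_comm, h]; rfl, rfl⟩

theorem exists_add {a b : D.R} (ha : Sh a) (hb : Sh b) (h : a.1 ⬝ᵥ b.1 = -1) : ∃ c : D.R, Sh c ∧ c.1 = a.1 + b.1 :=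
  ⟨⟨_, add_root (by rw [cv_sh ha, h])⟩, by
    change (a.1 + b.1) ⬝ᵥ (a.1 + b.1) = 2
    rw [norm_add, ha, hb, h]; rfl, rfl⟩

theorem dot_cases {a b : D.R} (ha : Sh a) (hb : Sh b) :
    b = a ∨ b = D.cd.neg a ∨ a.1 ⬝ᵥ b.1 = 1 ∨ a.1 ⬝ᵥ b.1 = 0 ∨ a.1 ⬝ᵥ b.1 = -1 := by
  by_cases h1 : b = a
  · exact Or.inl h1
  by_cases h2 : b = D.cd.neg a
  · exact Or.inr (Or.inl h2)
  have a1 := dot_self_pos (sub_ne_zero.2 fun e => h1 (Subtype.ext e))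
  have a2 := dot_self_pos (sub_ne_zero.2 fun e => h2 (Subtype.ext e))
  rw [neg_val, sub_neg_eq_add, norm_add] at a2
  rw [norm_sub] at a1
  rw [dotProduct_comm b.1 a.1] at a1 a2
  omega

theorem two_eq_zero (h2 : ∀ t : F, t = 0 ∨ t = 1) : (2 : F) = 0 :=
  (h2 2).resolve_right fun h => one_ne_zero (by linear_combination h : (1 : F) = 0)

theorem lc_one (H : D.k = 2 ∨ (2 : F) = 0) (c2 : D.C2) {a b : D.R} (ha : Sh a) (hb : Sh b) (h1 : a.1 ⬝ᵥ b.1 = 1) :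
    X.LC h a b := by
  obtain ⟨d, hd, h2, h3⟩ := c2 a b ha hb h1
  exact lc_two H hb hd h3 h2 (by omega)

theorem lc_gv (H : D.k = 2 ∨ (2 : F) = 0) {γ r : D.R} (hγ : Sh γ) (h0 : γ.1 ⬝ᵥ r.1 = 0) (hg : D.Gv γ.1 r.1) :
    X.LC h γ r ∧ X.LC h (D.cd.neg γ) r := by
  obtain ⟨d, hd, h1, h2⟩ := hg
  exact ⟨(lc_two H hγ hd h1 h2 (by rw [dotProduct_comm, h0])).symm,
    (lc_two H (sh_neg hγ) (sh_neg hd) (by simpa [neg_val] using h1) (by simpa [neg_val] using h2)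
      (by simp [neg_val, dotProduct_comm r.1, h0])).symm⟩

theorem conj_dec {α a a' : D.R} (hα : Sh α) (ha : Sh a) (h1 : α.1 ⬝ᵥ a.1 = 1) (e : a'.1 = a.1 - α.1)
    (h2 : ∀ t : F, t = 0 ∨ t = 1) : X.x α 1 * X.x a' 1 * (X.x α 1)⁻¹ = X.x a' 1 * X.x a 1 := by
  have h3 : α.1 ⬝ᵥ a'.1 = -1 := by rw [e, dotProduct_sub, h1, hα]; rfl
  obtain ⟨c, h4, h5⟩ := tm_dec (r := a) hα h3 (by simp [e])
  have := X.dec_of_tm (ne_of_dot (by rw [h3, hα]; decide)) (ne_neg_of_dot (by rw [h3, hα]; decide)) h5 1 (-1)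
  rw [commutatorElement_def, x_inv, neg_neg, ← x_inv, show -(c : F) * 1 * -1 = 1 by
    simpa using (h2 c).resolve_left (pm_ne h4)] at this
  rw [← this]; group

variable (hX : X.IsSt) (h2 : ∀ t : F, t = 0 ∨ t = 1) (c2 : D.C2)
include hX h2 c2

theorem gd_two (c0 : D.C0) {G : (M → ℤ) → (M → ℤ) → Prop} (c3 : D.C3 G)
    (hG : ∀ γ r : D.R, Sh γ → Sh r → γ.1 ⬝ᵥ r.1 = 0 → G γ.1 r.1 → X.LC h γ r ∧ X.LC h (D.cd.neg γ) r) {r : D.R} (hr : Sh r) :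
    X.Gd h (fun a b => Sh a ∧ Sh b) r := by
  have H := Or.inr (a := D.k = 2) (two_eq_zero h2)
  obtain ⟨a0, ha0, h1⟩ := c0 r hr
  obtain ⟨b0, hb0, e0⟩ := exists_sub ha0 hr h1
  have h3 : a0.1 ⬝ᵥ b0.1 = -1 := by rw [e0, dotProduct_sub, h1, ha0]; rfl
  have h4 : b0.1 ⬝ᵥ r.1 = 1 := by rw [e0, sub_dotProduct, h1, hr]; rfl
  obtain ⟨c, h5, h6⟩ := tm_dec (r := r) ha0 h3 (by simp [e0])
  obtain ⟨y, hy, hi⟩ := hX.exists_comm_lift (h := h) (fun t => (h2 t).imp_right Or.inl)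
    (ne_of_dot (by rw [h3, ha0]; decide)) (ne_neg_of_dot (by rw [h3, ha0]; decide)) h6 (pm_ne h5)
    (lc_one H c2 ha0 hr h1) (lc_one H c2 hb0 hr h4)
  let P : D.R → Prop := fun a => ∀ b, D.cd.rt r = D.cd.rt a + D.cd.rt b → X.InR h a b y
  have p0 : P b0 := fun b e => by
    rw [rt_add_iff, e0] at e
    rwa [show b = a0 from Subtype.ext (by linear_combination (exp := 1) -e)]
  have p1 : ∀ a b : D.R, b.1 = r.1 - a.1 → P a → P b := fun a b e H c e' => by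
    rw [rt_add_iff, e] at e'
    rw [show c = a from Subtype.ext (by linear_combination (exp := 1) -e')]
    exact (H b (rt_add_iff.2 (by simp [e]))).symm hy
  have p2 : ∀ a a' : D.R, Sh a → Sh a' → a.1 ⬝ᵥ r.1 = 1 → a'.1 ⬝ᵥ r.1 = 1 → a.1 ⬝ᵥ a'.1 = 1 → G (a.1 - a'.1) r.1 →
      P a → P a' := fun a a' ha ha' e1 e2 e3 g H => by
    obtain ⟨γ, hγ, e⟩ := exists_sub ha' ha (by rwa [dotProduct_comm])
    have e4 : γ.1 ⬝ᵥ r.1 = 0 := by rw [e, sub_dotProduct, e1, e2]; rfl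
    obtain ⟨l1, l2⟩ := hG γ r hγ hr e4 (e ▸ g)
    have := hX.inR_step hy (by rw [A_sh hγ, e4]) l1 l2 H
    rwa [show D.cd.refl γ a = a' from Subtype.ext (by
      rw [refl_val, WD.rf, cv_sh hγ, e, sub_dotProduct, ha, dotProduct_comm a'.1, e3]; simp)] at this
  have p3 : ∀ a a' : D.R, Sh a → Sh a' → a.1 ⬝ᵥ r.1 = 1 → a'.1 ⬝ᵥ r.1 = 1 → a.1 ⬝ᵥ a'.1 = 1 → P a → P a' :=
    fun a a' ha ha' e1 e2 e3 H => by
      rcases c3 r a a' hr ha ha' e1 e2 e3 with g | ⟨b, hb, e4, e5, e6, g1, g2⟩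
      · exact p2 a a' ha ha' e1 e2 e3 g H
      · obtain ⟨c, hc, e⟩ := exists_sub ha hr e1
        exact p2 b a' hb ha' e4 e2 e6 g2 (p2 c b hc hb (by rw [e, sub_dotProduct, e1, hr]; rfl) e4 (e ▸ e5) (e ▸ g1)
          (p1 a c e H))
  refine ⟨y, hy, fun a b ⟨ha, hb⟩ e => ?_⟩
  have e1 : a.1 ⬝ᵥ r.1 = 1 := by
    have e2 := rt_add_iff.1 e
    have := hr
    rw [Sh, e2, norm_add, ha, hb] at this
    rw [e2, dotProduct_add, ha]; omega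
  refine (?_ : P a) b e
  rcases dot_cases hb0 ha with rfl | rfl | e2 | e2 | e2
  · exact p0
  · rw [neg_val, neg_dotProduct, h4] at e1; omega
  · exact p3 b0 a hb0 ha h4 e1 e2 p0
  · refine p3 a0 a ha0 ha h1 e1 ?_ (p1 b0 a0 (by simp [e0]) p0)
    rw [e0, sub_dotProduct, dotProduct_comm r.1, e1] at e2; omega
  · refine p1 b0 a (eq_sub_of_add_eq (sub_eq_zero.1 (dotProduct_self_eq_zero.1 ?_))) p0
    rw [norm_sub, norm_add, add_dotProduct, ha, hb0, hr, e1, h4, dotProduct_comm, e2]; rfl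

theorem lc_zero (hy : ∀ r, Sh r → X.Gd h (fun a b => Sh a ∧ Sh b) r) {a b α : D.R} (ha : Sh a) (hb : Sh b)
    (h0 : a.1 ⬝ᵥ b.1 = 0) (hα : Sh α) (h1 : α.1 ⬝ᵥ a.1 = 1) (h1' : α.1 ⬝ᵥ b.1 = 1) : X.LC h a b := by
  have H := Or.inr (a := D.k = 2) (two_eq_zero h2)
  obtain ⟨a', ha', e1⟩ := exists_sub hα ha h1
  obtain ⟨b', hb', e2⟩ := exists_sub hα hb h1'
  obtain ⟨θ, hθ, e3⟩ := exists_add ha hb' (by rw [e2, dotProduct_sub, h0, dotProduct_comm, h1]; rfl)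
  obtain ⟨y, hy, hi⟩ := hy θ hθ
  have c1 : X.Cm a b := cm_of_two H h0.ge
  refine lc_of_one (fun t => (h2 t).imp_right Or.inl) c1 ?_
  obtain ⟨s, i1⟩ := hi a b' ⟨ha, hb'⟩ (rt_add_iff.2 e3) 1 1
  obtain ⟨s', i2⟩ := hi a' b ⟨ha', hb⟩ (rt_add_iff.2 (by rw [e3, e1, e2]; abel)) 1 1
  have k1 := dotProduct_comm a.1 α.1
  have k2 := dotProduct_comm b.1 α.1
  have k3 := dotProduct_comm b.1 a.1
  refine br_trick h hX.sep1 hy (c1 1 1) (cm_of_two H ?_ 1 1) (conj_dec hα ha h1 e1 h2) (conj_dec hα hb h1' e2 h2) i1 i2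
    (lc_one H c2 ha' hθ ?_ 1) (lc_one H c2 hb' hθ ?_ 1) <;>
    simp only [e1, e2, e3, dotProduct_sub, sub_dotProduct, dotProduct_add] <;> omega

theorem sys_two (hk : D.k = 2) (c0 : D.C0) (c1 : D.C1) (c3 : D.C3 D.Gv) (h : CX π) :
    ∃ Z : PreSt D.cd F E, ∀ r t, π (Z.x r t) = X.x r t := by
  have hs := sh_of_two hk
  have hy : ∀ r, Sh r → X.Gd h (fun a b => Sh a ∧ Sh b) r := fun r =>
    gd_two hX h2 c2 c0 c3 fun γ r hγ _ => lc_gv (Or.inl hk) hγ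
  refine exists_sys' hX h _ (fun r => hy r (hs r)) fun a b h3 h4 => Or.inr (Or.inr ?_)
  rcases dot_cases (hs a) (hs b) with e | e | e | e | e
  · exact absurd e h3
  · exact absurd e h4
  · exact Or.inl (lc_one (Or.inl hk) c2 (hs a) (hs b) e)
  · obtain ⟨d, hd, e1, e2⟩ := c1 a b (hs a) (hs b) e
    exact Or.inl (lc_zero hX h2 c2 hy (hs a) (hs b) e hd e1 e2)
  · obtain ⟨c, -, e1⟩ := exists_add (hs a) (hs b) e
    exact Or.inr ⟨⟨hs a, hs b⟩, c, rt_add_iff.2 e1⟩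

omit h2 c2

theorem sys_big (hG : X.G = ⊤) (hp : commutator Γ = ⊤) (hk : D.k = 2) (c0 : D.C0) (c1 : D.C1)
    (hv : ∃ v : F, v ≠ 0 ∧ v ≠ 1) (c2 : D.C2 ∨ ∃ v : F, v ≠ 0 ∧ v ^ 3 ≠ 1) (h : CX π) :
    ∃ Z : PreSt D.cd F E, ∀ r t, π (Z.x r t) = X.x r t := by
  have hs := sh_of_two hk
  obtain ⟨v, h0, h1⟩ := hv
  refine exists_sys' hX h (fun _ _ => False) (fun r => ?_) fun a b h3 h4 => ?_
  · obtain ⟨a, ha, e⟩ := c0 r (hs r)
    exact hX.gd_of_isL (hX.exists_isL hG hp (γ := a) h0 (by rwa [A_sh ha, e, zpow_one]) (lc_self (h := h) (hs r) ha e))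
  have k1 := dotProduct_comm b.1 a.1
  rcases dot_cases (hs a) (hs b) with e | e | e | e | e
  · exact absurd e h3
  · exact absurd e h4
  · rcases c2 with c2 | ⟨w, w0, w1⟩
    · obtain ⟨d, hd, e1, e2⟩ := c2 a b (hs a) (hs b) e
      exact Or.inl (KH.of d h0 (by rw [A_sh hd, e1, zpow_zero]) (by rwa [A_sh hd, e2, zpow_one]))
    · refine Or.inl ⟨a, b, w⁻¹, w ^ 2, inv_ne_zero w0, pow_ne_zero _ w0, ?_, ?_⟩ <;>
        simp only [A_sh (hs _), hs a, hs b, k1, e, zpow_one, zpow_ofNat]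
      · field_simp
      · intro h; apply w1; field_simp at h; exact h
  · rcases field_cases F with h2 | ⟨h5, h6, -⟩ | ⟨w, w0, w1⟩
    · exact absurd (h2 v) (by simp [h0, h1])
    · obtain ⟨γ, hγ, e1, e2⟩ := c1 a (D.cd.neg b) (hs a) (hs _) (by rw [neg_val, dotProduct_neg, e]; rfl)
      rw [neg_val, dotProduct_neg] at e2
      obtain ⟨c, hc, e3⟩ := exists_sub hγ (hs a) e1
      obtain ⟨δ, hδ, e4⟩ := exists_sub (hs b) hc (by rw [e3, dotProduct_sub, dotProduct_comm b.1 γ.1]; omega)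
      have k2 := dotProduct_comm a.1 γ.1
      have k3 := dotProduct_comm b.1 γ.1
      have k4 : γ.1 ⬝ᵥ δ.1 = 0 := by simp only [e4, e3, dotProduct_sub]; omega
      have k5 : δ.1 ⬝ᵥ a.1 = 1 := by have := hs a; simp only [e4, e3, sub_dotProduct]; omega
      have k6 : δ.1 ⬝ᵥ b.1 = -1 := by have := hs b; simp only [e4, e3, sub_dotProduct]; omega
      refine Or.inr (Or.inr (Or.inl (hX.lc_swap2 h5 h6 (cm_of_two (Or.inl hk) e.ge) (γ := γ) (δ := δ) (Subtype.ext ?_)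
        (Subtype.ext ?_) (by rw [A_sh hγ, A_sh hδ, e1, k5]; decide) (cm_of_two (Or.inl hk) k4.ge)
        (cm_of_two (Or.inl hk) (by simp [neg_val, k4])) (cm_of_two (Or.inl hk) (by simp [neg_val, k4]))
        (cm_of_two (Or.inl hk) (by simp [neg_val, k4])))))
      · rw [refl_val, refl_val, WD.rf, WD.rf, cv_sh hγ, cv_sh hδ, k5, one_smul, dotProduct_sub, k4, e1, e4, e3]; simp; abel
      · rw [refl_val, refl_val, WD.rf, WD.rf, cv_sh hγ, cv_sh hδ, k6, neg_one_smul, sub_neg_eq_add, dotProduct_add, k4,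
          neg_eq_iff_eq_neg.1 e2, e4, e3]; simp
    · exact Or.inl (KH.of b w0 (by rw [A_sh (hs b), k1, e, zpow_zero]) (by rwa [A_sh (hs b), hs b, zpow_ofNat]))
  · rcases c2 with c2 | ⟨w, w0, w1⟩
    · obtain ⟨d, hd, e1, e2⟩ := c2 a (D.cd.neg b) (hs a) (hs _) (by rw [neg_val, dotProduct_neg, e]; rfl)
      rw [neg_val, dotProduct_neg, neg_eq_iff_eq_neg] at e2
      exact Or.inl (KH.of d h0 (by rw [A_sh hd, e1, zpow_zero]) (by simpa [A_sh hd, e2] using h1))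
    · refine Or.inl ⟨a, b, w, w ^ 2, w0, pow_ne_zero _ w0, ?_, ?_⟩ <;>
        simp only [A_sh (hs _), hs a, hs b, k1, e, _root_.zpow_neg, zpow_one, zpow_ofNat]
      · field_simp
      · intro h; apply w1; field_simp at h; exact h

end MR

end CfsgH8
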