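import Cfsg.Agent.H8.CRS2
import Cfsg.Agent.H8.CRB
import Cfsg.Agent.H1.Schur4
import Cfsg.Agent.S0261
import Cfsg.Agent.S0262

/-! Schur multipliers of the special linear groups. -/

set_option autoImplicit false

namespace CfsgH8

open Matrix Finset CfsgH6 CfsgH6.PreSt CfsgH1 Cfsg Polynomial
open scoped MatrixGroups commutatorElement IsMulCommutative

theorem SM_of_sub {G : Type*} [Group G] [Finite G]
    (H : ∀ r : ℕ, r.Prime → ∀ m : SM G, ∃ U : Subgroup G, ¬ r ∣ U.index ∧ res U m = 1) : Subsingleton (SM G) :=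
  subsingleton_of_forall_eq 1 fun m => by
    rw [← orderOf_eq_one_iff]
    by_contra h
    obtain ⟨r, hr, h1⟩ := Nat.exists_prime_and_dvd h
    obtain ⟨U, h2, h3⟩ := H r hr m
    exact h2 (h1.trans (orderOf_dvd_of_pow_eq_one (by rw [← cor_res, h3, map_one])))

theorem SM_quat (k : ℕ) : Subsingleton (SM (QuaternionGroup (2 ^ k))) := by
  have h0 : 1 ≤ 2 ^ k := Nat.one_le_two_pow
  have := (meta_card_dvd (a := QuaternionGroup.a 1) (b := QuaternionGroup.xa (0 : ZMod (2 * 2 ^ k))) (n := 2)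
    (r := 2 * 2 ^ k - 1) (t := 2 ^ k) (g := 1) (by
      rw [mul_inv_eq_iff_eq_mul, QuaternionGroup.a_one_pow, Nat.cast_sub (by omega)]; simp)
    (by rw [QuaternionGroup.xa_sq, QuaternionGroup.a_one_pow]) (top_unique fun x _ => by
      have h1 : ∀ i, QuaternionGroup.a i ∈ Subgroup.closure {QuaternionGroup.a 1,
          QuaternionGroup.xa (0 : ZMod (2 * 2 ^ k))} := fun i => by
        rw [← ZMod.natCast_zmod_val i, ← QuaternionGroup.a_one_pow]
        exact pow_mem (Subgroup.subset_closure (by simp)) _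
      rcases x with i | i
      · exact h1 i
      · simpa using mul_mem (Subgroup.subset_closure (k := {QuaternionGroup.a 1,
          QuaternionGroup.xa (0 : ZMod (2 * 2 ^ k))}) (Or.inr rfl)) (h1 i)) (by omega) (by
      rw [QuaternionGroup.orderOf_a_one, show 2 * 2 ^ k - 1 - 1 = 2 * 2 ^ k - 2 by omega,
        Nat.gcd_self_sub_right (by omega), sum_range_succ, sum_range_one, pow_zero, pow_one,
        show 1 + (2 * 2 ^ k - 1) = 2 * 2 ^ k by omega]
      simp)).2
  exact (Nat.card_eq_one_iff_unique.1 (Nat.dvd_one.1 this)).1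

theorem exists_nonroot {F : Type*} [Field F] [Fintype F] (P : F[X]) (h0 : P ≠ 0) (h : P.natDegree < Fintype.card F) :
    ∃ a, P.eval a ≠ 0 := by
  by_contra h'
  push Not at h'
  exact h0 (eq_zero_of_natDegree_lt_card_of_eval_eq_zero P Function.injective_id h' h)

theorem form_triv {F A : Type*} [Field F] [Fintype F] [CommGroup A] (β : F → F → A)
    (h1 : ∀ t t' u, β (t + t') u = β t u * β t' u) (h2 : ∀ t u u', β t (u + u') = β t u * β t u')
    (h3 : ∀ a t u, a ≠ 0 → β (a ^ 2 * t) (a ^ 2 * u) = β t u)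
    (hq : 9 < Fintype.card F ∨ (2 : F) = 0 ∧ 6 < Fintype.card F) (t u : F) : β t u = 1 := by
  have h4 : ∀ a t u, a ≠ 0 → β (a ^ 2 * t) u = β t (a⁻¹ ^ 2 * u) := fun a t u h => by
    rw [← h3 a t _ h]; congr 1; field_simp
  have h5 : ∀ d e, d ≠ e → (∀ u, β t (d * u) = β t (e * u)) → β t u = 1 := fun d e h H => by
    have := H (u / (d - e))
    rwa [show d * (u / (d - e)) = u + e * (u / (d - e)) by have := sub_ne_zero.2 h; field_simp; ring, h2,
      mul_eq_right] at this
  by_cases hc : (2 : F) = 0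
  · obtain ⟨a, ha⟩ := exists_nonroot (F := F) (X * (X + 1) * (X ^ 4 + X ^ 2 + 1)) (Monic.ne_zero (by monicity!))
      (lt_of_le_of_lt (b := 6) (by compute_degree) (by omega))
    simp only [eval_mul, eval_add, eval_pow, eval_X, eval_one, mul_ne_zero_iff] at ha
    obtain ⟨⟨a0, a1⟩, a2⟩ := ha
    refine h5 ((a + 1)⁻¹ ^ 2) (a⁻¹ ^ 2 + 1) (fun e => a2 ?_) fun u => ?_
    · field_simp at e
      linear_combination -e - (a ^ 3 + a) * hc
    · rw [← h4 _ _ _ a1, add_mul, h2, ← h4 _ _ _ a0, one_mul, ← h1]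
      congr 1; linear_combination a * t * hc
  · obtain ⟨a, ha⟩ := exists_nonroot (F := F) (X * (X + 1) * (X - 1) * ((X ^ 2 + 1) * (X ^ 4 - 3 * X ^ 2 + 1)))
      (Monic.ne_zero (by monicity!)) (lt_of_le_of_lt (b := 9) (by compute_degree) (by tauto))
    simp only [eval_mul, eval_add, eval_sub, eval_pow, eval_X, eval_one, eval_ofNat] at ha
    rw [mul_ne_zero_iff, mul_ne_zero_iff, mul_ne_zero_iff] at ha
    obtain ⟨⟨⟨a0, a1⟩, a2⟩, a3⟩ := ha
    refine h5 ((a + 1)⁻¹ ^ 2 + (a - 1)⁻¹ ^ 2) (a⁻¹ ^ 2 + a⁻¹ ^ 2 + 1 + 1) (fun e => a3 (mul_left_cancel₀ hc ?_)) fun u => ?_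
    · field_simp at e
      linear_combination -e
    · simp only [add_mul, h2, one_mul]
      rw [← h4 _ _ _ a1, ← h4 _ _ _ a2, ← h4 _ _ _ a0, ← h1, ← h1, ← h1, ← h1]
      congr 1; ring

variable {F : Type*} [Field F]

/-- upper unitriangular matrices -/
def uHom (F : Type*) [Field F] : Multiplicative F →* SL(2, F) :=
  MonoidHom.mk' (fun t => SpecialLinearGroup.transvection (zero_ne_one' (Fin 2)) t.toAdd) fun _ _ =>
    SpecialLinearGroup.transvection_add _ _ _

theorem uHom_inj : Function.Injective (uHom F) := fun t u h => by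
  simpa [uHom, SpecialLinearGroup.transvection_coe, transvection] using congrArg (fun g : SL(2, F) => g.1 0 1) h

theorem diag_conj_u {a : F} (ha : a ≠ 0) (t : F) : SpecialLinearGroup.diag2 a ha * uHom F (.ofAdd t) *
    (SpecialLinearGroup.diag2 a ha)⁻¹ = uHom F (.ofAdd (a ^ 2 * t)) := by
  rw [mul_inv_eq_iff_eq_mul]
  ext i j
  fin_cases i <;> fin_cases j <;>
    simp [uHom, SpecialLinearGroup.transvection_coe, transvection, SpecialLinearGroup.diag2_coe', mul_apply, Fin.sum_univ_two]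
  field_simp

theorem lift_u [Fintype F] {E : Type*} [Group E] {π : E →* SL(2, F)} (h : CX π)
    (hq : 9 < Fintype.card F ∨ (2 : F) = 0 ∧ 6 < Fintype.card F) :
    ∃ s : Multiplicative F →* E, ∀ x, π (s x) = uHom F x := by
  have hc : ∀ t u, Commute (uHom F t) (uHom F u) := fun t u => (Commute.all t u).map _
  have h1 : ∀ t u, h.br (uHom F t) (uHom F u) = 1 := fun t u => congrArg Subtype.val (form_triv (A := Subgroup.center E)
    (fun t u => ⟨h.br (uHom F (.ofAdd t)) (uHom F (.ofAdd u)), h.cent (h.br_ker (hc _ _))⟩)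
    (fun t t' u => Subtype.ext (by simp only [ofAdd_add, map_mul]; exact h.br_mul_left' _ (hc _ _)))
    (fun t u u' => Subtype.ext (by simp only [ofAdd_add, map_mul]; exact h.br_mul_right' _ (hc _ _)))
    (fun a t u ha => Subtype.ext (by simp only [← diag_conj_u ha]; exact h.br_conj' (hc _ _) _)) hq t.toAdd u.toAdd)
  obtain ⟨v, hv⟩ := exists_nonroot (F := F) (X * (X ^ 2 - 1)) (Monic.ne_zero (by monicity!))
    (lt_of_le_of_lt (b := 3) (by compute_degree) (by omega))
  simp only [eval_mul, eval_sub, eval_pow, eval_X, eval_one, mul_ne_zero_iff] at hv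
  have e : ∀ t : F, π (h.br (SpecialLinearGroup.diag2 v hv.1) (uHom F (.ofAdd (t / (v ^ 2 - 1))))) = uHom F (.ofAdd t) :=
    fun t => by
      rw [h.π_br, commutatorElement_def, diag_conj_u, ← map_inv, ← map_mul, ← ofAdd_neg, ← ofAdd_add]
      congr 2; have := hv.2; field_simp; ring
  refine ⟨MonoidHom.mk' (fun t => h.br (SpecialLinearGroup.diag2 v hv.1) (uHom F (.ofAdd (t.toAdd / (v ^ 2 - 1)))))
    fun t u => ?_, fun t => e _⟩
  rw [toAdd_mul, add_div, ofAdd_add, map_mul, h.br_mul_right _ _ (h.π_s _), (h.commute_iff (h.π_s _) (e _)).1 (h1 _ _),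
    mul_inv_cancel_right]

theorem SM_SL2 [Fintype F] (h4 : Fintype.card F ≠ 4) (h9 : Fintype.card F ≠ 9) : Subsingleton (SM SL(2, F)) := by
  classical
  obtain ⟨p, hp⟩ := CharP.exists F
  have := Fact.mk (CharP.char_is_prime F p)
  refine SM_of_sub fun r hr m => ?_
  have := Fact.mk hr
  by_cases h1 : r = p
  · subst h1
    have h2 : Nat.card (uHom F).range = Fintype.card F := by
      rw [← Nat.card_congr (MonoidHom.ofInjective uHom_inj).toEquiv]; simp
    obtain ⟨k, h0, hk⟩ := card_pow r F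
    refine ⟨(uHom F).range, fun h => ?_, ?_⟩
    · have h3 := (uHom F).range.card_mul_index
      have h5 := mul_dvd_mul_left (Nat.card (uHom F).range) h
      rw [h3, h2, ← fact_SL2 r, ← pow_succ, hr.pow_dvd_iff_le_factorization Nat.card_pos.ne'] at h5
      omega
    by_cases h3 : k = 1
    · have := isCyclic_of_prime_card (p := r) (h2.trans (by rw [hk, h3, pow_one]))
      have := SM_cyclic (uHom F).range
      exact Subsingleton.elim _ _
    obtain ⟨f, rfl⟩ := cls_surj m
    obtain ⟨s, hs⟩ := lift_u (π := Ext.σ f) ⟨(Ext.ce f).surj, (Ext.ce f).ker_le⟩ (by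
      obtain ⟨k, rfl⟩ : ∃ j, k = j + 2 := ⟨k - 2, by omega⟩
      by_cases h5 : r = 2
      · subst h5
        refine Or.inr ⟨CharP.cast_eq_zero F 2, ?_⟩
        rcases k with _ | k
        · exact absurd hk h4
        · have := Nat.one_le_two_pow (n := k)
          rw [hk, pow_succ, pow_succ, pow_succ]; omega
      · have h6 : 3 ≤ r := by have := hr.two_le; omega
        have h7 : 3 ^ (k + 2) ≤ r ^ (k + 2) := Nat.pow_le_pow_left h6 _
        have h8 : 1 ≤ 3 ^ k := Nat.one_le_pow _ _ (by omega)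
        rw [pow_succ, pow_succ] at h7
        left; omega)
    rw [← Ext.cl]
    refine ((Ext.ce f).lift_triv _).2 ⟨s.comp (MonoidHom.ofInjective uHom_inj).symm.toMonoidHom, fun x => ?_⟩
    exact (hs _).trans (MonoidHom.apply_ofInjective_symm _ _)
  · obtain ⟨P⟩ : Nonempty (Sylow r SL(2, F)) := inferInstance
    refine ⟨P, P.not_dvd_index, ?_⟩
    by_cases h2 : r = 2
    · subst h2
      obtain ⟨k, h0, hk⟩ := card_pow p F
      obtain ⟨k, -, ⟨e⟩⟩ := Cfsg.Agent.S0261.result (F := F)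
        (hk ▸ ((CharP.char_is_prime F p).odd_of_ne_two (Ne.symm h1)).pow) P
      have := SM_quat k
      exact (hEquiv e ℂˣ).injective (Subsingleton.elim _ _)
    · have := Cfsg.Agent.S0262.result p r h2 h1 P
      have := SM_cyclic P
      exact Subsingleton.elim _ _

section A

variable {l : ℕ} {hl : 2 ≤ l}

theorem c0_A : (mrA l hl).C0 := fun r _ => by
  obtain ⟨a, b, h, rfl⟩ := exists_rA r
  obtain ⟨c, hc⟩ := exists_third {a, b} (card_le_two.trans_lt (by simp; omega))
  simp only [mem_insert, mem_singleton, not_or] at hc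
  exact ⟨rA hl (Ne.symm hc.1), MR.sh_of_two rfl _, by simp [h, h.symm, hc.2, Ne.symm hc.1, Pi.single_apply]⟩

theorem c1_A : (mrA l hl).C1 := fun r s _ _ e => by
  obtain ⟨a, b, h, rfl⟩ := exists_rA r
  obtain ⟨c, d, h', rfl⟩ := exists_rA s
  simp only [rA_val, sub_dotProduct, dotProduct_sub, ev_dot] at e
  have h1 : a ≠ d := by grind
  have h2 : a ≠ c := by grind
  have h3 : b ≠ d := by grind
  exact ⟨rA hl h1, MR.sh_of_two rfl _, by simp [Pi.single_apply, h, h.symm, h1, h1.symm, h3],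
    by simp [Pi.single_apply, h', h'.symm, h1, h1.symm, h2.symm]⟩

theorem c2_A (h3 : 3 ≤ l) : (mrA l hl).C2 := fun r s _ _ e => by
  obtain ⟨a, b, h, rfl⟩ := exists_rA r
  obtain ⟨c, d, h', rfl⟩ := exists_rA s
  simp only [rA_val, sub_dotProduct, dotProduct_sub, ev_dot] at e
  by_cases h1 : a = c
  · subst h1
    obtain ⟨m, hm⟩ := exists_third {a, b, d} (card_le_three.trans_lt (by simp; omega))
    simp only [mem_insert, mem_singleton, not_or] at hm
    have h2 : b ≠ d := by rintro rfl; simp [h, h.symm] at e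
    exact ⟨rA hl hm.2.2, MR.sh_of_two rfl _, by simp [Pi.single_apply, h', h2, Ne.symm hm.1, Ne.symm hm.2.1],
      by simp [Pi.single_apply, h', Ne.symm hm.1, Ne.symm hm.2.2]⟩
  · obtain rfl : b = d := by grind
    obtain ⟨m, hm⟩ := exists_third {a, b, c} (card_le_three.trans_lt (by simp; omega))
    simp only [mem_insert, mem_singleton, not_or] at hm
    exact ⟨rA hl (Ne.symm hm.2.2), MR.sh_of_two rfl _, by simp [Pi.single_apply, h'.symm, h1, Ne.symm hm.1, Ne.symm hm.2.1],
      by simp [Pi.single_apply, h'.symm, Ne.symm hm.2.1, Ne.symm hm.2.2]⟩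

theorem c3_A (h4 : 4 ≤ l) : (mrA l hl).C3 (mrA l hl).Gv := fun r s s' _ _ _ e1 e2 e3 => by
  obtain ⟨a, b, h, rfl⟩ := exists_rA r
  obtain ⟨c, d, h', rfl⟩ := exists_rA s
  obtain ⟨c', d', h'', rfl⟩ := exists_rA s'
  simp only [rA_val, sub_dotProduct, dotProduct_sub, ev_dot] at e1 e2 e3
  left
  by_cases h1 : c = a
  · subst h1
    have h2 : d ≠ b := by rintro rfl; simp [h, h.symm] at e1
    obtain rfl : c' = c := by grind
    have h3 : d' ≠ b := by rintro rfl; simp [h, h.symm] at e2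
    have h5 : d ≠ d' := by rintro rfl; simp [h', h'.symm] at e3
    obtain ⟨m, hm⟩ := exists_third {c', b, d, d'} (card_le_four.trans_lt (by simp; omega))
    simp only [mem_insert, mem_singleton, not_or] at hm
    exact ⟨rA hl (Ne.symm hm.2.2.2), MR.sh_of_two rfl _,
      by simp [Pi.single_apply, h5, h'', Ne.symm hm.2.2.1, Ne.symm hm.2.2.2],
      by simp [Pi.single_apply, h'', h3.symm, Ne.symm hm.1, Ne.symm hm.2.1]⟩
  · obtain rfl : d = b := by grind
    obtain rfl : d' = d := by grind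
    have h3 : c' ≠ a := by rintro rfl; simp [h, h.symm] at e2
    have h5 : c ≠ c' := by rintro rfl; simp [h', h'.symm] at e3
    obtain ⟨m, hm⟩ := exists_third {a, d', c, c'} (card_le_four.trans_lt (by simp; omega))
    simp only [mem_insert, mem_singleton, not_or] at hm
    exact ⟨rA hl (Ne.symm hm.2.2.1), MR.sh_of_two rfl _,
      by simp [Pi.single_apply, h5.symm, Ne.symm hm.2.2.1, Ne.symm hm.2.2.2],
      by simp [Pi.single_apply, h'.symm, Ne.symm h1, Ne.symm hm.1, Ne.symm hm.2.1]⟩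

end A

theorem exists_ne_one [Fintype F] (h : Fintype.card F ≠ 2) : ∃ v : F, v ≠ 0 ∧ v ≠ 1 := by
  obtain ⟨v, hv⟩ := exists_nonroot (F := F) (X * (X - 1)) (Monic.ne_zero (by monicity!))
    (lt_of_le_of_lt (b := 2) (by compute_degree) (by have := Fintype.one_lt_card (α := F); omega))
  exact ⟨v, by simpa [sub_eq_zero] using hv⟩

theorem two_cases [Fintype F] (h : Fintype.card F = 2) (t : F) : t = 0 ∨ t = 1 := by
  classical
  have : ({0, 1} : Finset F) = univ := eq_univ_of_card _ (by rw [h, card_pair zero_ne_one])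
  simpa using this.ge (mem_univ t)

theorem exists_cube [Fintype F] (h2 : Fintype.card F ≠ 2) (h4 : Fintype.card F ≠ 4) : ∃ v : F, v ≠ 0 ∧ v ^ 3 ≠ 1 := by
  by_cases h3 : Fintype.card F = 3
  · obtain ⟨v, h0, h1⟩ := exists_ne_one h2
    exact ⟨v, h0, by rwa [← h3, FiniteField.pow_card]⟩
  obtain ⟨v, hv⟩ := exists_nonroot (F := F) (X * (X ^ 3 - 1)) (Monic.ne_zero (by monicity!))
    (lt_of_le_of_lt (b := 4) (by compute_degree) (by have := Fintype.one_lt_card (α := F); omega))
  exact ⟨v, by simpa [sub_eq_zero] using hv⟩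

theorem SM_SL [Fintype F] {n : ℕ} (hn : 2 ≤ n) (h2 : n ≠ 2 → Fintype.card F = 2 → 5 ≤ n)
    (h4 : Fintype.card F = 4 → 4 ≤ n) (h9 : Fintype.card F = 9 → 3 ≤ n) : Subsingleton (SM SL(n, F)) := by
  obtain rfl | h3 := hn.eq_or_lt
  · exact SM_SL2 (by omega) (by omega)
  obtain ⟨l, rfl⟩ : ∃ l, n = l + 1 := ⟨n - 1, by omega⟩
  have hl : 2 ≤ l := by omega
  refine SM_of_sys (isSt_A hl F) (hh_inj_A hl F) (preA_G hl F) fun f hf => ?_
  by_cases h5 : Fintype.card F = 2
  · have := h2 (by omega) h5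
    exact MR.sys_two (isSt_A hl F) (two_cases h5) (c2_A (by omega)) rfl c0_A c1_A (c3_A (by omega)) hf
  · refine MR.sys_big (isSt_A hl F) (preA_G hl F) (CfsgH5.commutator_SL (Or.inl (by simp; omega))) rfl c0_A c1_A
      (exists_ne_one h5) ?_ hf
    by_cases h6 : Fintype.card F = 4
    · exact Or.inl (c2_A (by omega))
    · exact Or.inr (exists_cube h5 h6)

end CfsgH8
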