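import Cfsg.Agent.H8.CRS3
import Cfsg.Agent.H8.CRC2

/-! Combinatorics of the root systems of types `C` and `D`. -/

set_option autoImplicit false

namespace CfsgH8

open Matrix Finset CfsgH6 CfsgH6.PreSt MR

theorem wb_ne' {n : Type} [DecidableEq n] [Fintype n] {a b : n ⊕ n} (h : ix a ≠ ix b) : wb b ⬝ᵥ wb a = 0 := wb_ne h.symm

theorem fresh {l : ℕ} (L : List (Fin (l + 1) ⊕ Fin (l + 1))) (h : L.length ≤ l) :
    ∃ v : Fin (l + 1) ⊕ Fin (l + 1), ∀ a ∈ L, ix v ≠ ix a := by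
  obtain ⟨c, hc⟩ := exists_third (L.map ix).toFinset ((List.toFinset_card_le _).trans_lt (by simp; omega))
  exact ⟨.inl c, fun a ha e => hc (List.mem_toFinset.2 (List.mem_map.2 ⟨a, ha, e.symm⟩))⟩

/-- short roots with disjoint supports -/
def Dj {n : Type} [DecidableEq n] (γ r : n → ℤ) : Prop := ∃ z u x y, γ = wb z + wb u ∧ r = wb x + wb y ∧
  ix z ≠ ix u ∧ ix x ≠ ix y ∧ ix z ≠ ix x ∧ ix z ≠ ix y ∧ ix u ≠ ix x ∧ ix u ≠ ix y

namespace BD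

variable {l : ℕ} {B : BD l}

variable (B) in
/-- short roots -/
def sh {a b : Fin (l + 1) ⊕ Fin (l + 1)} (h : ix a ≠ ix b) : B.mr.R :=
  ⟨wb a + wb b, ⟨a, b.swap, by simp [BD.mr]⟩, fun e => by simpa [wb_ne h] using congrArg (wb a ⬝ᵥ ·) e,
    (B.le_iff a b).2 (Or.inr fun e => h (e ▸ rfl))⟩

/-- long roots -/
def lg (hk : B.k = 4) (a : Fin (l + 1) ⊕ Fin (l + 1)) : B.mr.R :=
  ⟨wb a + wb a, ⟨a, a.swap, by simp [BD.mr]⟩, fun e => by simpa using congrArg (wb a ⬝ᵥ ·) e,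
    (B.le_iff a a).2 (Or.inl hk)⟩

@[simp] theorem sh_val {a b : Fin (l + 1) ⊕ Fin (l + 1)} (h : ix a ≠ ix b) : (B.sh h).1 = wb a + wb b := rfl
@[simp] theorem lg_val (hk : B.k = 4) (a : Fin (l + 1) ⊕ Fin (l + 1)) : (lg hk a).1 = wb a + wb a := rfl

theorem sh_sh {a b : Fin (l + 1) ⊕ Fin (l + 1)} (h : ix a ≠ ix b) : Sh (B.sh h) := by simp [Sh, wb_ne h, wb_ne' h]

theorem lg_norm (hk : B.k = 4) (a : Fin (l + 1) ⊕ Fin (l + 1)) : (lg hk a).1 ⬝ᵥ (lg hk a).1 = 4 := by simp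

theorem A_lg (hk : B.k = 4) (a : Fin (l + 1) ⊕ Fin (l + 1)) (s : B.mr.R) : B.mr.cd.A (lg hk a) s = wb a ⬝ᵥ s.1 := by
  have := (lg hk a).2.norm_mul s.1
  rw [lg_norm, lg_val, add_dotProduct] at this
  exact (B.mr.rs_A _ _).trans (by rw [lg_val]; omega)

theorem cases (r : B.mr.R) : (∃ a b, ∃ h : ix a ≠ ix b, r = B.sh h) ∨ ∃ hk a, r = lg hk a := by
  obtain ⟨a, b, h, h', rfl⟩ := B.exists_rt' r
  by_cases h1 : a = b.swap
  · exact Or.inr ⟨by tauto, a, Subtype.ext (by simp [rt', h1, sub_eq_add_neg])⟩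
  · exact Or.inl ⟨a, b.swap, fun e => by rcases ix_eq (e.trans (ix_swap b)) <;> contradiction,
      Subtype.ext (by simp [rt', sub_eq_add_neg])⟩

theorem sh_cases {r : B.mr.R} (h : Sh r) : ∃ a b, ix a ≠ ix b ∧ r.1 = wb a + wb b := by
  rcases cases r with ⟨a, b, h', rfl⟩ | ⟨hk, a, rfl⟩
  · exact ⟨a, b, h', rfl⟩
  · simp [Sh] at h

theorem pair_cases {a b : B.mr.R} (ha : Sh a) (hb : Sh b) : Dj a.1 b.1 ∨ ∃ x y z, ix x ≠ ix y ∧ ix x ≠ ix z ∧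
    a.1 = wb x + wb y ∧ (b.1 = wb x + wb z ∨ (b.1 = -wb x + wb z ∧ z ≠ y)) := by
  obtain ⟨x, y, h1, e1⟩ := sh_cases ha
  obtain ⟨z, w, h2, e2⟩ := sh_cases hb
  have key : ∀ x y z w, ix x ≠ ix y → ix z ≠ ix w → a.1 = wb x + wb y → b.1 = wb z + wb w → ix x = ix z →
      ∃ x y z, ix x ≠ ix y ∧ ix x ≠ ix z ∧ a.1 = wb x + wb y ∧
        (b.1 = wb x + wb z ∨ (b.1 = -wb x + wb z ∧ z ≠ y)) := fun x y z w h1 h2 e1 e2 h => by
    rcases ix_eq h.symm with rfl | rfl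
    · exact ⟨z, y, w, h1, h2, e1, Or.inl e2⟩
    by_cases h3 : w = y
    · exact ⟨y, x, x.swap, h1.symm, by simpa using h1.symm, e1.trans (add_comm _ _), Or.inl (by rw [e2, h3]; exact add_comm _ _)⟩
    · exact ⟨x, y, w, h1, by simpa using h2, e1, Or.inr ⟨by simpa using e2, h3⟩⟩
  by_cases a1 : ix x = ix z
  · exact Or.inr (key x y z w h1 h2 e1 e2 a1)
  by_cases a2 : ix x = ix w
  · exact Or.inr (key x y w z h1 h2.symm e1 (e2.trans (add_comm _ _)) a2)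
  by_cases a3 : ix y = ix z
  · exact Or.inr (key y x z w h1.symm h2 (e1.trans (add_comm _ _)) e2 a3)
  by_cases a4 : ix y = ix w
  · exact Or.inr (key y x w z h1.symm h2.symm (e1.trans (add_comm _ _)) (e2.trans (add_comm _ _)) a4)
  exact Or.inl ⟨x, y, z, w, e1, e2, h1, h2, a1, a2, a3, a4⟩

theorem Dj_dot {γ r : Fin (l + 1) → ℤ} (h : Dj γ r) : γ ⬝ᵥ r = 0 := by
  obtain ⟨z, u, x, y, rfl, rfl, -, -, h1, h2, h3, h4⟩ := h
  simp [wb_ne h1, wb_ne h2, wb_ne h3, wb_ne h4]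

theorem dot_one {a b : B.mr.R} (ha : Sh a) (hb : Sh b) (h : a.1 ⬝ᵥ b.1 = 1) : ∃ x y z, ix x ≠ ix y ∧ ix x ≠ ix z ∧
    ix y ≠ ix z ∧ a.1 = wb x + wb y ∧ b.1 = wb x + wb z := by
  rcases pair_cases ha hb with h1 | ⟨x, y, z, h1, h2, e1, e2 | ⟨e2, h3⟩⟩
  · rw [Dj_dot h1] at h; omega
  all_goals simp [e1, e2, wb_ne h2, wb_ne' h1] at h
  · rcases wb_cases y z with h' | h' | h' <;> first | omega | exact ⟨x, y, z, h1, h2, h'.1, e1, e2⟩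
  · rcases wb_cases y z with h' | h' | h' <;> omega

theorem dot_zero {a b : B.mr.R} (ha : Sh a) (hb : Sh b) (h : a.1 ⬝ᵥ b.1 = 0) : Dj a.1 b.1 ∨
    ∃ x y, ix x ≠ ix y ∧ a.1 = wb x + wb y ∧ b.1 = wb x + wb y.swap := by
  rcases pair_cases ha hb with h1 | ⟨x, y, z, h1, h2, e1, e2 | ⟨e2, h3⟩⟩
  · exact Or.inl h1
  all_goals simp [e1, e2, wb_ne h2, wb_ne' h1] at h
  · rcases wb_cases z y with h' | h' | h' <;> rw [dotProduct_comm] at h' <;>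
      first | omega | exact Or.inr ⟨x, y, h1, e1, h'.1 ▸ e2⟩
  · rcases wb_cases y z with h' | h' | h' <;> first | omega | exact absurd h'.1.symm h3

theorem c0 (hl : 2 ≤ l) : B.mr.C0 := fun r hr => by
  obtain ⟨x, y, h, e⟩ := sh_cases hr
  obtain ⟨v, hv⟩ := fresh [x, y] hl
  simp only [List.mem_cons, List.not_mem_nil, or_false, forall_eq_or_imp, forall_eq] at hv
  exact ⟨B.sh hv.1, sh_sh _, by simp [e, wb_ne hv.1, wb_ne hv.2, wb_ne h]⟩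

theorem c1 (hl : 2 ≤ l) : B.mr.C1 := fun a b ha hb h => by
  rcases dot_zero ha hb h with ⟨z, u, x, y, e1, e2, h1, h2, h3, h4, h5, h6⟩ | ⟨x, y, h1, e1, e2⟩
  · exact ⟨B.sh h3, sh_sh _, by simp [e1, wb_ne h1, wb_ne' h3, wb_ne' h5], by simp [e2, wb_ne h2, wb_ne h3, wb_ne h4]⟩
  · obtain ⟨v, hv⟩ := fresh [x, y] hl
    simp only [List.mem_cons, List.not_mem_nil, or_false, forall_eq_or_imp, forall_eq] at hv
    exact ⟨B.sh hv.1, sh_sh _, by simp [e1, wb_ne hv.1, wb_ne hv.2, wb_ne h1],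
      by simp [e2, wb_ne hv.1, wb_ne hv.2, wb_ne h1]⟩

theorem c2 : B.mr.C2 := fun a b ha hb h => by
  obtain ⟨x, y, z, h1, h2, h3, e1, e2⟩ := dot_one ha hb h
  exact ⟨B.sh (a := x) (b := y.swap) (by simpa), sh_sh _, by simp [e1, wb_ne h1, wb_ne' h1],
    by simp [e2, wb_ne h2, wb_ne' h1, wb_ne h3]⟩

theorem c3 (hl : 3 ≤ l) : B.mr.C3 Dj := fun r a a' hr ha ha' h1 h2 h3 => by
  obtain ⟨x, z, y, a1, a2, a3, e1, e2⟩ := dot_one ha hr h1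
  obtain ⟨p, u, w, b1, b2, b3, e3, e4⟩ := dot_one ha' hr h2
  rcases wb_add_eq (fun e => a2 (by simp [e])) (e2.symm.trans e4) with ⟨rfl, rfl⟩ | ⟨rfl, rfl⟩
  · simp [e1, e3, wb_ne b1, wb_ne' a1] at h3
    refine Or.inl ⟨z, u.swap, x, y, by simp [e1, e3, sub_eq_add_neg]; abel, e2, ?_, a2, a1.symm, a3, by simpa using b1.symm,
      by simpa using b3⟩
    rcases wb_cases z u with h' | h' | h' <;> first | omega | simpa using h'.1
  · simp [e1, e3, wb_ne a2, wb_ne' b3, wb_ne a3] at h3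
    obtain rfl : z = u := by rcases wb_cases z u with h' | h' | h' <;> first | omega | exact h'.1
    obtain ⟨v, hv⟩ := fresh [x, y, z] hl
    simp only [List.mem_cons, List.not_mem_nil, or_false, forall_eq_or_imp, forall_eq] at hv
    refine Or.inr ⟨B.sh hv.2.1.symm, sh_sh _, by simp [e2, wb_ne hv.1, wb_ne hv.2.1, wb_ne b2], by
      simp [e1, e2, wb_ne' hv.2.1, wb_ne' hv.2.2, wb_ne a3], by simp [e3, wb_ne hv.2.1, wb_ne hv.2.2, wb_ne b1],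
      ⟨z.swap, v.swap, x, y, by simp [e1, e2]; abel, e2, by simpa using hv.2.2.symm, a2, by simpa using a1.symm,
        by simpa using a3, by simpa using hv.1, by simpa using hv.2.1⟩,
      ⟨v, z.swap, x, y, by simp [e3, sub_eq_add_neg]; abel, e2, by simpa using hv.2.2, a2, hv.1, hv.2.1,
        by simpa using a1.symm, by simpa using a3⟩⟩

theorem c3' (hl : 4 ≤ l) : B.mr.C3 B.mr.Gv := by
  have key : ∀ γ r, Dj γ r → B.mr.Gv γ r := by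
    rintro _ _ ⟨z, u, x, y, rfl, rfl, h1, h2, h3, h4, h5, h6⟩
    obtain ⟨v, hv⟩ := fresh [z, u, x, y] hl
    simp only [List.mem_cons, List.not_mem_nil, or_false, forall_eq_or_imp, forall_eq] at hv
    exact ⟨B.sh hv.1, sh_sh _, by simp [wb_ne hv.1, wb_ne hv.2.1, wb_ne h1],
      by simp [wb_ne hv.2.2.1, wb_ne hv.2.2.2, wb_ne h3, wb_ne h4]⟩
  intro r a a' hr ha ha' h1 h2 h3
  rcases c3 (by omega) r a a' hr ha ha' h1 h2 h3 with h | ⟨b, h4, h5, h6, h7, h8, h9⟩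
  exacts [Or.inl (key _ _ h), Or.inr ⟨b, h4, h5, h6, h7, key _ _ h8, key _ _ h9⟩]

theorem trich {a b : B.mr.R} (h1 : b ≠ a) (h2 : b ≠ B.mr.cd.neg a) :
    (∃ c, wb c ⬝ᵥ a.1 = 0 ∧ wb c ⬝ᵥ b.1 = 1) ∨ (∃ c, wb c ⬝ᵥ b.1 = 0 ∧ wb c ⬝ᵥ a.1 = 1) ∨
      (∃ x y, ix x ≠ ix y ∧ a.1 = wb x + wb y ∧ b.1 = wb x + wb y.swap) ∨
      ∃ hk x y, ix x ≠ ix y ∧ a = lg hk x ∧ b = lg hk y := by
  have key : ∀ x y z : Fin (l + 1) ⊕ Fin (l + 1), ix x ≠ ix y → ∃ c, wb c ⬝ᵥ (wb z + wb z) = 0 ∧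
      wb c ⬝ᵥ (wb x + wb y) = 1 := fun x y z h => by
    by_cases h' : ix x = ix z
    · exact ⟨y, by simp [wb_ne' (h' ▸ h : ix z ≠ ix y)], by simp [wb_ne' h]⟩
    · exact ⟨x, by simp [wb_ne h'], by simp [wb_ne h]⟩
  rcases cases a with ⟨x, y, h, rfl⟩ | ⟨hk, x, rfl⟩ <;> rcases cases b with ⟨z, w, h', rfl⟩ | ⟨hk, z, rfl⟩
  · rcases pair_cases (B := B) (sh_sh h) (sh_sh h') with ⟨z, u, x, y, e1, e2, a1, a2, a3, a4, a5, a6⟩ |
      ⟨x, y, z, a1, a2, e1, e2⟩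
    · exact Or.inl ⟨x, by rw [e1]; simp [wb_ne' a3, wb_ne' a5], by rw [e2]; simp [wb_ne a2]⟩
    rcases wb_cases z y with ⟨rfl, -⟩ | ⟨rfl, -⟩ | ⟨a3, -⟩
    · exact absurd (Subtype.ext ((e2.resolve_right fun e => e.2 rfl).trans e1.symm)) h1
    · rcases e2 with e2 | e2
      · exact Or.inr (Or.inr (Or.inl ⟨x, y, a1, e1, e2⟩))
      · exact absurd (Subtype.ext (by rw [neg_val, e1, e2.1]; simp [add_comm])) h2
    · exact Or.inl ⟨z, by rw [e1]; simp [wb_ne' a2, wb_ne a3], by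
        rcases e2 with e2 | ⟨e2, -⟩ <;> rw [e2] <;> simp [wb_ne' a2]⟩
  · exact Or.inr (Or.inl (key _ _ _ h))
  · exact Or.inl (key _ _ _ h')
  · refine Or.inr (Or.inr (Or.inr ⟨hk, x, z, fun e => ?_, rfl, rfl⟩))
    rcases ix_eq e with rfl | rfl
    · exact h1 rfl
    · exact h2 (Subtype.ext (by simp [neg_val]))

end BD

end CfsgH8
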