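import Cfsg.Agent.H8.CRS4

/-! Schur multipliers of the symplectic groups. -/

set_option autoImplicit false

namespace CfsgH8

open Matrix Finset CfsgH6 CfsgH6.PreSt MR CfsgH1
open scoped commutatorElement

section gen

variable {I R : Type} [Fintype I] [DecidableEq I] {Φ : CD I R} {F : Type*} [Field F]
  {Γ : Type*} [Group Γ] {X : PreSt Φ F Γ} {E : Type*} [Group E] {π : E →* Γ}

theorem rel_all' [Finite R] (Y : X.Lifts π) (h : CX π) (h1 : X.Sep1)
    (H : ∀ a b, b ≠ a → b ≠ Φ.neg a → ∀ t u, h.br (X.x a t) (X.x b u) ∈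
      Y.YS {r | ∃ i j : ℤ, 0 < i ∧ 0 < j ∧ Φ.rt r = i • Φ.rt a + j • Φ.rt b})
    {a b : R} (hab : b ≠ a) (hab' : b ≠ Φ.neg a) : Y.Rel a b := by
  obtain ⟨φ, ha, hb⟩ := Φ.exists_fun2 hab'
  obtain ⟨M, hM⟩ := (Set.finite_range fun r => φ (Φ.rt r)).bddAbove
  have hM' : ∀ r, φ (Φ.rt r) ≤ M := fun r => hM ⟨r, rfl⟩
  suffices ∀ n : ℕ, ∀ a b, 0 < φ (Φ.rt a) → 0 < φ (Φ.rt b) → b ≠ a → 2 * M < φ (Φ.rt a) + φ (Φ.rt b) + n →
      Y.Rel a b from this (2 * M + 1).toNat a b ha hb hab (by omega)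
  intro n
  induction n with
  | zero => intro a b _ _ _ h; have := hM' a; have := hM' b; omega
  | succ n ih =>
    intro a b ha hb hab hn
    have hne : b ≠ Φ.neg a := ne_neg_of_phi φ (by omega)
    set m := φ (Φ.rt a) + φ (Φ.rt b) with hm
    intro t u
    have := Y.inj h1 φ (m := m) (by omega) (fun a' b' h1 h2 h3 => ih a' b' (by omega) (by omega) h3
      (by push_cast at hn; omega)) (inv_mem (Subgroup.closure_mono ?_ (H a b hab hne (-t) (-u))))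
      (Y.cp_mem (r := a) (s := b) (fun c hc => phi_tm_ge φ hc ha.le hb.le) t u)
      (by rw [Y.π_cp hab hne, h.br_inv, h.π_br])
    · rw [← this, h.br_inv, h.br_eq (Y.π_y _ _) (Y.π_y _ _), ← Y.y_inv, ← Y.y_inv, commutatorElement_def]
      group
    · rintro _ ⟨r, ⟨i, j, hi, hj, e⟩, t, rfl⟩
      refine ⟨r, ?_, t, rfl⟩
      simp only [Set.mem_ofPred_eq, e, map_add, map_zsmul, smul_eq_mul]
      nlinarith

theorem LC.conj_n {h : CX π} {γ r : R} (h1 : X.LC h γ r) (h2 : X.LC h (Φ.neg γ) r) {e : E} {t : F} (he : π e = X.x r t) :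
    h.s (X.n γ 1) * e * (h.s (X.n γ 1))⁻¹ = e := by
  rw [h.conj_eq (a' := h.s (X.x γ 1) * h.s (X.x (Φ.neg γ) (-1⁻¹)) * h.s (X.x γ 1)) (by simp [n]),
    mul_inv_eq_iff_eq_mul, mul_assoc, h1.comm (h.π_s _) he, ← mul_assoc, mul_assoc _ _ e,
    h2.comm (h.π_s _) he, ← mul_assoc, h1.comm (h.π_s _) he]
  group

theorem br_act_two (h2 : ∀ t : F, t = 0 ∨ t = 1) (h : CX π) {g : Γ} {σ : Equiv.Perm R} (ha : X.Act g σ) (a b : R) :
    h.s g * h.br (X.x a 1) (X.x b 1) * (h.s g)⁻¹ = h.br (X.x (σ a) 1) (X.x (σ b) 1) := by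
  obtain ⟨c, c0, e, -⟩ := ha a
  obtain ⟨d, d0, e', -⟩ := ha b
  rw [h.br_conj, h.π_s, e, e', (h2 c).resolve_left c0, (h2 d).resolve_left d0, one_mul]

end gen

namespace BD

variable {l : ℕ} {B : BD l} (hk : B.k = 4) {F : Type*} [Field F] {Γ : Type*} [Group Γ] {X : PreSt B.mr.cd F Γ}
  {E : Type*} [Group E] {π : E →* Γ} {h : CX π}
include hk

theorem tm_C {x z : Fin (l + 1) ⊕ Fin (l + 1)} (e : ix x ≠ ix z) : ∃ c d : ℤ, (c = 1 ∨ c = -1) ∧ (d = 1 ∨ d = -1) ∧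
    lg hk z ≠ B.sh (a := x) (b := z.swap) (by simpa) ∧ lg hk z ≠ B.mr.cd.neg (B.sh (a := x) (b := z.swap) (by simpa)) ∧
    B.mr.cd.tm (B.sh (a := x) (b := z.swap) (by simpa)) (lg hk z) = [(B.sh e, c, 1, 1), (lg hk x, d, 2, 1)] := by
  obtain ⟨c, d, h1, h2, h3⟩ := tm_B2 (a := B.sh (a := x) (b := z.swap) (by simpa)) (b := lg hk z) (p := B.sh e)
    (r := lg hk x) (sh_sh _) (by simp [wb_ne e]) (lg_norm hk z) (by simp) (by simp; abel)
  exact ⟨c, d, h1, h2, ne_of_dot (by simp [wb_ne e, wb_ne' e]), fun h => by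
    simpa [neg_val, wb_ne e] using congrArg (fun r => wb x ⬝ᵥ r.1) h, h3⟩

theorem one_le : 1 ≤ l := by have := B.hk; omega

theorem exists_ne (x : Fin (l + 1) ⊕ Fin (l + 1)) : ∃ z, ix x ≠ ix z := by
  obtain ⟨z, hz⟩ := fresh [x] (one_le hk)
  exact ⟨z, (hz x (by simp)).symm⟩

theorem sysC_big (hX : X.IsSt) (hG : X.G = ⊤) (hp : commutator Γ = ⊤) (hv : ∃ v : F, v ≠ 0 ∧ v ^ 2 ≠ 1) (h : CX π) :
    ∃ Z : PreSt B.mr.cd F E, ∀ r t, π (Z.x r t) = X.x r t := by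
  obtain ⟨v, h0, h1⟩ := hv
  have h1' : v ≠ 1 := by rintro rfl; simp at h1
  refine exists_sys' hX h (fun _ _ => False) (fun r => hX.gd_of_isL ?_) fun a b h3 h4 => ?_
  · rcases cases r with ⟨x, y, e, rfl⟩ | ⟨hk, x, rfl⟩
    · have hγ : B.mr.cd.A (lg hk x) (B.sh e) = 1 := by simp [A_lg, wb_ne e]
      refine hX.exists_isL (h := h) hG hp (γ := lg hk x) h0 (by rwa [hγ, zpow_one]) ?_
      by_cases h2 : (2 : F) = 0
      · obtain ⟨c, d, hc, -, e1, e2, e3⟩ := tm_C hk e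
        exact lc_B2' e1 e2 e3 (pm_ne hc) (cm_of_two (Or.inr h2) (by simp [wb_ne e, wb_ne' e]))
          (cm_of_pos (by simp [wb_ne e])) (cm_of_pos (by simp [wb_ne' e])) h0 h1'
      by_cases h3 : (3 : F) = 0
      · refine hX.lc_big hγ h0 (fun e => h1 ?_) fun e => h1' ?_
        · linear_combination (v - 1) * e
        · have : (v - 1) ^ 2 = 0 := by linear_combination e - v * h3
          rwa [pow_eq_zero_iff (by simp), sub_eq_zero] at this
      · exact hX.lc_big hγ one_ne_zero (fun e => h2 (by linear_combination e)) fun e => h3 (by linear_combination e)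
    · obtain ⟨z, e⟩ := exists_ne hk x
      obtain ⟨c, d, -, hd, e1, e2, e3⟩ := tm_C hk e
      exact hX.exists_isL (h := h) hG hp (γ := lg hk x) h0 (by simpa [A_lg, zpow_ofNat] using h1)
        (lc_B2 e1 e2 e3 (pm_ne hd) (cm_of_long (by simp [wb_ne e]) (lg_norm hk x))
          (cm_of_long (by simp [wb_ne e]) (lg_norm hk x)) h0 h1')
  rcases trich h3 h4 with ⟨c, e1, e2⟩ | ⟨c, e1, e2⟩ | ⟨x, y, e, e1, e2⟩ | ⟨hk, x, y, e, rfl, rfl⟩
  · exact Or.inl (KH.of (lg hk c) h0 (by simp [A_lg, e1]) (by simpa [A_lg, e2]))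
  · exact Or.inr (Or.inl (KH.of (lg hk c) h0 (by simp [A_lg, e1]) (by simpa [A_lg, e2])))
  · have hb : Sh b := by simp [Sh, e2, wb_ne e, wb_ne' e]
    exact Or.inl (KH.of b h0 (by simp [A_sh hb, e1, e2, wb_ne e, wb_ne' e]) (by rwa [A_sh hb, hb, zpow_ofNat]))
  · exact Or.inl (KH.of (lg hk y) h0 (by simp [A_lg, wb_ne' e]) (by simpa [A_lg, zpow_ofNat] using h1))

theorem lc_lg (hX : X.IsSt) {v : F} (h0 : v ≠ 0) (h1 : v ≠ 1) {x : Fin (l + 1) ⊕ Fin (l + 1)} {s : B.mr.R} (hs : Sh s)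
    (h2 : 0 ≤ wb x ⬝ᵥ s.1) : X.LC h s (lg hk x) := by
  obtain ⟨p, q, e, e1⟩ := sh_cases hs
  refine (hX.lc_of_KK (cm_of_long (by simpa using h2) (lg_norm hk x)) ?_).symm
  by_cases h3 : ix p = ix x
  · exact ⟨lg hk q, v, h0, by simp [A_lg, wb_ne' (h3 ▸ e : ix x ≠ ix q)], by simpa [A_lg, e1, wb_ne' e]⟩
  · exact ⟨lg hk p, v, h0, by simp [A_lg, wb_ne h3], by simpa [A_lg, e1, wb_ne e]⟩

omit hk in
theorem exists_of_dot {x : Fin (l + 1) ⊕ Fin (l + 1)} {s : B.mr.R} (hs : Sh s) (h : wb x ⬝ᵥ s.1 = 1) :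
    ∃ y, ∃ e : ix x ≠ ix y, s = B.sh e := by
  obtain ⟨p, q, e, e1⟩ := sh_cases hs
  rw [e1, dotProduct_add] at h
  rcases wb_cases x p with ⟨rfl, -⟩ | h1
  · exact ⟨q, e, Subtype.ext e1⟩
  rcases wb_cases x q with ⟨rfl, -⟩ | h2
  · exact ⟨p, e.symm, Subtype.ext (e1.trans (add_comm _ _))⟩
  omega

theorem sysC_three (hX : X.IsSt) (hG : X.G = ⊤) (hp : commutator Γ = ⊤) (h3 : ∀ t : F, t = 0 ∨ t = 1 ∨ t = -1)
    (h3' : (1 + 1 + 1 : F) = 0) (h1 : (-1 : F) ≠ 1) (h : CX π) :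
    ∃ Z : PreSt B.mr.cd F E, ∀ r t, π (Z.x r t) = X.x r t := by
  have h0 : (-1 : F) ≠ 0 := by simp
  refine exists_sys' hX h (fun a b => Sh a ∧ Sh b ∧ a.1 ⬝ᵥ b.1 = 0) (fun r => ?_) fun a b h4 h5 => ?_
  · rcases cases r with ⟨x, y, e, rfl⟩ | ⟨hk, x, rfl⟩
    · obtain ⟨y, hy⟩ := hX.exists_isL (h := h) hG hp (γ := lg hk x) (r := B.sh e) h0 (by simpa [A_lg, wb_ne e])
        (lc_small h3 _)
      refine ⟨y, hy, fun a b ⟨ha, hb, e1⟩ e2 => ?_⟩
      have := sh_sh (B := B) e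
      rw [Sh, rt_add_iff.1 e2, norm_add, ha, hb, e1] at this
      omega
    obtain ⟨z, e⟩ := exists_ne hk x
    have e' : ix x ≠ ix z.swap := by simpa
    obtain ⟨c, hc, ht⟩ := tm_long (a := B.sh e') (b := B.sh e) (r := lg hk x) (by simp [wb_ne e, wb_ne' e])
      (by simp; abel)
    obtain ⟨y, hy, hi⟩ := hX.exists_comm_lift (h := h) h3 (ne_of_dot (by simp [wb_ne e, wb_ne' e]))
      (ne_neg_of_dot (by simp [wb_ne e, wb_ne' e])) ht
      (fun h => h1 (by rcases hc with rfl | rfl <;> push_cast at h <;> first | linear_combination -h | linear_combination h))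
      (lc_lg hk hX h0 h1 (sh_sh _) (by simp [wb_ne e])) (lc_lg hk hX h0 h1 (sh_sh _) (by simp [wb_ne e]))
    have p0 : ∀ b, B.mr.cd.rt (lg hk x) = B.mr.cd.rt (B.sh e) + B.mr.cd.rt b → X.InR h (B.sh e) b y := fun b e1 => by
      rw [rt_add_iff] at e1
      rwa [show b = B.sh e' from Subtype.ext (by simp at e1 ⊢; linear_combination (exp := 1) -e1)]
    refine ⟨y, hy, fun a b ⟨ha, hb, e1⟩ e2 => ?_⟩
    have e3 := rt_add_iff.1 e2
    obtain ⟨w, e4, rfl⟩ := exists_of_dot (x := x) ha (by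
      have := congrArg (· ⬝ᵥ a.1) e3
      simp only [lg_val, add_dotProduct, dotProduct_comm b.1, e1, ha] at this
      omega)
    rcases wb_cases z w with ⟨rfl, -⟩ | ⟨rfl, -⟩ | ⟨e5, -⟩
    · exact p0 b e2
    · rw [show b = B.sh e from Subtype.ext (by simp at e3 ⊢; linear_combination (exp := 1) -e3)]
      exact (p0 _ (rt_add_iff.2 (by simp; abel))).symm hy
    · have e6 : ix z ≠ ix w.swap := by simpa
      have := hX.inR_step hy (γ := B.sh e6) (by simp [A_sh (sh_sh e6), wb_ne' e, wb_ne' e4])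
        (lc_lg hk hX h0 h1 (sh_sh _) (by simp [wb_ne e, wb_ne e4]))
        (lc_lg hk hX h0 h1 (sh_neg (sh_sh _)) (by simp [neg_val, wb_ne e, wb_ne e4])) p0 b
      rw [show B.mr.cd.refl (B.sh e6) (B.sh e) = B.sh e4 from Subtype.ext (by
        rw [refl_val, WD.rf, cv_sh (sh_sh e6)]; simp [wb_ne' e, wb_ne' e4, wb_ne' e5]; abel)] at this
      exact this e2
  rcases trich h4 h5 with ⟨c, e1, e2⟩ | ⟨c, e1, e2⟩ | ⟨x, y, e, e1, e2⟩ | ⟨hk, x, y, e, rfl, rfl⟩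
  · exact Or.inl (KH.of (lg hk c) h0 (by simp [A_lg, e1]) (by simpa [A_lg, e2]))
  · exact Or.inr (Or.inl (KH.of (lg hk c) h0 (by simp [A_lg, e1]) (by simpa [A_lg, e2])))
  · exact Or.inr (Or.inr (Or.inr ⟨by simp [Sh, e1, e2, wb_ne e, wb_ne' e], lg hk x,
      rt_add_iff.2 (by simp [e1, e2]; abel)⟩))
  · have e' : ix x ≠ ix y.swap := by simpa
    refine Or.inr (Or.inr (Or.inl (hX.lc_swap1 h3 h3' (cm_of_long (by simp [wb_ne e]) (lg_norm hk x)) (γ := B.sh e')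
      (Subtype.ext ?_) (by simp [A_sh (sh_sh e'), wb_ne' e]))))
    rw [refl_val, WD.rf, cv_sh (sh_sh e')]
    simp [wb_ne' e, two_smul]

section two

variable (h2 : ∀ t : F, t = 0 ∨ t = 1) (hl : 3 ≤ l)
include h2

omit hk in
theorem pm_one {c : ℤ} (h : c = 1 ∨ c = -1) : (c : F) = 1 := (h2 c).resolve_left (pm_ne h)

omit hk in
theorem neg_one_two : (-1 : F) = 1 := (h2 _).resolve_left (by simp)

include hl

omit h2 in
theorem lc_lg2 {x : Fin (l + 1) ⊕ Fin (l + 1)} {s : B.mr.R} (hs : Sh s) (h0 : 0 ≤ wb x ⬝ᵥ s.1) : X.LC h (lg hk x) s := by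
  obtain ⟨p, q, e, e1⟩ := sh_cases hs
  obtain ⟨v, hv⟩ := fresh [x, p, q] hl
  simp only [List.mem_cons, List.not_mem_nil, or_false, forall_eq_or_imp, forall_eq] at hv
  rw [e1, dotProduct_add] at h0
  have h1 : 0 ≤ wb x ⬝ᵥ wb p ∧ 0 ≤ wb x ⬝ᵥ wb q := by
    rcases wb_cases x p with ⟨rfl, -⟩ | ⟨rfl, -⟩ | ⟨-, h⟩ <;> simp_all [wb_ne e]
  exact lc_dec hs (sh_sh hv.2.1) (by simp [e1, wb_ne hv.2.1, wb_ne hv.2.2, wb_ne e])
    (cm_of_long (by simpa [wb_ne' hv.1] using h1.1) (lg_norm hk x)) fun c e2 =>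
      cm_of_long (by simpa [e2, e1, wb_ne' hv.1] using h1.2) (lg_norm hk x)

omit hl in
theorem br_C {x z : Fin (l + 1) ⊕ Fin (l + 1)} (e : ix x ≠ ix z) {s : B.mr.R} (h1 : wb x ⬝ᵥ s.1 = 0) (h3 : wb z ⬝ᵥ s.1 = 0) :
    h.br (X.x s 1) (X.x (B.sh e) 1) * h.br (X.x s 1) (X.x (lg hk x) 1) = 1 := by
  obtain ⟨c, d, hc, hd, e1, e2, e3⟩ := tm_C hk e
  have H := Or.inr (a := B.mr.k = 2) (two_eq_zero h2)
  rw [dotProduct_comm] at h1 h3
  simpa [pm_one h2 hc, pm_one h2 hd, neg_one_two h2] using br_B2 (h := h) (s := s) e1 e2 e3 (cm_of_two H (by simp [h1, h3]))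
    (cm_of_two H (by simp [h3])) (cm_of_two H (by simp [h1])) 1 1 1

theorem lc_ll {x y : Fin (l + 1) ⊕ Fin (l + 1)} (e : ix x ≠ ix y) : X.LC h (lg hk x) (lg hk y) := by
  obtain ⟨v, hv⟩ := fresh [x, y] (by simp; omega)
  simp only [List.mem_cons, List.not_mem_nil, or_false, forall_eq_or_imp, forall_eq] at hv
  refine lc_of_one (fun t => (h2 t).imp_right Or.inl) (cm_of_long (by simp [wb_ne e]) (lg_norm hk x)) ?_
  have := br_C (X := X) (h := h) hk h2 hv.2.symm (s := lg hk x) (by simp [wb_ne' e]) (by simp [wb_ne hv.1])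
  rwa [lc_lg2 hk hl (sh_sh _) (by simp [wb_ne e, wb_ne' hv.1]), one_mul] at this

theorem lc_dj {γ r : B.mr.R} (hγ : Sh γ) (hd : Dj γ.1 r.1) : X.LC h γ r := by
  refine lc_of_one (fun t => (h2 t).imp_right Or.inl) (cm_of_two (Or.inr (two_eq_zero h2)) (Dj_dot hd).ge) ?_
  obtain ⟨z, u, x, y, e1, e2, -, e, h3, h4, h5, h6⟩ := hd
  have h7 : wb x ⬝ᵥ γ.1 = 0 := by simp [e1, wb_ne' h3, wb_ne' h5]
  have := br_C (X := X) (h := h) hk h2 e h7 (by simp [e1, wb_ne' h4, wb_ne' h6])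
  rwa [(lc_lg2 hk hl hγ h7.ge).symm, mul_one, show B.sh e = r from Subtype.ext e2.symm] at this

theorem sysC_two (hX : X.IsSt) (h : CX π) : ∃ Z : PreSt B.mr.cd F E, ∀ r t, π (Z.x r t) = X.x r t := by
  have H := Or.inr (a := B.mr.k = 2) (two_eq_zero h2)
  have h11 : (1 + 1 : F) = 0 := one_add_one_eq_two.trans (two_eq_zero h2)
  have hy : ∀ r, Sh r → X.Gd h (fun a b => Sh a ∧ Sh b) r := fun r => gd_two hX h2 c2 (c0 (by omega)) (c3 hl)
    fun γ r hγ _ _ hd => ⟨lc_dj hk h2 hl hγ hd, lc_dj hk h2 hl (sh_neg hγ) (by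
      obtain ⟨z, u, x, y, e1, e2, h1⟩ := hd
      exact ⟨z.swap, u.swap, x, y, by simp [neg_val, e1, add_comm], e2, by simpa using h1⟩)⟩
  have l0 : ∀ {a b : B.mr.R}, Sh a → Sh b → a.1 ⬝ᵥ b.1 = 0 → X.LC h a b := fun ha hb e => by
    obtain ⟨d, hd, e1, e2⟩ := c1 (by omega) _ _ ha hb e
    exact lc_zero hX h2 c2 hy ha hb e hd e1 e2
  have hY : ∀ r : B.mr.R, ∃ w : E, Sh r → π w = X.x r 1 ∧ w * w = 1 ∧ ∀ a b, Sh a → Sh b → r.1 = a.1 + b.1 →
      h.br (X.x a 1) (X.x b 1) = w := fun r => by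
    by_cases hr : Sh r
    swap
    · exact ⟨1, fun h => absurd h hr⟩
    obtain ⟨y, hy, hi⟩ := hy r hr
    refine ⟨y 1, fun _ => ⟨hy.π_y 1, by rw [hy.add, h11, hy.zero], fun a b ha hb e => ?_⟩⟩
    obtain ⟨s, hs⟩ := hi a b ⟨ha, hb⟩ (rt_add_iff.2 e) 1 1
    have e1 : b.1 ⬝ᵥ a.1 = -1 := by
      rw [Sh, e, norm_add, ha, hb, dotProduct_comm] at hr; omega
    obtain ⟨c, h4, h5⟩ := tm_dec (r := r) hb e1 (e.trans (add_comm _ _))
    have e2 := X.dec_of_tm (ne_of_dot (by rw [e1, hb]; decide)) (ne_neg_of_dot (by rw [e1, hb]; decide)) h5 1 1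
    rw [← h.π_br, hs, hy.π_y, pm_one h2 h4, neg_one_two h2, mul_one, mul_one] at e2
    rw [hs, X.x_injective hX.sep1 r e2]
  choose Y hY using hY
  have hL : ∀ x, ∃ L : E, π L = X.x (lg hk x) 1 ∧ L * L = 1 ∧ ∀ z (e : ix x ≠ ix z),
      h.br (X.x (lg hk z) 1) (X.x (B.sh (a := x) (b := z.swap) (by simpa)) 1) = Y (B.sh e) * L := fun x => by
    let L : ∀ z, ix x ≠ ix z → E := fun z e => (Y (B.sh e))⁻¹ *
      h.br (X.x (lg hk z) 1) (X.x (B.sh (a := x) (b := z.swap) (by simpa)) 1)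
    have p1 : ∀ z e, π (L z e) = X.x (lg hk x) 1 := fun z e => by
      obtain ⟨c, d, hc, hd, e1, e2, e3⟩ := tm_C hk e
      have := X.comm_eq e1 e2 1 1
      simp only [e3, pm_one h2 hc, pm_one h2 hd, neg_one_two h2, List.map_cons, List.map_nil, List.prod_cons,
        List.prod_nil, one_pow, mul_one] at this
      simp [L, (hY _ (sh_sh e)).1, this]
    have p2 : ∀ z e z' e', ix z ≠ ix z' → L z e = L z' e' := fun z e z' e' e1 => by
      have e2 : ix z ≠ ix z'.swap := by simpa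
      have ha := hX.act_n (B.sh e2) one_ne_zero
      obtain ⟨c, hc, e3⟩ := c0 (B := B) (by omega) _ (sh_sh e)
      obtain ⟨d, hd, e4⟩ := exists_sub hc (sh_sh e) e3
      have r1 : ∀ {a b : B.mr.R}, b.1 = a.1 - ((wb z - wb z') ⬝ᵥ a.1) • (wb z - wb z') → B.mr.cd.refl (B.sh e2) a = b :=
        fun e => Subtype.ext (by rw [refl_val, WD.rf, cv_sh (sh_sh e2), e]; simp [sub_eq_add_neg])
      have r2 : ∀ {a : B.mr.R}, Sh a → Sh (B.mr.cd.refl (B.sh e2) a) := fun ha => by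
        rw [Sh, refl_val, (B.sh e2).2.rf_norm]; exact ha
      have r3 : B.mr.cd.refl (B.sh e2) (B.sh e) = B.sh e' := r1 (by simp [wb_ne' e, wb_ne' e', wb_ne' e1]; abel)
      have e5 : (B.sh e).1 = c.1 + d.1 := by simp only [e4]; abel
      rw [← LC.conj_n (γ := B.sh e2) (lc_lg2 (h := h) hk hl (sh_sh e2) (by simp [wb_ne e, wb_ne e'])).symm
        (lc_lg2 hk hl (sh_neg (sh_sh e2)) (by simp [neg_val, wb_ne e, wb_ne e'])).symm (p1 z e)]
      simp only [L]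
      rw [← (hY _ (sh_sh e)).2.2 c d hc hd e5, ← (hY _ (sh_sh e')).2.2 _ _ (r2 hc) (r2 hd)
        (r3 ▸ rt_add_iff.1 (W_add (B.mr.cd.refl_mem _) (rt_add_iff.2 e5))), ← br_act_two h2 h ha,
        ← r1 (a := lg hk z) (b := lg hk z') (by simp [wb_ne' e1, two_smul]; abel),
        ← r1 (a := B.sh (a := x) (b := z.swap) (by simpa)) (b := B.sh (a := x) (b := z'.swap) (by simpa))
          (by simp [wb_ne' e, wb_ne' e', wb_ne' e1]; abel), ← br_act_two h2 h ha]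
      group
    obtain ⟨z, e⟩ := exists_ne hk x
    refine ⟨L z e, p1 z e, ?_, fun z' e' => ?_⟩
    · have e' : ix x ≠ ix z.swap := by simpa
      obtain ⟨a1, a2, -⟩ := hY _ (sh_sh e')
      obtain ⟨b1, b2, -⟩ := hY _ (sh_sh e)
      have c1 := (l0 (sh_sh e) (sh_sh e') (by simp [wb_ne e, wb_ne' e])).comm b1 a1
      have c2 := (lc_lg2 (h := h) hk hl (sh_sh e) (by simp [wb_ne e])).comm (p1 z e) b1
      have c3 := (lc_lg2 (h := h) hk hl (sh_sh e') (by simp [wb_ne e])).comm (p1 z e) a1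
      have c4 : h.s (X.x (lg hk z) 1) * Y (B.sh e') * (h.s (X.x (lg hk z) 1))⁻¹ = Y (B.sh e) * L z e * Y (B.sh e') := by
        simp only [L]
        rw [h.br_eq (h.π_s _) a1, commutatorElement_def]; group
      have c5 : Y (B.sh e) * L z e * Y (B.sh e') * (Y (B.sh e) * L z e * Y (B.sh e')) = 1 := by
        rw [← c4, conj_mul, a2]; group
      generalize L z e = M at *
      generalize Y (B.sh e) = P at *
      generalize Y (B.sh e') = A at *
      calc M * M = M * (P * P) * M * (A * A) := by rw [a2, b2, mul_one, mul_one]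
        _ = M * P * (P * M * A) * A := by group
        _ = P * M * (P * A * M) * A := by rw [c2, mul_assoc P M A, c3, ← mul_assoc P]
        _ = P * M * (A * P * M) * A := by rw [c1]
        _ = 1 := by rw [← c5]; group
    · obtain ⟨v, hv⟩ := fresh [x, z, z'] hl
      simp only [List.mem_cons, List.not_mem_nil, or_false, forall_eq_or_imp, forall_eq] at hv
      rw [p2 z e v hv.1.symm hv.2.1.symm, p2 v hv.1.symm z' e' hv.2.2]
      simp [L]
  choose L hL using hL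
  have hW : ∀ r : B.mr.R, ∃ w : E, π w = X.x r 1 ∧ w * w = 1 ∧ (Sh r → w = Y r) ∧ ∀ x, r = lg hk x → w = L x := fun r => by
    rcases cases r with ⟨x, y, e, rfl⟩ | ⟨hk, x, rfl⟩
    · refine ⟨_, (hY _ (sh_sh e)).1, (hY _ (sh_sh e)).2.1, fun _ => rfl, fun z e1 => ?_⟩
      have := sh_sh (B := B) e
      rw [Sh, e1, lg_norm] at this; omega
    · refine ⟨_, (hL x).1, (hL x).2.1, fun h => by simp [Sh] at h, fun z e1 => ?_⟩
      have := congrArg (fun r => wb x ⬝ᵥ r.1) e1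
      simp only [lg_val, dotProduct_add, wb_self] at this
      rcases wb_cases x z with ⟨rfl, -⟩ | h | h <;> first | rfl | omega
  choose W hW using hW
  classical
  let V : X.Lifts π := ⟨fun r t => if t = 0 then 1 else W r, fun r t => by
    rcases h2 t with rfl | rfl <;> simp [(hW r).1], fun r t u => by
      rcases h2 t with rfl | rfl <;> rcases h2 u with rfl | rfl <;> simp [(hW r).2.1, h11]⟩
  have hV : ∀ {S : Set B.mr.R} {r}, r ∈ S → W r ∈ V.YS S := fun hr => by simpa [V] using V.y_mem hr 1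
  have key : ∀ (S : Set B.mr.R) (a : B.mr.R) z, Sh a → (∀ r : B.mr.R, r.1 = (1 : ℤ) • a.1 + (1 : ℤ) • (lg hk z).1 → r ∈ S) →
      (∀ r : B.mr.R, r.1 = (2 : ℤ) • a.1 + (1 : ℤ) • (lg hk z).1 → r ∈ S) →
      h.br (X.x (lg hk z) 1) (X.x a 1) ∈ V.YS S := fun S a z ha s1 s2 => by
    by_cases h0 : 0 ≤ wb z ⬝ᵥ a.1
    · rw [lc_lg2 hk hl ha h0]; exact one_mem _
    obtain ⟨x, e, rfl⟩ := exists_of_dot (x := z.swap) ha (by
      obtain ⟨p, q, e, e1⟩ := sh_cases ha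
      rw [wb_swap, neg_dotProduct]
      rw [e1, dotProduct_add] at h0 ⊢
      rcases wb_cases z p with ⟨rfl, -⟩ | ⟨rfl, -⟩ | ⟨-, h⟩
      · have := wb_ne e; simp_all
      · simp [wb_ne e]
      · rcases wb_cases z q with h | h | h <;> omega)
    have e' : ix x ≠ ix z := by simpa using e.symm
    rw [show B.sh e = B.sh (a := x) (b := z.swap) (by simpa) from Subtype.ext (add_comm _ _), (hL x).2.2 z e',
      ← (hW _).2.2.1 (sh_sh e'), ← (hW _).2.2.2 x rfl]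
    exact mul_mem (hV (s1 _ (by simp; abel))) (hV (s2 _ (by simp [two_smul]; abel)))
  refine ⟨⟨V.y, V.add, fun _ _ t u h3 h4 => rel_all' V h hX.sep1 (fun a b e1 e2 t u => ?_) h3 h4 t u⟩, V.π_y⟩
  rcases h2 t with rfl | rfl
  · rw [x_zero, h.br_one_left]; exact one_mem _
  rcases h2 u with rfl | rfl
  · rw [x_zero, h.br_one_right]; exact one_mem _
  rcases cases a with ⟨x, y, e, rfl⟩ | ⟨hk, x, rfl⟩ <;> rcases cases b with ⟨z, w, e', rfl⟩ | ⟨hk, z, rfl⟩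
  · rcases dot_cases (sh_sh e) (sh_sh e') with e3 | e3 | e3 | e3 | e3
    · exact absurd e3 e1
    · exact absurd e3 e2
    · rw [lc_one H c2 (sh_sh e) (sh_sh e') e3]; exact one_mem _
    · rw [l0 (sh_sh e) (sh_sh e') e3]; exact one_mem _
    · obtain ⟨r, hr, e4⟩ := exists_add (sh_sh e) (sh_sh e') e3
      rw [(hY r hr).2.2 _ _ (sh_sh e) (sh_sh e') e4, ← (hW r).2.2.1 hr]
      exact hV ⟨1, 1, one_pos, one_pos, B.mr.rt_eq_of_val (by simpa using e4)⟩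
  · rw [← h.br_inv]
    exact inv_mem (key _ _ _ (sh_sh e) (fun r e => ⟨1, 1, one_pos, one_pos, B.mr.rt_eq_of_val e⟩)
      fun r e => ⟨2, 1, two_pos, one_pos, B.mr.rt_eq_of_val e⟩)
  · exact key _ _ _ (sh_sh e') (fun r e => ⟨1, 1, one_pos, one_pos, B.mr.rt_eq_of_val (e.trans (add_comm _ _))⟩)
      fun r e => ⟨1, 2, one_pos, two_pos, B.mr.rt_eq_of_val (e.trans (add_comm _ _))⟩
  · rw [lc_ll hk h2 hl fun e => ?_]
    · exact one_mem _
    rcases ix_eq e with rfl | rfl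
    · exact e1 rfl
    · exact e2 (Subtype.ext (by simp [neg_val]))

end two

end BD

theorem SM_Sp {F : Type*} [Field F] [Fintype F] {m : ℕ} (hm : 2 ≤ m) (h2 : Fintype.card F = 2 → 4 ≤ m) :
    Subsingleton (SM (symplecticGroup (Fin m) F)) := by
  obtain ⟨l, rfl⟩ : ∃ l, m = l + 1 := ⟨m - 1, by omega⟩
  have hl : 1 ≤ l := by omega
  obtain ⟨X, hX, hG, hι⟩ := exists_pre_C F hl
  have hp := CfsgH5.commutator_sp (F := F) (l + 1) (by have := Fintype.one_lt_card (α := F); omega)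
  refine SM_of_sys hX ?_ hG fun f hf => ?_
  · refine Function.Injective.of_comp (f := (Cfsg.spToMat _ F).toHomUnits) ?_
    rw [show _ ∘ _ = _ from funext (hh_map _ _ ((bdC l hl).mr.isSt F) ((bdC l hl).mr.mult F) _ hι)]
    refine MR.hh_inj fun j => ⟨(univ.filter (· ≤ j)).map ⟨Sum.inl, Sum.inl_injective⟩, fun i => ?_⟩
    rw [sum_map]
    change ∑ a ∈ _, cv ((bdC l hl).α i) ⬝ᵥ ev a = _
    refine Fin.lastCases ?_ (fun i => ?_) i
    · rw [BD.α_last, show cv (ev (bdC l hl).p + ev (Fin.last l)) = ev (Fin.last l) by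
        ext a; simp [cv, bdC]; omega]
      simp only [ev_dot, sum_ite_eq, mem_filter, mem_univ, true_and, Fin.last_le_iff, @eq_comm _ j]
    · rw [BD.α_cast]
      simp only [cv_A Fin.castSucc_lt_succ.ne, sub_dotProduct, ev_dot, sum_sub_distrib, sum_ite_eq, mem_filter, mem_univ,
        true_and]
      simp only [Fin.le_def, Fin.ext_iff, Fin.val_castSucc, Fin.val_succ]
      split_ifs <;> omega
  rcases field_cases F with h | ⟨h3, h4, h5⟩ | h
  · refine BD.sysC_two rfl h ?_ hX hf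
    have := h2 (by
      classical
      rw [← card_univ, show (univ : Finset F) = {0, 1} by ext t; simpa using h t, card_pair zero_ne_one])
    omega
  · exact BD.sysC_three rfl hX hG hp h3 h4 h5 hf
  · exact BD.sysC_big rfl hX hG hp h hf

end CfsgH8
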