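import Cfsg.Agent.H8.CRS4

/-! The spin cover of type `D`. -/

set_option autoImplicit false

namespace CfsgH8

open Matrix Finset CfsgH6 CfsgH6.PreSt MR CfsgH1 Cfsg
open scoped commutatorElement

section gen

variable {I R : Type} [Fintype I] [DecidableEq I] {Φ : CD I R} {F : Type*} [Field F]
  {Γ : Type*} [Group Γ] {P : PreSt Φ F Γ} {Γ' : Type*} [Group Γ'] {X : PreSt Φ F Γ'}

variable (Φ F) in
/-- parameters of central diagonal elements -/
def Zc : Subgroup (I → Fˣ) where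
  carrier := {c | ∀ s, ∏ i, c i ^ Φ.A (Φ.sim i) s = 1}
  mul_mem' ha hb s := by simp [mul_zpow, prod_mul_distrib, ha s, hb s]
  one_mem' s := by simp
  inv_mem' ha s := by simp [ha s]

theorem center_of_comm (hG : P.G = ⊤) {g : Γ} (h : ∀ r t, g * P.x r t = P.x r t * g) : g ∈ Subgroup.center Γ :=
  Subgroup.mem_center_iff.2 fun y => congrArg Subtype.val (Subgroup.mem_center_iff.1
    (P.mem_center_toG (g := ⟨g, hG ▸ Subgroup.mem_top g⟩).2 h) ⟨y, hG ▸ Subgroup.mem_top y⟩)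

theorem hh_center (hP : P.IsSt) (hM : P.Mult) (hG : P.G = ⊤) {c : I → Fˣ} :
    hP.hh hM c ∈ Subgroup.center Γ ↔ c ∈ Zc Φ F := by
  refine ⟨fun h s => ?_, fun h => center_of_comm hG fun r t => ?_⟩
  · have := hP.hh_conj hM c s 1
    rw [← Subgroup.mem_center_iff.1 h, mul_inv_cancel_right, mul_one] at this
    exact Units.val_eq_one.1 (P.x_injective hP.sep1 s this).symm
  · rw [← mul_inv_eq_iff_eq_mul, hP.hh_conj, h r]; simp

theorem perfect_of_dec (hG : P.G = ⊤) (h : ∀ r, ∃ a b, ∃ c : ℤ, b ≠ a ∧ b ≠ Φ.neg a ∧ (c : F) ≠ 0 ∧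
    Φ.tm a b = [(r, c, 1, 1)]) : commutator Γ = ⊤ := by
  rw [eq_top_iff, ← hG]
  refine (Subgroup.closure_le _).2 ?_
  rintro _ ⟨r, -, t, rfl⟩
  obtain ⟨a, b, c, h1, h2, h3, h4⟩ := h r
  have := P.dec_of_tm h1 h2 h4 1 (-t / c)
  rw [show -(c : F) * 1 * (-t / c) = t by field_simp] at this
  exact this ▸ Subgroup.commutator_mem_commutator (Subgroup.mem_top _) (Subgroup.mem_top _)

theorem hasSM_of_sc [Finite R] [Finite F] (hX : X.IsSt) (hG' : X.G = ⊤) (θ : Γ →* Γ') (hθ : ∀ r t, θ (P.x r t) = X.x r t)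
    (hP : P.IsSt) (hi : Function.Injective (hP.hh (mult_fin hP))) (hG : P.G = ⊤) (hp : commutator Γ = ⊤)
    [Subsingleton (SM Γ)] {A : Type*} [CommGroup A] (e : Zc Φ F ≃* A) :
    HasSchurMultiplier (Γ' ⧸ Subgroup.center Γ') A := by
  have := finite_of_st hP hG
  have := finite_of_st hX hG'
  have h1 : Function.Surjective θ := by
    rw [← MonoidHom.range_eq_top, MonoidHom.range_eq_map, ← hG, map_G _ _ _ hθ, hG']
  have h2 : ((QuotientGroup.mk' (Subgroup.center Γ')).comp θ).ker = (Zc Φ F).map (hP.hh (mult_fin hP)) := by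
    ext g
    rw [MonoidHom.mem_ker, MonoidHom.comp_apply, QuotientGroup.mk'_apply, QuotientGroup.eq_one_iff]
    constructor
    · intro h
      obtain ⟨c, rfl⟩ := (hP.range_hh (mult_fin hP)).ge (P.mem_H_of_map X θ hθ hX (hG ▸ Subgroup.mem_top g)
        (hX.center_le_H (hG' ▸ Subgroup.mem_top _) fun r t => (Subgroup.mem_center_iff.1 h _).symm))
      rw [hh_map hP _ hX (mult_fin hX) θ hθ, hh_center hX _ hG'] at h
      exact ⟨c, h, rfl⟩
    · rintro ⟨c, h, rfl⟩
      rwa [hh_map hP _ hX (mult_fin hX) θ hθ, hh_center hX _ hG']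
  refine hasSM_of_cover hp ⟨(QuotientGroup.mk'_surjective _).comp h1, h2.le.trans ?_⟩
    ((MulEquiv.subgroupCongr h2).trans (((Zc Φ F).equivMapOfInjective _ hi).symm.trans e))
  rintro _ ⟨c, h, rfl⟩
  exact (hh_center hP _ hG).2 h

end gen

section cl

variable {n : Type} [Fintype n] [DecidableEq n] (F : Type*) [Field F] {A : Type*} [Ring A] [Algebra F A]
  (e : n ⊕ n → A)

/-- the spin representation of the orthogonal Lie algebra -/
noncomputable def spn (Z : Matrix (n ⊕ n) (n ⊕ n) ℤ) : A := (2⁻¹ : F) • ∑ a, ∑ b, Z a b • (e a * e b.swap)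

theorem spn_smul (c : ℤ) (Z : Matrix (n ⊕ n) (n ⊕ n) ℤ) : spn F e (c • Z) = (c : F) • spn F e Z := by
  simp only [spn, Matrix.smul_apply, smul_eq_mul, mul_smul, ← smul_sum, Int.cast_smul_eq_zsmul]
  exact smul_comm _ _ _

theorem spn_zero : spn F e 0 = 0 := by simp [spn]

theorem h_ident {X Y : A} (hX : X * X = 0) (hY : Y * Y = 0) (h1 : X * Y * X = X) (h2 : Y * X * Y = Y) :
    (1 + (-1 : F) • X) * (1 + (-(-1 : F)⁻¹) • Y) * (1 + (-1 : F) • X) *
      ((1 + (-1 : F) • X) * (1 + (-(-1 : F)⁻¹) • Y) * (1 + (-1 : F) • X)) = 1 - 2 * (X * Y) - 2 * (Y * X) := by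
  have a1 : ∀ Z, Z * X * X = 0 := fun Z => by rw [mul_assoc, hX, mul_zero]
  have a2 : ∀ Z, Z * Y * Y = 0 := fun Z => by rw [mul_assoc, hY, mul_zero]
  rw [n_ident hX h1 (by simp)]
  simp only [inv_neg, inv_one, neg_smul, one_smul, mul_add, mul_sub, mul_neg, add_mul, sub_mul, neg_mul, ← mul_assoc, hX, hY,
    h1, h2, a1, a2, zero_mul, mul_one, one_mul]
  noncomm_ring

theorem quad_ident {x x' y y' : A} (c1 : x * x' * x = x) (c2 : y * y' * y = y) (h1 : y * x = -(x * y))
    (h2 : y' * x = -(x * y')) : x * x' * (y * y') * (x * y) = x * y := by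
  calc _ = x * x' * (y * (y' * x)) * y := by noncomm_ring
    _ = x * x' * x * (y * y' * y) := by rw [h2, mul_neg, ← mul_assoc y, h1]; noncomm_ring
    _ = _ := by rw [c1, c2]

variable {F e} (h2 : (2 : F) ≠ 0) (he : ∀ a b, e a * e b + e b * e a = if b = a.swap then 1 else 0)
include he

omit [Fintype n] in
theorem e_anti {a b : n ⊕ n} (h : b ≠ a.swap) : e a * e b = -(e b * e a) := by
  rw [eq_neg_iff_add_eq_zero, he, if_neg h]

include h2

omit [Fintype n] in
theorem e_sq (a : n ⊕ n) : e a * e a = 0 := by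
  have := he a a
  rw [if_neg (ne_swap a), ← two_smul F] at this
  exact (smul_eq_zero.1 this).resolve_left h2

theorem spn_e {Z : Matrix (n ⊕ n) (n ⊕ n) ℤ} (hZ : ∀ a b, Z b.swap a.swap = -Z a b) (c : n ⊕ n) :
    spn F e Z * e c - e c * spn F e Z = ∑ a, Z a c • e a := by
  have h1 : ∀ a b, e a * e b.swap * e c - e c * (e a * e b.swap) =
      (if b = c then e a else 0) - (if a = c.swap then e b.swap else 0) := fun a b => by
    have a1 := congrArg (e a * ·) (he b.swap c)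
    have a2 := congrArg (· * e b.swap) (he c a)
    simp only [Sum.swap_swap, mul_add, add_mul, mul_ite, ite_mul, mul_one, one_mul, mul_zero, zero_mul, @eq_comm _ c] at a1 a2
    rw [← a1, ← a2]; noncomm_ring
  have h3 : ∑ b, Z c.swap b • e b.swap = -∑ a, Z a c • e a := by
    rw [← sum_neg_distrib]
    exact Fintype.sum_equiv (Function.Involutive.toPerm Sum.swap Sum.swap_swap) _ _ fun a => by
      change _ = -(Z a.swap c • e a.swap)
      rw [← neg_smul, ← hZ, Sum.swap_swap]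
  simp only [spn, smul_mul_assoc, mul_smul_comm, sum_mul, mul_sum, ← smul_sub, ← sum_sub_distrib, h1]
  simp only [smul_sub, sum_sub_distrib, smul_ite, smul_zero, sum_ite_eq', mem_univ, if_true, sum_ite_irrel,
    sum_const_zero, h3]
  rw [smul_neg, sub_neg_eq_add, ← add_smul, show (2⁻¹ + 2⁻¹ : F) = 1 by field_simp; norm_num, one_smul]

theorem spn_br {Z : Matrix (n ⊕ n) (n ⊕ n) ℤ} (hZ : ∀ a b, Z b.swap a.swap = -Z a b) (W : Matrix (n ⊕ n) (n ⊕ n) ℤ) :
    spn F e Z * spn F e W - spn F e W * spn F e Z = spn F e (Z * W - W * Z) := by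
  have h1 : ∀ c d, spn F e Z * (e c * e d.swap) - e c * e d.swap * spn F e Z =
      ∑ a, Z a c • (e a * e d.swap) - ∑ a, Z d a • (e c * e a.swap) := fun c d => by
    have a1 := congrArg (· * e d.swap) (spn_e h2 he hZ c)
    have a2 := congrArg (e c * ·) (spn_e h2 he hZ d.swap)
    have a3 : ∑ a, Z a d.swap • (e c * e a) = -∑ a, Z d a • (e c * e a.swap) := by
      rw [← sum_neg_distrib]
      exact Fintype.sum_equiv (Function.Involutive.toPerm Sum.swap Sum.swap_swap) _ _ fun a => by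
        change _ = -(Z d a.swap • (e c * e a.swap.swap))
        rw [← neg_smul, ← hZ, Sum.swap_swap]
    simp only [sum_mul, mul_sum, smul_mul_assoc, mul_smul_comm, a3] at a1 a2
    rw [← a1, sub_eq_add_neg (_ * e d.swap), ← a2]; noncomm_ring
  generalize spn F e Z = y at h1
  simp only [spn, smul_mul_assoc, mul_smul_comm, sum_mul, mul_sum, ← smul_sub, ← sum_sub_distrib, h1]
  simp only [smul_sub, sum_sub_distrib, Matrix.sub_apply, mul_apply, sub_smul, sum_smul, smul_sum, smul_smul]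
  congr 1
  · rw [sum_comm]
    refine (sum_congr rfl fun d _ => sum_comm).trans (sum_comm.trans ?_)
    simp only [mul_comm]
  · exact sum_congr rfl fun c _ => sum_comm

omit [Fintype n] in
theorem e_tri {a b c d : n ⊕ n} (h : ix a ≠ ix b) (h' : wb c + wb d ≠ -(wb a + wb b)) :
    e a * e b * (e c * e d) * (e a * e b) = 0 := by
  have h1 : b ≠ a.swap := fun e => h (by simp [e])
  have h3 : a ≠ b.swap := fun e => h (by simp [e])
  have mv : ∀ {a b c d}, b ≠ a.swap → c ≠ a.swap → d ≠ a.swap → e a * (e b * e c * e d) * e a = 0 := by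
    intro a b c d h1 h3 h4
    rw [← mul_assoc, ← mul_assoc, e_anti he h1, neg_mul, mul_assoc _ (e a), e_anti he h3, mul_neg, neg_neg, ← mul_assoc,
      mul_assoc _ (e a), e_anti he h4]
    simp [mul_assoc, e_sq h2 he]
  by_cases h4 : c ≠ a.swap ∧ d ≠ a.swap
  · simpa [mul_assoc] using congrArg (· * e b) (mv h1 h4.1 h4.2)
  by_cases h5 : c ≠ b.swap ∧ d ≠ b.swap
  · simpa [mul_assoc] using congrArg (e a * ·) (mv h5.1 h5.2 h3)
  have h6 : a.swap ≠ b.swap := fun e => h (by simpa using congrArg ix e)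
  refine absurd ?_ h'
  simp only [not_and_or, not_not] at h4 h5
  rcases h4 with rfl | rfl <;> rcases h5 with h5 | h5 <;> first | exact absurd h5 h6 | simp [h5, add_comm]

omit [Fintype n] in
theorem e_tri' (a : n ⊕ n) : e a * e a.swap * e a = e a := by
  rw [mul_assoc, eq_sub_of_add_eq' ((he a a.swap).trans (if_pos rfl)), mul_sub, ← mul_assoc, e_sq h2 he]; simp

omit [Fintype n] in
theorem uw_sq {a b : n ⊕ n} (h : ix a ≠ ix b) : (1 - 2 * (e a * e a.swap)) * (1 - 2 * (e b * e b.swap)) *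
    ((1 - 2 * (e a * e a.swap)) * (1 - 2 * (e b * e b.swap))) = 1 := by
  have h1 : ∀ a : n ⊕ n, (1 - 2 * (e a * e a.swap)) * (1 - 2 * (e a * e a.swap)) = 1 := fun a => by
    have : e a * e a.swap * (e a * e a.swap) = e a * e a.swap := by rw [← mul_assoc, e_tri' h2 he]
    generalize e a * e a.swap = p at this
    calc _ = 1 - 4 * p + 4 * (p * p) := by noncomm_ring
      _ = 1 := by rw [this, sub_add_cancel]
  have h3 : ∀ c, ix c = ix a → Commute (e b * e b.swap) (e c) := fun c hc => by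
    rw [Commute, SemiconjBy, mul_assoc, e_anti he (a := b.swap) (b := c) fun e => h (by simpa [hc] using congrArg ix e),
      mul_neg, ← mul_assoc, e_anti he (a := b) (b := c) fun e => h (by simpa [hc] using congrArg ix e)]
    noncomm_ring
  have h4 : Commute (1 - 2 * (e b * e b.swap)) (1 - 2 * (e a * e a.swap)) :=
    (Commute.one_right _).sub_right (((Commute.ofNat_right _ 2).mul_right ((Commute.one_left _).sub_left
      ((Commute.ofNat_left 2 _).mul_left ((h3 a rfl).mul_right (h3 _ (ix_swap a)))))))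
  rw [mul_assoc, ← mul_assoc (1 - 2 * (e b * e b.swap)), h4.eq, mul_assoc, h1, mul_one, h1]

end cl

namespace BD

variable {l : ℕ} {B : BD l} (hk : B.k = 2) {F : Type*} [Field F] {A : Type*} [Ring A] [Algebra F A]
  {e : Fin (l + 1) ⊕ Fin (l + 1) → A} (h2 : (2 : F) ≠ 0)
  (he : ∀ a b, e a * e b + e b * e a = if b = a.swap then 1 else 0)
include hk

theorem g_one (a : Fin (l + 1) ⊕ Fin (l + 1)) : B.g a = 1 := (B.hk.resolve_left (by omega)).2.2.2 a

theorem s_swap {a b : Fin (l + 1) ⊕ Fin (l + 1)} (h : ix a ≠ ix b) : B.s b a.swap = -B.s a b.swap := by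
  simpa [g_one hk, add_eq_zero_iff_eq_neg] using B.gs a b.swap (fun e => h (by simp [e])) (Or.inr fun e => h (by simp [e]))

theorem L_swap {Z : Matrix _ _ ℤ} (hZ : B.mr.L Z) (a b : Fin (l + 1) ⊕ Fin (l + 1)) : Z b.swap a.swap = -Z a b := by
  simpa [g_one hk, add_eq_zero_iff_eq_neg] using (lie_gram _ _).1 hZ a b

include h2 he

theorem spn_X {a b : Fin (l + 1) ⊕ Fin (l + 1)} (h : ix a ≠ ix b) :
    spn F e (B.mr.X (wb a + wb b)) = B.s a b.swap • (e a * e b) := by
  have := B.X_short (a := a) (b := b.swap) (fun e => h (by simp [e])) fun e => h (by simp [e])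
  rw [wb_swap, sub_neg_eq_add] at this
  simp only [this, spn, Matrix.add_apply, add_smul, sum_add_distrib, single_apply, ite_smul, zero_smul, ite_and,
    sum_ite_irrel, sum_ite_eq, mem_univ, if_true, sum_const_zero, Sum.swap_swap, s_swap hk h]
  rw [e_anti he (a := b) (b := a) fun e => h (by simp [e]), neg_smul, smul_neg, neg_neg, ← two_smul F, smul_smul,
    inv_mul_cancel₀ h2, one_smul]

theorem spn_tri {r s : B.mr.R} (h : s.1 ≠ -r.1) :
    spn F e (B.mr.X r.1) * spn F e (B.mr.X s.1) * spn F e (B.mr.X r.1) = 0 := by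
  obtain ⟨a, b, h3, e1⟩ := sh_cases (sh_of_two hk r)
  obtain ⟨c, d, h4, e2⟩ := sh_cases (sh_of_two hk s)
  rw [e1, e2] at h ⊢
  simp only [spn_X hk h2 he h3, spn_X hk h2 he h4, smul_mul_assoc, mul_smul_comm, e_tri h2 he h3 h, smul_zero]

theorem spn_sq (r : B.mr.R) : spn F e (B.mr.X r.1) * spn F e (B.mr.X r.1) = 0 := by
  obtain ⟨a, b, h3, e1⟩ := sh_cases (sh_of_two hk r)
  have : e a * e b * (e a * e b) = 0 := by
    rw [mul_assoc, ← mul_assoc (e b), e_anti he (a := b) (b := a) fun e => h3 (by simp [e])]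
    simp [← mul_assoc, e_sq h2 he]
  simp only [e1, spn_X hk h2 he h3, smul_mul_assoc, mul_smul_comm, this, smul_zero]

/-- the root elements of the spin group -/
noncomputable def spin : PreSt B.mr.cd F Aˣ where
  x r t := oneAdd (spn_sq hk h2 he r) t
  add r t u := Units.ext (one_add_mul_one_add (spn_sq hk h2 he r) t u)
  comm r s t u h1 h3 := by
    have h4 : s.1 ≠ -r.1 := fun e => h3 (Subtype.ext e)
    have h5 : r.1 ≠ -s.1 := fun e => h4 (by rw [e, neg_neg])
    have a1 := spn_tri hk h2 he h4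
    have a2 := spn_tri hk h2 he h5
    apply Units.ext
    change (1 + _) * (1 + _) = (1 + _) * (1 + _) * (((B.mr.tm r s).map _).prod : Aˣ).1
    rw [comm_ident (spn_sq hk h2 he r) (spn_sq hk h2 he s) (by rw [← mul_assoc, a1, zero_mul])
      (by rw [← mul_assoc, a2, zero_mul]), a1, a2, spn_br h2 he (L_swap hk (L_X' r.2)), tm_two hk h4]
    have hL := (L_X' r.2).br (L_X' s.2)
    by_cases h : B.mr.IsRoot (r.1 + s.1)
    · rw [tl_pos h]
      conv_lhs => rw [cf_smul hL (wt_br _ _) h, spn_smul, smul_smul]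
      simp [oneAdd, mul_comm, mul_left_comm, mul_assoc]
    · rw [tl_neg h, hL.eq_zero (wt_br _ _) (fun e => h4 (by linear_combination (exp := 1) e)) h, spn_zero]
      simp

theorem spin_h {a b : Fin (l + 1) ⊕ Fin (l + 1)} (h : ix a ≠ ix b) :
    ((spin hk h2 he).h (B.sh h) (-1)).1 = -((1 - 2 * (e a * e a.swap)) * (1 - 2 * (e b * e b.swap))) := by
  have h' : ix a.swap ≠ ix b.swap := by simpa
  have hs := B.s_sq a b.swap
  have e1 := spn_X hk h2 he h
  have e2 : spn F e (B.mr.X (-(wb a + wb b))) = -B.s a b.swap • (e a.swap * e b.swap) := by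
    rw [← s_swap hk h, B.s_symm, neg_add, ← wb_swap, ← wb_swap, spn_X hk h2 he h', Sum.swap_swap]
  have a1 := eq_sub_of_add_eq' ((he a a.swap).trans (if_pos rfl))
  have a2 := eq_sub_of_add_eq' ((he b b.swap).trans (if_pos rfl))
  have a3 := e_anti he (a := b) (b := a) fun e => h (by simp [e])
  have a4 := e_anti he (a := b) (b := a.swap) fun e => h (by simpa using congrArg ix e)
  have a5 := e_anti he (a := b.swap) (b := a) fun e => h (by simp [e])
  have a6 := e_anti he (a := b.swap) (b := a.swap) fun e => h (by simpa using congrArg ix e)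
  have s1 : spn F e (B.mr.X (wb a + wb b)) * spn F e (B.mr.X (wb a + wb b)) = 0 := spn_sq hk h2 he (B.sh h)
  have s2 : spn F e (B.mr.X (-(wb a + wb b))) * spn F e (B.mr.X (-(wb a + wb b))) = 0 :=
    spn_sq hk h2 he (B.mr.cd.neg (B.sh h))
  have c1 := e_tri' h2 he
  have c2 : ∀ a : Fin (l + 1) ⊕ Fin (l + 1), e a.swap * e a * e a.swap = e a.swap := fun a => by simpa using c1 a.swap
  have b1 : spn F e (B.mr.X (wb a + wb b)) * spn F e (B.mr.X (-(wb a + wb b))) = e a * e a.swap * (e b * e b.swap) := by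
    rw [e1, e2, smul_mul_smul_comm, mul_neg, hs, mul_assoc, ← mul_assoc (e b), a4]; noncomm_ring
  have b2 : spn F e (B.mr.X (-(wb a + wb b))) * spn F e (B.mr.X (wb a + wb b)) = e a.swap * e a * (e b.swap * e b) := by
    rw [e1, e2, smul_mul_smul_comm, neg_mul, hs, mul_assoc, ← mul_assoc (e b.swap), a5]; noncomm_ring
  refine (h_ident F s1 s2 (by rw [b1, e1, mul_smul_comm, quad_ident (c1 a) (c1 b) a3 a5])
    (by rw [b2, e2, mul_smul_comm, quad_ident (c2 a) (c2 b) a6 a4])).trans ?_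
  rw [b1, b2, a1, a2]; noncomm_ring

end BD

theorem exists_cl (n : Type) [Fintype n] [DecidableEq n] (F : Type*) [Field F] : ∃ Q : QuadraticForm F (n ⊕ n → F),
    ∃ e : n ⊕ n → CliffordAlgebra Q, ∀ a b, e a * e b + e b * e a = if b = a.swap then 1 else 0 := by
  refine ⟨∑ i, QuadraticMap.proj (.inl i) (.inr i), fun a => CliffordAlgebra.ι _ (Pi.single a 1), fun a b => ?_⟩
  rw [CliffordAlgebra.ι_mul_ι_add_swap, QuadraticMap.polar]
  rcases a with a | a <;> rcases b with b | b <;> by_cases h : a = b <;>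
    simp [QuadraticMap.sum_apply, Pi.single_apply, h, Ne.symm]

section D

variable {l : ℕ} (hl : 2 ≤ l) {F : Type*} [Field F]

/-- characters of the diagonal subgroup -/
def chD (c : Fin (l + 1) → Fˣ) (v : Fin (l + 1) → ℤ) : Fˣ := ∏ i, c i ^ ((bdD l hl).α i ⬝ᵥ v)

variable {hl}

theorem chD_add (c : Fin (l + 1) → Fˣ) (v w : Fin (l + 1) → ℤ) : chD hl c (v + w) = chD hl c v * chD hl c w := by
  simp [chD, _root_.zpow_add, prod_mul_distrib]

theorem chD_neg (c : Fin (l + 1) → Fˣ) (v : Fin (l + 1) → ℤ) : chD hl c (-v) = (chD hl c v)⁻¹ := by simp [chD]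

theorem chD_mul (c d : Fin (l + 1) → Fˣ) (v : Fin (l + 1) → ℤ) : chD hl (c * d) v = chD hl c v * chD hl d v := by
  simp [chD, mul_zpow, prod_mul_distrib]

theorem chD_eq (c : Fin (l + 1) → Fˣ) (v : Fin (l + 1) → ℤ) : chD hl c v = ∏ a, chD hl c (ev a) ^ v a := by
  simp only [chD, ← prod_zpow, ← _root_.zpow_mul]
  rw [prod_comm]
  simp [← zpow_sum', dotProduct, Pi.single_apply]

theorem α_t (i j : Fin (l + 1)) : (bdD l hl).α i ⬝ᵥ (bdD l hl).t j = if i = j then 2 else 0 := by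
  have := congrFun ((bdD l hl).mr.T_α i) j
  rw [dotProduct_comm]
  exact this.trans (by simp [Pi.single_apply, eq_comm])

theorem chD_last (c : Fin (l + 1) → Fˣ) : c (Fin.last l) ^ 2 = ∏ a, chD hl c (ev a) := by
  have := chD_eq (hl := hl) c ((bdD l hl).t (Fin.last l))
  simp only [chD, α_t] at this
  simpa [chD, bdD, zpow_ofNat] using this

theorem chD_ker {c : Fin (l + 1) → Fˣ} (h : ∀ a, chD hl c (ev a) = 1) :
    c = Pi.mulSingle (bdD l hl).p (c (Fin.last l)) * Pi.mulSingle (Fin.last l) (c (Fin.last l)) := by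
  have h0 : ∀ v, chD hl c v = 1 := fun v => by simp [chD_eq c v, h]
  have hp : (bdD l hl).p ≠ Fin.last l := by simp [bdD, Fin.ext_iff]; omega
  ext1 j
  by_cases h1 : j = Fin.last l
  · simp [h1, hp.symm]
  by_cases h2 : j = (bdD l hl).p
  · have h3 : ∀ i, (bdD l hl).α i ⬝ᵥ ev (Fin.last l) = (if i = Fin.last l then 1 else 0) - if i = j then 1 else 0 := fun i => by
      have : (bdD l hl).t (Fin.last l) - (bdD l hl).t j = (2 : ℤ) • ev (Fin.last l) := by
        ext a; simp only [h2, bdD, Pi.sub_apply, Pi.smul_apply, Pi.single_apply, Fin.le_def, Fin.ext_iff, Fin.val_last]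
        split_ifs <;> simp <;> omega
      have := congrArg ((bdD l hl).α i ⬝ᵥ ·) this
      simp only [dotProduct_sub, α_t, dotProduct_smul, smul_eq_mul] at this
      split_ifs at this ⊢ <;> omega
    have := h (Fin.last l)
    simp only [chD, h3, _root_.zpow_sub, prod_mul_distrib] at this
    simpa [h2, hp, mul_inv_eq_one, eq_comm] using this
  · have h3 : ∀ i, (bdD l hl).α i ⬝ᵥ (fun a => if a ≤ j then 1 else 0) = if i = j then 1 else 0 := fun i => by
      have : (bdD l hl).t j = (2 : ℤ) • fun a => if a ≤ j then (1 : ℤ) else 0 := by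
        ext a
        have : j.1 + 1 < l := by simp [bdD, Fin.ext_iff] at h1 h2; omega
        simp [bdD, this]
      have := congrArg ((bdD l hl).α i ⬝ᵥ ·) this
      simp only [α_t, dotProduct_smul, smul_eq_mul] at this
      split_ifs at this ⊢ <;> omega
    have := h0 fun a => if a ≤ j then 1 else 0
    simp only [chD, h3] at this
    simpa [h1, h2] using this

theorem mem_Zc {c : Fin (l + 1) → Fˣ} : c ∈ Zc (bdD l hl).mr.cd F ↔ ∀ a b, ix a ≠ ix b → chD hl c (wb a + wb b) = 1 := by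
  have : ∀ s : (bdD l hl).mr.R, ∏ i, c i ^ (bdD l hl).mr.cd.A ((bdD l hl).mr.cd.sim i) s = chD hl c s.1 := fun s =>
    prod_congr rfl fun i _ => by rw [A_sh (sh_of_two rfl _)]; rfl
  refine ⟨fun h a b e => (this (BD.sh _ e)).symm.trans (h _), fun h s => (this s).trans ?_⟩
  obtain ⟨a, b, e, e1⟩ := BD.sh_cases (sh_of_two rfl s)
  exact e1 ▸ h a b e

theorem Zc_ev {c : Fin (l + 1) → Fˣ} (h : c ∈ Zc (bdD l hl).mr.cd F) (a : Fin (l + 1)) :
    chD hl c (ev a) = chD hl c (ev (Fin.last l)) := by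
  by_cases e : a = Fin.last l
  · rw [e]
  simpa [chD_add, chD_neg, mul_inv_eq_one] using mem_Zc.1 h (.inl a) (.inr (Fin.last l)) e

theorem Zc_sq {c : Fin (l + 1) → Fˣ} (h : c ∈ Zc (bdD l hl).mr.cd F) : chD hl c (ev (Fin.last l)) ^ 2 = 1 := by
  simpa [chD_add, Zc_ev h 0, sq] using mem_Zc.1 h (.inl 0) (.inl (Fin.last l)) (by simp [Fin.ext_iff]; omega)

theorem Zc_last {c : Fin (l + 1) → Fˣ} (h : c ∈ Zc (bdD l hl).mr.cd F) :
    c (Fin.last l) ^ 2 = chD hl c (ev (Fin.last l)) ^ (l + 1) := by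
  simp [chD_last (hl := hl), Zc_ev h]

theorem Zc_one {c : Fin (l + 1) → Fˣ} (h : c ∈ Zc (bdD l hl).mr.cd F) (h1 : chD hl c (ev (Fin.last l)) = 1)
    (h2 : c (Fin.last l) = 1) : c = 1 := by
  rw [chD_ker fun a => (Zc_ev h a).trans h1, h2]; simp

theorem exists_chD {v : Fin (l + 1) → ℤ} {m : ℤ} (hm : ∑ a, v a = 2 * m) (μ : Fˣ) :
    ∃ c : Fin (l + 1) → Fˣ, (∀ w, chD hl c w = μ ^ (v ⬝ᵥ w)) ∧ c (Fin.last l) = μ ^ m := by
  have h1 : ∀ a b, ix a ≠ ix b → wb a + wb b ∈ AddSubgroup.closure (Set.range (bdD l hl).α) := fun a b h => by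
    simpa [BD.mr] using (bdD l hl).mr.span a b.swap (by simpa [BD.mr] using ((bdD l hl).sh h).2.2.2)
  have h2 : ∀ a, ev a - ev (Fin.last l) ∈ AddSubgroup.closure (Set.range (bdD l hl).α) := fun a => by
    by_cases e : a = Fin.last l
    · simp [e]
    · simpa [sub_eq_add_neg] using h1 (.inl a) (.inr (Fin.last l)) e
  have h3 : v = ∑ a, v a • (ev a - ev (Fin.last l)) + m • ((ev 0 + ev (Fin.last l)) - (ev 0 - ev (Fin.last l))) := by
    simp only [smul_sub, sum_sub_distrib, ← sum_smul, hm]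
    ext a; simp [Pi.single_apply, Finset.sum_apply]; split_ifs <;> ring
  have h4 : v ∈ Submodule.span ℤ (Set.range (bdD l hl).α) := by
    rw [← Submodule.mem_toAddSubgroup, Submodule.span_int_eq_addSubgroupClosure, h3]
    exact add_mem (sum_mem fun a _ => zsmul_mem (h2 a) _) (zsmul_mem (sub_mem
      (h1 (.inl 0) (.inl (Fin.last l)) (by simp [Fin.ext_iff]; omega)) (h2 0)) _)
  obtain ⟨k, rfl⟩ := (Submodule.mem_span_range_iff_exists_fun _).1 h4
  refine ⟨fun i => μ ^ k i, fun w => by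
    simp only [chD, ← _root_.zpow_mul, ← zpow_sum', sum_dotProduct, smul_dotProduct, smul_eq_mul], ?_⟩
  have : (∑ i, k i • (bdD l hl).α i) ⬝ᵥ (bdD l hl).t (Fin.last l) = 2 * m := by simpa [bdD, dotProduct] using hm
  simp only [sum_dotProduct, smul_dotProduct, α_t] at this
  exact congrArg (μ ^ ·) (by simp at this; omega)

theorem Zc_odd (h : Odd (l + 1)) : Nonempty (Zc (bdD l hl).mr.cd F ≃* rootsOfUnity 4 F) := by
  obtain ⟨k, hk⟩ := h
  refine ⟨MulEquiv.ofBijective (((Pi.evalMonoidHom (fun _ => Fˣ) (Fin.last l)).comp (Subgroup.subtype _)).codRestrict _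
    fun c => ?_) ⟨(injective_iff_map_eq_one _).2 fun c hc => ?_, fun μ => ?_⟩⟩
  · change c.1 (Fin.last l) ^ (2 * 2) = 1
    rw [pow_mul, Zc_last c.2, ← pow_mul, mul_comm, pow_mul, Zc_sq c.2, one_pow]
  · have h1 : c.1 (Fin.last l) = 1 := congrArg Subtype.val hc
    have h2 := Zc_last c.2
    have h3 := Zc_sq c.2
    refine Subtype.ext (Zc_one c.2 ?_ h1)
    generalize chD hl c.1 (ev (Fin.last l)) = x at h2 h3
    rw [h1, one_pow, hk, pow_succ, pow_mul, h3, one_pow, one_mul] at h2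
    exact h2.symm
  · obtain ⟨c, h1, h2⟩ := exists_chD (hl := hl) (v := fun _ => 2) (m := l + 1) (by simp; ring) (μ.1 ^ (l + 1))
    have h3 : μ.1 ^ 4 = 1 := μ.2
    have h4 : (μ.1 ^ (l + 1)) ^ (4 : ℤ) = 1 := by rw [zpow_ofNat, ← pow_mul, mul_comm, pow_mul, h3, one_pow]
    refine ⟨⟨c, mem_Zc.2 fun a b _ => ?_⟩, Subtype.ext (h2.trans ?_)⟩
    · rw [h1]
      cases a <;> cases b <;> simp [h4, -zpow_ofNat, zpow_zero]
    · rw [← Nat.cast_succ, zpow_natCast, ← pow_mul, Nat.succ_eq_add_one, hk,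
        show (2 * k + 1) * (2 * k + 1) = 4 * (k * k + k) + 1 by ring, pow_succ, pow_mul, h3, one_pow, one_mul]

theorem Zc_even (h : Even (l + 1)) : Nonempty (Zc (bdD l hl).mr.cd F ≃* rootsOfUnity 2 F × rootsOfUnity 2 F) := by
  obtain ⟨k, hk⟩ := h
  have h0 : ∀ c : Zc (bdD l hl).mr.cd F, c.1 (Fin.last l) ∈ rootsOfUnity 2 F := fun c => by
    have h3 := Zc_sq c.2
    change c.1 (Fin.last l) ^ 2 = 1
    rw [Zc_last c.2]
    generalize chD hl c.1 (ev (Fin.last l)) = x at h3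
    rw [hk, ← two_mul, pow_mul, h3, one_pow]
  let f : Zc (bdD l hl).mr.cd F →* rootsOfUnity 2 F × rootsOfUnity 2 F :=
    MonoidHom.mk' (fun c => (⟨_, Zc_sq c.2⟩, ⟨_, h0 c⟩)) fun c d => Prod.ext (Subtype.ext (chD_mul _ _ _)) rfl
  refine ⟨MulEquiv.ofBijective f ⟨(injective_iff_map_eq_one _).2 fun c hc => ?_, fun ⟨μ, ν⟩ => ?_⟩⟩
  · exact Subtype.ext (Zc_one c.2 (congrArg (fun x => x.1.1) hc) (congrArg (fun x => x.2.1) hc))
  · obtain ⟨c, h1, h2⟩ := exists_chD (hl := hl) (v := fun _ => 1) (m := k) (by simp; omega) μ.1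
    obtain ⟨d, h3, h4⟩ := exists_chD (hl := hl) (v := ev (Fin.last l) + ev (Fin.last l)) (m := 1)
      (by simp [sum_add_distrib]) (ν.1 / μ.1 ^ k)
    have h5 : μ.1 ^ 2 = 1 := μ.2
    have h6 : (ν.1 / μ.1 ^ k) ^ 2 = 1 := by rw [div_pow, ← pow_mul, mul_comm, pow_mul, h5, show ν.1 ^ 2 = 1 from ν.2]; simp
    have h7 : ∀ w, chD hl d w = 1 := fun w => by
      rw [h3, add_dotProduct, ← two_mul, _root_.zpow_mul, zpow_ofNat, h6, _root_.one_zpow]
    refine ⟨⟨c * d, mem_Zc.2 fun a b _ => ?_⟩, Prod.ext (Subtype.ext ?_) (Subtype.ext ?_)⟩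
    · rw [chD_mul, h1, h7]
      cases a <;> cases b <;> simp [h5, zpow_ofNat]
    · change chD hl (c * d) _ = _
      simp [chD_mul, h1, h7]
    · change c _ * d _ = _
      simp [h2, h4]

universe u in
theorem exists_sc_D (hl : 2 ≤ l) (F : Type u) [Field F] [Finite F] : ∃ (Γ : Type u) (_ : Group Γ)
    (P : PreSt (bdD l hl).mr.cd F Γ) (hP : P.IsSt), Function.Injective (hP.hh (mult_fin hP)) ∧ P.G = ⊤ := by
  obtain ⟨Q, e, he⟩ := exists_cl (Fin (l + 1)) F
  have hp : (bdD l hl).p ≠ Fin.last l := by simp [bdD, Fin.ext_iff]; omega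
  obtain ⟨Y, hY⟩ : ∃ Y : PreSt (bdD l hl).mr.cd F (CliffordAlgebra Q)ˣ, (2 : F) ≠ 0 →
      Y.h ((bdD l hl).mr.cd.sim (bdD l hl).p) (-1) * Y.h ((bdD l hl).mr.cd.sim (Fin.last l)) (-1) ≠ 1 := by
    by_cases h2 : (2 : F) = 0
    · exact ⟨((bdD l hl).mr.pre F).map 1, fun h => absurd h2 h⟩
    refine ⟨BD.spin rfl h2 he, fun _ h => ?_⟩
    have e1 : ix (.inl (bdD l hl).p) ≠ ix (.inr (Fin.last l)) := hp
    have e2 : ix (.inl (bdD l hl).p) ≠ ix (.inl (Fin.last l)) := hp
    rw [show (bdD l hl).mr.cd.sim (bdD l hl).p = BD.sh _ e1 from Subtype.ext (((bdD l hl).α_cast ⟨l - 1, by omega⟩).trans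
      (by simp [bdD, sub_eq_add_neg, Fin.last, show l - 1 + 1 = l by omega])),
      show (bdD l hl).mr.cd.sim (Fin.last l) = BD.sh _ e2 from Subtype.ext (bdD l hl).α_last] at h
    have h3 := congrArg Units.val h
    rw [Units.val_mul, BD.spin_h rfl h2 he e1, BD.spin_h rfl h2 he e2, Sum.swap_inr,
      eq_sub_of_add_eq' ((he (.inl (Fin.last l)) (.inr (Fin.last l))).trans (if_pos rfl)), show ∀ q : CliffordAlgebra Q,
        1 - 2 * (1 - q) = -(1 - 2 * q) from fun q => by noncomm_ring, mul_neg, mul_neg, neg_neg] at h3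
    erw [uw_sq h2 he e2] at h3
    have := invertibleOfNonzero h2
    refine h2 ((algebraMap F (CliffordAlgebra Q)).injective ?_)
    rw [map_ofNat, map_zero, ← one_add_one_eq_two, add_eq_zero_iff_neg_eq]
    exact h3
  let π : (((bdD l hl).mr.pre F).prod Y).G →* _ := (MonoidHom.fst _ _).comp (Subgroup.subtype _)
  have hπ : ∀ r t, π ((((bdD l hl).mr.pre F).prod Y).toG.x r t) = ((bdD l hl).mr.pre F).x r t := fun _ _ => rfl
  have hP := isSt_of_hom _ _ π hπ ((bdD l hl).mr.isSt F)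
  refine ⟨_, inferInstance, _, hP, (injective_iff_map_eq_one _).2 fun c hc => ?_, toG_G _⟩
  have h1 := hh_map hP (mult_fin hP) ((bdD l hl).mr.isSt F) ((bdD l hl).mr.mult F) π hπ c
  rw [hc, map_one, hh_eq] at h1
  have h2 : ∀ a, chD hl c (ev a) = 1 := fun a => by
    have := congrArg (fun g : GL _ F => g.1 (.inl a) (.inl a)) h1
    simp only [coe_dgG, diagonal_apply_eq, Units.val_one, one_apply_eq, @eq_comm _ (1 : F), Units.val_eq_one] at this
    refine (prod_congr rfl fun i _ => ?_).trans this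
    rw [show cv ((bdD l hl).mr.α i) = _ from cv_sh (sh_of_two rfl ((bdD l hl).mr.cd.sim i))]; rfl
  have h3 := chD_last (hl := hl) c
  rw [chD_ker h2] at hc ⊢
  simp only [h2, prod_const_one] at h3
  generalize c (Fin.last l) = ν at *
  by_cases h4 : ν = 1
  · simp [h4]
  have h5 : (ν : F) = -1 := (sq_eq_one_iff.1 (by simpa using congrArg Units.val h3)).resolve_left
    fun e => h4 (Units.ext e)
  let π' : (((bdD l hl).mr.pre F).prod Y).G →* _ := (MonoidHom.snd _ _).comp (Subgroup.subtype _)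
  have h6 := congrArg π' hc
  rw [map_mul, IsSt.hh_single, IsSt.hh_single, map_mul, map_h _ Y π' fun _ _ => rfl, map_h _ Y π' fun _ _ => rfl, h5,
    map_one] at h6
  exact absurd h6 (hY fun e => h4 (Units.ext (by rw [h5, Units.val_one]; linear_combination -e)))

theorem hasSM_D [Fintype F] (hl : 3 ≤ l) (h2 : Fintype.card F = 2 → 4 ≤ l) {A : Type*} [CommGroup A]
    (e : Zc (bdD l (by omega)).mr.cd F ≃* A) : HasSchurMultiplier (POmega F (quadFormPlus (l + 1) F)) A := by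
  have hl' : 2 ≤ l := by omega
  obtain ⟨X, hX, hG, -⟩ := exists_pre_D F hl'
  obtain ⟨Γ, _, P, hP, hi, hG'⟩ := exists_sc_D hl' F
  obtain ⟨θ, hθ⟩ := exists_hom_sc hP hi hG' X
  have hp : commutator Γ = ⊤ := perfect_of_dec hG' fun r => by
    obtain ⟨a, ha, h1⟩ := BD.c0 hl' r (sh_of_two rfl r)
    obtain ⟨b, -, e0⟩ := exists_sub ha (sh_of_two rfl r) h1
    have h3 : a.1 ⬝ᵥ b.1 = -1 := by rw [e0, dotProduct_sub, h1, ha]; rfl
    obtain ⟨c, h5, h6⟩ := tm_dec (r := r) ha h3 (by simp [e0])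
    exact ⟨a, b, c, ne_of_dot (by rw [h3, ha]; decide), ne_neg_of_dot (by rw [h3, ha]; decide), pm_ne h5, h6⟩
  have := SM_of_sys hP hi hG' fun f hf => by
    by_cases h5 : Fintype.card F = 2
    · exact sys_two hP (two_cases h5) BD.c2 rfl (BD.c0 hl') (BD.c1 hl') (BD.c3' (h2 h5)) hf
    · exact sys_big hP hG' hp rfl (BD.c0 hl') (BD.c1 hl') (exists_ne_one h5) (Or.inl BD.c2) hf
  exact hasSM_of_sc hX hG θ hθ hP hi hG' hp e

end D

end CfsgH8
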