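import Cfsg.Agent.H8.OutD4
import Cfsg.Agent.H8.AutO4

/-! Inner-diagonal automorphisms of `PΩ⁺₈(q)` form a normal subgroup of the automorphism group. -/

set_option autoImplicit false

namespace CfsgH8

open Matrix Finset Cfsg CfsgH6 CfsgH6.PreSt CfsgH6.Chev Cfsg.Lie CfsgH5 CfsgH5.Form

theorem equiv_adj' {D : ChevalleyDatum} (g : Good D) {F : Type*} [Field F] (hs : IsSimpleGroup (D.group F))
    {Γ : Type*} [Group Γ] (Y : PreSt g.cd F Γ) (hG : Y.G = ⊤) (hn : ¬ ∀ a b : Γ, a * b = b * a) :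
    ∃ e : D.group F ≃* Γ ⧸ Subgroup.center Γ, ∀ r t, e ((g.adjG F).x r t) = QuotientGroup.mk (Y.x r t) := by
  have h1 := liftC_surj Y hG
  have h2 := liftC_surj _ (g.adjG_G F)
  have h3 := g.ker_eq_center F (g.stC_G F) _ (Good.liftC_x (g.adjG F))
  let θ := (QuotientGroup.mk' (Subgroup.center Γ)).comp (Good.liftC Y)
  have h4 : Function.Surjective θ := (QuotientGroup.mk'_surjective _).comp h1
  have h5 : (Good.liftC (g.adjG F)).ker ≤ θ.ker := fun z hz => (QuotientGroup.eq_one_iff _).2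
    (Subgroup.mem_center_iff.2 fun y => by
      obtain ⟨y, rfl⟩ := h1 y
      rw [← map_mul, ← map_mul, Subgroup.mem_center_iff.1 (h3.le hz)])
  have h6 := Subgroup.comap_map_eq_self h5
  rcases (Subgroup.Normal.map inferInstance _ h2 : (θ.ker.map _).Normal).eq_bot_or_eq_top with h | h <;> rw [h] at h6
  · refine ⟨(QuotientGroup.quotientKerEquivOfSurjective _ h2).symm.trans
      ((QuotientGroup.quotientMulEquivOfEq h6).trans (QuotientGroup.quotientKerEquivOfSurjective _ h4)),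
      fun r t => ?_⟩
    have : (QuotientGroup.quotientKerEquivOfSurjective _ h2).symm ((g.adjG F).x r t) =
        QuotientGroup.mk ((g.stC F).x r t) := (MulEquiv.symm_apply_eq _).2 (Good.liftC_x _ r t).symm
    exact (congrArg (fun z => QuotientGroup.quotientKerEquivOfSurjective _ h4
      (QuotientGroup.quotientMulEquivOfEq h6 z)) this).trans (congrArg QuotientGroup.mk (Good.liftC_x Y r t))
  · refine absurd (fun a b => ?_) hn
    obtain ⟨b, rfl⟩ := h1 b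
    exact Subgroup.mem_center_iff.1 ((QuotientGroup.eq_one_iff _).1 (h6.le trivial : θ b = 1)) a

theorem exists_pre_D4 (F : Type*) [Field F] : ∃ Y : PreSt gD4.cd F (Omega F (quadFormPlus 4 F)), Y.G = ⊤ ∧
    (¬ ∀ a b : Omega F (quadFormPlus 4 F), a * b = b * a) ∧ ∀ r t, ((Y.x r t).1.1 : Matrix _ _ F) = xm (polD4 r) t := by
  obtain ⟨X, h1, h2, h3⟩ := exists_pre_D' F (l := 3) (by decide)
  have h4 : ∀ r < 24, (datD4 r).1 ≠ (datD4 r).2.1 ∧ (datD4 r).1 ≠ (datD4 r).2.1.swap ∧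
      (datD4 r).2.2 * (datD4 r).2.2 = 1 := by decide +kernel
  let B := bdD 3 (by decide)
  have h5 : ∀ (r : Fin chevD4.nroots) t, ((X.x (B.rt' (h4 r r.2).1 (Or.inr (h4 r r.2).2.1))
      ((datD4 r).2.2 * B.s (datD4 r).1 (datD4 r).2.1 * t)).1.1 : Matrix _ _ F) = xm (polD4 r) t := fun r t => by
      obtain ⟨a1, a2, -⟩ := h4 r r.2
      refine (congrArg Units.val (h3 _ _)).trans ?_
      rw [MR.coe_x, BD.rt', B.X_short a1 a2, xm, polD4]
      have b1 := congrArg (Int.cast : ℤ → F) (B.gs _ _ a1 (Or.inr a2))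
      have b2 := congrArg (Int.cast : ℤ → F) (B.s_sq (datD4 r).1 (datD4 r).2.1)
      generalize datD4 r = d at *
      obtain ⟨a, b, e⟩ := d
      change ((1 * _ + 1 * _ : ℤ) : F) = _ at b1
      push_cast at b1 b2
      rw [List.map_cons, List.map_cons, List.sum_cons, List.sum_cons, map_add, smul_add, add_comm (1 : Matrix _ _ F), add_assoc]
      simp only [MR.φ, RingHom.mapMatrix_apply, Matrix.map_single, smul_single, smul_eq_mul, eq_intCast]
      congr 2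
      · linear_combination (e * t) * b2
      · congr 1; push_cast
        linear_combination (e * t * B.s a b) * b1 - e * t * b2
      · ext a b
        rcases a with a | a <;> rcases b with b | b <;> fin_cases a <;> fin_cases b <;> simp
  obtain ⟨Y, hY⟩ := exists_pre_of_chk gD4 polD4 chk_D4
    ((Units.coeHom _).comp ((Subgroup.subtype _).comp (Subgroup.subtype _)))
    (Units.val_injective.comp (Subtype.val_injective.comp Subtype.val_injective))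
    (fun r t => X.x (B.rt' (h4 r r.2).1 (Or.inr (h4 r r.2).2.1)) ((datD4 r).2.2 * B.s (datD4 r).1 (datD4 r).2.1 * t))
    h5
    fun r t u => by rw [X.add, mul_add]
  refine ⟨Y, top_unique (h2.ge.trans ((Subgroup.closure_le _).2 ?_)),
    fun h => h1.not_comm ⟨⟨fun a b => Subtype.ext (h a b)⟩⟩, fun r t => by rw [hY]; exact h5 r t⟩
  rintro _ ⟨r, -, t, rfl⟩
  obtain ⟨a, b, e1, e2, rfl⟩ := B.exists_rt' r
  obtain ⟨r, hr, e⟩ := (by decide +kernel : ∀ a b : Fin 4 ⊕ Fin 4, a ≠ b → a ≠ b.swap → ∃ r < 24,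
    wb a - wb b = wb (datD4 r).1 - wb (datD4 r).2.1) a b e1 (e2.resolve_left (by decide))
  have := Y.x_mem_G ⟨r, hr⟩ ((datD4 r).2.2 * B.s (datD4 r).1 (datD4 r).2.1 * t)
  rw [hY] at this
  have b1 := congrArg (Int.cast : ℤ → F) (h4 r hr).2.2
  have b2 := congrArg (Int.cast : ℤ → F) (B.s_sq (datD4 r).1 (datD4 r).2.1)
  push_cast at b1 b2
  rwa [show B.rt' e1 e2 = B.rt' (h4 r hr).1 (Or.inr (h4 r hr).2.1) from Subtype.ext e, show t = (datD4 r).2.2 *
    B.s (datD4 r).1 (datD4 r).2.1 * ((datD4 r).2.2 * B.s (datD4 r).1 (datD4 r).2.1 * t) by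
      linear_combination -(t * (datD4 r).2.2 ^ 2) * b2 - t * b1]


variable {F : Type*} [Field F] [Finite F]

theorem sp_conj {I R : Type} [Fintype I] [DecidableEq I] {Φ : CD I R} {Γ : Type*} [Group Γ] {X : PreSt Φ F Γ}
    {α θ : MulAut Γ} {π : Equiv.Perm I} {c d : I → Fˣ} {σ : I → F ≃+* F} (h : X.SP α π c σ)
    (h' : X.SP θ (1 : Equiv.Perm I) d fun _ => 1) : X.SP ⇑(α * θ * α⁻¹) (1 : Equiv.Perm I)
      (fun i => Units.map (σ (π⁻¹ i) : F →* F) (d (π⁻¹ i))) fun _ => 1 := fun i t => by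
  obtain ⟨i, rfl⟩ := π.surjective i
  constructor
  · obtain ⟨t, rfl⟩ : ∃ s, t = c i * σ i s := ⟨(σ i).symm ((c i)⁻¹ * t), by simp⟩
    rw [← (h i t).1, MulAut.mul_apply, MulAut.mul_apply, MulAut.inv_apply_self, (h' i t).1, (h _ _).1]
    simp [mul_left_comm]
  · obtain ⟨t, rfl⟩ : ∃ s, t = (c i)⁻¹ * σ i s := ⟨(σ i).symm (c i * t), by simp⟩
    rw [← (h i t).2, MulAut.mul_apply, MulAut.mul_apply, MulAut.inv_apply_self, (h' i t).2, (h _ _).2]
    simp [mul_left_comm]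

omit [Finite F] in
theorem coe_dgE_basisFun {ι : Type*} [Fintype ι] [DecidableEq ι] (u : ι → Fˣ) :
    (dgE (Pi.basisFun F ι) u : Matrix ι ι F) = diagonal fun i => (u i : F) := by
  ext i j
  have := congrFun (dgE_mulVec (Pi.basisFun F ι) u j) i
  by_cases h : i = j <;> simp_all [Pi.single_apply]

omit [Finite F] in
theorem xm_diag {u : Fin 4 ⊕ Fin 4 → Fˣ} {l : Fˣ} (hu : ∀ i, u (.inl i) * u (.inr i) = l) (r : ℕ) (t : F) :
    xm (polD4 r) ((u (datD4 r).1 / u (datD4 r).2.1 : Fˣ) * t) * diagonal (fun i => (u i : F)) =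
      diagonal (fun i => (u i : F)) * xm (polD4 r) t := by
  have h1 : ∀ a, (u a.swap : F) = l / u a := by
    rintro (a | a) <;> simp [← hu a]
  have h2 : ∀ a b (x y : F), x * u b = u a * y → single a b x * diagonal (fun i => (u i : F)) =
      diagonal (fun i => (u i : F)) * single a b y := fun a b x y h => by
    ext i j
    rw [mul_diagonal, diagonal_mul, single_apply, single_apply]
    split_ifs with h'
    · rw [← h'.1, ← h'.2, h]
    · simp
  rw [xm, xm, polD4]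
  generalize datD4 r = d
  obtain ⟨a, b, e⟩ := d
  simp only [List.map_cons, List.sum_cons, List.map_nil, List.sum_nil, add_mul, mul_add,
    zero_mul, mul_zero, pow_zero, pow_one, h2 _ _ _ _ (mul_comm _ _)]
  rw [h2 a b _ (e * t) (by simp; field_simp), h2 b.swap a.swap _ ((-e : ℤ) * t) (by simp [h1]; field_simp)]

theorem exists_dgE_KO {ι : Type*} [Fintype ι] [DecidableEq ι] [Nonempty ι] {S : Form (orthParam F) (ι → F)}
    {κ : Type*} [Fintype κ] [DecidableEq κ] {e f : κ → ι → F} (hf : S.IsHypFam e f)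
    {b : Module.Basis (κ ⊕ κ) F (ι → F)} (hb : ⇑b = Sum.elim e f) (hS : S.Nondeg) (hG : GenC F ι) {k : ℕ}
    (hk : Fintype.card ι = 2 * k) (i₀ : κ) {g : Sim S} (hg : sdk hS hG hk g = 1) :
    ∃ (u : κ ⊕ κ → Fˣ) (hu : ∀ i, u (.inl i) * u (.inr i) = simMult hS g),
      g * (⟨_, dgE_mem_Sim hf hb hu⟩ : Sim S)⁻¹ ∈ KO hS hG := by
  have hu : ∀ i : κ, Sum.elim (fun _ : κ => simMult hS g) (fun _ : κ => 1) (.inl i) *
    Sum.elim (fun _ : κ => simMult hS g) (fun _ : κ => 1) (.inr i) = simMult hS g := fun i => by simp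
  set h := g * (⟨_, dgE_mem_Sim hf hb hu⟩ : Sim S)⁻¹ with hh
  have a1 : (h : GL ι F) ∈ OG S := (mem_OG_iff_simMult hS _).2 (by
    rw [hh, map_mul, map_inv, simMult_dgE hf hb hS hu, mul_inv_cancel])
  have a2 : dkG (h : GL ι F) = 1 := by
    rw [← sdk_OG hS hG hk a1, hh, map_mul, map_inv, sdk_dgE hf hb hS hG hk hu, hg]; simp
  obtain ⟨c, hc⟩ : ∃ c : Fˣ, chi (c : F) = spG S (h : GL ι F) := by
    by_cases h2 : (2 : F) = 0
    · exact ⟨1, by rw [spG_of_two hS hG h2 a1]; simp⟩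
    · obtain ⟨a, ha, h⟩ := exists_chi_eq h2 (spG S (h : GL ι F))
      exact ⟨Units.mk0 a ha, h⟩
  obtain ⟨a3, a4⟩ := dkG_spG_dgE hf hb hS hG (Pi.mulSingle i₀ c)
  have a5 := dgE_mem_OG hf hb (Pi.mulSingle i₀ c)
  refine ⟨Sum.elim (Pi.mulSingle i₀ c) (Pi.mulSingle i₀ c)⁻¹ *
    Sum.elim (fun _ : κ => simMult hS g) (fun _ : κ => 1), fun i => by simp [mul_right_comm],
    1, h * (dgE b (Sum.elim (Pi.mulSingle i₀ c) (Pi.mulSingle i₀ c)⁻¹))⁻¹, mul_mem a1 (inv_mem a5), ?_, ?_, ?_⟩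
  · rw [dkG_mul hS hG a1 (inv_mem a5), dkG_inv hS hG a5, a2, a3, mul_one]
  · rw [spG_mul hS a1 (inv_mem a5), spG_inv hS a5, a4, ← hc, Finset.prod_eq_single i₀ (fun j _ h => by simp [h])
      (by simp)]
    simp
  · simp [hh, mul_assoc]

/-- diagonal automorphisms of `PΩ⁺₈` -/
noncomputable def dg4 {u : Fin 4 ⊕ Fin 4 → Fˣ} {l : Fˣ} (hu : ∀ i, u (.inl i) * u (.inr i) = l) :
    MulAut (POmega F (quadFormPlus 4 F)) :=
  (fsP (m := 4) (by decide)).simPsi ⟨_, dgE_mem_Sim (plusForm_hypFam 4) (basisFun_plus 4) hu⟩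

theorem exists_D4_sp : ∃ e : chevD4.group F ≃* POmega F (quadFormPlus 4 F),
    ∀ {u : Fin 4 ⊕ Fin 4 → Fˣ} {l : Fˣ} (hu : ∀ i, u (.inl i) * u (.inr i) = l),
      (gD4.adjG F).SP ((MulAut.congr e).symm (dg4 hu)) (1 : Equiv.Perm (Fin chevD4.rank))
        (fun i => u (datD4 (gD4.cd.sim i)).1 / u (datD4 (gD4.cd.sim i)).2.1) fun _ => 1 := by
  obtain ⟨Y, h1, h2, h3⟩ := exists_pre_D4 F
  obtain ⟨e, he⟩ := equiv_adj' gD4 (gD4.simple F highD4 (perfD4 F)).1 Y h1 h2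
  refine ⟨e, fun {u l} hu i t => ?_⟩
  have a1 : ∀ r t, (MulAut.congr e).symm (dg4 hu) ((gD4.adjG F).x r t) =
      (gD4.adjG F).x r ((u (datD4 r).1 / u (datD4 r).2.1 : Fˣ) * t) := fun r t => by
    refine e.injective ?_
    rw [he]
    change e (e.symm (dg4 hu (e _))) = _
    rw [MulEquiv.apply_symm_apply, he]
    refine (fsP (m := 4) (by decide)).simPhi_mk _ fun v => ?_
    rw [coe_simIncl, semiAct_inl, semiAct_inl, ← rhoGL_mulVec, ← rhoGL_mulVec, rhoGL_o, rhoGL_o, h3, h3,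
      coe_dgE_basisFun, mulVec_mulVec, mulVec_mulVec, xm_diag hu]
  refine ⟨a1 _ _, (a1 _ _).trans (congrArg _ (congrArg (· * t) (congrArg Units.val ?_)))⟩
  have a2 : ∀ i : Fin chevD4.rank, ((datD4 (gD4.cd.neg (gD4.cd.sim i))).1 = (datD4 (gD4.cd.sim i)).2.1 ∧
      (datD4 (gD4.cd.neg (gD4.cd.sim i))).2.1 = (datD4 (gD4.cd.sim i)).1) ∨
      ((datD4 (gD4.cd.neg (gD4.cd.sim i))).1 = (datD4 (gD4.cd.sim i)).1.swap ∧
      (datD4 (gD4.cd.neg (gD4.cd.sim i))).2.1 = (datD4 (gD4.cd.sim i)).2.1.swap) := by decide +kernel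
  have a3 : ∀ a, u a.swap = l / u a := by rintro (a | a) <;> simp [← hu a]
  rcases a2 i with ⟨a, b⟩ | ⟨a, b⟩ <;> rw [a, b] <;> simp [a3]

theorem exists_D4_u (d : Fin chevD4.rank → Fˣ) : ∃ (u : Fin 4 ⊕ Fin 4 → Fˣ) (l : Fˣ),
    (∀ i, u (.inl i) * u (.inr i) = l) ∧
      d = fun i => u (datD4 (gD4.cd.sim i)).1 / u (datD4 (gD4.cd.sim i)).2.1 := by
  let a : Fin 4 → Fin 4 ⊕ Fin 4 := ![.inl 0, .inl 1, .inl 2, .inl 2]
  let b : Fin 4 → Fin 4 ⊕ Fin 4 := ![.inl 1, .inl 2, .inl 3, .inr 3]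
  have a2 : ∀ i : Fin 4, (datD4 (gD4.cd.sim i)).1 = a i ∧ (datD4 (gD4.cd.sim i)).2.1 = b i := by
    decide +kernel
  have key : ∀ d : Fin 4 → Fˣ, ∃ (u : Fin 4 ⊕ Fin 4 → Fˣ) (l : Fˣ), (∀ i, u (.inl i) * u (.inr i) = l) ∧
      ∀ i, d i = u (a i) / u (b i) := fun d =>
    ⟨Sum.elim ![d 0 * d 1 * d 2, d 1 * d 2, d 2, 1] fun i => d 2 / d 3 / ![d 0 * d 1 * d 2, d 1 * d 2, d 2, 1] i,
      d 2 / d 3, fun i => by simp, fun i => by fin_cases i <;> simp [a, b]⟩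
  obtain ⟨u, l, h1, h2⟩ := key d
  exact ⟨u, l, h1, funext fun i => by rw [(a2 i).1, (a2 i).2]; exact h2 i⟩

theorem normal_aux {X Y : Type*} [Group X] [Group Y] (e : X ≃* Y) {K : Subgroup (MulAut Y)} (h1 : Inn Y ≤ K)
    (D : Set (MulAut X)) (h2 : ∀ θ ∈ D, MulAut.congr e θ ∈ K)
    (h3 : ∀ β ∈ K, ∃ θ ∈ D, β * (MulAut.congr e θ)⁻¹ ∈ Inn Y)
    (h4 : ∀ α, ∃ x, ∀ θ ∈ D, MulAut.conj x * α * θ * (MulAut.conj x * α)⁻¹ ∈ D) : K.Normal := by
  refine ⟨fun β hβ α => ?_⟩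
  obtain ⟨θ, hθ, h5⟩ := h3 β hβ
  obtain ⟨α, rfl⟩ := (MulAut.congr e).surjective α
  obtain ⟨x, hx⟩ := h4 α
  have h6 := h2 _ (hx θ hθ)
  have h8 : MulAut.congr e (MulAut.conj x) ∈ Inn Y := ⟨e x, by ext; simp⟩
  rw [map_mul, map_mul, map_inv, map_mul] at h6
  have h9 := mul_mem (mul_mem (inv_mem (h1 h8)) (mul_mem (h1 ((inferInstance : (Inn Y).Normal).conj_mem _ h5
    (MulAut.congr e (MulAut.conj x) * MulAut.congr e α))) h6)) (h1 h8)
  convert h9 using 1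
  group

theorem psiP_normal_four : ((fsP (F := F) (m := 4) (by decide)).psiP (genC_of (five_plus (by decide)))
    (card_plus 4)).range.Normal := by
  obtain ⟨e, he⟩ := exists_D4_sp (F := F)
  have H := fsP (F := F) (m := 4) (by decide)
  have h5 := five_plus (m := 4) (by decide)
  have hG : GenC F (Fin 4 ⊕ Fin 4) := genC_of h5
  refine normal_aux e (fun β hβ => ?_)
    {θ | ∃ d, (gD4.adjG F).SP θ (1 : Equiv.Perm (Fin chevD4.rank)) d fun _ => 1} ?_ (fun β hβ => ?_) fun α => ?_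
  · obtain ⟨g, rfl⟩ := H.Inn_le_simPsi hβ
    exact (H.mem_psiP hG _).2 ⟨g, sdk_of_KO H.nd hG _ ((o_mem_Inn (plusForm_Q 4) H.nd h5 g).1 hβ), rfl⟩
  · rintro θ ⟨d, h⟩
    obtain ⟨u, l, hu, rfl⟩ := exists_D4_u d
    rw [(gD4.isStG F).sp_ext (gD4.adjG_G F) h (he hu), MulEquiv.apply_symm_apply]
    exact (H.mem_psiP hG _).2 ⟨_, sdk_dgE (plusForm_hypFam 4) (basisFun_plus 4) H.nd hG _ hu, rfl⟩
  · obtain ⟨g, hg, rfl⟩ := (H.mem_psiP hG _).1 hβ
    obtain ⟨u, hu, h4⟩ := exists_dgE_KO (plusForm_hypFam 4) (basisFun_plus 4) H.nd hG _ 0 hg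
    refine ⟨_, ⟨_, he hu⟩, ?_⟩
    rw [MulEquiv.apply_symm_apply]
    have := (o_mem_Inn (plusForm_Q 4) H.nd h5 _).2 h4
    rw [map_mul, map_inv] at this
    exact this
  obtain ⟨x, hx⟩ := gD4.exists_stab α
  obtain ⟨π, c, σ, h5⟩ := (gD4.isStG F).exists_sp (gD4.adjG_G F) hx
  exact ⟨x, fun θ ⟨d, h⟩ => ⟨_, sp_conj h5 h⟩⟩

theorem psiP_normal_plus {m : ℕ} [Nonempty (Fin m ⊕ Fin m)] (hm : 4 ≤ m) :
    ((fsP (F := F) (m := m) (by omega)).psiP (genC_of (five_plus (by omega))) (card_plus m)).range.Normal := by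
  rcases hm.eq_or_lt with rfl | h
  · exact psiP_normal_four
  exact FSetup.psiP_normal _ _ _ (o_surj (plusForm_Q m) (plusForm_nondeg m) (by rw [card_plus]; omega)
    fun h => by rw [card_plus] at h; omega)

end CfsgH8
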