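import Cfsg.Agent.H1.Generation
import Cfsg.Agent.H1.Cores
import Cfsg.Agent.H2.Isolated
import Cfsg.Agent.H2.TwoGroup
import Cfsg.Agent.H2.Focal
import Cfsg.Agent.FT.Hall
import Cfsg.Prelude.Def_SubgroupEmbedding

/-! Extremely closed abelian 2-subgroups. -/

set_option autoImplicit false
set_option linter.style.haveILetI false
set_option linter.unusedSectionVars false

namespace CfsgH8

open Cfsg Subgroup CfsgFT CfsgH2
open scoped Pointwise commutatorElement

universe u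

variable {G : Type u} [Group G] [Finite G]

theorem ec_syl {p : ℕ} [Fact p.Prime] {H : Subgroup G} (hp : IsPGroup p H) (h : IsExtremelyClosed H)
    (g : G) : IsSylowIn p H (H ⊔ cj g H) :=
  IsSylowIn.of_maximal le_sup_left hp fun Q a b c => by
    by_contra e
    exact (lt_inf_normalizer a (lt_of_le_not_ge b e)).not_ge ((inf_le_inf_right _ c).trans (h g).le)

theorem ec_map {p : ℕ} [Fact p.Prime] {H : Subgroup G} (hp : IsPGroup p H) (h : IsExtremelyClosed H)
    (N : Subgroup G) [N.Normal] : IsExtremelyClosed (H.map (QuotientGroup.mk' N)) := by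
  intro g
  obtain ⟨g, rfl⟩ := QuotientGroup.mk'_surjective N g
  refine le_antisymm ?_ (le_inf le_sup_left le_normalizer)
  have e : (H.map (QuotientGroup.mk' N)).map (MulAut.conj (QuotientGroup.mk' N g)).toMonoidHom =
      (cj g H).map (QuotientGroup.mk' N) := by
    rw [cj, map_map, map_map]; congr 1
  rw [e, ← Subgroup.map_sup]
  rintro _ ⟨⟨x, hx, rfl⟩, hx'⟩
  set M := (H.map (QuotientGroup.mk' N)).comap (QuotientGroup.mk' N)
  have hxM : x ∈ N(M) := mem_normalizer_of_conj_mem fun y hy => by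
    have := conj_mem_of_mem_normalizer hx' hy
    rwa [← map_inv, ← map_mul, ← map_mul] at this
  have hS : IsSylowIn p H ((H ⊔ cj g H) ⊓ M) :=
    (ec_syl hp h g).mono (le_inf le_sup_left (le_comap_map _ _)) inf_le_left
  obtain ⟨n, hn, e⟩ := hS.frattini (g := x) (le_normalizer_inf' (A := zpowers x)
    ((zpowers_le.2 hx).trans le_normalizer) (zpowers_le.2 hxM) (mem_zpowers x))
  have : n * x ∈ M := le_comap_map _ _ ((h g).le ⟨mul_mem hn.1 hx, e⟩)
  exact (mul_mem_cancel_left (H := M) hn.2).1 this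

theorem ec_sub {H K : Subgroup G} (hK : H ≤ K) (h : IsExtremelyClosed H) :
    IsExtremelyClosed (H.subgroupOf K) := by
  intro g
  refine le_antisymm ?_ (le_inf le_sup_left le_normalizer)
  rintro x ⟨hx, hx'⟩
  have h1 : H.subgroupOf K ⊔ (H.subgroupOf K).map (MulAut.conj g).toMonoidHom ≤
      (H ⊔ cj g H).subgroupOf K := sup_le (fun y hy => mem_sup_left hy) (by
    rintro _ ⟨y, hy, rfl⟩
    exact mem_sup_right (conj_mem_cj (g : G) hy))
  refine (h g).le ⟨h1 hx, mem_normalizer_of_conj_mem fun y hy => ?_⟩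
  exact conj_mem_of_mem_normalizer (H := H.subgroupOf K) (x := ⟨y, hK hy⟩) hx' hy

theorem ec_cj {H : Subgroup G} (h : IsExtremelyClosed H) (a : G) : IsExtremelyClosed (cj a H) := by
  intro g
  have := congrArg (cj a) (h (a⁻¹ * g * a))
  rw [cj_inf, cj_sup, cj_def, cj_cj, cj_normalizer] at this
  rw [cj_def, cj_cj]
  convert this using 4; group

/-- `L = H Y` with `Y` a normal subgroup of odd order -/
structure OX (H Y L : Subgroup G) : Prop where
  pg : IsPGroup 2 H
  sup : H ⊔ Y = L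
  odd : ¬ 2 ∣ Nat.card Y
  nor : H ≤ N(Y)

theorem OX.norm {H Y L : Subgroup G} (h : OX H Y L) : L ≤ N(Y) :=
  h.sup ▸ sup_le h.nor le_normalizer

theorem OX.mem {H Y L : Subgroup G} (h : OX H Y L) {x : G} (hx : x ∈ L) (ho : Odd (orderOf x)) :
    x ∈ Y := by
  have := mem_resIn_of_coprime (p := 2) hx (Nat.coprime_two_right.2 ho)
  rw [← h.sup, resIn_sup_of_isPGroup h.pg h.nor] at this
  exact resIn_le _ this

theorem OX.odd_of {H Y L : Subgroup G} (h : OX H Y L) {x : G} (hx : x ∈ Y) : Odd (orderOf x) :=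
  Nat.coprime_two_right.1 (coprime_orderOf_of_not_dvd_card h.odd hx)

theorem OX.eq_one {H Y L : Subgroup G} (h : OX H Y L) {x : G} (hx : x ∈ Y) (hx' : x ∈ H) : x = 1 :=
  eq_one_of_mem_pgroup_of_coprime h.pg hx' (coprime_orderOf_of_not_dvd_card h.odd hx)

theorem OX.syl {H Y L : Subgroup G} (h : OX H Y L) : IsSylowIn 2 H L :=
  IsSylowIn.of_maximal (h.sup ▸ le_sup_left) h.pg fun Q a b c x hx => by
    have := c hx
    rw [← h.sup, sup_comm] at this
    obtain ⟨y, hy, v, hv, e⟩ := (mem_sup_of_normalizer h.nor).1 this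
    have : y ∈ Q := by simpa [← e] using mul_mem hx (inv_mem (b hv))
    rw [← e, eq_one_of_mem_pgroup_of_coprime a this (coprime_orderOf_of_not_dvd_card h.odd hy),
      one_mul]
    exact hv

theorem pow_congr_mod {Y : Subgroup G} {x t : G} (hx : x ∈ N(Y)) (h : x * t⁻¹ ∈ Y) (k : ℕ) :
    x ^ k * (t ^ k)⁻¹ ∈ Y := by
  induction k with
  | zero => simp
  | succ k ih =>
    have : x ^ (k + 1) * (t ^ (k + 1))⁻¹ = x * (x ^ k * (t ^ k)⁻¹) * x⁻¹ * (x * t⁻¹) := by group
    rw [this]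
    exact mul_mem (conj_mem_of_mem_normalizer hx ih) h

theorem OX.exists_type {H Y L : Subgroup G} (h : OX H Y L) {s : G} (hs : s ∈ L) (h2 : s * s = 1) :
    ∃ v ∈ H, v * v = 1 ∧ s * v ∈ Y := by
  rw [← h.sup, sup_comm] at hs
  obtain ⟨y, hy, v, hv, e⟩ := (mem_sup_of_normalizer h.nor).1 hs
  have h1 : s * v⁻¹ ∈ Y := by rw [← e]; simpa using hy
  have h3 := pow_congr_mod (h.norm (h.sup ▸ sup_comm H Y ▸ hs)) h1 2
  rw [pow_two, h2, one_mul, inv_mem_iff, pow_two] at h3
  have h4 := h.eq_one h3 (mul_mem hv hv)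
  exact ⟨v, hv, h4, by rwa [inv_eq_of_mul_eq_one_right h4] at h1⟩

theorem OX.cj {H Y L : Subgroup G} (h : OX H Y L) {g : G} (hg : g ∈ N(L)) (hY : g ∈ N(Y)) :
    OX (cj g H) Y L :=
  ⟨IsPGroup_cj h.pg g, by
    rw [← cj_eq_iff_mem_normalizer.2 hY, ← cj_sup, h.sup, cj_eq_iff_mem_normalizer.2 hg], h.odd,
    by
      refine le_trans ?_ h.norm
      rw [← cj_eq_iff_mem_normalizer.2 hg, ← h.sup]; exact cj_mono g le_sup_left⟩

theorem ec_ox {H : Subgroup G} (hp : IsPGroup 2 H) (hc : IsMulCommutative H)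
    (h : IsExtremelyClosed H) (g : G) : ∃ Y, OX H Y (H ⊔ cj g H) := by
  have h3 := ec_syl hp h g
  have h4 := burnside_hasNPC h3 ((h g).le.trans (isMulCommutative_iff_le_centralizer.1 hc))
  exact ⟨resIn 2 (H ⊔ cj g H), hp, h3.sup_resIn, hasNPC_subgroup_iff.1 h4,
    le_sup_left.trans (le_normalizer_resIn _)⟩

theorem odd_conj (g x : G) : Odd (orderOf (g * x * g⁻¹)) ↔ Odd (orderOf x) := by
  rw [orderOf_conj']

/-- the key transfer of types -/
theorem ec_key {H1 H2 Y1 Y2 L1 L2 O D : Subgroup G} {w s v1 v2 : G} (h1 : OX H1 Y1 L1)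
    (h2 : OX H2 Y2 L2) (k1 : OX H1 O D) (k2 : OX H2 O D) (hD : C1(w) ≤ N(D))
    (c1 : IsMulCommutative H1) (c2 : IsMulCommutative H2) (w1 : w ∈ H1) (w2 : w ∈ H2)
    (hw : w * w = 1) (s1 : s ∈ L1) (s2 : s ∈ L2) (hs : s * s = 1) (a1 : v1 ∈ H1) (a2 : v2 ∈ H2)
    (b1 : v1 * v1 = 1) (b2 : v2 * v2 = 1) (ho : Odd (orderOf (v1 * v2))) (h : Odd (orderOf (s * v1))) :
    Odd (orderOf (s * v2)) := by
  have l1 : H1 ≤ L1 := h1.sup ▸ le_sup_left
  have l2 : H2 ≤ L2 := h2.sup ▸ le_sup_left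
  have d1 : H1 ≤ D := k1.sup ▸ le_sup_left
  have d2 : H2 ≤ D := k2.sup ▸ le_sup_left
  obtain ⟨v, a, b, c⟩ := h2.exists_type s2 hs
  have e1 := mul_comm_of_isMulCommutative c1 w1 a1
  have e2 := mul_comm_of_isMulCommutative c2 w2 a
  have iw : w⁻¹ = w := inv_eq_of_mul_eq_one_right hw
  have sq : ∀ t : G, t * t = 1 → w * t = t * w → (t * w) ^ 2 = 1 := fun t p q => by
    rw [pow_two, mul_assoc, ← mul_assoc w, q, mul_assoc, hw, mul_one, p]
  have cg : ∀ (Y L : Subgroup G) (t : G), L ≤ N(Y) → s ∈ L → w ∈ L → s * t ∈ Y → t * t = 1 →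
      ∀ k, (s * w) ^ k * ((t * w) ^ k)⁻¹ ∈ Y := fun Y L t p q r z y k =>
    pow_congr_mod (p (mul_mem q r)) (by
      rw [mul_inv_rev, inv_eq_of_mul_eq_one_right y]; simpa [mul_assoc] using z) k
  have x1 := h1.mem (mul_mem s1 (l1 a1)) h
  have q1 := cg Y1 L1 v1 h1.norm s1 (l1 w1) x1 b1
  have q2 := cg Y2 L2 v h2.norm s2 (l2 w2) c b
  have o2 : Odd (orderOf ((s * w) ^ 2)) := h1.odd_of (by simpa [sq v1 b1 e1] using q1 2)
  set k := orderOf ((s * w) ^ 2)
  set u := (s * w) ^ k with hu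
  have u2 : u * u = 1 := by rw [← pow_two, ← pow_mul, mul_comm, pow_mul, pow_orderOf_eq_one]
  have od : ∀ t : G, t ^ 2 = 1 → (t ^ k)⁻¹ = t := fun t ht => by
    obtain ⟨m, hm⟩ := o2
    rw [hm, pow_succ, pow_mul, ht, one_pow, one_mul]
    exact inv_eq_of_mul_eq_one_right (by rwa [pow_two] at ht)
  have r1 := q1 k
  have r2 := q2 k
  rw [od _ (sq v1 b1 e1)] at r1
  rw [od _ (sq v b e2)] at r2
  have uw : u ∈ C1(w) := by
    rw [mem_centralizer_singleton_iff]
    have : w * (s * w) * w⁻¹ = (s * w)⁻¹ := by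
      rw [mul_inv_rev, iw, inv_eq_of_mul_eq_one_right hs]; simp [mul_assoc, hw]
    have e : w * u * w⁻¹ = u := by
      rw [hu, ← conj_pow, this, inv_pow]; exact inv_eq_of_mul_eq_one_right u2
    exact (mul_inv_eq_iff_eq_mul.1 e).symm
  have uL : u ∈ L1 := pow_mem (mul_mem s1 (l1 w1)) _
  have uD : u ∈ D := by
    have hS' : IsSylowIn 2 H1 (L1 ⊓ C1(w)) := h1.syl.mono (le_inf l1 fun x hx =>
      mem_centralizer_singleton_iff.2 (mul_comm_of_isMulCommutative c1 hx w1)) inf_le_left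
    obtain ⟨c, hc, e⟩ := hS'.exists_cj_le (Q := zpowers u) (by
      obtain ⟨i, -, e⟩ := (Nat.dvd_prime_pow Nat.prime_two).1
        (orderOf_dvd_of_pow_eq_one (show u ^ 2 ^ 1 = 1 by rwa [pow_one, pow_two]))
      exact isPGroup_zpowers_of_orderOf e) (zpowers_le.2 ⟨uL, uw⟩)
    simpa [mul_assoc] using conj_mem_of_mem_normalizer' (hD hc.2)
      (d1 (e (conj_mem_cj c (mem_zpowers u))))
  have A := k1.mem (mul_mem uD (d1 (mul_mem a1 w1))) (h1.odd_of r1)
  have B := k1.mem (mul_mem (d1 a1) (d2 a2)) ho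
  have C := k1.mem (mul_mem uD (d2 (mul_mem a w2))) (h2.odd_of r2)
  have : v * v2 = 1 := k2.eq_one (by
    have := mul_mem (mul_mem (inv_mem C) A) B
    rw [mul_inv_rev, mul_inv_rev, iw, inv_eq_of_mul_eq_one_right b, e2, mul_assoc, mul_assoc,
      mul_assoc u, inv_mul_cancel_left, ← e1, mul_assoc, mul_assoc, ← mul_assoc w, hw, one_mul,
      ← mul_assoc v1, b1, one_mul] at this
    exact this) (mul_mem a a2)
  have : v = v2 := by rw [eq_inv_of_mul_eq_one_left this, inv_eq_of_mul_eq_one_right b2]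
  exact h2.odd_of (this ▸ c)

/-- elements preserving all types -/
def TypeStab (H : Subgroup G) : Subgroup G where
  carrier := {g | ∀ v ∈ H, v * v = 1 → ∀ a, ∀ s ∈ cj a H, s * s = 1 →
    (Odd (orderOf (s * v)) ↔ Odd (orderOf (s * (g * v * g⁻¹))))}
  one_mem' := fun v _ _ a s _ _ => by simp
  mul_mem' := by
    intro g h hg hh v hv v2 a s hs s2
    have m : g⁻¹ * s * g⁻¹⁻¹ ∈ cj (g⁻¹ * a) H := cj_cj g⁻¹ a H ▸ conj_mem_cj g⁻¹ hs
    rw [hg v hv v2 a s hs s2, ← odd_conj g⁻¹, ← odd_conj g⁻¹ (s * _)]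
    convert hh v hv v2 _ _ m (by rw [conj_mul, s2]; group) using 3 <;> group
  inv_mem' := by
    intro g hg v hv v2 a s hs s2
    have m : g * s * g⁻¹ ∈ cj (g * a) H := cj_cj g a H ▸ conj_mem_cj g hs
    rw [← odd_conj g, ← odd_conj g (s * _)]
    convert (hg v hv v2 _ _ m (by rw [conj_mul, s2]; group)).symm using 3 <;> group

theorem norm_le_norm_typeStab (H : Subgroup G) : N(H) ≤ N(TypeStab H) := fun n hn =>
  mem_normalizer_of_conj_mem fun g hg v hv v2 a s hs s2 => by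
    have m : n⁻¹ * s * n⁻¹⁻¹ ∈ cj (n⁻¹ * a) H := cj_cj n⁻¹ a H ▸ conj_mem_cj n⁻¹ hs
    rw [← odd_conj n⁻¹, ← odd_conj n⁻¹ (s * _)]
    convert hg _ (conj_mem_of_mem_normalizer (inv_mem hn) hv) (by rw [conj_mul, v2]; group) _ _ m
      (by rw [conj_mul, s2]; group) using 3 <;> group

theorem exists_invol_zpowers {H : Subgroup G} (hp : IsPGroup 2 H) {a : G} (ha : a ∈ H) (h1 : a ≠ 1) :
    ∃ w ∈ zpowers a, orderOf w = 2 := by
  obtain ⟨k, hk⟩ := exists_orderOf_eq_pow hp ha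
  obtain ⟨w, hw⟩ := exists_prime_orderOf_dvd_card' (G := zpowers a) 2 (by
    rw [Nat.card_zpowers, hk]
    exact dvd_pow_self 2 (by rintro rfl; exact h1 (orderOf_eq_one_iff.1 hk)))
  exact ⟨w, w.2, by rwa [Subgroup.orderOf_coe]⟩

theorem iso_of_odd {w : G} (hw : orderOf w = 2) (h : ∀ g, Odd (orderOf (w * (g * w * g⁻¹)))) :
    IsIsolatedInvolution w := ⟨hw, fun g c => by
  have w2 : w * w = 1 := by rw [← pow_two, ← hw, pow_orderOf_eq_one]
  have : (w * (g * w * g⁻¹)) ^ 2 = 1 := by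
    rw [c.mul_pow, conj_pow, pow_two, w2]; group
  have e := (Nat.coprime_two_right.2 (h g)).eq_one_of_dvd (orderOf_dvd_of_pow_eq_one this)
  rw [orderOf_eq_one_iff] at e
  rw [eq_inv_of_mul_eq_one_right e, inv_eq_of_mul_eq_one_right w2]⟩

theorem ec_core (n : ℕ) : ∀ (G : Type u) [Group G] [Finite G], Nat.card G ≤ n →
    ∀ H : Subgroup G, IsPGroup 2 H → IsMulCommutative H → IsExtremelyClosed H →
      (H ⊔ pPrimeCore 2 G).Normal := by
  induction n with
  | zero => intro G _ _ h; have : 0 < Nat.card G := Nat.card_pos; omega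
  | succ n ih =>
  intro G _ _ hn H hp hc h
  have quo : ∀ (N : Subgroup G) [N.Normal], N ≠ ⊥ → pPrimeCore 2 (G ⧸ N) = ⊥ → (H ⊔ N).Normal :=
    fun N _ h0 h1 => by
      have := ih (G ⧸ N) (by
        have := card_eq_card_quotient_mul_card_subgroup N
        have h2 := (one_lt_card_iff_ne_bot N).2 h0
        have h3 : 0 < Nat.card (G ⧸ N) := Nat.card_pos
        nlinarith) (H.map (QuotientGroup.mk' N)) (hp.map _) inferInstance (ec_map hp h N)
      rw [h1, sup_bot_eq] at this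
      rw [← QuotientGroup.ker_mk' N, ← comap_map_eq]
      exact this.comap _
  by_cases hO : pPrimeCore 2 G = ⊥
  swap
  · exact quo _ hO (CfsgH1.pPrimeCore_quotient_pPrimeCore 2 G)
  rw [hO, sup_bot_eq]
  by_cases hz : ∃ w ∈ H, w ≠ 1 ∧ w ∈ center G
  · obtain ⟨w, a, b, c⟩ := hz
    haveI : (zpowers w).Normal := normal_of_le_center (zpowers_le.2 c)
    have := quo (zpowers w) (by simpa using b)
      (pPrimeCore_quot_eq_bot (hp.to_le (zpowers_le.2 a)) (zpowers_le.2 c) hO)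
    rwa [sup_eq_left.2 (zpowers_le.2 a)] at this
  push Not at hz
  rcases H.bot_or_exists_ne_one with rfl | ⟨a0, ha0, ha1⟩
  · infer_instance
  have hH : ∀ w ∈ H, H ≤ C1(w) := fun w hw x hx =>
    mem_centralizer_singleton_iff.2 (mul_comm_of_isMulCommutative hc hx hw)
  have loc : ∀ w ∈ H, w ≠ 1 → ∃ O D, OX H O D ∧ C1(w) ≤ N(D) ∧ C1(w) ≤ N(O) := fun w a b => by
    have := ih C1(w) (by
      have : C1(w) < ⊤ := lt_top_iff_ne_top.2 fun e => hz w a b (mem_center_iff.2 fun g =>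
        mem_centralizer_singleton_iff.1 (e ▸ mem_top g))
      have := card_lt_of_lt this
      rw [card_top] at this; omega) (H.subgroupOf C1(w)) hp.comap_subtype inferInstance
      (ec_sub (hH w a) h)
    have hO := le_normalizer.trans (CfsgH1.normalizer_le_normalizer_pPrimeCore (p := 2) C1(w))
    refine ⟨(pPrimeCore 2 C1(w)).map C1(w).subtype, _, ⟨hp, rfl, (Nat.Prime.coprime_iff_not_dvd
      Nat.prime_two).1 (CfsgH1.coprime_card_map_pPrimeCore _).symm, (hH w a).trans hO⟩, ?_, hO⟩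
    have e := le_normalizer_map (H := H.subgroupOf C1(w) ⊔ pPrimeCore 2 C1(w)) C1(w).subtype
    rwa [normalizer_eq_top_iff.2 this, ← MonoidHom.range_eq_map, range_subtype, Subgroup.map_sup,
      subgroupOf_map_subtype, inf_eq_left.2 (hH w a)] at e
  obtain ⟨w, w1, w2⟩ := exists_invol_zpowers hp ha0 ha1
  have wH : w ∈ H := zpowers_le.2 ha0 w1
  have w0 : w ≠ 1 := by rintro rfl; simp at w2
  have ww : w * w = 1 := by rw [← pow_two, ← w2, pow_orderOf_eq_one]
  by_cases hcy : IsCyclic H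
  · refine absurd (zstar_center (iso_of_odd w2 fun g => ?_) hO) (hz w wH w0)
    obtain ⟨Y, hY⟩ := ec_ox hp hc h g
    obtain ⟨v, a, b, c⟩ := hY.exists_type (mem_sup_right (conj_mem_cj g wH))
      (by rw [conj_mul, ww]; group)
    have : v ≠ 1 := by
      rintro rfl
      have := hY.odd_of c
      rw [mul_one, orderOf_conj', w2] at this
      exact absurd this (by decide)
    rw [uniqInv_of_isCyclic hcy v a w wH (orderOf_eq_prime (by rwa [pow_two]) this) w2] at c
    have := hY.odd_of c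
    rwa [← odd_conj w, ← mul_assoc, mul_inv_cancel_right] at this
  have hT : H ≤ TypeStab H := fun x hx v hv _ a s _ _ => by
    rw [mul_comm_of_isMulCommutative hc hx hv, mul_inv_cancel_right]
  have hL : ∀ g, H ⊔ cj g H ≤ TypeStab H := fun g => by
    obtain ⟨Y, hY⟩ := ec_ox hp hc h g
    rw [← hY.sup]
    refine sup_le hT (CfsgH1.le_of_noncyclic hcy hY.nor
      (CfsgH1.IsPGroup.coprime_card_of_coprime hp
        ((Nat.Prime.coprime_iff_not_dvd Nat.prime_two).2 hY.odd).symm) fun a ha h1 y hy => ?_)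
    obtain ⟨t, t1, t2⟩ := exists_invol_zpowers hp ha h1
    have tH : t ∈ H := zpowers_le.2 ha t1
    have tt : t * t = 1 := by rw [← pow_two, ← t2, pow_orderOf_eq_one]
    have yt : y ∈ C1(t) := by
      have := hy.2
      rw [← centralizer_zpowers'] at this
      exact centralizer_le (Set.singleton_subset_iff.2 t1) this
    obtain ⟨O, D, k1, d1, d2⟩ := loc t tH (by rintro rfl; simp at t2)
    have k2 := k1.cj (d1 yt) (d2 yt)
    intro v hv v2 b s hs s2
    obtain ⟨Y1, h1⟩ := ec_ox hp hc h b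
    obtain ⟨Y2, h2⟩ := ec_ox (IsPGroup_cj hp y) (inferInstanceAs (IsMulCommutative (H.map _)))
      (ec_cj h y) (b * y⁻¹)
    have s' : s ∈ cj y H ⊔ cj (b * y⁻¹) (cj y H) := mem_sup_right (by
      rw [cj_cj, inv_mul_cancel_right]; exact hs)
    have ty : t ∈ cj y H := by
      have := conj_mem_cj y tH
      rwa [mem_centralizer_singleton_iff.1 yt, mul_inv_cancel_right] at this
    have v3 : y * v * y⁻¹ * (y * v * y⁻¹) = 1 := by rw [conj_mul, v2]; group
    have od : v * (y * v * y⁻¹) ∈ Y := by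
      have := mul_mem (conj_mem_of_mem_normalizer (hY.nor hv) hy.1) (inv_mem hy.1)
      rw [inv_eq_of_mul_eq_one_right v2] at this
      simpa [mul_assoc] using this
    have od' : y * v * y⁻¹ * v ∈ Y := by
      have := inv_mem od
      rwa [mul_inv_rev, inv_eq_of_mul_eq_one_right v2, inv_eq_of_mul_eq_one_right v3] at this
    exact ⟨ec_key h1 h2 k1 k2 d1 hc (inferInstanceAs (IsMulCommutative (H.map _))) tH ty tt
      (mem_sup_right hs) s' s2 hv (conj_mem_cj y hv) v2 v3 (hY.odd_of od),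
      ec_key h2 h1 k2 k1 d1 (inferInstanceAs (IsMulCommutative (H.map _))) hc ty tH tt
      s' (mem_sup_right hs) s2 (conj_mem_cj y hv) hv v3 v2 (hY.odd_of od')⟩
  have dec : ∀ g, ∃ l ∈ TypeStab H, cj l H = cj g H := fun g => by
    obtain ⟨l, a, b⟩ := (ec_syl hp h g).exists_cj_eq ((ec_syl hp h g).of_card_le (IsPGroup_cj hp g)
      le_sup_right (card_cj g H).ge)
    exact ⟨l, hL g a, b⟩
  haveI : (TypeStab H).Normal := normalizer_eq_top_iff.1 (eq_top_iff.2 fun g _ => by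
    obtain ⟨l, a, b⟩ := dec g
    have : l⁻¹ * g ∈ N(H) := by rw [← cj_eq_iff_mem_normalizer, ← cj_cj, ← b, cj_inv_cj]
    simpa using mul_mem (le_normalizer a) (norm_le_norm_typeStab H this))
  have hc0 : (⟨w, hT wH⟩ : TypeStab H) ∈ center (TypeStab H) := by
    refine zstar_center (iso_of_odd (by rw [← Subgroup.orderOf_coe]; exact w2) fun g => ?_) ?_
    · rw [← Subgroup.orderOf_coe]
      exact (g.2 w wH ww 1 w (by rwa [cj_one]) ww).1 (by simp [ww])
    · have := CfsgH1.map_pPrimeCore_le_of_normal (p := 2) (TypeStab H)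
      rw [hO, le_bot_iff] at this
      exact (map_eq_bot_iff_of_injective _ (TypeStab H).subtype_injective).1 this
  obtain ⟨O, D, k1, d1, d2⟩ := loc w wH w0
  have hK : normalClosure (H : Set G) ≤ D := by
    refine closure_le _ |>.2 fun x hx => ?_
    obtain ⟨y, hy, c⟩ := Group.mem_conjugatesOfSet_iff.1 hx
    obtain ⟨g, rfl⟩ := isConj_iff.1 c
    obtain ⟨l, a, b⟩ := dec g
    have : l ∈ C1(w) := mem_centralizer_singleton_iff.2
      (congrArg Subtype.val (mem_center_iff.1 hc0 ⟨l, a⟩))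
    have e : cj l H ≤ D := by
      rw [← cj_eq_iff_mem_normalizer.2 (d1 this), ← k1.sup]; exact cj_mono l le_sup_left
    exact e (b ▸ conj_mem_cj g hy)
  haveI := resIn_normal (p := 2) (normalClosure (H : Set G))
  have r0 : resIn 2 (normalClosure (H : Set G)) ≤ O := resIn_le_iff.2 fun g a b =>
    k1.mem (hK a) (Nat.coprime_two_right.1 b)
  have r1 : resIn 2 (normalClosure (H : Set G)) = ⊥ := by
    rw [eq_bot_iff, ← hO]
    exact CfsgH1.le_pPrimeCore (((Nat.Prime.coprime_iff_not_dvd Nat.prime_two).2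
      fun e => k1.odd (e.trans (card_dvd_of_le r0))).symm)
  rw [← k1.syl.eq_of_le (resIn_eq_bot_iff.1 r1) le_normalClosure hK]
  infer_instance

end CfsgH8
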