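import Mathlib

/-! The Feit–Higman theorem: the Hecke algebra computation. -/

set_option autoImplicit false

namespace CfsgH8

open Matrix Finset

theorem root_of_rat {ω : ℂ} {m : ℕ} (hm : 0 < m) (h : ω ^ m = 1) {c : ℚ} (hc : ω + ω⁻¹ = c) :
    ω ^ 3 = 1 ∨ ω ^ 4 = 1 ∨ ω ^ 6 = 1 := by
  have h0 : ω ≠ 0 := by rintro rfl; simp [hm.ne'] at h
  have h1 : IsIntegral ℤ ω := .of_pow hm (h ▸ isIntegral_one)
  have h2 : IsIntegral ℤ ω⁻¹ := .of_pow hm (by rw [inv_pow, h, inv_one]; exact isIntegral_one)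
  obtain ⟨n, hn⟩ := (h1.add h2).exists_int_iff_exists_rat.1 ⟨c, hc⟩
  have h3 := norm_add_le ω ω⁻¹
  rw [hn, norm_inv, Complex.norm_eq_one_of_pow_eq_one h hm.ne', Complex.norm_intCast] at h3
  have h4 : |n| ≤ 2 := by exact_mod_cast (show |(n : ℝ)| ≤ 2 by linarith)
  have h5 : ω ^ 2 + 1 = n * ω := by rw [← hn]; field_simp
  obtain ⟨h6, h7⟩ := abs_le.1 h4
  interval_cases n <;> push_cast at h5
  · have : ω = -1 := eq_neg_of_add_eq_zero_left (pow_eq_zero_iff two_ne_zero |>.1 (by linear_combination h5))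
    simp [this, show (-1 : ℂ) ^ 4 = 1 by norm_num]
  · exact .inl (by linear_combination (ω - 1) * h5)
  · exact .inr (.inl (by linear_combination (ω ^ 2 - 1) * h5))
  · exact .inr (.inr (by linear_combination (ω ^ 4 + ω ^ 3 - ω - 1) * h5))
  · have : ω = 1 := sub_eq_zero.1 (pow_eq_zero_iff two_ne_zero |>.1 (by linear_combination h5))
    simp [this]

variable {Ω : Type*} [Fintype Ω] [DecidableEq Ω]

theorem trace_of_sq {P : Matrix Ω Ω ℂ} {c : ℂ} (h : P * P = c • P) : ∃ ρ : ℕ, P.trace = ρ * c := by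
  by_cases hc : c = 0
  · exact ⟨0, by simpa using (isNilpotent_trace_of_isNilpotent ⟨2, by simp [pow_two, h, hc]⟩).eq_zero⟩
  have h1 : IsIdempotentElem (toLin' (c⁻¹ • P)) := by
    rw [IsIdempotentElem, Module.End.mul_eq_comp, ← toLin'_mul]
    simp [h, smul_smul, hc]
  have := (LinearMap.IsIdempotentElem.isProj_range _ h1).trace
  rw [trace_toLin'_eq, trace_smul, smul_eq_mul, inv_mul_eq_iff_eq_mul₀ hc] at this
  exact ⟨_, this.trans (mul_comm _ _)⟩

/-- two normalised Hecke generators -/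
structure HK (σ τ : Matrix Ω Ω ℂ) (α β : ℂ) : Prop where
  s : σ * σ = α • σ + 1
  t : τ * τ = β • τ + 1

namespace HK

variable {σ τ : Matrix Ω Ω ℂ} {α β : ℂ} (h : HK σ τ α β)
include h

theorem s' (x : Matrix Ω Ω ℂ) : σ * (σ * x) = α • (σ * x) + x := by rw [← mul_assoc, h.s]; simp [add_mul]
theorem t' (x : Matrix Ω Ω ℂ) : τ * (τ * x) = β • (τ * x) + x := by rw [← mul_assoc, h.t]; simp [add_mul]

/-- the central element -/
def z (_ : HK σ τ α β) : Matrix Ω Ω ℂ := σ * τ + τ * σ - α • τ - β • σ + (α * β) • 1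

/-- the square of the commutator -/
def D (_ : HK σ τ α β) : Matrix Ω Ω ℂ := -((σ * τ - τ * σ) * (σ * τ - τ * σ))

local macro "hk" h:term : tactic => `(tactic| (
  simp only [HK.z, HK.D, mul_add, add_mul, mul_sub, sub_mul, smul_mul_assoc, mul_smul_comm, mul_assoc, mul_one, one_mul,
    mul_neg, neg_mul, HK.s $h, HK.t $h, HK.s' $h, HK.t' $h, pow_two]
  module))

theorem zs : Commute h.z σ := by unfold Commute SemiconjBy; hk h
theorem zt : Commute h.z τ := by unfold Commute SemiconjBy; hk h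
theorem D_eq : h.D = (α ^ 2 + β ^ 2 + 4) • 1 + (α * β) • h.z - h.z * h.z := by hk h
theorem u_inv : σ * τ * (h.z - σ * τ) = 1 := by hk h
theorem inv_u : (h.z - σ * τ) * (σ * τ) = 1 := by hk h

theorem exists_pow (n : ℕ) : ∃ p q : Matrix Ω Ω ℂ, (Commute p σ ∧ Commute p τ) ∧ (Commute q σ ∧ Commute q τ) ∧
    ∀ w, w * w = h.z * w - 1 → w ^ n = p * w - q := by
  induction n with
  | zero => exact ⟨0, -1, ⟨by simp, by simp⟩, ⟨by simp, by simp⟩, by simp⟩
  | succ n ih =>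
    obtain ⟨p, q, h1, h2, h3⟩ := ih
    exact ⟨p * h.z - q, p, ⟨(h1.1.mul_left h.zs).sub_left h2.1, (h1.2.mul_left h.zt).sub_left h2.2⟩, h1,
      fun w hw => by rw [pow_succ, h3 w hw, sub_mul, mul_assoc, hw]; noncomm_ring⟩

theorem q1 : σ * τ * (σ * τ) = h.z * (σ * τ) - 1 := by hk h
theorem q2 : τ * σ * (τ * σ) = h.z * (τ * σ) - 1 := by hk h
theorem q3 : (h.z - σ * τ) * (h.z - σ * τ) = h.z * (h.z - σ * τ) - 1 := by hk h

theorem cz {p : Matrix Ω Ω ℂ} (h1 : Commute p σ ∧ Commute p τ) : Commute p h.z :=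
  ((((h1.1.mul_right h1.2).add_right (h1.2.mul_right h1.1)).sub_right (h1.2.smul_right _)).sub_right
    (h1.1.smul_right _)).add_right ((Commute.one_right _).smul_right _)

theorem D_pow {m : ℕ} (hb : (∃ k, m = 2 * k ∧ (σ * τ) ^ k = (τ * σ) ^ k) ∨
    ∃ k, m = 2 * k + 1 ∧ α = β ∧ (σ * τ) ^ k * σ = τ * (σ * τ) ^ k) : (σ * τ) ^ m * h.D = h.D := by
  have e : ∀ j k, ((σ * τ) ^ j - (h.z - σ * τ) ^ k) * (σ * τ - τ * σ) = 0 → (σ * τ) ^ (k + j) * h.D = h.D :=
    fun j k h1 => by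
    rw [sub_mul, sub_eq_zero] at h1
    rw [D, mul_neg, pow_add, mul_assoc, ← mul_assoc (_ ^ j), h1, ← mul_assoc, ← mul_assoc,
      ← Commute.mul_pow (h.u_inv.trans h.inv_u.symm), h.u_inv, one_pow, one_mul]
  rcases hb with ⟨k, rfl, hk⟩ | ⟨k, rfl, rfl, hk⟩ <;> obtain ⟨p, q, h1, h2, h3⟩ := h.exists_pow k
  · rw [h3 _ h.q1, h3 _ h.q2, sub_left_inj, ← sub_eq_zero, ← mul_sub] at hk
    rw [two_mul]
    refine e k k ?_
    rw [h3 _ h.q1, h3 _ h.q3, sub_sub_sub_cancel_right, ← mul_sub, ((h1.1.mul_right h1.2).sub_right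
      ((h.cz h1).sub_right (h1.1.mul_right h1.2))).eq, mul_assoc, hk, mul_zero]
  · have h4 : (p * (h.z + 1) - q) * (σ - τ) = 0 := by
      rw [h3 _ h.q1, mul_sub τ, ← mul_assoc τ, ← h1.2.eq, ← h2.2.eq] at hk
      rw [sub_mul, mul_assoc, show (h.z + 1) * (σ - τ) = σ * τ * σ - τ * (σ * τ) by hk h]
      linear_combination (norm := noncomm_ring) hk
    have h5 : Commute (p * (h.z + 1) - q) σ := (h1.1.mul_left (h.zs.add_left (Commute.one_left _))).sub_left h2.1
    have h6 : Commute (p * (h.z + 1) - q) τ := (h1.2.mul_left (h.zt.add_left (Commute.one_left _))).sub_left h2.2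
    rw [two_mul, add_assoc]
    refine e (k + 1) k ?_
    rw [pow_succ, h3 _ h.q1, h3 _ h.q3, sub_mul (p * _) q, mul_assoc p, h.q1,
      show p * (h.z * (σ * τ) - 1) - q * (σ * τ) - (p * (h.z - σ * τ) - q) = (p * (h.z + 1) - q) * (σ * τ - 1) by
        noncomm_ring, ((h5.mul_right h6).sub_right (Commute.one_right _)).eq, mul_assoc,
      show σ * τ - τ * σ = (σ - τ) * σ - σ * (σ - τ) by noncomm_ring, mul_sub, ← mul_assoc, h4, ← mul_assoc, h5.eq,
      mul_assoc, h4]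
    simp

theorem D_s : Commute h.D σ := by unfold Commute SemiconjBy; hk h
theorem D_t : Commute h.D τ := by unfold Commute SemiconjBy; hk h

theorem tr_symm (n : ℕ) : ((h.z - σ * τ) ^ n * h.D).trace = ((σ * τ) ^ n * h.D).trace := by
  obtain ⟨p, q, h1, -, h3⟩ := h.exists_pow n
  have k : ∀ {x : Matrix Ω Ω ℂ} {a : ℂ}, Commute p x → (2 • x - a • 1) * (σ * τ - τ * σ) =
      -((σ * τ - τ * σ) * (2 • x - a • 1)) → (p * (2 • x - a • 1) * h.D).trace = 0 := fun {x a} h4 h5 => by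
    have h6 : Commute p (σ * τ - τ * σ) := (h1.1.mul_right h1.2).sub_right (h1.2.mul_right h1.1)
    have : (p * (2 • x - a • 1) * h.D).trace = -(p * (2 • x - a • 1) * h.D).trace := by
      conv_lhs => rw [D, mul_neg, ← mul_assoc, trace_neg, trace_mul_comm, ← mul_assoc, ← mul_assoc, ← h6.eq,
        mul_assoc p, ← neg_neg (_ * (2 • x - a • 1)), ← h5]
      simp [D, mul_assoc]
    linear_combination this / 2
  have k1 := k (a := α) h1.1 (by simp only [two_smul]; hk h)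
  have k2 := k (a := β) h1.2 (by simp only [two_smul]; hk h)
  have k3 : (p * (τ * σ) * h.D).trace = (p * (σ * τ) * h.D).trace := by
    rw [← mul_assoc, mul_assoc _ σ, ← h.D_s.eq, ← mul_assoc, trace_mul_comm, ← mul_assoc, ← mul_assoc, ← h1.1.eq,
      mul_assoc p]
  rw [h3 _ h.q1, h3 _ h.q3, sub_mul, sub_mul, trace_sub, trace_sub, sub_left_inj]
  have : p * (h.z - σ * τ) * h.D = p * (τ * σ) * h.D - (α / 2) • (p * (2 • τ - β • 1) * h.D) -
      (β / 2) • (p * (2 • σ - α • 1) * h.D) := by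
    simp only [z, two_smul, mul_add, add_mul, mul_sub, sub_mul, smul_mul_assoc, mul_smul_comm, mul_one]
    module
  rw [this, trace_sub, trace_sub, trace_smul, trace_smul, k1, k2, k3]
  simp

theorem tr_step (n : ℕ) : (σ * τ) ^ (n + 2) * h.D = (α ^ 2 + β ^ 2 + 2) • (σ * τ) ^ (n + 2) +
    (α * β) • ((σ * τ) ^ (n + 3) + (σ * τ) ^ (n + 1)) - (σ * τ) ^ (n + 4) - (σ * τ) ^ n := by
  have e : ∀ k, (σ * τ) ^ (k + 1) * h.z = (σ * τ) ^ (k + 2) + (σ * τ) ^ k := fun k => by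
    rw [pow_succ, mul_assoc, ← (h.zs.mul_right h.zt).eq, pow_add, pow_two, h.q1]
    noncomm_ring
  rw [h.D_eq, mul_sub, mul_add, mul_smul_comm, mul_smul_comm, ← mul_assoc, e, add_mul, e, e, mul_one]
  module

theorem main {m : ℕ} (hm : 5 ≤ m) (hb : (∃ k, m = 2 * k ∧ (σ * τ) ^ k = (τ * σ) ^ k) ∨
    ∃ k, m = 2 * k + 1 ∧ α = β ∧ (σ * τ) ^ k * σ = τ * (σ * τ) ^ k) (hs : σ.trace = 0) (ht : τ.trace = 0)
    (hu : ∀ k, 0 < k → k < m → ((σ * τ) ^ k).trace = 0) {ω : ℂ} (hω : ω ^ m = 1) :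
    ∃ ρ : ℕ, Fintype.card Ω * (4 - (ω + ω⁻¹) ^ 2) =
      ρ * (m * (α ^ 2 + β ^ 2 + 4 + α * β * (ω + ω⁻¹) - (ω + ω⁻¹) ^ 2)) := by
  have h0 : ω ≠ 0 := by rintro rfl; rw [zero_pow (by omega)] at hω; exact zero_ne_one hω
  have hD := h.D_pow hb
  set P := ∑ n ∈ range m, ω⁻¹ ^ n • ((σ * τ) ^ n * h.D) with hP
  have h1 : σ * τ * P = ω • P := by
    have := sum_range_succ' (fun n => ω⁻¹ ^ n • ((σ * τ) ^ n * h.D)) m
    rw [sum_range_succ, hD, inv_pow ω m, hω, ← hP] at this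
    simp only [inv_one, one_smul, pow_zero, one_mul, add_left_inj] at this
    conv_rhs => rw [this]
    rw [hP, mul_sum, smul_sum]
    refine sum_congr rfl fun n _ => ?_
    rw [mul_smul_comm, smul_smul, pow_succ ω⁻¹, pow_succ', mul_assoc (σ * τ)]
    congr 1
    field_simp
  have h2 : h.z * P = (ω + ω⁻¹) • P := by
    have e : (h.z - σ * τ) * (σ * τ * P) = P := by rw [← mul_assoc, h.inv_u, one_mul]
    rw [h1, mul_smul_comm, sub_mul, h1, ← eq_inv_smul_iff₀ h0] at e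
    rw [add_smul, ← e]; abel
  have h3 : ∀ n, (σ * τ) ^ n * P = ω ^ n • P := fun n => by
    induction n with
    | zero => simp
    | succ n ih => rw [pow_succ, mul_assoc, h1, mul_smul_comm, ih, smul_smul, pow_succ']
  have h4 : P * P = (m * (α ^ 2 + β ^ 2 + 4 + α * β * (ω + ω⁻¹) - (ω + ω⁻¹) ^ 2)) • P := by
    have e : h.D * P = (α ^ 2 + β ^ 2 + 4 + α * β * (ω + ω⁻¹) - (ω + ω⁻¹) ^ 2) • P := by
      simp only [h.D_eq, sub_mul, add_mul, smul_mul_assoc, one_mul, mul_assoc, h2, mul_smul_comm]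
      module
    conv_lhs => rw [hP, sum_mul]
    simp only [← hP, smul_mul_assoc, mul_assoc, e, mul_smul_comm, h3, smul_smul]
    rw [← sum_smul, sum_congr rfl fun n _ => by rw [mul_left_comm, ← mul_pow, inv_mul_cancel₀ h0, one_pow, mul_one],
      sum_const, card_range, nsmul_eq_mul]
  obtain ⟨ρ, hρ⟩ := trace_of_sq h4
  refine ⟨ρ, .trans ?_ hρ⟩
  have u1 : (σ * τ).trace = 0 := by simpa using hu 1 one_pos (by omega)
  have u2 : (σ * (τ * (σ * τ))).trace = 0 := by simpa [pow_two, mul_assoc] using hu 2 two_pos (by omega)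
  have u3 : (τ * σ).trace = 0 := by rw [trace_mul_comm, u1]
  have f0 : h.D.trace = 2 * Fintype.card Ω := by
    have : h.D = (α • (τ * (σ * τ)) + τ * τ) + (β • (σ * (τ * σ)) + σ * σ) - σ * (τ * (σ * τ)) - τ * (σ * (τ * σ)) := by
      hk h
    rw [this]
    simp only [trace_add, trace_sub, trace_smul, trace_mul_comm τ (σ * _), trace_mul_comm σ (τ * σ), mul_assoc, h.s,
      h.t, u2, mul_add, mul_smul_comm, mul_one, u1, u3, hs, ht, trace_one]
    ring
  have f1 : (σ * τ * h.D).trace = 0 := by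
    have : σ * τ * h.D = (α ^ 2 + β ^ 2 + 2) • (σ * τ) + (α * β) • (σ * (τ * (σ * τ))) - (σ * τ) ^ 3 -
        τ * σ + α • τ + β • σ := by rw [pow_succ (σ * τ)]; hk h
    simp [this, u1, u2, u3, hs, ht, hu 3 (by omega) (by omega)]
  have f2 : ∀ n, n + 4 < m → ((σ * τ) ^ (n + 2) * h.D).trace = if n = 0 then -(Fintype.card Ω : ℂ) else 0 :=
    fun n hn => by
    simp only [h.tr_step, trace_sub, trace_add, trace_smul, hu (n + 2) (by omega) (by omega),
      hu (n + 3) (by omega) (by omega), hu (n + 1) (by omega) (by omega), hu (n + 4) (by omega) hn]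
    split_ifs with h5
    · simp [h5]
    · simp [hu n (by omega) (by omega)]
  have f3 : ∀ n j, n + j = m → ((σ * τ) ^ n * h.D).trace = ((σ * τ) ^ j * h.D).trace := fun n j e => by
    rw [← h.tr_symm j]
    conv_rhs => rw [← hD, ← e, add_comm, pow_add, ← mul_assoc, ← mul_assoc,
      ← Commute.mul_pow (h.inv_u.trans h.u_inv.symm), h.inv_u, one_pow, one_mul]
  obtain ⟨k, rfl⟩ := Nat.exists_eq_add_of_le' hm
  have e5 : ω⁻¹ ^ (k + 3) = ω ^ 2 := by
    rw [inv_pow, inv_eq_iff_eq_inv, eq_comm, inv_eq_iff_eq_inv, eq_comm]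
    exact inv_eq_of_mul_eq_one_right (by rw [← pow_add, hω])
  rw [hP, trace_sum, sum_range_succ, sum_range_succ, sum_range_succ', sum_range_succ', sum_range_succ',
    sum_eq_zero fun n hn => by rw [trace_smul, f2 (n + 1) (by simp at hn; omega)]; simp]
  simp only [trace_smul, f3 (k + 3) 2 rfl, f3 (k + 4) 1 rfl, f2 0 (by omega), e5, pow_one, f1, pow_zero, one_mul, f0,
    zero_add, if_true, smul_eq_mul]
  linear_combination (-2 * Fintype.card Ω) * mul_inv_cancel₀ h0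

theorem mem [Nonempty Ω] {m : ℕ} (hm : 5 ≤ m) (hb : (∃ k, m = 2 * k ∧ (σ * τ) ^ k = (τ * σ) ^ k) ∨
    ∃ k, m = 2 * k + 1 ∧ α = β ∧ (σ * τ) ^ k * σ = τ * (σ * τ) ^ k) (hs : σ.trace = 0) (ht : τ.trace = 0)
    (hu : ∀ k, 0 < k → k < m → ((σ * τ) ^ k).trace = 0) {A B : ℚ} (hA : α ^ 2 = A) (hB : β ^ 2 = B) (A0 : 0 < A)
    (B0 : 0 < B) : m = 6 ∨ m = 8 := by
  have hv : (Fintype.card Ω : ℂ) ≠ 0 := by simp
  have hω := Complex.isPrimitiveRoot_exp m (by omega)
  set ω := Complex.exp (2 * Real.pi * Complex.I / m)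
  have h0 : ω ≠ 0 := hω.ne_zero (by omega)
  have k4 : ∀ j, 0 < j → j < 3 → 4 - (ω ^ j + (ω ^ j)⁻¹) ^ 2 ≠ 0 := fun j j0 j3 e => by
    have h1 := pow_ne_zero j h0
    have : (ω ^ j) ^ 2 = 1 := sub_eq_zero.1 (pow_eq_zero_iff two_ne_zero |>.1 (by
      field_simp at e; linear_combination -e))
    rw [← pow_mul, hω.pow_eq_one_iff_dvd] at this
    have := Nat.le_of_dvd (by omega) this
    omega
  have r : ∀ j c, 0 < j → ω ^ j + (ω ^ j)⁻¹ = (c : ℚ) → m ∣ j * 3 ∨ m ∣ j * 4 ∨ m ∣ j * 6 := fun j c j0 e => by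
    simpa only [← pow_mul, hω.pow_eq_one_iff_dvd] using root_of_rat (m := m) (by omega)
      (by rw [← pow_mul, mul_comm, pow_mul, hω.pow_eq_one, one_pow]) e
  have hj : ∀ j, (ω ^ j) ^ m = 1 := fun j => by rw [← pow_mul, mul_comm, pow_mul, hω.pow_eq_one, one_pow]
  obtain ⟨k, rfl, -⟩ | ⟨k, rfl, rfl, -⟩ := id hb
  · have key : ∀ j, 0 < j → j < 3 → ∃ c d : ℚ, (ω ^ j + (ω ^ j)⁻¹) ^ 2 = c ∧ α * β * (ω ^ j + (ω ^ j)⁻¹) = d := by
      intro j j0 j3
      obtain ⟨a, ha⟩ := h.main hm hb hs ht hu (hj j)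
      obtain ⟨b, hb⟩ := h.main hm hb hs ht hu (ω := -ω ^ j) (by rw [Even.neg_pow ⟨k, two_mul k⟩, hj])
      have h4 := mul_ne_zero hv (k4 j j0 j3)
      rw [inv_neg, ← neg_add, neg_sq] at hb
      have a0 : (a : ℂ) * (2 * k : ℕ) ≠ 0 := fun e => h4 (by rw [ha, ← mul_assoc, e, zero_mul])
      have b0 : (b : ℂ) ≠ 0 := fun e => h4 (by rw [hb, e, zero_mul])
      generalize ω ^ j + (ω ^ j)⁻¹ = l at *
      rw [hA, hB] at ha hb
      have h5 : (Fintype.card Ω * (a + b) - 2 * a * b * (2 * k : ℕ) : ℂ) ≠ 0 := fun e => by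
        have : ((A + B : ℚ) : ℂ) = 0 := mul_left_cancel₀ (mul_ne_zero two_ne_zero (mul_ne_zero a0 b0)) (by
          push_cast at *
          linear_combination (4 - l ^ 2) * e - b * ha - a * hb)
        have : A + B = 0 := by exact_mod_cast this
        linarith
      have h6 : l ^ 2 = ((4 * Fintype.card Ω * (a + b) - 2 * a * b * (2 * k : ℕ) * (A + B + 4)) /
          (Fintype.card Ω * (a + b) - 2 * a * b * (2 * k : ℕ)) : ℚ) := by
        push_cast at *
        rw [eq_div_iff h5]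
        linear_combination -b * ha - a * hb
      generalize ((4 * Fintype.card Ω * (a + b) - 2 * a * b * (2 * k : ℕ) * (A + B + 4)) /
          (Fintype.card Ω * (a + b) - 2 * a * b * (2 * k : ℕ)) : ℚ) = c at h6
      refine ⟨c, Fintype.card Ω * (4 - c) / (a * (2 * k : ℕ)) - (A + B + 4 - c), h6, ?_⟩
      push_cast at *
      rw [eq_sub_iff_add_eq, eq_div_iff a0, ← h6]
      linear_combination -ha
    obtain ⟨c, d, h1, h2⟩ := key 1 one_pos (by omega)
    have h3 := r 2 (c - 2) two_pos (by push_cast; rw [← h1]; field_simp; ring)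
    by_cases h12 : k = 6
    · subst h12
      obtain ⟨c', d', -, h5⟩ := key 2 two_pos (by omega)
      have h6 : ω ^ 2 + (ω ^ 2)⁻¹ = ((c - 2 : ℚ) : ℂ) := by push_cast; rw [← h1]; field_simp; ring
      have h7 : d' ≠ 0 := by
        rintro rfl
        simp only [Rat.cast_zero, mul_eq_zero] at h5
        rcases h5 with (rfl | rfl) | h5
        · exact absurd (show (A : ℂ) = 0 by simp [← hA]) (by exact_mod_cast A0.ne')
        · exact absurd (show (B : ℂ) = 0 by simp [← hB]) (by exact_mod_cast B0.ne')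
        · have : ω ^ 8 = 1 := by field_simp at h5; linear_combination (ω ^ 4 - 1) * h5
          exact absurd ((hω.pow_eq_one_iff_dvd _).1 this) (by decide)
      have := r 1 (d * (c - 2) / d') one_pos (by
        push_cast at *
        rw [eq_div_iff (by exact_mod_cast h7), ← h6, ← h2, ← h5]; ring)
      omega
    have : k ≤ 6 := by rcases h3 with h3 | h3 | h3 <;> have := Nat.le_of_dvd (by norm_num) h3 <;> omega
    interval_cases k <;> omega
  · obtain ⟨a, ha⟩ := h.main hm hb hs ht hu (hj 1)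
    have h4 := k4 1 one_pos (by omega)
    have := r 1 ((2 * Fintype.card Ω - a * (2 * k + 1 : ℕ) * (A + 2)) / (Fintype.card Ω - a * (2 * k + 1 : ℕ)))
      one_pos (by
      generalize ω ^ 1 + (ω ^ 1)⁻¹ = l at *
      have h5 : 2 + l ≠ 0 := fun e => h4 (by linear_combination (2 - l) * e)
      have h6 : Fintype.card Ω * (2 - l) = a * (2 * k + 1 : ℕ) * (A + 2 - l) :=
        mul_left_cancel₀ h5 (by rw [← hA]; linear_combination ha)
      push_cast at *
      rw [eq_div_iff fun e => ?_]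
      · linear_combination -h6
      · exact absurd (mul_left_cancel₀ hv (show _ * (A : ℂ) = _ * 0 by linear_combination (A + 2 - l) * e - h6))
          (by exact_mod_cast A0.ne'))
    have : k ≤ 3 := by rcases this with h3 | h3 | h3 <;> have := Nat.le_of_dvd (by norm_num) h3 <;> omega
    interval_cases k <;> omega

end HK

end CfsgH8
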