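import Cfsg.Agent.H8.FH1
import Cfsg.Agent.H6.BN2

/-! The Hecke algebra of a finite (B,N)-pair acting on the chambers, and the Feit–Higman theorem. -/

set_option autoImplicit false

namespace CfsgH8.FHx

open Matrix Finset CfsgH6 CfsgH6.BN Cfsg

variable {G : Type*} [Group G] (P : BNPair G)

/-- the Weyl distance between two chambers is `w` -/
def Rel (w : W P) (x y : G ⧸ P.B) : Prop := cell P w (x.out⁻¹ * y.out)

variable {P}

theorem rel_mk {w : W P} {g h : G} : Rel P w g h ↔ cell P w (g⁻¹ * h) := by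
  obtain ⟨a, ha⟩ := QuotientGroup.mk_out_eq_mul P.B g
  obtain ⟨b, hb⟩ := QuotientGroup.mk_out_eq_mul P.B h
  rw [Rel, ha, hb]
  exact ⟨fun h1 => by simpa [mul_assoc] using (h1.mul_left a.2).mul_right (inv_mem b.2),
    fun h1 => by simpa [mul_assoc] using (h1.mul_left (inv_mem a.2)).mul_right b.2⟩

theorem rel_one {x y : G ⧸ P.B} : Rel P 1 x y ↔ x = y := by
  rw [Rel, cell_one, ← QuotientGroup.eq, QuotientGroup.out_eq', QuotientGroup.out_eq']

theorem Rel.inv {w : W P} {x y : G ⧸ P.B} (h : Rel P w x y) : Rel P w⁻¹ y x := by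
  simpa [Rel] using cell.inv h

theorem Rel.uniq {w w' : W P} {x y : G ⧸ P.B} (h : Rel P w x y) (h' : Rel P w' x y) : w = w' := cell_unique h h'

theorem Rel.symm {s : P.S} {x y : G ⧸ P.B} (h : Rel P (sw P s) x y) : Rel P (sw P s) y x := by
  simpa [inv_eq_of_mul_eq_one_right (sw_mul_sw P s)] using h.inv

theorem Rel.mul {s : P.S} {w : W P} {x y z : G ⧸ P.B} (h : Rel P (sw P s) x y) (h' : Rel P w y z) :
    (Rel P (sw P s * w) x z ∨ Rel P w x z) ∧ ((E P).P s w → Rel P (sw P s * w) x z) := by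
  obtain ⟨a, ha, b, hb, e⟩ := cell_pr.1 h
  have e' : x.out⁻¹ * z.out = a * (s * (b * (y.out⁻¹ * z.out))) := by
    rw [← mul_assoc, ← mul_assoc, ← coe_sN, ← e]; group
  rw [Rel, Rel, e']
  exact ⟨((cell.mul_left h' hb).s_mul s).imp (·.mul_left ha) (·.mul_left ha),
    fun hP => (hP _ (cell.mul_left h' hb)).mul_left ha⟩

theorem Rel.exists {s : P.S} {w : W P} {x z : G ⧸ P.B} (h : Rel P (sw P s * w) x z) :
    ∃ y, Rel P (sw P s) x y ∧ Rel P w y z := by
  obtain ⟨n, hn, a, ha, b, hb, e⟩ := h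
  refine ⟨(x.out * a * s : G), ?_, ?_⟩
  · rw [← QuotientGroup.out_eq' x, rel_mk, QuotientGroup.out_eq', mul_assoc, inv_mul_cancel_left]
    exact (cell_self (sN P s)).mul_left ha
  · rw [← QuotientGroup.out_eq' z, rel_mk, show (x.out * a * s)⁻¹ * z.out = ((sN P s)⁻¹ * n : P.N) * b by
      rw [eq_mul_of_inv_mul_eq e]; simp [mul_assoc]]
    exact cell.mul_right ⟨_, by rw [map_mul, map_inv, hn]; exact inv_mul_cancel_left _ _, DC.refl _⟩ hb

theorem sw_ne_one (s : P.S) : sw P s ≠ 1 := (E P).s_ne_one s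

theorem Rel.adj {s : P.S} {x y z : G ⧸ P.B} (h : Rel P (sw P s) x y) (h' : Rel P (sw P s) y z) :
    x = z ∨ Rel P (sw P s) x z := by
  simpa [sw_mul_sw, rel_one] using (h.mul h').1

theorem split_odd {M : Type*} [Monoid M] (a b : M) (j : ℕ) :
    (a * b) ^ (2 * j + 1) = (a * b) ^ j * a * ((b * a) ^ j * b) := by
  rw [mul_pow_mul b, two_mul, add_assoc, pow_add, pow_succ', mul_assoc, mul_assoc]

open Classical

variable (P) [Fintype (G ⧸ P.B)]

/-- the Hecke operators -/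
noncomputable def TT (w : W P) : Matrix (G ⧸ P.B) (G ⧸ P.B) ℂ := of fun x y => if Rel P w x y then 1 else 0

theorem TT_one : TT P 1 = 1 := by ext x y; simp [TT, rel_one, one_apply]

theorem TT_mul_apply (w w' : W P) (x z : G ⧸ P.B) :
    (TT P w * TT P w') x z = #{y | Rel P w x y ∧ Rel P w' y z} := by
  simp [TT, mul_apply, ← ite_and, and_comm]

theorem TT_mul {s : P.S} {w : W P} (h : (E P).P s w) : TT P (sw P s) * TT P w = TT P (sw P s * w) := by
  ext x z
  rw [TT_mul_apply, TT, of_apply]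
  split_ifs with h1
  · obtain ⟨y, hy⟩ := h1.exists
    rw [card_eq_one.2 ⟨y, eq_singleton_iff_unique_mem.2 ⟨by simpa using hy, fun y' hy' => ?_⟩⟩, Nat.cast_one]
    simp only [mem_filter, mem_univ, true_and] at hy'
    exact (hy'.1.symm.adj hy.1).resolve_right fun h2 => sw_ne_one s (by
      simpa using ((h2.mul hy.2).2 h).uniq hy'.2)
  · rw [filter_eq_empty_iff.2 fun y _ hy => h1 ((hy.1.mul hy.2).2 h), card_empty, Nat.cast_zero]

theorem TT_red {l : List P.S} (h : (E P).Red l) : (l.map fun s => TT P (sw P s)).prod = TT P ((E P).wp l) := by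
  induction l with
  | nil => simp [TT_one]
  | cons s l ih => rw [List.map_cons, List.prod_cons, ih h.tail, TT_mul P h.P_tail]; rfl

theorem trace_TT {w w' : W P} (h : w * w' ≠ 1) : (TT P w * TT P w').trace = 0 := by
  refine sum_eq_zero fun x _ => ?_
  rw [diag_apply, TT_mul_apply, filter_eq_empty_iff.2 fun y _ hy => h (by simp [hy.1.uniq hy.2.inv]), card_empty,
    Nat.cast_zero]

theorem TT_sq (s : P.S) : ∃ q : ℕ, 2 ≤ q ∧
    TT P (sw P s) * TT P (sw P s) = (q - 1 : ℂ) • TT P (sw P s) + (q : ℂ) • 1 := by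
  have h1 : ∀ x, #{y | Rel P (sw P s) x y} = #{y | Rel P (sw P s) (1 : G) y} := fun x => by
    obtain ⟨g, rfl⟩ := QuotientGroup.mk_surjective x
    refine (card_equiv (MulAction.toPerm g) fun y => ?_).symm
    obtain ⟨y, rfl⟩ := QuotientGroup.mk_surjective y
    simp [rel_mk, MulAction.Quotient.smul_mk]
  refine ⟨#{y | Rel P (sw P s) (1 : G) y}, ?_, ?_⟩
  · obtain ⟨b, hb, h2⟩ := s_not_mem_B P s.2
    refine one_lt_card.2 ⟨(s : G), ?_, (b * s : G), ?_, fun e => h2 ?_⟩
    · exact mem_filter.2 ⟨mem_univ _, rel_mk.2 (by simpa [sw] using cell_self (sN P s))⟩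
    · exact mem_filter.2 ⟨mem_univ _, rel_mk.2 (by simpa [sw] using (cell_self (sN P s)).mul_left hb)⟩
    · simpa [mul_assoc] using mul_mem (P.sq_mem s s.2) (QuotientGroup.eq.1 e)
  ext x z
  have h0 : ∀ x, ¬ Rel P (sw P s) x x := fun x h => sw_ne_one s (h.uniq (rel_one.2 rfl))
  rw [TT_mul_apply, ← h1 x]
  simp only [Matrix.add_apply, Matrix.smul_apply, TT, of_apply, one_apply, smul_eq_mul]
  by_cases h2 : x = z
  · subst h2
    simp only [h0, if_true, if_false, mul_zero, zero_add, mul_one]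
    congr 2
    exact filter_congr fun y _ => and_iff_left_of_imp Rel.symm
  by_cases h3 : Rel P (sw P s) x z
  · rw [show ({y | Rel P (sw P s) x y ∧ Rel P (sw P s) y z} : Finset _) = ({y | Rel P (sw P s) x y} : Finset _).erase z
      from ?_, card_erase_of_mem (by simpa), Nat.cast_sub (card_pos.2 ⟨z, by simpa⟩)]
    · simp [h2, h3]
    ext y
    simp only [mem_filter, mem_univ, true_and, mem_erase]
    exact ⟨fun h => ⟨by rintro rfl; exact h0 _ h.2, h.1⟩, fun h => ⟨h.2, (h.2.symm.adj h3).resolve_left h.1⟩⟩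
  · rw [filter_eq_empty_iff.2 fun y _ hy => (hy.1.adj hy.2).elim h2 h3]
    simp [h2, h3]

omit [Fintype (G ⧸ P.B)] in
theorem feit_higman [Finite G] {s t : P.S} (hst : ∀ i, i = s ∨ i = t) (hm : 5 ≤ orderOf (sw P s * sw P t)) :
    orderOf (sw P s * sw P t) = 6 ∨ orderOf (sw P s * sw P t) = 8 := by
  haveI := Fintype.ofFinite (G ⧸ P.B)
  set m := orderOf (sw P s * sw P t) with hm'
  obtain ⟨w, hw⟩ := Finite.exists_max (E P).len
  have hr : ∀ i j : P.S, orderOf (sw P i * sw P j) = m → ∀ k ≤ m, (E P).Red (ExchSys.alt i j k) := fun i j e k hk => by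
    have h1 : ∀ i, ¬ (E P).P i w := fun i h => (hw _).not_gt ((E P).len_lt_of_P h)
    obtain ⟨v, hv, -⟩ := (E P).exists_red_alt w i j (h1 i) (h1 j) k fun n h0 hn =>
      pow_ne_one_of_lt_orderOf h0.ne' (by rw [E_s, E_s, e]; omega)
    exact hv.of_append_left
  have hts : orderOf (sw P t * sw P s) = m := by
    rw [hm', ← orderOf_inv, _root_.mul_inv_rev, ← E_s, ← E_s, (E P).s_inv, (E P).s_inv]
  obtain ⟨q, q2, hq⟩ := TT_sq P s
  obtain ⟨r, r2, hr'⟩ := TT_sq P t
  choose a ha using fun n : ℕ => IsAlgClosed.exists_pow_nat_eq (n : ℂ) two_pos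
  have t1 : ∀ i, (TT P (sw P i)).trace = 0 := fun i => by
    simpa [TT_one] using trace_TT P (w := sw P i) (w' := 1) (by simpa using sw_ne_one i)
  have hb0 : ((ExchSys.alt s t m).map fun s => TT P (sw P s)).prod =
      ((ExchSys.alt t s m).map fun s => TT P (sw P s)).prod := by
    rw [TT_red P (hr s t rfl m le_rfl), TT_red P (hr t s hts m le_rfl)]
    exact congrArg _ (ExchSys.prod_alt_braid _ (sw_mul_sw P) s t m (pow_orderOf_eq_one _))
  have hu : ∀ k, 0 < k → k < m → ((TT P (sw P s) * TT P (sw P t)) ^ k).trace = 0 := fun k h0 hk => by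
    have h1 := pow_ne_one_of_lt_orderOf h0.ne' hk
    obtain ⟨j, rfl | rfl⟩ := Nat.even_or_odd' k
    · rw [two_mul, pow_add, ← ExchSys.prod_alt_even (fun s => TT P (sw P s)), TT_red P (hr s t rfl _ hk.le)]
      exact trace_TT P (by rwa [ExchSys.wp, ExchSys.prod_alt_even, ← pow_add, ← two_mul])
    · rw [split_odd, ← ExchSys.prod_alt_odd (fun s => TT P (sw P s)), TT_red P (hr s t rfl _ hk.le),
        ← ExchSys.prod_alt_odd (fun s => TT P (sw P s)), TT_red P (hr t s hts _ hk.le)]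
      exact trace_TT P (by rwa [ExchSys.wp, ExchSys.wp, ExchSys.prod_alt_odd, ExchSys.prod_alt_odd, ← split_odd])
  have hk : ∀ {S : Matrix (G ⧸ P.B) (G ⧸ P.B) ℂ} {c : ℂ} {n : ℕ}, 2 ≤ n → c ^ 2 = n → S * S = (n - 1 : ℂ) • S + (n : ℂ) • 1 →
      (c⁻¹ • S) * (c⁻¹ • S) = (c - c⁻¹) • c⁻¹ • S + 1 ∧ (c - c⁻¹) ^ 2 = (((n - 1) ^ 2 / n : ℚ) : ℂ) ∧
        (0 : ℚ) < (n - 1) ^ 2 / n := fun {S c n} h2 h1 h => by
    have h3 : (2 : ℚ) ≤ n := by exact_mod_cast h2
    have h0 : c ≠ 0 := by rintro rfl; rw [zero_pow two_ne_zero, eq_comm, Nat.cast_eq_zero] at h1; omega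
    refine ⟨?_, by push_cast; rw [← h1]; field_simp, div_pos (pow_pos (by linarith) 2) (by linarith)⟩
    rw [smul_mul_smul_comm, h, ← h1]
    match_scalars <;> field_simp
  refine HK.mem ⟨(hk q2 (ha q) hq).1, (hk r2 (ha r) hr').1⟩ hm ?_ (by simp [t1]) (by simp [t1])
    (fun k h0 h1 => by simp [smul_mul_smul_comm, smul_pow, hu k h0 h1]) (hk q2 (ha q) hq).2.1 (hk r2 (ha r) hr').2.1
    (hk q2 (ha q) hq).2.2 (hk r2 (ha r) hr').2.2
  obtain ⟨k, e | e⟩ := Nat.even_or_odd' m <;> rw [e] at hb0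
  · rw [ExchSys.prod_alt_even, ExchSys.prod_alt_even] at hb0
    exact .inl ⟨k, e, by simp [smul_pow, hb0, smul_smul, mul_comm]⟩
  rw [ExchSys.prod_alt_odd, ExchSys.prod_alt_odd, mul_pow_mul (TT P (sw P t))] at hb0
  have un : ∀ {S : Matrix (G ⧸ P.B) (G ⧸ P.B) ℂ} {n : ℕ}, 2 ≤ n → S * S = (n - 1 : ℂ) • S + (n : ℂ) • 1 → IsUnit S :=
    fun {S n} h2 h => .of_mul_eq_one ((n : ℂ)⁻¹ • (S - (n - 1 : ℂ) • 1)) (by
      have : (n : ℂ) ≠ 0 := by simp; omega
      simp [mul_sub, h, smul_smul, this])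
  obtain rfl : q = r := by
    generalize TT P (sw P s) = S at *
    have h1 : S * ((S * TT P (sw P t)) ^ k * S) = (S * TT P (sw P t)) ^ k * S * TT P (sw P t) := by
      conv_lhs => rw [hb0]
      rw [← mul_assoc, ← pow_succ', pow_succ, mul_assoc]
    have h2 : (S * TT P (sw P t)) ^ k * S * ((q - r : ℂ) • (TT P (sw P t) + 1)) = 0 := by
      generalize (S * TT P (sw P t)) ^ k * S = Δ at h1
      have : S * S * Δ = Δ * (TT P (sw P t) * TT P (sw P t)) := by rw [mul_assoc, h1, ← mul_assoc, h1, mul_assoc]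
      simp only [hq, hr', add_mul, mul_add, smul_mul_assoc, mul_smul_comm, one_mul, mul_one, h1] at this ⊢
      linear_combination (norm := module) this
    have := congrArg trace (((((un q2 hq).mul (un r2 hr')).pow k).mul (un q2 hq)).mul_right_eq_zero.1 h2)
    simpa [t1, sub_eq_zero] using this
  exact .inr ⟨k, e, rfl, by simp [smul_mul_smul_comm, smul_pow, hb0, smul_smul, mul_comm]⟩

omit [Fintype (G ⧸ P.B)] in
theorem card_W {s t : P.S} (hst : ∀ i, i = s ∨ i = t) : Nat.card (W P) = 2 * orderOf (sw P s * sw P t) := by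
  obtain ⟨φ, hφ⟩ := (E P).exists_hom (fun _ => (-1 : ℤˣ)) (by simp) (by simp)
  have hs := sw_mul_sw P s
  have h1 : ∀ w ∈ Subgroup.zpowers (sw P s * sw P t), sw P s * w * sw P s ∈ Subgroup.zpowers (sw P s * sw P t) := by
    rintro _ ⟨n, rfl⟩
    have := conj_zpow (i := n) (a := sw P s) (b := sw P s * sw P t)
    rw [inv_eq_of_mul_eq_one_right hs] at this
    refine ⟨-n, .trans ?_ this⟩
    beta_reduce
    rw [← mul_assoc, hs, one_mul, ← _root_.inv_zpow', _root_.mul_inv_rev, inv_eq_of_mul_eq_one_right hs,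
      inv_eq_of_mul_eq_one_right (sw_mul_sw P t)]
  rw [← Nat.card_zpowers, ← (Subgroup.zpowers (sw P s * sw P t)).index_mul_card,
    Subgroup.index_eq_two_iff.2 ⟨sw P s, fun w => ?_⟩]
  rw [xor_iff_or_and_not_and]
  refine ⟨?_, fun h => ?_⟩
  · obtain ⟨l, rfl⟩ := (E P).gen w
    induction l with
    | nil => exact .inr (one_mem _)
    | cons i l ih =>
      have h2 : sw P s * (l.map (E P).s).prod * sw P s ∈ Subgroup.zpowers (sw P s * sw P t) ∨
          sw P s * (l.map (E P).s).prod ∈ Subgroup.zpowers (sw P s * sw P t) :=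
        ih.symm.imp (h1 _) fun h => by simpa [mul_assoc, hs] using h1 _ h
      rcases hst i with rfl | rfl
      · exact h2
      · refine h2.imp (fun h => ?_) fun h => ?_ <;>
          simpa [mul_assoc, ← E_s, (E P).s_inv] using mul_mem (inv_mem (Subgroup.mem_zpowers _)) h
  · obtain ⟨n, hn⟩ := mul_mem (inv_mem h.2) h.1
    simpa [← E_s, hφ] using congrArg φ hn

end CfsgH8.FHx
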