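import Cfsg.Agent.H6.Stb2
import Cfsg.Prelude.Def_LinearParabolics

/-! Bruhat decomposition of `GL_n` and double cosets of standard parabolic subgroups. -/

set_option autoImplicit false

namespace CfsgH8

open Matrix Finset Cfsg Equiv
open scoped MatrixGroups

section pm
variable {ι : Type*} [Fintype ι] [DecidableEq ι] {F : Type*} [Field F]

/-- permutation matrix with `e_j ↦ e_(σ j)` -/
def pmM (F : Type*) [Field F] (σ : Perm ι) : Matrix ι ι F := of fun i j => if i = σ j then 1 else 0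

theorem mul_pmM (A : Matrix ι ι F) (σ : Perm ι) (i j : ι) : (A * pmM F σ) i j = A i (σ j) := by
  simp [pmM, mul_apply]

theorem pmM_mul (A : Matrix ι ι F) (σ : Perm ι) (i j : ι) : (pmM F σ * A) i j = A (σ⁻¹ i) j := by
  simp only [pmM, mul_apply, of_apply, ite_mul, one_mul, zero_mul]
  rw [sum_eq_single (σ⁻¹ i)]
  · simp
  · intro b _ hb
    rw [if_neg]
    rintro rfl
    simp at hb
  · simp

/-- permutation matrices as a homomorphism to `GL` -/
def pGL (F : Type*) [Field F] : Perm ι →* GL ι F := MonoidHom.toHomUnits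
  { toFun := pmM F
    map_one' := by ext i j; rfl
    map_mul' := fun a b => by ext i j; rw [mul_pmM]; rfl }

@[simp] theorem coe_pGL (σ : Perm ι) : ((pGL F σ : GL ι F) : Matrix ι ι F) = pmM F σ := rfl

/-- block triangular matrices for a labelling -/
def PL (F : Type*) [Field F] (a : ι → ℕ) : Subgroup (GL ι F) where
  carrier := {g | (g : Matrix ι ι F).BlockTriangular a}
  mul_mem' := fun {x} {y} ha hb => by
    change ((x : Matrix ι ι F) * (y : Matrix ι ι F)).BlockTriangular a
    exact Matrix.BlockTriangular.mul ha hb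
  one_mem' := by
    change (1 : Matrix ι ι F).BlockTriangular a
    exact Matrix.blockTriangular_one
  inv_mem' := fun {x} ha => by
    change ((x⁻¹ : GL ι F) : Matrix ι ι F).BlockTriangular a
    have : Invertible (x : Matrix ι ι F) := x.invertible
    rw [Matrix.coe_units_inv]
    exact Matrix.blockTriangular_inv_of_blockTriangular ha

theorem mem_PL {a : ι → ℕ} {g : GL ι F} : g ∈ PL F a ↔ ∀ i j, a j < a i → (g : Matrix ι ι F) i j = 0 :=
  ⟨fun h _ _ hij => h hij, fun h _ _ hij => h _ _ hij⟩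

/-- Young subgroup of a labelling -/
def YL {α : Type*} (a : ι → α) : Subgroup (Perm ι) where
  carrier := {σ | ∀ i, a (σ i) = a i}
  mul_mem' := fun {x} {y} ha hb i => by
    change a (x (y i)) = a i
    rw [ha, hb]
  one_mem' := fun _ => rfl
  inv_mem' := fun {x} ha i => by
    have h := ha (x⁻¹ i)
    have e : x (x⁻¹ i) = i := by simp
    rw [e] at h
    exact h.symm

omit [Fintype ι] [DecidableEq ι] in
theorem mem_YL {α : Type*} {a : ι → α} {σ : Perm ι} : σ ∈ YL a ↔ ∀ i, a (σ i) = a i := Iff.rfl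

theorem pGL_mem_PL {a : ι → ℕ} {σ : Perm ι} (h : σ ∈ YL a) : pGL F σ ∈ PL F a := by
  rw [mem_PL]
  intro i j hij
  simp only [coe_pGL, pmM, of_apply]
  rw [if_neg]
  rintro rfl
  rw [h] at hij
  exact lt_irrefl _ hij

omit [DecidableEq ι] in
theorem mem_YL_of_le {a : ι → ℕ} {σ : Perm ι} (h : ∀ i, a (σ i) ≤ a i) : σ ∈ YL a := by
  have h1 : ∑ i, a (σ i) = ∑ i, a i := Equiv.sum_comp σ a
  intro i
  exact (sum_eq_sum_iff_of_le fun i _ => h i).1 h1 i (mem_univ i)

theorem exists_perm_ne_zero (g : GL ι F) : ∃ π : Perm ι, ∀ k, (g : Matrix ι ι F) (π k) k ≠ 0 := by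
  have h := g.det_ne_zero
  rw [det_apply] at h
  obtain ⟨π, -, hπ⟩ := exists_ne_zero_of_sum_ne_zero h
  refine ⟨π, fun k => ?_⟩
  have h2 : ∏ i, (g : Matrix ι ι F) (π i) i ≠ 0 := fun h0 => hπ (by rw [h0, smul_zero])
  exact prod_ne_zero_iff.1 h2 k (mem_univ k)

theorem dc_unique {a b : ι → ℕ} {p q : GL ι F} (hp : p ∈ PL F a) (hq : q ∈ PL F b) {σ τ : Perm ι}
    (h : p * pGL F σ = pGL F τ * q) : ∃ π ∈ YL a, τ⁻¹ * π * σ ∈ YL b := by
  obtain ⟨π, hπ⟩ := exists_perm_ne_zero p
  refine ⟨π, mem_YL_of_le fun k => ?_, mem_YL_of_le fun k => ?_⟩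
  · by_contra h'
    exact hπ k (mem_PL.1 hp _ _ (not_le.1 h'))
  · by_contra h'
    have h1 := congrArg (fun g : GL ι F => (g : Matrix ι ι F) (π (σ k)) k) h
    simp only [Units.val_mul, coe_pGL, mul_pmM, pmM_mul] at h1
    exact hπ (σ k) (h1.trans (mem_PL.1 hq _ _ (not_le.1 h')))

/-- elementary matrices in `GL` -/
def tvG (i j : ι) (h : i ≠ j) (t : F) : GL ι F :=
  ⟨transvection i j t, transvection i j (-t), by rw [transvection_mul_transvection_same _ _ h]; simp,
    by rw [transvection_mul_transvection_same _ _ h]; simp⟩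

@[simp] theorem coe_tvG (i j : ι) (h : i ≠ j) (t : F) : ((tvG i j h t : GL ι F) : Matrix ι ι F) = transvection i j t := rfl

end pm

variable {n : ℕ} {F : Type*} [Field F]

theorem bruhat_aux (N : ℕ) : ∀ (g : GL (Fin n) F) (s : Fin n → ℕ), ∑ j, s j = N →
    (∀ i j : Fin n, s j ≤ i → (g : Matrix (Fin n) (Fin n) F) i j = 0) →
    ∃ p ∈ PL F (Fin.val : Fin n → ℕ), ∃ σ, ∃ q ∈ PL F (Fin.val : Fin n → ℕ), g = p * pGL F σ * q := by
  induction N using Nat.strong_induction_on with
  | _ N ih =>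
  intro g s hs hg
  have upd : ∀ (j : Fin n) (m : ℕ), m < s j → ∑ k, Function.update s j m k < N := by
    intro j m hm
    rw [← hs]
    refine sum_lt_sum (fun k _ => ?_) ⟨j, mem_univ _, by simpa using hm⟩
    by_cases h : k = j
    · subst h; simpa using hm.le
    · rw [Function.update_of_ne h]
  by_cases h1 : ∃ j, ∀ i : Fin n, s j ≤ i + 1 → (g : Matrix (Fin n) (Fin n) F) i j = 0
  · obtain ⟨j, hj⟩ := h1
    have h0 : s j ≠ 0 := by
      intro h0
      obtain ⟨π, hπ⟩ := exists_perm_ne_zero g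
      exact hπ j (hj _ (by omega))
    refine ih _ (upd j (s j - 1) (by omega)) g _ rfl fun i k hik => ?_
    by_cases h : k = j
    · subst h; exact hj i (by simp at hik; omega)
    · rw [Function.update_of_ne h] at hik; exact hg i k hik
  push Not at h1
  choose σ h1 h2 using h1
  have h3 : ∀ j, s j = σ j + 1 := fun j => by
    have := h1 j
    by_contra h'
    exact h2 j (hg _ _ (by omega))
  by_cases hi : Function.Injective σ
  · let τ : Perm (Fin n) := Equiv.ofBijective σ hi.bijective_of_finite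
    refine ⟨g * (pGL F τ)⁻¹, mem_PL.2 fun i j hij => ?_, τ, 1, one_mem _, by simp⟩
    rw [← map_inv, Units.val_mul, coe_pGL, mul_pmM]
    refine hg _ _ ?_
    rw [h3]
    have : σ (τ⁻¹ j) = j := τ.apply_symm_apply j
    rw [this]; omega
  · obtain ⟨j, k, hjk, e⟩ : ∃ j k, j < k ∧ σ j = σ k := by
      unfold Function.Injective at hi
      push Not at hi
      obtain ⟨j, k, e, hne⟩ := hi
      rcases lt_or_gt_of_ne hne with h | h
      · exact ⟨j, k, h, e⟩
      · exact ⟨k, j, h, e.symm⟩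
    set t : F := -((g : Matrix (Fin n) (Fin n) F) (σ k) k / (g : Matrix (Fin n) (Fin n) F) (σ k) j) with ht
    have hu : tvG j k hjk.ne t ∈ PL F (Fin.val : Fin n → ℕ) := mem_PL.2 fun a b hab => by
      simp only [coe_tvG, transvection, Matrix.add_apply]
      rw [one_apply_ne (by rintro rfl; omega), single_apply_of_ne, add_zero]
      rintro ⟨rfl, rfl⟩
      exact absurd hjk (by simp only [Fin.lt_def]; omega)
    obtain ⟨p, hp, τ, q, hq, he⟩ := ih _ (upd k (σ k) (by rw [h3]; omega)) (g * tvG j k hjk.ne t) _ rfl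
      (fun i l hil => by
        rw [Units.val_mul, coe_tvG]
        by_cases h : l = k
        · subst h
          rw [Function.update_self] at hil
          rw [mul_transvection_apply_same]
          rcases hil.eq_or_lt with h4 | h4
          · have h5 := h2 j
            rw [e] at h5
            rw [← Fin.ext h4, ht]; field_simp; ring
          · rw [hg i l (by rw [h3]; omega), hg i j (by rw [h3, e]; omega)]; simp
        · rw [Function.update_of_ne h] at hil
          rw [mul_transvection_apply_of_ne _ _ _ _ h]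
          exact hg i l hil)
    exact ⟨p, hp, τ, _, mul_mem hq (inv_mem hu), by rw [← mul_assoc, ← he]; simp⟩

theorem PL_val_le {a : Fin n → ℕ} (ha : Monotone a) : PL F (Fin.val : Fin n → ℕ) ≤ PL F a := fun _ hg =>
  mem_PL.2 fun i j hij => mem_PL.1 hg i j (ha.reflect_lt hij)

theorem bruhat_GL {a b : Fin n → ℕ} (ha : Monotone a) (hb : Monotone b) (g : GL (Fin n) F) :
    ∃ p ∈ PL F a, ∃ σ, ∃ q ∈ PL F b, g = p * pGL F σ * q := by
  obtain ⟨p, hp, σ, q, hq, e⟩ := bruhat_aux _ g (fun _ => n) rfl fun i j h => absurd i.2 (by omega)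
  exact ⟨p, PL_val_le ha hp, σ, q, PL_val_le hb hq, e⟩

theorem orb_eq_iff {G : Type*} [Group G] (P Q : Subgroup G) (x y : G) :
    (Quotient.mk'' (x : G ⧸ Q) : MulAction.orbitRel.Quotient P (G ⧸ Q)) = Quotient.mk'' (y : G ⧸ Q) ↔
      ∃ p ∈ P, x⁻¹ * p * y ∈ Q := by
  rw [Quotient.eq'', MulAction.orbitRel_apply]
  constructor
  · rintro ⟨p, hp⟩
    refine ⟨p, p.2, ?_⟩
    have : ((x : G) : G ⧸ Q) = ((p : G) * y : G) := hp.symm
    rw [QuotientGroup.eq] at this
    rwa [mul_assoc]
  · rintro ⟨p, hp, h⟩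
    refine ⟨⟨p, hp⟩, ?_⟩
    change (((p * y : G)) : G ⧸ Q) = x
    rw [eq_comm, QuotientGroup.eq, ← mul_assoc]
    exact h

/-- counting double cosets by a complete invariant -/
theorem card_orb_eq {G W T : Type*} [Group G] (P Q : Subgroup G) (φ : W → G) (f : W → T)
    (hf : Function.Surjective f) (h1 : ∀ g, ∃ p ∈ P, ∃ w, ∃ q ∈ Q, g = p * φ w * q)
    (h2 : ∀ w w', f w = f w' ↔ ∃ p ∈ P, (φ w)⁻¹ * p * φ w' ∈ Q) :
    Nat.card (MulAction.orbitRel.Quotient P (G ⧸ Q)) = Nat.card T := by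
  symm
  refine Nat.card_congr (Equiv.ofBijective (fun t => Quotient.mk'' (φ (Function.surjInv hf t) : G ⧸ Q)) ⟨?_, ?_⟩)
  · intro t t' h
    rw [orb_eq_iff, ← h2, Function.surjInv_eq hf, Function.surjInv_eq hf] at h
    exact h
  · intro x
    obtain ⟨x, rfl⟩ := Quotient.exists_rep x
    obtain ⟨g, rfl⟩ := QuotientGroup.mk_surjective x
    obtain ⟨p, hp, w, q, hq, rfl⟩ := h1 g
    refine ⟨f w, ?_⟩
    obtain ⟨p', hp', h⟩ := (h2 (Function.surjInv hf (f w)) w).1 (Function.surjInv_eq hf _)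
    refine (orb_eq_iff P Q _ _).2 ⟨p' * p⁻¹, mul_mem hp' (inv_mem hp), ?_⟩
    have := mul_mem h hq
    simpa [mul_assoc] using this

end CfsgH8
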