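import Cfsg.Agent.H8.GLB1

/-! Double cosets of Young subgroups and parabolic subgroups are counted by matrices with given margins. -/

set_option autoImplicit false

namespace CfsgH8

open Matrix Finset Cfsg Equiv
open scoped MatrixGroups

section cnt
variable {ι κ : Type*} [Fintype ι] [Fintype κ] [DecidableEq κ]

theorem exists_equiv_of_fiber {ι' γ : Type*} [Fintype ι'] [DecidableEq γ] (f : ι → γ) (g : ι' → γ)
    (h : ∀ c, #{x | f x = c} = #{x | g x = c}) : ∃ e : ι ≃ ι', ∀ x, g (e x) = f x := by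
  have e : ∀ c, {a // f a = c} ≃ {b // g b = c} := fun c => Fintype.equivOfCardEq (by
    rw [Fintype.card_subtype, Fintype.card_subtype, h])
  exact ⟨Equiv.ofFiberEquiv e, Equiv.ofFiberEquiv_map e⟩

/-- matrices with given margins -/
noncomputable def Mg (α β : κ → ℕ) : Finset (κ → κ →₀ ℕ) :=
  (Fintype.piFinset fun i => finsuppAntidiag univ (α i)).filter fun M => ∑ i, M i = Finsupp.equivFunOnFinite.symm β

theorem mem_Mg {α β : κ → ℕ} {M : κ → κ →₀ ℕ} :
    M ∈ Mg α β ↔ (∀ i, ∑ j, M i j = α i) ∧ ∀ j, ∑ i, M i j = β j := by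
  simp only [Mg, mem_filter, Fintype.mem_piFinset, mem_finsuppAntidiag, subset_univ, and_true]
  refine and_congr Iff.rfl ⟨fun h j => ?_, fun h => Finsupp.ext fun j => ?_⟩
  · have := congrArg (fun v : κ →₀ ℕ => v j) h
    simpa [Finsupp.finset_sum_apply] using this
  · simpa [Finsupp.finset_sum_apply] using h j

/-- the matrix of a permutation -/
noncomputable def MT (a b : ι → κ) (σ : Perm ι) : κ → κ →₀ ℕ :=
  fun i => Finsupp.equivFunOnFinite.symm fun j => #{k | (a (σ k), b k) = (i, j)}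

theorem MT_apply (a b : ι → κ) (σ : Perm ι) (i j : κ) : MT a b σ i j = #{k | (a (σ k), b k) = (i, j)} := rfl

theorem sum_fiber_fst (f : ι → κ × κ) (i : κ) : ∑ j, #{k | f k = (i, j)} = #{k | (f k).1 = i} := by
  rw [card_eq_sum_card_fiberwise (f := fun k => (f k).2) (t := univ) (fun _ _ => mem_coe.2 (mem_univ _))]
  refine sum_congr rfl fun j _ => ?_
  rw [filter_filter]
  congr 1; ext k; simp [Prod.ext_iff]

theorem sum_fiber_snd (f : ι → κ × κ) (j : κ) : ∑ i, #{k | f k = (i, j)} = #{k | (f k).2 = j} := by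
  rw [card_eq_sum_card_fiberwise (f := fun k => (f k).1) (t := univ) (fun _ _ => mem_coe.2 (mem_univ _))]
  refine sum_congr rfl fun i _ => ?_
  rw [filter_filter]
  congr 1; ext k; simp [Prod.ext_iff, and_comm]

omit [Fintype κ] in
theorem card_fiber_perm {γ : Type*} [DecidableEq γ] (a : ι → γ) (σ : Perm ι) (i : γ) :
    #{k | a (σ k) = i} = #{k | a k = i} :=
  card_equiv σ (by simp)

variable {a b : ι → κ} {α β : κ → ℕ}

theorem MT_mem (ha : ∀ i, #{k | a k = i} = α i) (hb : ∀ i, #{k | b k = i} = β i) (σ : Perm ι) :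
    MT a b σ ∈ Mg α β := by
  refine mem_Mg.2 ⟨fun i => ?_, fun j => ?_⟩
  · simp only [MT_apply]
    rw [sum_fiber_fst (fun k => (a (σ k), b k)), ← ha, ← card_fiber_perm a σ]
  · simp only [MT_apply]
    rw [sum_fiber_snd (fun k => (a (σ k), b k)), ← hb]

theorem MT_surj (ha : ∀ i, #{k | a k = i} = α i) (hb : ∀ i, #{k | b k = i} = β i) {M : κ → κ →₀ ℕ}
    (hM : M ∈ Mg α β) : ∃ σ, MT a b σ = M := by
  classical
  obtain ⟨h1, h2⟩ := mem_Mg.1 hM
  let f : (Σ p : κ × κ, Fin (M p.1 p.2)) → κ × κ := fun x => x.1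
  have hf : ∀ p, #{x | f x = p} = M p.1 p.2 := by
    intro p
    rw [← Fintype.card_subtype, Fintype.card_congr (Equiv.sigmaSubtype p), Fintype.card_fin]
  obtain ⟨e1, he1⟩ := exists_equiv_of_fiber (fun x => (f x).1) a fun c => by
    rw [← sum_fiber_fst, ha, ← h1]; simp only [hf]
  obtain ⟨e2, he2⟩ := exists_equiv_of_fiber (fun x => (f x).2) b fun c => by
    rw [← sum_fiber_snd, hb, ← h2]; simp only [hf]
  refine ⟨e2.symm.trans e1, ?_⟩
  ext i j
  rw [MT_apply, ← hf (i, j)]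
  refine (card_equiv e2 fun x => ?_).symm
  simp [he1, he2, Prod.ext_iff]

theorem MT_eq_iff (σ τ : Perm ι) : MT a b σ = MT a b τ ↔ ∃ π ∈ YL a, σ⁻¹ * π * τ ∈ YL b := by
  constructor
  · intro h
    obtain ⟨ρ, hρ⟩ := exists_equiv_of_fiber (fun k => (a (τ k), b k)) (fun k => (a (σ k), b k)) fun c => by
      rw [← MT_apply, ← MT_apply, h]
    refine ⟨σ * ρ * τ⁻¹, fun i => ?_, fun i => ?_⟩
    · simpa using congrArg Prod.fst (hρ (τ⁻¹ i))
    · simpa using congrArg Prod.snd (hρ i)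
  · rintro ⟨π, h1, h2⟩
    ext i j
    rw [MT_apply, MT_apply, ← card_fiber_perm _ (σ⁻¹ * π * τ)]
    congr 1; ext k
    have e1 := h1 (τ k)
    have e2 := h2 k
    simp only [mem_filter, mem_univ, true_and, e2]
    simp [e1]

theorem card_orb_YL (ha : ∀ i, #{k | a k = i} = α i) (hb : ∀ i, #{k | b k = i} = β i) :
    Nat.card (MulAction.orbitRel.Quotient (YL a) (Perm ι ⧸ YL b)) = #(Mg α β) := by
  rw [card_orb_eq (YL a) (YL b) id (fun σ => (⟨MT a b σ, MT_mem ha hb σ⟩ : Mg α β))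
    (fun M => (MT_surj ha hb M.2).imp fun _ h => Subtype.ext h)
    (fun g => ⟨1, one_mem _, g, 1, one_mem _, by simp⟩) fun w w' => Subtype.ext_iff.trans (MT_eq_iff w w')]
  simp

end cnt

variable {n : ℕ} {F : Type*} [Field F]

theorem YL_val {ι : Type*} (a : ι → Fin n) : YL (fun i => (a i : ℕ)) = YL a := by
  ext σ; simp [mem_YL, Fin.ext_iff]

theorem card_orb_PL {a b : Fin n → Fin n} {α β : Fin n → ℕ} (ha : ∀ i, #{k | a k = i} = α i)
    (hb : ∀ i, #{k | b k = i} = β i) (ha' : Monotone a) (hb' : Monotone b) :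
    Nat.card (MulAction.orbitRel.Quotient (PL F fun i => (a i : ℕ)) (GL (Fin n) F ⧸ PL F fun i => (b i : ℕ))) =
      #(Mg α β) := by
  rw [card_orb_eq _ _ (pGL F) (fun σ => (⟨MT a b σ, MT_mem ha hb σ⟩ : Mg α β))
    (fun M => (MT_surj ha hb M.2).imp fun _ h => Subtype.ext h)
    (bruhat_GL (fun _ _ h => ha' h) fun _ _ h => hb' h) fun w w' => Subtype.ext_iff.trans ?_]
  · simp
  rw [MT_eq_iff, ← YL_val, ← YL_val]
  constructor
  · rintro ⟨π, h1, h2⟩
    exact ⟨_, pGL_mem_PL h1, by simpa using pGL_mem_PL (F := F) h2⟩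
  · rintro ⟨p, h1, h2⟩
    exact dc_unique h1 h2 (by group)

/-- partial sums -/
def psum (μ : Fin n → ℕ) (m : ℕ) : ℕ := ∑ k : Fin n with k.val < m, μ k

theorem psum_succ (μ : Fin n → ℕ) (j : Fin n) : psum μ (j + 1) = psum μ j + μ j := by
  rw [psum, psum, show (univ.filter fun k : Fin n => k.val < j + 1) = insert j (univ.filter fun k : Fin n => k.val < j) by
    ext k; simp [Fin.ext_iff]; omega, sum_insert (by simp), add_comm]

theorem psum_le (μ : Fin n → ℕ) (m : ℕ) : psum μ m ≤ ∑ i, μ i := sum_le_sum_of_subset (filter_subset _ _)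

theorem lt_compLabel (μ : Fin n → ℕ) (i j : Fin n) : (j : ℕ) < compLabel μ i ↔ psum μ (j + 1) ≤ i := by
  rw [compLabel, Fin.lt_card_filter_univ_iff_apply_of_imp
    (fun j : Fin n => (∑ k ∈ Finset.univ.filter (fun k : Fin n => k ≤ j), μ k) ≤ i.val)
    (fun a b hab h => le_trans (sum_le_sum_of_subset fun k => by simpa using fun h => h.trans hab) h), psum]
  simp only [Fin.le_def, Nat.lt_succ_iff]

theorem compLabel_le (μ : Fin n → ℕ) (i : Fin n) : compLabel μ i ≤ n :=
  (card_filter_le _ _).trans (by simp)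

theorem compLabel_lt {μ : Fin n → ℕ} (hμ : ∑ i, μ i = n) (i : Fin n) : compLabel μ i < n := by
  have h0 : n - 1 < n := by have := i.2; omega
  have := (lt_compLabel μ i ⟨n - 1, h0⟩).not.2 (by
    have : psum μ (n - 1 + 1) = n := by
      rw [psum, filter_true_of_mem fun k _ => by have := k.2; omega, hμ]
    simp only [this]; have := i.2; omega)
  simp only at this
  omega

theorem compLabel_mono (μ : Fin n → ℕ) : Monotone (compLabel μ) := fun _ _ h =>
  card_le_card fun k => by simpa using fun h' => h'.trans h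

/-- the block labels as elements of `Fin n` -/
def cl {μ : Fin n → ℕ} (hμ : ∑ i, μ i = n) (i : Fin n) : Fin n := ⟨compLabel μ i, compLabel_lt hμ i⟩

theorem cl_mono {μ : Fin n → ℕ} (hμ : ∑ i, μ i = n) : Monotone (cl hμ) := fun _ _ h => compLabel_mono μ h

theorem card_label_lt {μ : Fin n → ℕ} (hμ : ∑ i, μ i = n) {m : ℕ} (hm : m ≤ n) :
    #{i | compLabel μ i < m} = psum μ m := by
  rcases m with _ | m
  · simp [psum]
  · rw [← min_eq_right ((psum_le μ (m + 1)).trans hμ.le), ← Fin.card_filter_val_lt]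
    congr 1; ext i
    have := lt_compLabel μ i ⟨m, hm⟩
    simp only [mem_filter, mem_univ, true_and] at this ⊢
    omega

theorem card_cl {μ : Fin n → ℕ} (hμ : ∑ i, μ i = n) (j : Fin n) : #{i | cl hμ i = j} = μ j := by
  have h1 := card_label_lt hμ (m := j + 1) j.2
  rw [psum_succ, ← card_label_lt hμ j.2.le] at h1
  have h2 : (univ.filter fun i => compLabel μ i < j + 1) =
      (univ.filter fun i => compLabel μ i < j) ∪ univ.filter fun i => cl hμ i = j := by
    ext i; simp [cl, Fin.ext_iff]; omega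
  rw [h2, card_union_of_disjoint (disjoint_filter.2 fun i _ h h' => by rw [← h'] at h; exact lt_irrefl _ h)] at h1
  omega

theorem parabolicGL_eq {μ : Fin n → ℕ} (hμ : ∑ i, μ i = n) : parabolicGL n F μ = PL F fun i => (cl hμ i : ℕ) := rfl

theorem youngSubgroup_eq {μ : Fin n → ℕ} (hμ : ∑ i, μ i = n) : youngSubgroup μ = YL (cl hμ) :=
  YL_val (cl hμ)

theorem inner_par [Fintype (GL (Fin n) F)] {μ ν : Fin n → ℕ} (hμ : ∑ i, μ i = n) (hν : ∑ i, ν i = n) :
    classInner (fixedPointCharacter (parabolicGL n F ν)) (fixedPointCharacter (parabolicGL n F μ)) = #(Mg μ ν) := by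
  rw [CfsgH6.inner_fpc, parabolicGL_eq hμ, parabolicGL_eq hν,
    card_orb_PL (card_cl hμ) (card_cl hν) (cl_mono hμ) (cl_mono hν)]

theorem inner_young {μ ν : Fin n → ℕ} (hμ : ∑ i, μ i = n) (hν : ∑ i, ν i = n) :
    classInner (fixedPointCharacter (youngSubgroup ν)) (fixedPointCharacter (youngSubgroup μ)) = #(Mg μ ν) := by
  rw [CfsgH6.inner_fpc, youngSubgroup_eq hμ, youngSubgroup_eq hν, card_orb_YL (card_cl hμ) (card_cl hν)]

end CfsgH8
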