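import Cfsg.Agent.H8.GLB2

/-! The Jacobi–Trudi identity and orthogonality of the alternating sums of flag characters. -/

set_option autoImplicit false

namespace CfsgH8

open Matrix Finset Cfsg Equiv CfsgH3
open scoped MatrixGroups

variable {n : ℕ}

/-- geometric series -/
noncomputable def geo (j : Fin n) : PowerSeries (MvPolynomial (Fin n) ℤ) :=
  PowerSeries.mk fun m => MvPolynomial.X j ^ m

/-- complete homogeneous symmetric polynomials -/
noncomputable def hsym (n m : ℕ) : MvPolynomial (Fin n) ℤ := PowerSeries.coeff m (∏ j : Fin n, geo j)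

/-- generating function of the elementary symmetric polynomials omitting one variable -/
noncomputable def EE (j : Fin n) : Polynomial (MvPolynomial (Fin n) ℤ) :=
  ∏ i ∈ univ.erase j, (1 - Polynomial.C (MvPolynomial.X i) * Polynomial.X)

theorem geo_mul (j : Fin n) : geo j * (1 - PowerSeries.C (MvPolynomial.X j) * PowerSeries.X) = 1 := by
  ext m : 1
  rw [mul_sub, mul_one, ← mul_assoc, map_sub]
  rcases m with _ | m
  · simp [geo]
  · rw [PowerSeries.coeff_succ_mul_X, PowerSeries.coeff_mul_C]
    simp [geo, pow_succ, PowerSeries.coeff_one]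

theorem prod_mul_EE (j : Fin n) : (∏ i : Fin n, geo i) * (EE j : PowerSeries (MvPolynomial (Fin n) ℤ)) = geo j := by
  have : (EE j : PowerSeries (MvPolynomial (Fin n) ℤ)) =
      ∏ i ∈ univ.erase j, (1 - PowerSeries.C (MvPolynomial.X i) * PowerSeries.X) := by
    rw [EE, ← Polynomial.coeToPowerSeries.ringHom_apply, map_prod]
    simp [Polynomial.coeToPowerSeries.ringHom_apply]
  rw [this, ← mul_prod_erase univ _ (mem_univ j), mul_assoc, ← prod_mul_distrib]
  simp [geo_mul]

theorem coeff_EE (j : Fin n) {k : ℕ} (hk : n ≤ k) : (EE j).coeff k = 0 := by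
  apply Polynomial.coeff_eq_zero_of_natDegree_lt
  have h1 : (EE j).natDegree ≤ ∑ i ∈ univ.erase j, 1 := by
    refine (Polynomial.natDegree_prod_le _ _).trans (sum_le_sum fun i _ => ?_)
    compute_degree
  have := j.2
  simp at h1
  omega

theorem X_pow_eq (j : Fin n) (m : ℕ) : (MvPolynomial.X j ^ m : MvPolynomial (Fin n) ℤ) =
    ∑ k : Fin n, (EE j).coeff k * if k.val ≤ m then hsym n (m - k) else 0 := by
  have h := congrArg (PowerSeries.coeff m) (prod_mul_EE j)
  rw [mul_comm, PowerSeries.coeff_mul, Nat.sum_antidiagonal_eq_sum_range_succ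
    (fun a b => PowerSeries.coeff a (EE j : PowerSeries (MvPolynomial (Fin n) ℤ)) *
      PowerSeries.coeff b (∏ i : Fin n, geo i))] at h
  simp only [geo, PowerSeries.coeff_mk, Polynomial.coeff_coe] at h
  rw [← h, Fin.sum_univ_eq_sum_range (fun k => (EE j).coeff k * if k ≤ m then hsym n (m - k) else 0)]
  have e1 : ∑ k ∈ range n, (EE j).coeff k * (if k ≤ m then hsym n (m - k) else 0) =
      ∑ k ∈ range (n + m + 1), (EE j).coeff k * (if k ≤ m then hsym n (m - k) else 0) :=
    sum_subset (range_mono (by omega)) fun k _ hk => by rw [coeff_EE j (by simpa using hk), zero_mul]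
  have e2 : ∑ k ∈ range (m + 1), (EE j).coeff k * (if k ≤ m then hsym n (m - k) else 0) =
      ∑ k ∈ range (n + m + 1), (EE j).coeff k * (if k ≤ m then hsym n (m - k) else 0) :=
    sum_subset (range_mono (by omega)) fun k _ hk => by rw [if_neg (by simpa [Nat.lt_succ_iff] using hk), mul_zero]
  rw [e1, ← e2]
  refine sum_congr rfl fun k hk => ?_
  rw [if_pos (by simpa [Nat.lt_succ_iff] using hk)]
  rfl

/-- the Jacobi–Trudi matrix -/
noncomputable def HM (l : Fin n → ℕ) : Matrix (Fin n) (Fin n) (MvPolynomial (Fin n) ℤ) :=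
  of fun k i => if k.val ≤ l i then hsym n (l i - k) else 0

/-- the alternant matrix -/
noncomputable def AM (l : Fin n → ℕ) : Matrix (Fin n) (Fin n) (MvPolynomial (Fin n) ℤ) :=
  of fun j i => MvPolynomial.X j ^ l i

theorem AM_eq (l : Fin n → ℕ) : AM l = (of fun j k : Fin n => (EE j).coeff k) * HM l := by
  ext j i : 2
  rw [AM, of_apply, X_pow_eq, mul_apply]
  rfl

theorem hsym_zero : hsym n 0 = 1 := by simp [hsym, geo, map_prod]

theorem det_HM_val : (HM (Fin.val : Fin n → ℕ)).det = 1 := by
  rw [det_of_isUpperTriangular]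
  · simp [HM, hsym_zero]
  · intro i j hij
    simp only [HM, of_apply]
    rw [if_neg (by simpa using hij)]

theorem jacobi_trudi (l : Fin n → ℕ) : (AM l).det = (HM l).det * (AM (Fin.val : Fin n → ℕ)).det := by
  rw [AM_eq, AM_eq, det_mul, det_mul, det_HM_val]; ring

theorem prod_X_pow (l : Fin n → ℕ) : ∏ i, (MvPolynomial.X i ^ l i : MvPolynomial (Fin n) ℤ) =
    MvPolynomial.monomial (Finsupp.equivFunOnFinite.symm l) 1 := by
  rw [MvPolynomial.monomial_eq, Finsupp.prod_fintype _ _ (by simp)]
  simp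

theorem det_AM (l : Fin n → ℕ) : (AM l).det = ∑ σ : Perm (Fin n),
    MvPolynomial.monomial (Finsupp.equivFunOnFinite.symm fun i => l (σ i)) (Perm.sign σ : ℤ) := by
  rw [← det_transpose, det_apply]
  refine sum_congr rfl fun σ _ => ?_
  simp only [transpose_apply, AM, of_apply]
  rw [prod_X_pow, Units.smul_def, MvPolynomial.smul_monomial]
  simp

theorem hsym_eq (m : ℕ) : hsym n m = ∑ l ∈ finsuppAntidiag univ m, MvPolynomial.monomial l 1 := by
  rw [hsym, PowerSeries.coeff_prod]
  refine sum_congr rfl fun l _ => ?_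
  simp only [geo, PowerSeries.coeff_mk]
  rw [prod_X_pow]; simp

theorem coeff_prod_hsym (α β : Fin n → ℕ) :
    MvPolynomial.coeff (Finsupp.equivFunOnFinite.symm β) (∏ i, hsym n (α i)) = #(Mg α β) := by
  simp only [hsym_eq]
  rw [prod_univ_sum, MvPolynomial.coeff_sum, Mg, card_filter]
  push_cast
  refine sum_congr rfl fun M _ => ?_
  rw [← MvPolynomial.monomial_sum_one, MvPolynomial.coeff_monomial]

theorem coeff_det_HM (l β : Fin n → ℕ) : MvPolynomial.coeff (Finsupp.equivFunOnFinite.symm β) (HM l).det =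
    ∑ κ : Perm (Fin n), if ∀ i, (κ i).val ≤ l i then (Perm.sign κ : ℤ) * #(Mg (fun i => l i - κ i) β) else 0 := by
  rw [det_apply, MvPolynomial.coeff_sum]
  refine sum_congr rfl fun κ _ => ?_
  simp only [HM, of_apply]
  rw [prod_ite_zero]
  simp only [mem_univ, forall_const]
  split_ifs
  · rw [Units.smul_def, MvPolynomial.coeff_smul, coeff_prod_hsym, smul_eq_mul]
  · simp

theorem orth_JT {l l' : Fin n → ℕ} (hl : StrictMono l) (hl' : StrictMono l') :
    (∑ κ' : Perm (Fin n), if ∀ i, (κ' i).val ≤ l' i then (Perm.sign κ' : ℤ) *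
      ∑ κ : Perm (Fin n), (if ∀ i, (κ i).val ≤ l i then
        (Perm.sign κ : ℤ) * #(Mg (fun i => l i - κ i) fun i => l' i - κ' i) else 0) else 0) =
      if l = l' then 1 else 0 := by
  have h := congrArg (MvPolynomial.coeff (Finsupp.equivFunOnFinite.symm l')) (jacobi_trudi l)
  rw [det_AM, det_AM, mul_sum, MvPolynomial.coeff_sum, MvPolynomial.coeff_sum] at h
  refine Eq.trans (sum_congr rfl fun κ' _ => ?_) (h.symm.trans ?_)
  · rw [MvPolynomial.coeff_mul_monomial', ← coeff_det_HM, mul_comm]
    refine if_congr (by simp [Finsupp.le_def]) ?_ rfl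
    congr 2
    ext i; simp
  · rw [sum_eq_single 1]
    · simp [MvPolynomial.coeff_monomial]
    · intro σ _ hσ
      rw [MvPolynomial.coeff_monomial, if_neg]
      intro e
      have e1 : (fun i => l (σ i)) = l' := Finsupp.equivFunOnFinite.symm.injective e
      have e2 : l = l' := (hl.range_inj hl').1 (by
        rw [← e1]; exact (σ.surjective.range_comp l).symm)
      apply hσ
      ext i
      rw [hl.injective ((congrFun e1 i).trans (congrFun e2.symm i))]
      rfl
    · simp

variable {F : Type*} [Field F]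

theorem strictMono_add {ν : Fin n → ℕ} (h : Monotone ν) : StrictMono fun i : Fin n => ν i + i.val :=
  fun _ _ hij => Nat.add_lt_add_of_le_of_lt (h hij.le) hij

theorem sum_sub_perm {ν : Fin n → ℕ} (hs : ∑ i, ν i = n) {κ : Perm (Fin n)} (h : ∀ i, (κ i).val ≤ ν i + i.val) :
    ∑ i, (ν i + i.val - (κ i).val) = n := by
  rw [sum_tsub_distrib _ fun i _ => h i, sum_add_distrib, Equiv.sum_comp κ Fin.val, hs, Nat.add_sub_cancel]

theorem uni_eq (ν : Fin n → ℕ) : unipotentCharacterGL n F ν = ∑ κ : Perm (Fin n),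
    if ∀ i : Fin n, (κ i).val ≤ ν i + i.val then
      ((Perm.sign κ : ℤ) : ℂ) • fixedPointCharacter (parabolicGL n F fun i => ν i + i.val - (κ i).val) else 0 := by
  ext g
  rw [unipotentCharacterGL, Finset.sum_apply]
  refine sum_congr rfl fun κ _ => ?_
  split_ifs <;> rfl

theorem isGen_uni [Finite F] (ν : Fin n → ℕ) : IsGeneralizedCharacter (GL (Fin n) F) (unipotentCharacterGL n F ν) := by
  rw [uni_eq]
  refine CfsgH3.isGen_sum _ fun κ _ => ?_
  split_ifs
  · exact (CfsgH3.isChar_permChar (G := GL (Fin n) F) (X := GL (Fin n) F ⧸ _)).isGen.intCast_smul _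
  · exact CfsgH3.isGen_zero

theorem inner_uni [Fintype (GL (Fin n) F)] {ν ν' : Fin n → ℕ} (hm : Monotone ν) (hs : ∑ i, ν i = n)
    (hm' : Monotone ν') (hs' : ∑ i, ν' i = n) :
    classInner (unipotentCharacterGL n F ν') (unipotentCharacterGL n F ν) = if ν = ν' then 1 else 0 := by
  have h := congrArg (Int.cast : ℤ → ℂ) (orth_JT (strictMono_add hm) (strictMono_add hm'))
  push_cast at h
  rw [uni_eq, uni_eq, CfsgH3.inner_sum_left]
  refine Eq.trans (sum_congr rfl fun κ' _ => ?_) (h.trans (if_congr ?_ rfl rfl))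
  · split_ifs with h1
    · rw [CfsgH3.inner_smul_left, CfsgH3.inner_sum_right]
      congr 1
      refine sum_congr rfl fun κ _ => ?_
      split_ifs with h2
      · rw [CfsgH3.inner_smul_right, inner_par (sum_sub_perm hs h2) (sum_sub_perm hs' h1), map_intCast]
      · simp [classInner]
    · simp [classInner]
  · simp [funext_iff]

end CfsgH8
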