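import Cfsg.Agent.H8.GLB3

/-! Orders of the standard parabolic subgroups of `GL_n` and degrees of the flag characters. -/

set_option autoImplicit false

namespace CfsgH8

open Matrix Finset Cfsg Equiv CfsgH3
open scoped MatrixGroups

/-- `q`-integers -/
def qi (q m : ℕ) : ℕ := ∑ l ∈ range m, q ^ l
/-- `q`-factorials -/
def qf (q m : ℕ) : ℕ := ∏ j ∈ range m, qi q (j + 1)

theorem qi_pos {q m : ℕ} : 0 < qi q (m + 1) := by rw [qi, sum_range_succ']; simp
theorem qf_pos {q m : ℕ} : 0 < qf q m := prod_pos fun _ _ => qi_pos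
theorem qi_add (q a b : ℕ) : qi q (a + b) = qi q a + q ^ a * qi q b := by
  simp [qi, sum_range_add, mul_sum, pow_add]
theorem qi_lt {q a b : ℕ} (hq : 0 < q) (h : a < b) : qi q a < qi q b := by
  obtain ⟨c, rfl⟩ := Nat.exists_eq_add_of_lt h
  rw [add_assoc, qi_add]
  exact Nat.lt_add_of_pos_right (Nat.mul_pos (pow_pos hq _) qi_pos)

theorem prod_pow_sub {q : ℕ} (hq : 1 ≤ q) (m : ℕ) :
    ∏ i : Fin m, (q ^ m - q ^ (i : ℕ)) = q ^ (∑ i ∈ range m, i) * (q - 1) ^ m * qf q m := by
  rw [Fin.prod_univ_eq_prod_range (fun i => q ^ m - q ^ i), ← prod_pow_eq_pow_sum, qf, ← prod_range_reflect _ m,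
    ← prod_range_reflect (fun i => q ^ i) m, mul_assoc, show (q - 1) ^ m = ∏ _i ∈ range m, (q - 1) by simp,
    ← prod_mul_distrib, ← prod_mul_distrib]
  refine prod_congr rfl fun i hi => ?_
  rw [mem_range] at hi
  rw [mul_comm (q - 1), qi, geom_sum_mul_of_one_le hq, Nat.mul_sub_one, ← pow_add]
  congr 2; omega

variable {F : Type*} [Field F]

theorem card_GL_eq {ι : Type*} [Fintype ι] [DecidableEq ι] [Fintype F] :
    Nat.card (GL ι F) = Fintype.card F ^ (∑ i ∈ range (Fintype.card ι), i) * (Fintype.card F - 1) ^ Fintype.card ι *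
      qf (Fintype.card F) (Fintype.card ι) := by
  rw [← prod_pow_sub Fintype.card_pos, ← card_GL_field]
  exact Nat.card_congr (Units.mapEquiv (reindexAlgEquiv F F (Fintype.equivFin ι)).toMulEquiv).toEquiv

variable {n : ℕ}

theorem card_PL [Fintype F] {ι : Type*} [Fintype ι] [DecidableEq ι] (a : ι → Fin n) :
    Nat.card (PL F fun i => (a i : ℕ)) =
      (∏ c, Nat.card (GL {k // a k = c} F)) * Fintype.card F ^ #{p : ι × ι | a p.1 < a p.2} := by
  have hb (g : PL F fun i => (a i : ℕ)) : ((g : GL ι F) : Matrix ι ι F).BlockTriangular a :=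
    fun i j h => g.2 h
  have hd (g : PL F fun i => (a i : ℕ)) (c : Fin n) : (((g : GL ι F) : Matrix ι ι F).toSquareBlock a c).det ≠ 0 := by
    have := (g : GL ι F).det_ne_zero
    rw [(hb g).det_fintype] at this
    exact prod_ne_zero_iff.1 this c (mem_univ c)
  rw [← Nat.card_pi, ← Fintype.card_subtype, ← Fintype.card_fun, ← Nat.card_eq_fintype_card, ← Nat.card_prod]
  refine Nat.card_congr (Equiv.ofBijective (fun g => (fun c => GeneralLinearGroup.mkOfDetNeZero _ (hd g c),
    fun p => ((g : GL ι F) : Matrix ι ι F) p.1.1 p.1.2)) ⟨?_, ?_⟩)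
  · intro g g' h
    ext i j
    rcases lt_trichotomy (a i) (a j) with h1 | h1 | h1
    · exact congrFun (congrArg Prod.snd h) ⟨(i, j), h1⟩
    · exact congrArg (fun x : GL {k // a k = a j} F => x.1 ⟨i, h1⟩ ⟨j, rfl⟩)
        (congrFun (congrArg Prod.fst h) (a j))
    · rw [hb g h1, hb g' h1]
  · rintro ⟨D, u⟩
    let M : Matrix ι ι F := of fun i j => if h : a i = a j then (D (a j)).1 ⟨i, h⟩ ⟨j, rfl⟩ else
      if h : a i < a j then u ⟨(i, j), h⟩ else 0
    have h1 : M.BlockTriangular a := fun i j h => by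
      simp only [M, of_apply]
      rw [dif_neg (ne_of_gt h), dif_neg (not_lt_of_gt h)]
    have h2 : ∀ c, M.toSquareBlock a c = D c := fun c => by
      ext ⟨i, hi⟩ ⟨j, rfl⟩
      simp only [M, toSquareBlock_def, of_apply]
      rw [dif_pos hi]
    have h3 : M.det ≠ 0 := by
      rw [h1.det_fintype]
      exact prod_ne_zero_iff.2 fun c _ => h2 c ▸ (D c).det_ne_zero
    refine ⟨⟨GeneralLinearGroup.mkOfDetNeZero _ h3, fun i j h => h1 h⟩, Prod.ext (funext fun c => Units.ext (h2 c)) ?_⟩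
    ext ⟨⟨i, j⟩, h⟩
    change M i j = _
    simp only [M, of_apply]
    rw [dif_neg (ne_of_lt h), dif_pos h]

theorem card_pairs {ι : Type*} [Fintype ι] [DecidableEq ι] (a : ι → Fin n) :
    #{p : ι × ι | a p.1 < a p.2} + ∑ c, ∑ i ∈ range #{k | a k = c}, i = ∑ i ∈ range (Fintype.card ι), i := by
  have h1 : #{p : ι × ι | a p.1 < a p.2} = #{p : ι × ι | a p.2 < a p.1} :=
    card_equiv (Equiv.prodComm ι ι) (by simp)
  have h2 : #{p : ι × ι | a p.1 = a p.2} = ∑ c, #{k | a k = c} * #{k | a k = c} := by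
    rw [card_eq_sum_card_fiberwise (f := fun p : ι × ι => a p.1) (t := univ) (fun _ _ => mem_coe.2 (mem_univ _))]
    refine sum_congr rfl fun c _ => ?_
    rw [← card_product]
    congr 1; ext p; simp only [mem_filter, mem_univ, true_and, mem_product]
    exact ⟨fun h => ⟨h.2, h.1.symm.trans h.2⟩, fun h => ⟨h.1.trans h.2.symm, h.1⟩⟩
  have h3 : #{p : ι × ι | a p.1 < a p.2} + #{p : ι × ι | a p.2 < a p.1} + #{p : ι × ι | a p.1 = a p.2} =
      Fintype.card ι * Fintype.card ι := by
    rw [← Fintype.card_prod, ← card_univ, card_filter, card_filter, card_filter, ← sum_add_distrib,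
      ← sum_add_distrib, card_eq_sum_ones]
    refine sum_congr rfl fun p _ => ?_
    rcases lt_trichotomy (a p.1) (a p.2) with h | h | h
    · simp [h, h.ne, h.not_gt]
    · simp [h]
    · simp [h, h.ne', h.not_gt]
  have h4 : ∑ c, #{k | a k = c} = Fintype.card ι := by
    rw [← card_univ, card_eq_sum_card_fiberwise (f := a) (t := univ) (fun _ _ => mem_coe.2 (mem_univ _))]
  have h5 : ∀ m : ℕ, (∑ i ∈ range m, i) * 2 + m = m * m := fun m => by
    rw [sum_range_id_mul_two]; rcases m with _ | m <;> simp; ring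
  have h6 : (∑ c, ∑ i ∈ range #{k | a k = c}, i) * 2 + Fintype.card ι = ∑ c, #{k | a k = c} * #{k | a k = c} := by
    rw [← h4, sum_mul, ← sum_add_distrib]
    exact sum_congr rfl fun c _ => h5 _
  have := h5 (Fintype.card ι)
  omega

theorem index_par [Fintype F] {μ : Fin n → ℕ} (hμ : ∑ i, μ i = n) :
    Nat.card (GL (Fin n) F ⧸ parabolicGL n F μ) * ∏ i, qf (Fintype.card F) (μ i) = qf (Fintype.card F) n := by
  have h1 := Subgroup.card_eq_card_quotient_mul_card_subgroup (parabolicGL n F μ)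
  have h2 := card_pairs (cl hμ)
  rw [parabolicGL_eq hμ, card_PL, ← parabolicGL_eq hμ] at h1
  simp only [card_GL_eq, Fintype.card_subtype, card_cl, Fintype.card_fin] at h1 h2
  rw [prod_mul_distrib, prod_mul_distrib, prod_pow_eq_pow_sum, prod_pow_eq_pow_sum, hμ, ← h2, pow_add] at h1
  have h3 : 0 < Fintype.card F - 1 := Nat.sub_pos_of_lt Fintype.one_lt_card
  have h4 : 0 < Fintype.card F := Fintype.card_pos
  have h5 : 0 < Fintype.card F ^ #{p : Fin n × Fin n | cl hμ p.1 < cl hμ p.2} *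
    Fintype.card F ^ (∑ i, ∑ i ∈ range (μ i), i) * (Fintype.card F - 1) ^ n :=
    Nat.mul_pos (Nat.mul_pos (pow_pos h4 _) (pow_pos h4 _)) (pow_pos h3 _)
  refine Nat.eq_of_mul_eq_mul_left h5 ?_
  rw [h1]; ring

theorem qf_split (q : ℕ) {k m : ℕ} (h : k ≤ m) :
    (q : ℂ) ^ (∑ l ∈ range k, l) * qf q m = qf q (m - k) * ∏ l ∈ range k, ((qi q m : ℂ) - qi q l) := by
  induction k with
  | zero => simp
  | succ k ih =>
    obtain ⟨d, rfl⟩ := Nat.exists_eq_add_of_le h
    have e1 : k + 1 + d - k = d + 1 := by omega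
    have e2 : qi q (k + 1 + d) = qi q k + q ^ k * qi q (d + 1) := by rw [← qi_add]; congr 1; omega
    have := ih (by omega)
    rw [e1] at this
    rw [sum_range_succ, prod_range_succ, pow_add, mul_right_comm, this, Nat.add_sub_cancel_left,
      show qf q (d + 1) = qf q d * qi q (d + 1) from prod_range_succ _ _]
    generalize ∏ l ∈ range k, ((qi q (k + 1 + d) : ℂ) - qi q l) = P
    rw [e2]
    push_cast; ring

theorem sum_tri (n : ℕ) : ∑ k : Fin n, ∑ l ∈ range k, l = n * (n - 1) * (n - 2) / 6 := by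
  have : ∀ n : ℕ, (∑ k ∈ range n, ∑ l ∈ range k, l) * 6 = n * (n - 1) * (n - 2) := by
    intro n
    induction n with
    | zero => simp
    | succ n ih =>
      have := sum_range_id_mul_two n
      rw [sum_range_succ, add_mul, ih, show (6 : ℕ) = 2 * 3 from rfl, ← mul_assoc, this]
      rcases n with _ | _ | n <;> simp; ring
  rw [Fin.sum_univ_eq_sum_range (fun k => ∑ l ∈ range k, l), ← this]; simp

theorem uni_one [Fintype F] {ν : Fin n → ℕ} (hs : ∑ i, ν i = n) :
    unipotentCharacterGL n F ν 1 * (Fintype.card F : ℂ) ^ (n * (n - 1) * (n - 2) / 6) *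
      ∏ i : Fin n, (qf (Fintype.card F) (ν i + i.val) : ℂ) = qf (Fintype.card F) n *
        ∏ i : Fin n, ∏ j ∈ Ioi i, ((qi (Fintype.card F) (ν j + j.val) : ℂ) - qi (Fintype.card F) (ν i + i.val)) := by
  set q := Fintype.card F
  rw [← det_vandermonde, det_eval_matrixOfPolynomials_eq_det_vandermonde _
    (fun k : Fin n => ∏ l ∈ range k, (Polynomial.X - Polynomial.C (qi q l : ℂ)))
    (fun k => by rw [Polynomial.natDegree_finsetProd_X_sub_C_eq_card]; simp)
    (fun k => Polynomial.monic_prod_X_sub_C _ _), ← det_transpose, det_apply, mul_sum, unipotentCharacterGL,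
    mul_assoc, sum_mul]
  refine sum_congr rfl fun κ _ => ?_
  simp only [transpose_apply, of_apply, Polynomial.eval_prod, Polynomial.eval_sub, Polynomial.eval_X,
    Polynomial.eval_C]
  split_ifs with h
  · have h1 := congrArg (Nat.cast : ℕ → ℂ) (index_par (F := F) (sum_sub_perm hs h))
    push_cast at h1
    rw [← sum_tri, ← Equiv.sum_comp κ (fun k : Fin n => ∑ l ∈ range k, l), ← prod_pow_eq_pow_sum, ← prod_mul_distrib,
      prod_congr rfl fun i _ => qf_split q (h i), prod_mul_distrib, ← h1, Units.smul_def, zsmul_eq_mul]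
    simp only [fixedPointCharacter, MulAction.fixedBy_one_eq_univ, Nat.card_univ]
    ring
  · push Not at h
    obtain ⟨i, hi⟩ := h
    rw [prod_eq_zero (f := fun i => ∏ l ∈ range (κ i), ((qi q (ν i + i.val) : ℂ) - qi q l)) (mem_univ i)
      (prod_eq_zero (mem_range.2 hi) (sub_self _))]
    simp

theorem irr_uni [Fintype F] {ν : Fin n → ℕ} (hm : Monotone ν) (hs : ∑ i, ν i = n) :
    IsIrrCharacter (GL (Fin n) F) (unipotentCharacterGL n F ν) := by
  have := Fintype.ofFinite (GL (Fin n) F)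
  refine (isGen_uni ν).irr_of_inner_eq_one (by rw [inner_uni hm hs hm hs, if_pos rfl]) ?_
  have h := uni_one (F := F) hs
  set q := Fintype.card F
  have hq : 0 < q := Fintype.card_pos
  let A : ℝ := (q : ℝ) ^ (n * (n - 1) * (n - 2) / 6) * ∏ i : Fin n, (qf q (ν i + i.val) : ℝ)
  let B : ℝ := qf q n * ∏ i : Fin n, ∏ j ∈ Ioi i, ((qi q (ν j + j.val) : ℝ) - qi q (ν i + i.val))
  have hA : 0 < A := mul_pos (by positivity) (prod_pos fun i _ => by exact_mod_cast qf_pos)
  have hB : 0 ≤ B := mul_nonneg (by positivity) (prod_nonneg fun i _ => prod_nonneg fun j hj =>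
    sub_nonneg.2 (by exact_mod_cast (qi_lt hq (strictMono_add hm (mem_Ioi.1 hj))).le))
  have h2 : unipotentCharacterGL n F ν 1 = ((B / A : ℝ) : ℂ) := by
    rw [Complex.ofReal_div, eq_div_iff (by exact_mod_cast hA.ne')]
    simp only [A, B]
    push_cast
    rw [← h, ← mul_assoc]
  rw [h2, Complex.ofReal_re]
  positivity

end CfsgH8
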