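import Cfsg.Agent.H8.LangForm
import Cfsg.Agent.H8.AutSU2

/-!
Lang's theorem for `PSp` and `PSU`.
-/

set_option autoImplicit false

namespace CfsgH8

open Subgroup Module Matrix CfsgH5 CfsgH5.Form

section General

variable {ι : Type*} [Fintype ι] [DecidableEq ι] {F : Type*} [Field F] {T : FParam F}
  {S : Form T (ι → F)} {F₀ : Type*} [Field F₀] {T₀ : FParam F₀} {S₀ : Form T₀ (ι → F₀)}
  {φ : F₀ →+* F} [Finite F] {G : Type*} [Group G] {ρ : G →* ((ι → F) ≃ₗ[F] (ι → F))}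

namespace FSetup

variable (H : FSetup S ρ)
include H

theorem exists_desc_mul {e f : ι → F} (hef : S.IsHyp e f) (h3 : 3 ≤ Fintype.card ι) {γ₀ : GammaS S}
    (D : DescP γ₀.1.right φ T₀ T) (M : Sim S)
    (h : (H.simPsi M * H.simPhi γ₀) ^ orderOf γ₀.1.right = 1) :
    ∃ (S₁ : Form T₀ (ι → F₀)) (P : GL ι F), IsDesc φ S₁ S (simIncl S M * γ₀ : GammaS S) P := by
  haveI : Nonempty ι := Fintype.card_pos_iff.1 (by omega)
  rw [simPsi, MonoidHom.comp_apply, ← map_mul] at h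
  obtain ⟨c, hc⟩ := H.pow_scalar hef h3 h
  have hr : (simIncl S M * γ₀ : GammaS S).1.right = γ₀.1.right := by simp [coe_simIncl]
  exact exists_desc H.nd (by rw [hr]; exact D) (simIncl S M * γ₀).2 (by rw [hr]; exact hc)

theorem lang_sim {e f : ι → F} (hef : S.IsHyp e f) (h3 : 3 ≤ Fintype.card ι) {γ₀ : GammaS S}
    (D : DescP γ₀.1.right φ T₀ T) {P₀ : GL ι F} (h₀ : IsDesc φ S₀ S γ₀ P₀)
    (hcl : ∀ S₁ : Form T₀ (ι → F₀), S₁.Nondeg → ∃ g κ, IsExt (RingHom.id F₀) S₀ S₁ g κ) {r : ℕ}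
    (hr : orderOf γ₀.1.right = r) : ∀ δ ∈ H.simPsi.range, (δ * H.simPhi γ₀) ^ r = 1 →
      Cfsg.IsConjUnder H.simPsi.range (H.simPhi γ₀) (δ * H.simPhi γ₀) := by
  rintro _ ⟨M, rfl⟩ h
  obtain ⟨S₁, P, hP⟩ := H.exists_desc_mul hef h3 D M (hr ▸ h)
  obtain ⟨g, κ, hg⟩ := hcl S₁ (hP.2.choose_spec.nondeg H.nd)
  have hr' : (simIncl S M * γ₀ : GammaS S).1.right = γ₀.1.right := by simp [coe_simIncl]
  have := H.conj_of_desc D.scal hr' h₀ (hP.comp (by rw [hr']; exact D) hg)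
  rw [map_mul] at this
  exact ⟨_, ⟨_, rfl⟩, this⟩

theorem centralizer_sim [Finite F₀] {e₁ f₁ : ι → F} (hef : S.IsHyp e₁ f₁) (h3 : 3 ≤ Fintype.card ι)
    {γ : GammaS S} (D : DescP γ.1.right φ T₀ T) {P : GL ι F} (h : IsDesc φ S₀ S γ P)
    (Z : Subgroup (Sim S₀)) [Z.Normal]
    (hZ : ∀ m, m ∈ Z ↔ ∃ c : F₀ˣ, (m : GL ι F₀) = GeneralLinearGroup.scalar ι c) :
    Nonempty (↥(H.simPsi.range ⊓ centralizer {H.simPhi γ}) ≃* Sim S₀ ⧸ Z) := by
  haveI : Nonempty ι := Fintype.card_pos_iff.1 (by omega)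
  obtain ⟨⟨d, hd⟩, e, he⟩ := h
  refine centralizer_equiv_quot H.simPsi (descHom D he) _ (fun M => ?_) Z fun m => ?_
  · rw [H.commute_desc hef h3 D hd he]
    constructor
    · rintro ⟨c, m, rfl⟩
      exact ⟨m, by rw [map_mul, H.simPsi_scalar, one_mul]⟩
    · rintro ⟨m, hm⟩
      rw [eq_comm, ← mul_inv_eq_one, ← map_inv, ← map_mul, H.simPsi_eq_one hef h3] at hm
      obtain ⟨c, hc⟩ := hm
      exact ⟨c, m, mul_inv_eq_iff_eq_mul.1 (Subtype.ext hc)⟩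
  · rw [H.simPsi_eq_one hef h3, descHom_scalar_iff, hZ]

end FSetup

end General

theorem mem_scalars_iff' {ι : Type} [Fintype ι] [DecidableEq ι] {F : Type*} [Field F] {g : GL ι F} :
    g ∈ Cfsg.Geo.scalars ι F ↔ ∃ c : Fˣ, g = GeneralLinearGroup.scalar ι c :=
  exists_congr fun _ => eq_comm

theorem gcd_two_quot {q₀ r : ℕ} (hq : 2 ≤ q₀) :
    Nat.gcd (Nat.gcd 2 (q₀ ^ r - 1)) ((q₀ ^ r - 1) / (q₀ - 1)) = Nat.gcd (Nat.gcd 2 (q₀ ^ r - 1)) r := by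
  rcases Nat.even_or_odd q₀ with h | h
  · rcases Nat.eq_zero_or_pos r with rfl | hr
    · simp
    have : Nat.gcd 2 (q₀ ^ r - 1) = 1 := by
      refine Nat.coprime_two_left.2 (Nat.Even.sub_odd (Nat.one_le_pow _ _ (by omega)) ?_ odd_one)
      exact h.pow_of_ne_zero hr.ne'
    simp [this]
  · have h1 : Nat.gcd 2 (q₀ ^ r - 1) = 2 :=
      Nat.gcd_eq_left (even_iff_two_dvd.1 (Nat.Odd.sub_odd h.pow odd_one))
    rw [h1, ← Nat.geomSum_eq hq, Nat.gcd_rec, Nat.gcd_rec 2 r, Finset.sum_nat_mod]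
    simp [Nat.odd_iff.1 h.pow]

section Sp

variable {F : Type*} [Field F] {m : ℕ} {F₀ : Type*} [Field F₀]

theorem isExt_sp (φ : F₀ →+* F) : IsExt φ (spForm m F₀) (spForm m F) 1 1 :=
  ⟨one_ne_zero, rfl, fun x y => by simp [spForm_B, sympForm_eq, vmap], fun _ _ _ => spParam_eq _ _⟩

theorem sp_class (S₁ : Form (spParam F) (Fin m ⊕ Fin m → F)) (h : S₁.Nondeg) :
    ∃ g κ, IsExt (RingHom.id F) (spForm m F) S₁ g κ := by
  obtain ⟨j, hj⟩ := h.sp_exists_isom (finrank_sp m)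
  exact ⟨_, _, isExt_of_isom hj.symm⟩

variable [Finite F]

theorem inndiagPSp_normal (hm : 2 ≤ m) : (fsetup_sp m F).simPsi.range.Normal := by
  by_cases h2 : (2 : F) = 0
  · haveI : Nonempty (Fin m ⊕ Fin m) := ⟨.inl ⟨0, by omega⟩⟩
    have : (fsetup_sp m F).simPsi.range = Cfsg.Inn _ := by
      refine le_antisymm ?_ (fsetup_sp m F).Inn_le_simPsi
      rintro _ ⟨g, rfl⟩
      rw [sp_mem_Inn hm]
      obtain ⟨c, hc⟩ := FiniteField.isSquare_of_char_two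
        (ringChar.eq_iff.2 (CharTwo.of_one_ne_zero_of_two_eq_zero one_ne_zero h2))
        (simMult (spForm_nondeg m) g : F)
      have hc0 : c ≠ 0 := by rintro rfl; simp at hc
      exact ⟨Units.mk0 c hc0, Units.ext (by simp [hc, pow_two])⟩
    rw [this]
    infer_instance
  · exact (fsetup_sp m F).simPsi_normal (sp_surj hm (Or.inl h2))

end Sp

section SU

variable {F : Type*} [Field F] [Fintype F] {n q : ℕ} (hF : Fintype.card F = q ^ 2)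
  {F₀ : Type*} [Field F₀] [Fintype F₀] {q₀ : ℕ} (hF₀ : Fintype.card F₀ = q₀ ^ 2)
include hF hF₀

theorem frobQ_comp (φ : F₀ →+* F) {r : ℕ} (hq : q = q₀ ^ r) (hr : Odd r) (a : F₀) :
    frobQ hF (φ a) = φ (frobQ hF₀ a) := by
  obtain ⟨k, rfl⟩ := hr
  rw [frobQ_apply, frobQ_apply, ← map_pow, hq, pow_succ, pow_mul q₀, ← hF₀, pow_mul,
    FiniteField.pow_card_pow]

theorem isExt_su {φ : F₀ →+* F} (hc : ∀ a, frobQ hF (φ a) = φ (frobQ hF₀ a)) :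
    IsExt φ (uForm hF₀ n) (uForm hF n) 1 1 :=
  have hB : ∀ x y, (uForm hF n).B (vmap φ x) (vmap φ y) = φ ((uForm hF₀ n).B x y) := fun x y => by
    simp [uForm_B_apply, vmap, hc]
  ⟨one_ne_zero, map_one _, fun x y => by simp [hB], fun x l hl => by
    rw [unit_q_eq_π] at hl ⊢
    simp [hB, hl, hc]⟩

omit hF₀ in
theorem su_class (S₁ : Form (uParam hF) (Fin n → F)) (h : S₁.Nondeg) :
    ∃ g κ, IsExt (RingHom.id F) (uForm hF n) S₁ g κ := by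
  obtain ⟨j, hj⟩ := (uForm_nondeg hF n).unit_exists_isom (frobQ_ne hF) h rfl
  exact ⟨_, _, isExt_of_isom hj⟩

theorem map_mem_GU {φ : F₀ →+* F} (hc : ∀ a, frobQ hF (φ a) = φ (frobQ hF₀ a)) {g : GL (Fin n) F₀}
    (hg : g ∈ Cfsg.GU n F₀ q₀) : GeneralLinearGroup.map φ g ∈ Cfsg.GU n F q := by
  rw [mem_GU_iff (frobE_apply hF₀)] at hg
  rw [mem_GU_iff (frobE_apply hF)]
  have := congrArg (fun M : Matrix (Fin n) (Fin n) F₀ => M.map φ) hg
  simp only [Matrix.map_mul, Matrix.map_one _ (map_zero φ) (map_one φ)] at this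
  rw [← this]
  congr 1
  ext i j
  exact hc _

/-- extension of scalars for `GU` -/
def guMap {φ : F₀ →+* F} (hc : ∀ a, frobQ hF (φ a) = φ (frobQ hF₀ a)) :
    Cfsg.GU n F₀ q₀ →* Cfsg.GU n F q :=
  ((GeneralLinearGroup.map φ).comp (Cfsg.GU n F₀ q₀).subtype).codRestrict _ fun g =>
    map_mem_GU hF hF₀ hc g.2

theorem su_commute (hn : 3 ≤ n) {σ : F ≃+* F} {φ : F₀ →+* F} (hφ : ∀ a, σ a = a ↔ ∃ b, φ b = a)
    (hc : ∀ a, frobQ hF (φ a) = φ (frobQ hF₀ a)) (M : Cfsg.GU n F q) :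
    suPsi hF hn M * (fsetup_su hF hn).simPhi ⟨_, su_inr_mem hF σ⟩ =
      (fsetup_su hF hn).simPhi ⟨_, su_inr_mem hF σ⟩ * suPsi hF hn M ↔
      ∃ (c : Fˣ) (m : Cfsg.GU n F₀ q₀),
        (M : GL (Fin n) F) = GeneralLinearGroup.scalar (Fin n) c * (guMap hF hF₀ hc m : GL (Fin n) F) := by
  haveI : Nonempty (Fin n) := ⟨⟨0, by omega⟩⟩
  obtain ⟨e, f, hef⟩ := su_hyp hF hn
  have D : DescP (⟨_, su_inr_mem hF σ⟩ : GammaS (uForm hF n)).1.right φ (uParam hF₀) (uParam hF) :=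
    descP_unit hφ hc (frobQ_ne hF₀)
  rw [suPsi, MonoidHom.comp_apply, (fsetup_su hF hn).commute_desc hef (by simpa using hn) D (d := 1)
    (by simp) (isExt_su hF hF₀ hc)]
  constructor
  · rintro ⟨c, m, h⟩
    obtain ⟨d, m', hm⟩ := exists_GU_of_Sim hF₀ m
    refine ⟨c * Units.map (φ : F₀ →* F) d, m', (congrArg Subtype.val h).trans ?_⟩
    rw [Subgroup.coe_mul, coe_descHom, hm, map_mul, map_mul, one_mul, inv_one, mul_one, mul_assoc]
    congr 2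
    ext i j
    simp [diagonal_apply, apply_ite φ]
  · rintro ⟨c, m, h⟩
    exact ⟨c, ⟨m, GU_le_Sim hF₀ m.2⟩, Subtype.ext (h.trans (by simp [coe_descHom]; rfl))⟩

end SU

end CfsgH8
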