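import Cfsg.Agent.H8.AutO4
import Cfsg.Agent.H8.LangForm2
import Cfsg.Agent.H5.Orth2

/-!
Graph involutions of linear and unitary groups: the bilinear forms attached to them.
-/

set_option autoImplicit false

namespace CfsgH8

open Subgroup Module Matrix CfsgH5 CfsgH5.Form

section Sm
variable {ι ι' ι'' : Type} [Fintype ι] [DecidableEq ι] [Fintype ι'] [DecidableEq ι'] [Fintype ι'']
  [DecidableEq ι''] {K : Type*} [Field K]

/-- the bilinear form of a matrix -/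
def bf (N : Matrix ι ι K) (u v : ι → K) : K := u ⬝ᵥ N *ᵥ v

/-- `g` carries `B` to `B'` up to the factor `μ` -/
def Cg (B B' : (ι → K) → (ι → K) → K) (g : GL ι K) (μ : Kˣ) : Prop :=
  ∀ u v, B' ((g : Matrix ι ι K) *ᵥ u) ((g : Matrix ι ι K) *ᵥ v) = μ * B u v

/-- similar forms -/
def Sm (B : (ι → K) → (ι → K) → K) (B' : (ι' → K) → (ι' → K) → K) : Prop :=
  ∃ (j : (ι → K) ≃ₗ[K] (ι' → K)) (c : K), c ≠ 0 ∧ ∀ u v, B' (j u) (j v) = c * B u v

omit [DecidableEq ι] in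
theorem bf_congr (N g : Matrix ι ι K) (u v : ι → K) : bf N (g *ᵥ u) (g *ᵥ v) = bf (gᵀ * N * g) u v := by
  simp only [bf]
  rw [← mulVec_mulVec, ← mulVec_mulVec, dotProduct_mulVec u, vecMul_transpose]

theorem bf_single (N : Matrix ι ι K) (i j : ι) : bf N (Pi.single i 1) (Pi.single j 1) = N i j := by
  simp [bf]

theorem bf_ext {N N' : Matrix ι ι K} (h : ∀ u v, bf N u v = bf N' u v) : N = N' := by
  ext i j; rw [← bf_single N, h, bf_single]

omit [DecidableEq ι] in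
theorem bf_smul (c : K) (N : Matrix ι ι K) (u v : ι → K) : bf (c • N) u v = c * bf N u v := by
  simp [bf, smul_mulVec]

omit [DecidableEq ι] in
theorem bf_transpose (N : Matrix ι ι K) (u v : ι → K) : bf Nᵀ u v = bf N v u := by
  simp only [bf]
  rw [mulVec_transpose, dotProduct_comm, dotProduct_mulVec]

theorem Cg_iff {N N' : Matrix ι ι K} {g : GL ι K} {μ : Kˣ} : Cg (bf N) (bf N') g μ ↔
    (g : Matrix ι ι K)ᵀ * N' * g = (μ : K) • N :=
  ⟨fun h => bf_ext fun u v => by rw [← bf_congr, h, bf_smul], fun h u v => by rw [bf_congr, h, bf_smul]⟩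

theorem Cg.det {N : Matrix ι ι K} (hN : N.det ≠ 0) {g : GL ι K} {μ : Kˣ} (h : Cg (bf N) (bf N) g μ) :
    GeneralLinearGroup.det g ^ 2 = μ ^ Fintype.card ι := by
  have := congrArg Matrix.det (Cg_iff.1 h)
  rw [det_mul, det_mul, det_transpose, det_smul] at this
  refine Units.ext (mul_right_cancel₀ hN ?_)
  simp only [Units.val_pow_eq_pow_val, GeneralLinearGroup.val_det_apply]
  rw [← this]; ring

omit [Fintype ι] [DecidableEq ι] [Fintype ι'] [DecidableEq ι'] in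
theorem Sm.symm {B : (ι → K) → (ι → K) → K} {B' : (ι' → K) → (ι' → K) → K} (h : Sm B B') : Sm B' B := by
  obtain ⟨j, c, hc, h⟩ := h
  refine ⟨j.symm, c⁻¹, inv_ne_zero hc, fun u v => ?_⟩
  have := h (j.symm u) (j.symm v)
  rw [j.apply_symm_apply, j.apply_symm_apply] at this
  rw [this, inv_mul_cancel_left₀ hc]

omit [Fintype ι] [DecidableEq ι] [Fintype ι'] [DecidableEq ι'] [Fintype ι''] [DecidableEq ι''] in
theorem Sm.trans {B : (ι → K) → (ι → K) → K} {B' : (ι' → K) → (ι' → K) → K}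
    {B'' : (ι'' → K) → (ι'' → K) → K} (h : Sm B B') (h' : Sm B' B'') : Sm B B'' := by
  obtain ⟨j, c, hc, h⟩ := h
  obtain ⟨j', c', hc', h'⟩ := h'
  exact ⟨j.trans j', c' * c, mul_ne_zero hc' hc, fun u v => by
    rw [LinearEquiv.trans_apply, LinearEquiv.trans_apply, h', h, mul_assoc]⟩

theorem sm_iff {B B' : (ι → K) → (ι → K) → K} : Sm B B' ↔ ∃ g μ, Cg B B' g μ :=
  ⟨fun ⟨j, c, hc, h⟩ => ⟨glRho.symm j, Units.mk0 c hc, fun u v => by
    rw [← glRho_apply, ← glRho_apply, MulEquiv.apply_symm_apply]; exact h u v⟩,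
    fun ⟨g, μ, h⟩ => ⟨glRho g, μ, μ.ne_zero, h⟩⟩

theorem det_trG (j : (ι → K) ≃ₗ[K] (ι' → K)) (g : GL ι K) :
    GeneralLinearGroup.det (trG j g) = GeneralLinearGroup.det g := by
  refine Units.ext ?_
  rw [GeneralLinearGroup.val_det_apply, GeneralLinearGroup.val_det_apply, ← det_glRho, ← det_glRho, glRho_trG,
    ← LinearMap.det_conj (glRho g : (ι → K) →ₗ[K] (ι → K)) j]
  rfl

theorem Cg_trG {B : (ι → K) → (ι → K) → K} {B' : (ι' → K) → (ι' → K) → K} {j : (ι → K) ≃ₗ[K] (ι' → K)}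
    {c : K} (hc : c ≠ 0) (h : ∀ u v, B' (j u) (j v) = c * B u v) {g : GL ι K} {μ : Kˣ} :
    Cg B' B' (trG j g) μ ↔ Cg B B g μ := by
  refine ⟨fun h' u v => mul_left_cancel₀ hc ?_, fun h' u v => ?_⟩
  · rw [← h, ← trG_mulVec, ← trG_mulVec, h', h, mul_left_comm]
  · obtain ⟨u, rfl⟩ := j.surjective u
    obtain ⟨v, rfl⟩ := j.surjective v
    rw [trG_mulVec, trG_mulVec, h, h', h, mul_left_comm]

theorem Sm.exists_Cg {B : (ι → K) → (ι → K) → K} {B' : (ι' → K) → (ι' → K) → K} (h : Sm B B')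
    {g : GL ι K} {μ : Kˣ} (hg : Cg B B g μ) :
    ∃ g', Cg B' B' g' μ ∧ GeneralLinearGroup.det g' = GeneralLinearGroup.det g :=
  let ⟨j, _, hc, h⟩ := h
  ⟨trG j g, (Cg_trG hc h).2 hg, det_trG j g⟩

theorem projQuot_equiv {H : Subgroup (GL ι K)} {H' : Subgroup (GL ι' K)} (e : H ≃* H')
    (h : ∀ g : H, (∃ c, (e g : GL ι' K) = GeneralLinearGroup.scalar ι' c) ↔
      ∃ c, (g : GL ι K) = GeneralLinearGroup.scalar ι c) :
    Nonempty (Cfsg.projQuot H ≃* Cfsg.projQuot H') :=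
  ⟨QuotientGroup.congr _ _ e (by
    ext g
    obtain ⟨g, rfl⟩ := e.surjective g
    refine (Subgroup.mem_map_iff_mem e.injective).trans ?_
    rw [mem_subgroupOf, mem_subgroupOf, mem_scalars_iff', mem_scalars_iff', h])⟩

theorem Sm.pq {B : (ι → K) → (ι → K) → K} {B' : (ι' → K) → (ι' → K) → K} (h : Sm B B') :
    Nonempty (Cfsg.projQuot (Cfsg.Geo.similarityGroup B) ≃* Cfsg.projQuot (Cfsg.Geo.similarityGroup B')) := by
  obtain ⟨j, c, hc, h⟩ := h
  refine projQuot_equiv (((trG j).subgroupMap _).trans (MulEquiv.subgroupCongr ?_)) fun g => ?_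
  · ext g
    obtain ⟨g, rfl⟩ := (trG j).surjective g
    exact (Subgroup.mem_map_iff_mem (trG j).injective).trans (exists_congr fun μ => (Cg_trG hc h).symm)
  · refine exists_congr fun c => ?_
    rw [← trG_scalar j]
    exact (trG j).injective.eq_iff

/-- invertible symmetric or skew matrices -/
def Gd (N : Matrix ι ι K) : Prop := N.det ≠ 0 ∧ (Nᵀ = N ∨ Nᵀ = -N)

theorem bf_nondeg {N : Matrix ι ι K} (h : N.det ≠ 0) {v : ι → K} (hv : ∀ u, bf N u v = 0) : v = 0 :=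
  eq_zero_of_mulVec_eq_zero h (funext fun i => by simpa [bf] using hv (Pi.single i 1))

theorem exists_bf {T : FParam K} (hT : ∀ a, T.σ a = a) {S : Form T (ι' → K)} (hS : S.Nondeg)
    (hc : Fintype.card ι = Fintype.card ι') :
    ∃ N : Matrix ι ι K, Gd N ∧ Sm (bf N) S.B := by
  obtain ⟨j⟩ : Nonempty ((ι → K) ≃ₗ[K] (ι' → K)) :=
    FiniteDimensional.nonempty_linearEquiv_of_finrank_eq (by simpa using hc)
  let N : Matrix ι ι K := of fun a b => S.B (j (Pi.single a 1)) (j (Pi.single b 1))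
  have h : ∀ u v, S.B (j u) (j v) = bf N u v := fun u v => by
    induction u using Pi.single_induction with
    | zero => simp [bf]
    | add u u' a b => rw [map_add, add_left, a, b]; simp [bf]
    | single a x =>
      induction v using Pi.single_induction with
      | zero => simp [bf]
      | add v v' a b => rw [map_add, add_right, a, b]; simp [bf, mulVec_add]
      | single b y =>
        rw [← mul_one x, ← mul_one y, ← smul_eq_mul x, ← smul_eq_mul y, Pi.single_smul, Pi.single_smul,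
          map_smul, map_smul, smul_left, smul_right, hT]
        simp [bf, N, mulVec_smul, mul_left_comm]
  refine ⟨N, ⟨fun h0 => ?_, ?_⟩, j, 1, one_ne_zero, fun u v => by rw [h, one_mul]⟩
  · obtain ⟨v, hv, h1⟩ := exists_mulVec_eq_zero_iff.2 h0
    refine hv (j.injective ((hS _ fun u => ?_).trans (map_zero j).symm))
    obtain ⟨u, rfl⟩ := j.surjective u
    rw [h, bf, h1, dotProduct_zero]
  · rcases T.hε with h1 | h1
    · exact Or.inl (by ext a b; simp [N, S.herm (j (Pi.single a 1)), hT, h1])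
    · exact Or.inr (by ext a b; simp [N, S.herm (j (Pi.single a 1)), hT, h1])

omit [DecidableEq ι] in
theorem bf_add (N : Matrix ι ι K) (x y z : ι → K) : bf N (x + y) z = bf N x z + bf N y z := by simp [bf]

omit [DecidableEq ι] in
theorem bf_smul_left (N : Matrix ι ι K) (c : K) (x z : ι → K) : bf N (c • x) z = c * bf N x z := by simp [bf]

/-- the symplectic space of an alternating matrix -/
def altF {N : Matrix ι ι K} (h : ∀ v, bf N v v = 0) : Form (spParam K) (ι → K) :=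
  ofAlt (bf N) (bf_add N) (bf_smul_left N) (fun x y => by
    have := h (x + y)
    simp only [bf, add_dotProduct, mulVec_add, dotProduct_add] at this h ⊢
    rw [h, h] at this
    linear_combination this) h

/-- the orthogonal space of a symmetric matrix -/
def symF {N : Matrix ι ι K} (h : Nᵀ = N) (h2 : (2 : K) ≠ 0) : Form (orthParam K) (ι → K) :=
  ofSym (bf N) (bf_add N) (bf_smul_left N) (fun x y => by rw [← bf_transpose, h]) h2

omit [DecidableEq ι] in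
theorem alt_of_skew {N : Matrix ι ι K} (h : Nᵀ = -N) (h2 : (2 : K) ≠ 0) (v : ι → K) : bf N v v = 0 := by
  have := bf_transpose N v v
  rw [h, ← neg_one_smul K N, bf_smul] at this
  exact mul_left_cancel₀ h2 (by linear_combination -this)

theorem alt_even {N : Matrix ι ι K} (hN : N.det ≠ 0) (h : ∀ v, bf N v v = 0) : Even (Fintype.card ι) := by
  simpa using Nondeg.sp_even (S := altF h) fun v hv => bf_nondeg hN hv

theorem sm_sp {N : Matrix ι ι K} (hN : N.det ≠ 0) (h : ∀ v, bf N v v = 0) {m : ℕ}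
    (hm : Fintype.card ι = 2 * m) : Sm (bf N) (Cfsg.sympForm m K) := by
  obtain ⟨j, hj⟩ := Nondeg.sp_exists_isom (S := altF h) (fun v hv => bf_nondeg hN hv) (finrank_of_card hm)
  exact ⟨j, 1, one_ne_zero, fun u v => (hj.B u v).trans (one_mul _).symm⟩

theorem sm_orth {S : Form (orthParam K) (ι → K)} {S' : Form (orthParam K) (ι' → K)} (h2 : (2 : K) ≠ 0) :
    Sm S.B S'.B ↔ ∃ c, c ≠ 0 ∧ ∃ j : (ι → K) ≃ₗ[K] (ι' → K), IsIsom (S.scale c) S' j := by
  refine ⟨fun ⟨j, c, hc, h⟩ => ⟨c, hc, j, h, fun x => (orthParam_isMax h2).q_eq_π S'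
    (l := c * S.Q x) ?_⟩, fun ⟨c, hc, j, h⟩ => ⟨j, c, hc, h.B⟩⟩
  rw [h, S.self _ _ (q_eq_Q _ _)]
  simp [mul_add]

theorem simGroup_orth {S : Form (orthParam K) (ι → K)} {Q : (ι → K) → K} (hQ : ∀ v, S.Q v = Q v)
    (h2 : (2 : K) ≠ 0) : Cfsg.Geo.similarityGroup S.B = Cfsg.Geo.quadSimilarityGroup Q := by
  have h1 : ∀ v, S.B v v = 2 * Q v := fun v => by rw [S.self _ _ (q_eq_Q _ _), hQ]; simp [two_mul]
  have h3 : ∀ u v, S.B u v = Q (u + v) - Q u - Q v := fun u v => by rw [← hQ, Q_add, hQ, hQ]; ring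
  ext g
  refine exists_congr fun c => ⟨fun h v => mul_left_cancel₀ h2 ?_, fun h u v => ?_⟩
  · rw [← h1, h, h1, mul_left_comm]
  · rw [h3, h3, ← mulVec_add, h, h, h]; ring

theorem Sm.pq_orth {B : (ι → K) → (ι → K) → K} {S : Form (orthParam K) (ι' → K)} (h : Sm B S.B)
    {Q : (ι' → K) → K} (hQ : ∀ v, S.Q v = Q v) (h2 : (2 : K) ≠ 0) :
    Nonempty (Cfsg.projQuot (Cfsg.Geo.similarityGroup B) ≃* Cfsg.PGO K Q) := by
  have := h.pq
  rwa [simGroup_orth hQ h2] at this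

variable [Finite K]

theorem symF_nondeg {N : Matrix ι ι K} (hN : N.det ≠ 0) (h : Nᵀ = N) (h2 : (2 : K) ≠ 0) :
    (symF h h2).Nondeg := fun _ hv => bf_nondeg hN hv

theorem sm_odd {N : Matrix ι ι K} (hN : Gd N) (h2 : (2 : K) ≠ 0) {m : ℕ}
    (hm : Fintype.card ι = 2 * m + 1) : Sm (bf N) (oddForm m K).B := by
  rcases hN.2 with h | h
  · exact (sm_orth (S := symF h h2) h2).2 ((symF_nondeg hN.1 h h2).exists_isom_odd (finrank_of_card hm))
  exact absurd (alt_even hN.1 (alt_of_skew h h2)) (by simp [hm])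

theorem sm_even {N : Matrix ι ι K} (hN : N.det ≠ 0) (h : Nᵀ = N) (h2 : (2 : K) ≠ 0)
    {S : Form (orthParam K) (ι' → K)} (hS : S.Nondeg) (hc : Fintype.card ι = Fintype.card ι')
    (he : Even (Fintype.card ι)) : Sm (bf N) S.B ↔ ((symF h h2).IsPlus ↔ S.IsPlus) := by
  refine (sm_orth (S := symF h h2) h2).trans ⟨fun ⟨c, hc, j, h⟩ => ?_, fun h' => ?_⟩
  · rw [h.isPlus_iff, scale_isPlus hc]
  · obtain ⟨j, hj⟩ := ((symF_nondeg hN h h2).scale one_ne_zero).exists_isom_even hS (by simpa using hc)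
      (by simpa using he) ((scale_isPlus one_ne_zero).trans h')
    exact ⟨1, one_ne_zero, j, hj⟩

theorem not_sm_pm {S : Form (orthParam K) (ι → K)} {S' : Form (orthParam K) (ι' → K)} (h2 : (2 : K) ≠ 0)
    (h : S.IsPlus) (h' : ¬ S'.IsPlus) : ¬ Sm S.B S'.B := fun h1 => by
  obtain ⟨c, hc, j, h1⟩ := (sm_orth h2).1 h1
  exact h' (h1.isPlus_iff.2 ((scale_isPlus hc).2 h))

omit [Finite K] in
theorem not_sm_sp [Nonempty ι] {S : Form (orthParam K) (ι → K)} (hS : S.Nondeg) (h2 : (2 : K) ≠ 0) {m : ℕ} :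
    ¬ Sm S.B (Cfsg.sympForm m K) := fun ⟨j, c, hc, h⟩ => by
  refine one_ne_zero (hS 1 fun u => mul_left_cancel₀ (mul_ne_zero h2 hc) ?_)
  have := (spForm m K).sp_skew (j u) (j 1)
  rw [spForm_B, h, h, S.orth_symm] at this
  linear_combination this

theorem card_pq [Nonempty ι] {T : FParam K} {S : Form T (ι → K)} (hS : S.Nondeg)
    (h : Function.Surjective (simMult hS)) : Nat.card (Cfsg.projQuot (Sim S)) = Nat.card S.isom := by
  have h1 := card_eq_card_quotient_mul_card_subgroup ((Cfsg.Geo.scalars ι K).subgroupOf (Sim S))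
  have h2 := card_eq_card_quotient_mul_card_subgroup (simMult hS).ker
  have h3 : Nat.card ((Cfsg.Geo.scalars ι K).subgroupOf (Sim S)) = Nat.card Kˣ := by
    refine (Nat.card_congr (Equiv.ofBijective (fun c : Kˣ => ⟨⟨_, scalar_mem_Sim c⟩, mem_scalars_iff'.2
      ⟨c, rfl⟩⟩) ⟨fun a b h => scalarGL_inj (congrArg (·.1.1) h), fun g => ?_⟩)).symm
    obtain ⟨c, hc⟩ := mem_scalars_iff'.1 g.2
    exact ⟨c, Subtype.ext (Subtype.ext hc.symm)⟩
  have h4 : Nat.card (simMult hS).ker = Nat.card S.isom :=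
    Nat.card_congr (Equiv.ofBijective (fun g => ⟨_, (isom_iff_simMult hS g.1).2 g.2⟩)
      ⟨fun a b h => Subtype.ext (Subtype.ext (glRho.injective (congrArg Subtype.val h))), fun g =>
        ⟨⟨⟨glRho.symm g, isom_mem_Sim (by simp)⟩, (isom_iff_simMult hS _).1 (by simp)⟩, by simp⟩⟩)
  rw [Nat.card_congr (QuotientGroup.quotientKerEquivOfSurjective _ h).toEquiv, h4, h1, h3, mul_comm] at h2
  exact Nat.eq_of_mul_eq_mul_left Nat.card_pos h2

theorem orth_exists_Cg {S : Form (orthParam K) (ι → K)} (hS : S.Nondeg) (he : Even (Fintype.card ι))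
    (μ : Kˣ) : ∃ g : GL ι K, IsSemiSim S (SemidirectProduct.inl g) μ := by
  obtain ⟨g, hg⟩ := hS.exists_similarity (by simpa using he) μ.ne_zero
  exact ⟨glRho.symm g, isSemiSim_o_iff.2 ⟨μ.ne_zero, fun v => by
    rw [semiAct_inl, ← glRho_apply, MulEquiv.apply_symm_apply, hg]; rfl⟩⟩

theorem pgo_ne_pgsp {S : Form (orthParam K) (ι → K)} (hS : S.Nondeg) (h2 : (2 : K) ≠ 0) {m : ℕ}
    (hm : 1 ≤ m) (hc : Fintype.card ι = 2 * m) :
    ¬ Nonempty (Cfsg.projQuot (Cfsg.Geo.similarityGroup S.B) ≃* Cfsg.PGSp m K) := fun ⟨e⟩ => by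
  have : Nonempty ι := Fintype.card_pos_iff.1 (by omega)
  have : Nonempty (Fin m ⊕ Fin m) := ⟨.inl ⟨0, hm⟩⟩
  have h1 := Nat.card_congr e.toEquiv
  have h3 := card_pq hS fun μ => by
    obtain ⟨g, hg⟩ := orth_exists_Cg hS ⟨m, by omega⟩ μ
    exact ⟨⟨g, _, hg⟩, Units.ext (simMult_eq hS hg)⟩
  have h4 := card_pq (spForm_nondeg (F := K) m) sp_simMult_surj
  rw [Sim_o (fun _ => rfl), ← simGroup_orth (fun _ => rfl) h2, h1] at h3
  rw [Sim_sp, h3, ← Nat.card_congr (spEquiv m K).toEquiv, card_sp] at h4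
  obtain ⟨k, rfl⟩ : ∃ k, m = k + 1 := ⟨m - 1, by omega⟩
  have hq : 3 ≤ Nat.card K := by
    have := Fintype.ofFinite K
    by_contra! h
    have h5 := Finite.one_lt_card (α := K)
    exact h2 (two_eq_of_card (f := 1) (by rw [← Nat.card_eq_fintype_card]; omega))
  have h5 := orth_card_even k hS (finrank_of_card hc)
  rw [h4, Nat.cast_mul, cast_prod_pow_sub_one (by omega), Finset.prod_range_succ] at h5
  generalize Nat.card K = q at *
  have h6 : ∏ i ∈ Finset.range k, ((q : ℤ) ^ (2 * (i + 1)) - 1) ≠ 0 := Finset.prod_ne_zero_iff.2 fun i _ =>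
    sub_ne_zero.2 (one_lt_pow₀ (by omega) (by omega)).ne'
  have h7 : (q : ℤ) ^ ((k + 1) * k) ≠ 0 := pow_ne_zero _ (by omega)
  have h8 : (3 : ℤ) ≤ q ^ (k + 1) := le_trans (by exact_mod_cast hq) (le_self_pow₀ (by omega) (by omega))
  have h9 : (q : ℤ) ^ (k + 1) * ((q ^ (k + 1)) ^ 2 - 1) = 2 * (q ^ (k + 1) - S.tp) :=
    mul_left_cancel₀ (mul_ne_zero h6 h7) (by push_cast at h5; ring_nf at h5 ⊢; linear_combination h5)
  generalize (q : ℤ) ^ (k + 1) = x at *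
  rcases Int.units_eq_one_or S.tp with h | h <;> rw [h] at h9 <;> push_cast at h9 <;> nlinarith

omit [Finite K] in
theorem sp_exists_Cg (m : ℕ) (μ : Kˣ) : ∃ g, Cg (Cfsg.sympForm m K) (Cfsg.sympForm m K) g μ ∧
    GeneralLinearGroup.det g = μ ^ m := by
  let d : Fin m ⊕ Fin m → K := Sum.elim (fun _ => μ) fun _ => 1
  have hd : (diagonal d).det = μ ^ m := by simp [d]
  refine ⟨GeneralLinearGroup.mkOfDetNeZero _ (hd ▸ pow_ne_zero _ μ.ne_zero), fun u v => ?_, Units.ext hd⟩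
  change Cfsg.sympForm m K (diagonal d *ᵥ u) (diagonal d *ᵥ v) = _
  simp only [sympForm_eq, mulVec_diagonal, d, Sum.elim_inl, Sum.elim_inr, Finset.mul_sum]
  exact Finset.sum_congr rfl fun i _ => by ring

omit [Finite K] in
theorem sp_det {m : ℕ} {g} {μ : Kˣ} (h : Cg (Cfsg.sympForm m K) (Cfsg.sympForm m K) g μ) :
    GeneralLinearGroup.det g = μ ^ m := by
  obtain ⟨d, h1, h2⟩ := sp_exists_Cg m μ
  have h3 : glRho (d⁻¹ * g) ∈ (spForm m K).isom := ⟨fun u v => mul_left_cancel₀ μ.ne_zero (by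
    rw [spForm_B, ← h1, ← h, glRho_apply, glRho_apply, mulVec_mulVec, mulVec_mulVec, ← Units.val_mul,
      mul_inv_cancel_left]), fun _ => spParam_eq _ _⟩
  have := (spForm_nondeg m).sp_det h3
  rw [det_glRho, ← GeneralLinearGroup.val_det_apply, map_mul, map_inv, h2, Units.val_eq_one,
    inv_mul_eq_one] at this
  exact this.symm

/-- the data attached to the involutory graph automorphisms -/
structure GrS {X : Type*} [Group X] (G I : Subgroup X) (A : X → Prop) (R : X → Matrix ι ι K → Prop)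
    {F : Type*} [Field F] (φ : K →+* F) (C : Subgroup Fˣ) (P : Fˣ → Kˣ → Prop) : Prop where
  ex : ∀ γ, A γ → orderOf γ = 2 → ∃ N, Gd N ∧ R γ N
  ex' : ∀ N, Gd N → ∃ γ, A γ ∧ orderOf γ = 2 ∧ R γ N
  conj : ∀ {γ γ' N N'}, R γ N → R γ' N' → (Cfsg.IsConjUnder G γ γ' ↔ Sm (bf N) (bf N'))
  cent : ∀ {γ N}, R γ N →
    Nonempty (↥(G ⊓ centralizer {γ}) ≃* Cfsg.projQuot (Cfsg.Geo.similarityGroup (bf N)))
  split : ∀ {γ N}, R γ N → ∃ D : Subgroup C, Cfsg.splitClassCount G I γ =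
    ((powMonoidHom (Fintype.card ι) : C →* C).range ⊔ D).index ∧ ∀ δ : C, δ ∈ D ↔ ∃ c g μ,
      Cg (bf N) (bf N) g μ ∧ P c μ ∧
        (δ : Fˣ) = c ^ Fintype.card ι * Units.map (φ : K →* F) (GeneralLinearGroup.det g)
  PA : ∀ {c a}, P c (a ^ 2) → c * Units.map (φ : K →* F) a ∈ C
  PB : ∀ {c μ}, P c μ → c ^ 2 * Units.map (φ : K →* F) μ ∈ C
  PC : ∀ u ∈ C, ∃ c μ, P c μ ∧ u = c ^ 2 * Units.map (φ : K →* F) μ
  P1 : P 1 1
  neg : -1 ∈ C

namespace GrS

variable {X : Type*} [Group X] {G I : Subgroup X} {A : X → Prop} {R : X → Matrix ι ι K → Prop}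
  {F : Type*} [Field F] [Finite F] {φ : K →+* F} {C : Subgroup Fˣ} {P : Fˣ → Kˣ → Prop}
  (H : GrS G I A R φ C P)
include H

omit [Finite K] [Finite F] in
theorem cent' {γ N} (h : R γ N) {B : (ι' → K) → (ι' → K) → K} (hB : Sm (bf N) B) :
    Nonempty (↥(G ⊓ centralizer {γ}) ≃* Cfsg.projQuot (Cfsg.Geo.similarityGroup B)) :=
  let ⟨e⟩ := H.cent h
  let ⟨e'⟩ := hB.pq
  ⟨e.trans e'⟩

omit [Finite K] [Finite F] in
theorem cent_o {γ N} (h : R γ N) {S : Form (orthParam K) (ι' → K)} (hB : Sm (bf N) S.B)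
    {Q : (ι' → K) → K} (hQ : ∀ v, S.Q v = Q v) (h2 : (2 : K) ≠ 0) :
    Nonempty (↥(G ⊓ centralizer {γ}) ≃* Cfsg.PGO K Q) :=
  let ⟨e⟩ := H.cent h
  let ⟨e'⟩ := hB.pq_orth hQ h2
  ⟨e.trans e'⟩

theorem splitA {γ N} (h : R γ N) (hN : N.det ≠ 0) (hc : ¬ (Even (Fintype.card ι) ∧ (2 : K) ≠ 0)) :
    Cfsg.splitClassCount G I γ = Nat.gcd (Fintype.card ι) (Nat.card C) := by
  obtain ⟨D, h1, h3⟩ := H.split h
  rw [h1, sup_eq_left.2, IsCyclic.index_powMonoidHom_range, Nat.gcd_comm]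
  intro δ hδ
  obtain ⟨c, g, μ, h4, h5, h6⟩ := (h3 δ).1 hδ
  have h7 := h4.det hN
  obtain ⟨a, rfl, h8⟩ : ∃ a, μ = a ^ 2 ∧ GeneralLinearGroup.det g = a ^ Fintype.card ι := by
    generalize GeneralLinearGroup.det g = d at h7
    rcases Nat.even_or_odd (Fintype.card ι) with he | ⟨k, hk⟩
    · have h2 : (2 : K) = 0 := by tauto
      obtain ⟨a, ha⟩ := exists_sq_of_two_eq_zero h2 (μ : K)
      have h0 : a ≠ 0 := by rintro rfl; exact μ.ne_zero (by simpa using ha.symm)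
      obtain rfl : μ = Units.mk0 a h0 ^ 2 := Units.ext ha.symm
      refine ⟨_, rfl, Units.ext ?_⟩
      rw [← pow_mul, mul_comm, pow_mul] at h7
      rcases sq_eq_sq_iff_eq_or_eq_neg.1 (congrArg Units.val h7) with h | h
      · exact h
      · exact h.trans (by linear_combination (-(Units.mk0 a h0 ^ Fintype.card ι : Kˣ) : K) * h2)
    · rw [hk] at h7 ⊢
      refine ⟨d / μ ^ k, ?_, ?_⟩
      · rw [div_pow, h7, eq_div_iff_mul_eq', ← pow_mul, ← pow_succ', mul_comm]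
      · rw [div_pow, pow_succ, pow_mul d, h7, eq_div_iff_mul_eq', ← pow_mul, ← pow_mul, mul_comm d,
          mul_comm k]
  exact ⟨⟨_, H.PA h5⟩, Subtype.ext (by rw [h6, h8, map_pow, ← mul_pow]; rfl)⟩

omit [Finite K] in
theorem splitB {γ N} (h : R γ N) {k : ℕ} (hk : Fintype.card ι = 2 * k)
    (hN : Sm (bf N) (Cfsg.sympForm k K)) : Cfsg.splitClassCount G I γ = Nat.gcd k (Nat.card C) := by
  obtain ⟨D, h1, h3⟩ := H.split h
  rw [h1, Nat.gcd_comm, ← IsCyclic.index_powMonoidHom_range]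
  congr 1
  refine le_antisymm (sup_le ?_ fun δ hδ => ?_) (le_sup_of_le_right ?_)
  · rintro _ ⟨u, rfl⟩
    exact ⟨u ^ 2, by simp [hk, pow_mul]⟩
  · obtain ⟨c, g, μ, h4, h5, h6⟩ := (h3 δ).1 hδ
    obtain ⟨g', h7, h8⟩ := hN.exists_Cg h4
    exact ⟨⟨_, H.PB h5⟩, Subtype.ext (by rw [h6, ← h8, sp_det h7, map_pow, hk, pow_mul, ← mul_pow]; rfl)⟩
  · rintro _ ⟨u, rfl⟩
    obtain ⟨c, μ, h4, h5⟩ := H.PC u u.2
    obtain ⟨g, h6, h7⟩ := sp_exists_Cg k μ
    obtain ⟨g', h8, h9⟩ := hN.symm.exists_Cg h6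
    exact (h3 _).2 ⟨c, g', μ, h8, h4, by rw [h9, h7, map_pow, hk, pow_mul, ← mul_pow, ← h5]; rfl⟩

theorem splitC {γ N} (h : R γ N) {k : ℕ} (hk : Fintype.card ι = 2 * k) (hk0 : 1 ≤ k) (hN : N.det ≠ 0)
    (hs : Nᵀ = N) (h2 : (2 : K) ≠ 0) :
    Cfsg.splitClassCount G I γ = Nat.gcd (Fintype.card ι) (Nat.card C) / 2 := by
  obtain ⟨D, h1, h3⟩ := H.split h
  have hS := symF_nondeg hN hs h2
  let z : C := ⟨-1, H.neg⟩
  have hz : orderOf z = 2 := orderOf_eq_prime (Subtype.ext (by simp [z])) fun h => (two_ne_iff φ).1 h2 (by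
    have : ((-1 : Fˣ) : F) = (1 : Fˣ) := congrArg (·.1.1) h
    simp only [Units.val_neg, Units.val_one] at this
    linear_combination -this)
  have h4 : ∀ {c g μ} (_ : Cg (bf N) (bf N) g μ) (h5 : P c μ), ∃ y ∈ zpowers z,
      c ^ Fintype.card ι * Units.map (φ : K →* F) (GeneralLinearGroup.det g) =
        (((⟨_, H.PB h5⟩ : C) ^ k * y : C) : Fˣ) := fun {c g μ} h4 h5 => by
    have h6 := h4.det hN
    rw [hk, mul_comm, pow_mul] at h6
    rcases sq_eq_sq_iff_eq_or_eq_neg.1 (congrArg Units.val h6) with h | h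
    · exact ⟨1, one_mem _, by rw [Units.ext h, map_pow, hk, pow_mul, ← mul_pow, mul_one]; rfl⟩
    · refine ⟨z, mem_zpowers _, ?_⟩
      rw [show GeneralLinearGroup.det g = -μ ^ k from Units.ext h, hk, pow_mul]
      exact Units.ext (by simp [z, mul_pow])
  have h5 : z ∈ D := by
    have : Nonempty ι := Fintype.card_pos_iff.1 (by omega)
    obtain ⟨v, hv⟩ := hS.exists_Q_ne
    refine (h3 _).2 ⟨1, rfG (symF hs h2) v, 1, fun x y => ?_, H.P1, ?_⟩
    · rw [rfG_mulVec, rfG_mulVec, Units.val_one, one_mul]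
      exact isom_B (S := symF hs h2) (rf_mem v) x y
    · rw [show GeneralLinearGroup.det (rfG (symF hs h2) v) = -1 from Units.ext (by
        rw [GeneralLinearGroup.val_det_apply, ← det_glRho, glRho_rfG, det_rf hv]; rfl)]
      exact Units.ext (by simp [z])
  have h6 : (powMonoidHom (Fintype.card ι) : C →* C).range ⊔ D = (powMonoidHom k : C →* C).range ⊔ zpowers z := by
    refine le_antisymm (sup_le (le_sup_of_le_left ?_) fun δ hδ => ?_) (le_sup_of_le_right (sup_le ?_ ?_))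
    · rintro _ ⟨u, rfl⟩
      exact ⟨u ^ 2, by simp [hk, pow_mul]⟩
    · obtain ⟨c, g, μ, a1, a2, a3⟩ := (h3 δ).1 hδ
      obtain ⟨y, a4, a5⟩ := h4 a1 a2
      rw [Subtype.ext (a3.trans a5)]
      exact mul_mem_sup ⟨_, rfl⟩ a4
    · rintro _ ⟨u, rfl⟩
      obtain ⟨c, μ, a1, a2⟩ := H.PC u u.2
      obtain ⟨g, a3⟩ := orth_exists_Cg hS ⟨k, by omega⟩ μ
      obtain ⟨y, a4, a5⟩ := h4 (g := g) a3.B a1
      have := (h3 _).2 ⟨c, g, μ, a3.B, a1, a5.symm⟩
      rw [mul_mem_cancel_right (zpowers_le.2 h5 a4)] at this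
      exact (show u = ⟨_, H.PB a1⟩ from Subtype.ext a2) ▸ this
    · exact zpowers_le.2 h5
  have h7 := (zpowers z).index_mul_card
  rw [Nat.card_zpowers, hz] at h7
  rw [h1, h6, index_sup_cyclic, IsCyclic.index_powMonoidHom_range, hk, ← h7, mul_comm _ 2, Nat.gcd_mul_left,
    Nat.mul_div_cancel_left _ two_pos, Nat.gcd_comm _ k, Nat.gcd_assoc, Nat.gcd_mul_left_left]

theorem split_formula {γ} (h : A γ) (ho : orderOf γ = 2) (h2 : 2 ≤ Fintype.card ι) :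
    (Even (Fintype.card ι) ∧ (2 : K) ≠ 0 ∧ Nonempty (↥(G ⊓ centralizer {γ}) ≃* Cfsg.PGSp (Fintype.card ι / 2) K) →
      Cfsg.splitClassCount G I γ = Nat.gcd (Fintype.card ι / 2) (Nat.card C)) ∧
    (Even (Fintype.card ι) ∧ (2 : K) ≠ 0 ∧
      ¬ Nonempty (↥(G ⊓ centralizer {γ}) ≃* Cfsg.PGSp (Fintype.card ι / 2) K) →
      Cfsg.splitClassCount G I γ = Nat.gcd (Fintype.card ι) (Nat.card C) / 2) ∧
    (¬ (Even (Fintype.card ι) ∧ (2 : K) ≠ 0) →
      Cfsg.splitClassCount G I γ = Nat.gcd (Fintype.card ι) (Nat.card C)) := by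
  obtain ⟨N, ⟨hN, hs⟩, hR⟩ := H.ex γ h ho
  refine ⟨fun ⟨he, a1, ⟨e⟩⟩ => ?_, fun ⟨he, a1, a2⟩ => ?_, H.splitA hR hN⟩ <;>
    have hk := (Nat.two_mul_div_two_of_even he).symm <;> rcases hs with hs | hs
  · obtain ⟨e'⟩ := H.cent hR
    exact absurd ⟨e'.symm.trans e⟩ (pgo_ne_pgsp (symF_nondeg hN hs a1) a1 (by omega) hk)
  · exact H.splitB hR hk (sm_sp hN (alt_of_skew hs a1) hk)
  · exact H.splitC hR hk (by omega) hN hs a1
  · exact absurd (H.cent' hR (sm_sp hN (alt_of_skew hs a1) hk)) a2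

omit [Finite F] in
theorem three_classes (h2 : (2 : K) ≠ 0) {m : ℕ} (hm : 2 ≤ m) (hc : Fintype.card ι = 2 * m) :
    ∃ (γ₁ γ₂ γ₃ : X) (a b : K), (∀ z₁ z₂ : K, z₁ ^ 2 + a * z₁ * z₂ + b * z₂ ^ 2 = 0 → z₁ = 0 ∧ z₂ = 0) ∧
      A γ₁ ∧ orderOf γ₁ = 2 ∧ A γ₂ ∧ orderOf γ₂ = 2 ∧ A γ₃ ∧ orderOf γ₃ = 2 ∧ ¬ Cfsg.IsConjUnder G γ₁ γ₂ ∧
      ¬ Cfsg.IsConjUnder G γ₁ γ₃ ∧ ¬ Cfsg.IsConjUnder G γ₂ γ₃ ∧ (∀ γ, A γ → orderOf γ = 2 →
        Cfsg.IsConjUnder G γ₁ γ ∨ Cfsg.IsConjUnder G γ₂ γ ∨ Cfsg.IsConjUnder G γ₃ γ) ∧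
      Nonempty (↥(G ⊓ centralizer {γ₁}) ≃* Cfsg.PGSp m K) ∧
      Nonempty (↥(G ⊓ centralizer {γ₂}) ≃* Cfsg.PGO K (Cfsg.quadFormPlus m K)) ∧
      Nonempty (↥(G ⊓ centralizer {γ₃}) ≃* Cfsg.PGO K (Cfsg.quadFormMinus (m - 1) K a b)) := by
  obtain ⟨b, hb⟩ := exists_aniso_pair K
  have : Nonempty (Fin m ⊕ Fin m) := ⟨.inl ⟨0, by omega⟩⟩
  have c1 : Fintype.card ι = Fintype.card (Fin m ⊕ Fin m) := by simp; omega
  have c2 : Fintype.card ι = Fintype.card ((Fin (m - 1) ⊕ Fin (m - 1)) ⊕ Fin 2) := by simp; omega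
  have n2 := plusForm_nondeg (F := K) m
  have n3 := minusForm_nondeg (m - 1) hb
  obtain ⟨N₁, a1, b1⟩ := exists_bf (fun _ => rfl) (spForm_nondeg (F := K) m) c1
  obtain ⟨N₂, a2, b2⟩ := exists_bf (fun _ => rfl) n2 c1
  obtain ⟨N₃, a3, b3⟩ := exists_bf (fun _ => rfl) n3 c2
  obtain ⟨γ₁, d1, e1, f1⟩ := H.ex' _ a1
  obtain ⟨γ₂, d2, e2, f2⟩ := H.ex' _ a2
  obtain ⟨γ₃, d3, e3, f3⟩ := H.ex' _ a3
  refine ⟨γ₁, γ₂, γ₃, 1, b, hb, d1, e1, d2, e2, d3, e3, fun h => ?_, fun h => ?_, fun h => ?_,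
    fun γ h ho => ?_, H.cent' f1 b1, H.cent_o f2 b2 (plusForm_Q m) h2, H.cent_o f3 b3 (minusForm_Q _ _ _) h2⟩
  · exact not_sm_sp n2 h2 ((b2.symm.trans ((H.conj f1 f2).1 h).symm).trans b1)
  · exact not_sm_sp n3 h2 ((b3.symm.trans ((H.conj f1 f3).1 h).symm).trans b1)
  · exact not_sm_pm h2 (plusForm_isPlus m) (minusForm_not_isPlus _ hb)
      ((b2.symm.trans ((H.conj f2 f3).1 h)).trans b3)
  obtain ⟨N, ⟨hN, hs | hs⟩, hR⟩ := H.ex γ h ho
  · by_cases hp : (symF hs h2).IsPlus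
    · exact Or.inr (Or.inl ((H.conj f2 hR).2 (b2.trans ((sm_even hN hs h2 n2 c1 ⟨m, by omega⟩).2
        (iff_of_true hp (plusForm_isPlus m))).symm)))
    · exact Or.inr (Or.inr ((H.conj f3 hR).2 (b3.trans ((sm_even hN hs h2 n3 c2 ⟨m, by omega⟩).2
        (iff_of_false hp (minusForm_not_isPlus _ hb))).symm)))
  · exact Or.inl ((H.conj f1 hR).2 (b1.trans (sm_sp hN (alt_of_skew hs h2) hc).symm))

end GrS

theorem one_isPlus_iff [Fintype K] (ho : Odd (Fintype.card K)) {m : ℕ} (hc : Fintype.card ι = 2 * m) :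
    (symF (N := (1 : Matrix ι ι K)) transpose_one (two_ne_of_odd ho)).IsPlus ↔ Fintype.card K ^ m % 4 = 1 := by
  rw [(symF_nondeg (by simp) _ _).isPlus_iff_disc (two_ne_of_odd ho) (finrank_of_card hc),
    ← chi_det_gram (Pi.basisFun K ι), ← chi_neg_one_pow_eq_one_iff ho, eq_comm]
  rw [show (symF (N := (1 : Matrix ι ι K)) transpose_one (two_ne_of_odd ho)).gram (Pi.basisFun K ι) = 1 by
    ext i j; rw [← bf_single 1, Form.gram_apply, Pi.basisFun_apply, Pi.basisFun_apply]; rfl]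
  simp

end Sm

end CfsgH8
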