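import Cfsg.Agent.H8.GR1
import Cfsg.Agent.H8.GUMat

/-!
Graph involutions of linear and unitary groups: the two instances.
-/

set_option autoImplicit false

namespace CfsgH8

open Subgroup Module Matrix CfsgH5 CfsgH5.Form

section Mk
variable {ι : Type} [Fintype ι] [DecidableEq ι] [Nonempty ι] {K : Type*} [Field K] {F : Type*} [Field F]
  {φ : K →+* F} {X : Type*} [Group X]

theorem GrS.mk' {G I : Subgroup X} {A : X → Prop} (R : X → Matrix ι ι K → GL ι F → Prop) {C : Subgroup Fˣ}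
    {P : Fˣ → Kˣ → Prop} {U V : Subgroup (GL ι F)} (hUV : U ≤ V) (Ψ : V →* X) (hG : G = Ψ.range)
    (hG' : (Ψ.comp (inclusion hUV)).range = Ψ.range) (hI : I ≤ Ψ.range)
    (hΨ : ∀ g, Ψ g = 1 ↔ ∃ c, (g : GL ι F) = GeneralLinearGroup.scalar ι c)
    (D : U →* C) (hD : Function.Surjective D) (hD' : ∀ g, (D g : Fˣ) = GeneralLinearGroup.det (g : GL ι F))
    (hC : ∀ g, Ψ (inclusion hUV g) ∈ I ↔ D g ∈ (powMonoidHom (Fintype.card ι) : C →* C).range)
    (ex : ∀ γ, A γ → orderOf γ = 2 → ∃ N, Gd N ∧ ∃ Q, R γ N Q)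
    (ex' : ∀ N, Gd N → ∃ γ, A γ ∧ orderOf γ = 2 ∧ ∃ Q, R γ N Q)
    (hK : ∀ {γ γ' N N' Q Q'}, R γ N Q → R γ' N' Q' → ∀ g : V, γ' = Ψ g * γ * (Ψ g)⁻¹ ↔ ∃ c m μ,
      Cg (bf N) (bf N') m μ ∧ (g : GL ι F) = GeneralLinearGroup.scalar ι c *
        (Q' * GeneralLinearGroup.map φ m * Q⁻¹))
    (hM : ∀ {γ γ' N N' Q Q'}, R γ N Q → R γ' N' Q' → ∀ {m μ}, Cg (bf N) (bf N') m μ →
      Q' * GeneralLinearGroup.map φ m * Q⁻¹ ∈ V)
    (hP : ∀ {γ N Q}, R γ N Q → ∀ {c m μ}, Cg (bf N) (bf N) m μ →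
      (GeneralLinearGroup.scalar ι c * descG φ Q m ∈ U ↔ P c μ))
    (PA : ∀ {c a}, P c (a ^ 2) → c * Units.map (φ : K →* F) a ∈ C)
    (PB : ∀ {c μ}, P c μ → c ^ 2 * Units.map (φ : K →* F) μ ∈ C)
    (PC : ∀ u ∈ C, ∃ c μ, P c μ ∧ u = c ^ 2 * Units.map (φ : K →* F) μ) (P1 : P 1 1) (neg : -1 ∈ C) :
    GrS G I A (fun γ N => ∃ Q, R γ N Q) φ C P := by
  subst hG
  refine ⟨ex, ex', fun ⟨Q, h⟩ ⟨Q', h'⟩ => ?_, fun {γ N} ⟨Q, h⟩ => ?_, fun {γ N} ⟨Q, h⟩ => ?_, PA, PB, PC, P1,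
    neg⟩
  · rw [sm_iff]
    constructor
    · rintro ⟨_, ⟨g, rfl⟩, h1⟩
      obtain ⟨c, m, μ, h2, -⟩ := (hK h h' g).1 h1
      exact ⟨m, μ, h2⟩
    · rintro ⟨m, μ, h1⟩
      exact ⟨_, ⟨⟨_, hM h h' h1⟩, rfl⟩, (hK h h' _).2 ⟨1, m, μ, h1, by simp⟩⟩
  · refine centralizer_equiv_quot Ψ (((descG φ Q).comp (Cfsg.Geo.similarityGroup (bf N)).subtype).codRestrict V
      fun m => hM h h m.2.choose_spec) γ (fun g => ?_) _ fun m => ?_
    · rw [← mul_inv_eq_iff_eq_mul, eq_comm, hK h h]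
      constructor
      · rintro ⟨c, m, μ, h1, h2⟩
        refine ⟨⟨m, μ, h1⟩, Eq.symm ?_⟩
        rw [← mul_inv_eq_one, ← map_inv, ← map_mul, hΨ]
        exact ⟨c, mul_inv_eq_iff_eq_mul.2 h2⟩
      · rintro ⟨⟨m, μ, h1⟩, h2⟩
        rw [eq_comm, ← mul_inv_eq_one, ← map_inv, ← map_mul, hΨ] at h2
        obtain ⟨c, h2⟩ := h2
        exact ⟨c, m, μ, h1, mul_inv_eq_iff_eq_mul.1 h2⟩
    · rw [hΨ, mem_subgroupOf, mem_scalars_iff', ← map_eq_scalar_iff φ]
      refine exists_congr fun c => ?_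
      change Q * _ * Q⁻¹ = _ ↔ _
      rw [mul_inv_eq_iff_eq_mul, scalar_comm, mul_right_inj]
      rfl
  · refine ⟨_, hG' ▸ splitClassCount_eq _ (hG'.symm ▸ hI) D hD _ hC γ, fun δ => ?_⟩
    have h0 : ∀ c m, GeneralLinearGroup.det (GeneralLinearGroup.scalar ι c * descG φ Q m) =
        c ^ Fintype.card ι * Units.map (φ : K →* F) (GeneralLinearGroup.det m) := fun c m => by
      rw [map_mul, det_scalarGL]
      exact congrArg _ (Units.ext (det_descG Q m))
    constructor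
    · rintro ⟨g, hg, rfl⟩
      obtain ⟨c, m, μ, h1, h2⟩ := (hK h h (inclusion hUV g)).1
        (eq_mul_inv_of_mul_eq (mem_centralizer_singleton_iff.1 hg).symm)
      have h3 : (g : GL ι F) = GeneralLinearGroup.scalar ι c * descG φ Q m := h2
      exact ⟨c, m, μ, h1, (hP h h1).1 (h3 ▸ g.2), by rw [hD', h3, h0]⟩
    · rintro ⟨c, m, μ, h1, h2, h3⟩
      refine ⟨⟨_, (hP h h1).2 h2⟩, mem_centralizer_singleton_iff.2 (eq_mul_inv_iff_mul_eq.1
        ((hK h h _).2 ⟨c, m, μ, h1, rfl⟩)).symm, Subtype.ext (by rw [hD', h3, ← h0])⟩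

omit [Nonempty ι] in
theorem Cg.scalar {N N' : Matrix ι ι K} {m : GL ι K} {μ : Kˣ} (h : Cg (bf N) (bf N') m μ) (c : Kˣ) :
    Cg (bf N) (bf N') (GeneralLinearGroup.scalar ι c * m) (c ^ 2 * μ) := by
  rw [Cg_iff] at h ⊢
  have : ((GeneralLinearGroup.scalar ι c * m : GL ι K) : Matrix ι ι K) = (c : K) • (m : Matrix ι ι K) := by
    ext i j; simp [diagonal_mul]
  rw [this, transpose_smul, smul_mul_assoc, smul_mul_assoc, mul_smul_comm, h, smul_smul, smul_smul]
  simp [sq]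

end Mk

section PSL
variable {F : Type*} [Field F] [Finite F] {n : ℕ}

omit [Finite F] in
theorem invTr_eq_iff {ι : Type} [Fintype ι] [DecidableEq ι] {g M M' : GL ι F} {c : Fˣ} :
    g * M * (invTrGL g)⁻¹ = GeneralLinearGroup.scalar ι c * M' ↔
      Cg (bf ((M⁻¹ : GL ι F) : Matrix ι ι F)) (bf ((M'⁻¹ : GL ι F) : Matrix ι ι F)) g c := by
  have : g * M * (invTrGL g)⁻¹ = GeneralLinearGroup.scalar ι c * M' ↔
      (invTrGL g)⁻¹ * M'⁻¹ * g = GeneralLinearGroup.scalar ι c * M⁻¹ := by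
    generalize invTrGL g = g'
    rw [← mul_inv_eq_iff_eq_mul, mul_assoc, mul_assoc, ← eq_inv_mul_iff_mul_eq, ← eq_inv_mul_iff_mul_eq,
      ← scalar_comm, ← mul_assoc, ← scalar_comm, eq_mul_inv_iff_mul_eq]
  rw [this, Cg_iff, Units.ext_iff, Units.val_mul, Units.val_mul, ← map_inv, coe_invTrGL, inv_inv]
  refine Eq.congr_right ?_
  ext i j; simp [diagonal_mul]

/-- graph automorphism attached to a matrix -/
def RL (γ : MulAut (Matrix.ProjectiveSpecialLinearGroup (Fin n) F)) (N : Matrix (Fin n) (Fin n) F)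
    (Q : GL (Fin n) F) : Prop :=
  Q = 1 ∧ ∃ M : GL (Fin n) F, γ = pslPsi M * pslPhi grElt ∧ N = ((M⁻¹ : GL (Fin n) F) : Matrix _ _ F)

theorem grS_psl (hn : 3 ≤ n) : GrS (Cfsg.inndiagPSL n F) (Cfsg.Inn _) Cfsg.IsGraphAutClassPSL
    (fun γ N => ∃ Q, RL γ N Q) (RingHom.id F) ⊤ fun _ _ => True := by
  have h3 : 3 ≤ Fintype.card (Fin n) := by simpa using hn
  have h2 : 2 ≤ Fintype.card (Fin n) := by omega
  have : Nonempty (Fin n) := ⟨⟨0, by omega⟩⟩
  have hw : ∀ g : GL (Fin n) F, pslPhi grElt * pslPsi g = pslPsi (invTrGL g) * pslPhi grElt := fun g => by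
    rw [← graphAutGL_gr]; exact inr_mul_pslPsi g _
  have hw2 : pslPhi (grElt : GammaGr (Fin n) F) * pslPhi grElt = 1 := by
    rw [← map_mul, grElt, ← map_mul, show ((1 : F ≃+* F), Multiplicative.ofAdd (1 : ZMod 2)) *
      (1, Multiplicative.ofAdd 1) = 1 from Prod.ext (one_mul _) (by change Multiplicative.ofAdd (1 : ZMod 2) * Multiplicative.ofAdd 1 = 1; decide), map_one, map_one]
  have hsq : ∀ M : GL (Fin n) F, (pslPsi M * pslPhi grElt) ^ 2 = 1 ↔ ∃ c : Fˣ,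
      ((M⁻¹ : GL (Fin n) F) : Matrix (Fin n) (Fin n) F)ᵀ = (c : F) • ((M⁻¹ : GL (Fin n) F) : Matrix _ _ F) :=
    fun M => by
      rw [sq, mul_assoc, ← mul_assoc (pslPhi grElt), hw, mul_assoc, hw2, mul_one, ← map_mul, pslPsi_eq_one h2]
      refine exists_congr fun c => ?_
      rw [← eq_inv_mul_iff_mul_eq, ← scalar_comm, Units.ext_iff, coe_invTrGL]
      refine Eq.congr_right ?_
      ext i j; simp [diagonal_mul]
  have hr : (pslPsi.comp (⊤ : Subgroup (GL (Fin n) F)).subtype).range = pslPsi.range := by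
    rw [MonoidHom.range_comp, range_subtype, MonoidHom.range_eq_map]
  refine GrS.mk' RL (U := ⊤) (V := ⊤) le_rfl (pslPsi.comp (Subgroup.subtype _)) (inndiagPSL_eq.trans hr.symm)
    rfl (hr ▸ Inn_le_pslPsi) (fun g => pslPsi_eq_one h2)
    ((GeneralLinearGroup.det.comp (Subgroup.subtype _)).codRestrict _ fun _ => mem_top _) (fun c => ?_)
    (fun _ => rfl) (fun g => (pslPsi_mem_Inn h2).trans ?_) ?_ ?_ ?_ (fun _ _ _ _ _ => mem_top _)
    (fun _ _ _ _ _ => iff_of_true (mem_top _) trivial) (fun _ => mem_top _) (fun _ => mem_top _)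
    (fun u _ => ⟨1, u, trivial, by simp⟩) trivial (mem_top _)
  · obtain ⟨g, hg⟩ := GeneralLinearGroup.det_surjective (n := Fin n) c.1
    exact ⟨⟨g, mem_top _⟩, Subtype.ext hg⟩
  · exact ⟨fun ⟨c, h⟩ => ⟨⟨c, mem_top _⟩, Subtype.ext h⟩, fun ⟨c, h⟩ => ⟨c, congrArg Subtype.val h⟩⟩
  · rintro γ ⟨-, δ, w, hδ, hw, rfl⟩ ho
    obtain ⟨M, rfl⟩ := (inndiagPSL_iff δ).1 hδ
    obtain rfl := (invTrPSL_iff w).1 hw
    obtain ⟨c, hc⟩ := (hsq M).1 (orderOf_dvd_iff_pow_eq_one.1 ho.dvd)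
    refine ⟨_, ⟨M⁻¹.det_ne_zero, ?_⟩, 1, rfl, M, rfl, rfl⟩
    have h4 := congrArg transpose hc
    rw [transpose_transpose, transpose_smul, hc, smul_smul, eq_comm] at h4
    rcases mul_self_eq_one_iff.1 (smul_left_injective F M⁻¹.ne_zero (h4.trans (one_smul F _).symm)) with h | h <;> simp only [hc, h] <;> simp
  · intro N ⟨h1, h4⟩
    let M := (GeneralLinearGroup.mkOfDetNeZero N h1)⁻¹
    refine ⟨pslPsi M * pslPhi grElt, ⟨hn, _, _, (inndiagPSL_iff _).2 ⟨M, rfl⟩, (invTrPSL_iff _).2 rfl, rfl⟩,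
      orderOf_eq_prime ((hsq M).2 ?_) fun h => ?_, 1, rfl, M, rfl, rfl⟩
    · rcases h4 with h | h
      · exact ⟨1, by simpa [M] using h⟩
      · exact ⟨-1, by simpa [M] using h⟩
    · rw [pslPsi_apply, ← map_mul, pslPhi_eq_one_iff h3] at h
      obtain ⟨c, h⟩ := h
      exact absurd (congrArg (·.right.2) h) (by simp [grElt])
  · rintro _ _ _ _ _ _ ⟨rfl, M, rfl, rfl⟩ ⟨rfl, M', rfl, rfl⟩ ⟨g, _⟩
    change _ = pslPsi g * _ * (pslPsi g)⁻¹ ↔ ∃ c m μ, _ ∧ g = _
    rw [← map_inv, mul_assoc, mul_assoc, hw, ← mul_assoc, ← mul_assoc, mul_left_inj, ← map_mul, ← map_mul,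
      eq_comm, ← mul_inv_eq_one, ← map_inv, ← map_mul, pslPsi_eq_one h2, map_inv]
    simp only [mul_inv_eq_iff_eq_mul (b := M'), invTr_eq_iff]
    refine ⟨fun ⟨c, h⟩ => ⟨1, g, c, h, by simp⟩, ?_⟩
    rintro ⟨c, m, μ, h, rfl⟩
    exact ⟨_, by simpa using h.scalar c⟩

end PSL

section PSU
variable {F : Type*} [Field F] [Fintype F] {n q : ℕ} (hF : Fintype.card F = q ^ 2) {K : Type*} [Field K]
  {φ : K →+* F}

/-- the Gram matrix of the columns -/
noncomputable def hm (A : GL (Fin n) F) : Matrix (Fin n) (Fin n) F := A.1ᵀ * A.1.map (frobE hF)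

theorem hm_mul (A B : GL (Fin n) F) : hm hF (A * B) = B.1ᵀ * hm hF A * B.1.map (frobE hF) := by
  simp only [hm, Units.val_mul, transpose_mul, Matrix.map_mul, Matrix.mul_assoc]

theorem uB_eq (A : GL (Fin n) F) (x y : Fin n → F) :
    (uForm hF n).B (A.1 *ᵥ x) (A.1 *ᵥ y) = bf (hm hF A) x fun i => frobE hF (y i) := by
  rw [uForm_B, hermForm_eq (frobE_apply hF), mulVec_map_comp, bf, hm, ← mulVec_mulVec, dotProduct_mulVec x,
    vecMul_transpose]

theorem hm_eq_iff {M : GL (Fin n) F} {κ : F} : hm hF M = κ • 1 ↔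
    ∀ x y, (uForm hF n).B (M.1 *ᵥ x) (M.1 *ᵥ y) = κ * (uForm hF n).B x y := by
  have h1 : ∀ x y, (uForm hF n).B x y = bf 1 x fun i => frobE hF (y i) := fun x y => by
    simpa [hm] using uB_eq hF 1 x y
  refine ⟨fun h x y => by rw [uB_eq, h, bf_smul, h1], fun h => bf_ext fun x y => ?_⟩
  have := h x fun i => (frobE hF).symm (y i)
  rw [uB_eq, h1] at this
  simpa [bf_smul] using this

theorem isSemiSim_hm [Nonempty (Fin n)] {M : GL (Fin n) F} {κ : F} (h0 : κ ≠ 0) (h : hm hF M = κ • 1) :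
    IsSemiSim (uForm hF n) (SemidirectProduct.inl M) κ := by
  obtain ⟨i⟩ := ‹Nonempty (Fin n)›
  refine isSemiSim_su hF h0 ?_ ((hm_eq_iff hF).1 h)
  have h1 := (hm_eq_iff hF).1 h (Pi.single i 1) (Pi.single i 1)
  rw [uForm_B_apply hF n (Pi.single i 1), Finset.sum_eq_single i (by simp +contextual) (by simp)] at h1
  simp only [Pi.single_eq_same, map_one, mul_one] at h1
  rw [← h1]
  exact (unit_herm _ _ _).symm

theorem hm_key (hφ : ∀ a, frobE hF a = a ↔ ∃ b, φ b = a) {Q Q' : GL (Fin n) F} {e e' : F}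
    {N N' : Matrix (Fin n) (Fin n) K} (h : hm hF Q = e • N.map φ) (h' : hm hF Q' = e' • N'.map φ) (c : Fˣ)
    (m : GL (Fin n) K) (κ : F) :
    hm hF (GeneralLinearGroup.scalar (Fin n) c * (Q' * GeneralLinearGroup.map φ m * Q⁻¹)) =
      κ • 1 ↔ (c * frobE hF c * e') • (m.1ᵀ * N' * m.1).map φ = (κ * e) • N.map φ := by
  set M := GeneralLinearGroup.scalar (Fin n) c * (Q' * GeneralLinearGroup.map φ m * Q⁻¹) with hM
  have h1 : hm hF (M * Q) = (c * frobE hF c * e') • (m.1ᵀ * N' * m.1).map φ := by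
    have : (GeneralLinearGroup.scalar (Fin n) c * GeneralLinearGroup.map φ m).1 = (c : F) • m.1.map φ := by
      ext i j; simp [diagonal_mul]
    have h2 : ((c : F) • m.1.map φ).map (frobE hF) = frobE hF c • m.1.map φ := by
      ext i j; simp [(hφ _).2 ⟨_, rfl⟩]
    rw [hM, mul_assoc, inv_mul_cancel_right, ← mul_assoc, scalar_comm, mul_assoc, hm_mul, this, h', h2,
      Matrix.map_mul, Matrix.map_mul, transpose_map]
    simp only [transpose_smul, smul_mul_assoc, mul_smul_comm, smul_smul]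
    congr 1; ring
  rw [← h1, mul_smul, ← h, hm_mul hF M Q]
  have h3 : IsUnit (Q : Matrix (Fin n) (Fin n) F)ᵀ := (isUnit_transpose _).2 Q.isUnit
  have h4 : IsUnit ((Q : Matrix (Fin n) (Fin n) F).map (frobE hF)) := (fieldAutGL (frobE hF) Q).isUnit
  generalize hm hF M = Y
  rw [← h3.mul_right_inj, ← h4.mul_left_inj]
  simp [hm]

/-- graph automorphism attached to a matrix -/
def RU (hn : 3 ≤ n) (φ : K →+* F) (γ : MulAut (Cfsg.PSU n F q)) (N : Matrix (Fin n) (Fin n) K)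
    (Q : GL (Fin n) F) : Prop :=
  N.det ≠ 0 ∧ ∃ (γ₀ : GammaS (uForm hF n)) (e : F), γ = (fsetup_su hF hn).simPhi γ₀ ∧
    γ₀.1 = SemidirectProduct.inl Q * SemidirectProduct.inr (frobE hF) * (SemidirectProduct.inl Q)⁻¹ ∧
    e ≠ 0 ∧ hm hF Q = e • N.map φ

theorem semiAct_tw (Q : GL (Fin n) F) (x : Fin n → F) : semiAct (SemidirectProduct.inl Q *
    SemidirectProduct.inr (frobE hF) * (SemidirectProduct.inl Q)⁻¹ : GammaL (Fin n) F)
      (Q.1 *ᵥ x) = Q.1 *ᵥ fun i => frobE hF (x i) := by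
  rw [semiAct_mul, semiAct_mul, ← semiAct_inl, semiAct_apply_inv, semiAct_inr, semiAct_inl]

theorem hent {ι L : Type*} [Fintype ι] [DecidableEq ι] [Nonempty ι] [Field L] {N : Matrix ι ι L}
    (h : N.det ≠ 0) : ∃ i j, N i j ≠ 0 := by
  by_contra! h'
  exact h (by rw [show N = 0 from Matrix.ext h', det_zero])

theorem grS_psu (hn : 3 ≤ n) (hφ : ∀ a, frobE hF a = a ↔ ∃ b, φ b = a) :
    GrS (Cfsg.inndiagPSU n F q) (Cfsg.Inn _) Cfsg.IsGraphAutClassPSU (fun γ N => ∃ Q, RU hF hn φ γ N Q) φ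
      (nrm (frobE hF) 2).ker fun c μ => (c : F) * frobE hF c * φ μ = 1 := by
  have h3 : 3 ≤ Fintype.card (Fin n) := by simpa using hn
  have : Nonempty (Fin n) := ⟨⟨0, by omega⟩⟩
  have H := fsetup_su hF hn
  obtain ⟨e₁, f₁, hef⟩ := su_hyp hF hn
  have hτ : ∀ a, frobE hF (frobE hF a) = a := frobQ_invol hF
  have hfix : ∀ a, frobE hF (φ a) = φ a := fun a => (hφ _).2 ⟨a, rfl⟩
  have hker : ∀ {u : Fˣ}, u ∈ (nrm (frobE hF) 2).ker ↔ (u : F) * frobE hF u = 1 := by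
    intro u
    rw [MonoidHom.mem_ker, Units.ext_iff, coe_nrm, Finset.prod_range_succ, Finset.prod_range_one]
    simp
  refine GrS.mk' (RU hF hn φ) (GU_le_Sim hF) H.simPsi ((inndiagPSU_eq hF hn).trans (range_suPsi hF hn))
    (range_suPsi hF hn) H.Inn_le_simPsi (fun g => H.simPsi_eq_one hef h3) (guDet hF)
    (guDet_surj hF (by omega)) (fun _ => rfl) (fun g => (Fintype.card_fin n).symm ▸ su_mem_Inn hF hn g) ?_ ?_ ?_ ?_ ?_
    (fun h => hker.2 ?_) (fun {c μ} h => hker.2 ?_) (fun u hu => ?_) (by simp) (hker.2 (by simp))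
  · rintro γ ⟨-, δ, ψ, σ, hσ, hδ, hψ, rfl⟩ ho
    obtain ⟨g, rfl⟩ := (inndiagPSU_iff hF hn δ).1 hδ
    obtain rfl := (fieldPSU_iff hF hn σ ψ).1 hψ
    rw [suPsi_mul_inr] at ho ⊢
    have h1 := ho ▸ pow_orderOf_eq_one _
    obtain rfl : σ = frobE hF := invol_unique (by rw [← sq]; exact H.right_pow hef h3 h1)
      (by rintro rfl; simp at hσ) (frobE_sq hF) (frobE_ne hF)
    obtain ⟨c, hc⟩ := H.pow_scalar hef h3 h1
    obtain ⟨d, Q, -, hd⟩ := lang_GL two_ne_zero (orderOf_frobE hF) hc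
    let γ₀ := (simIncl _ ⟨_, scalar_mem_Sim d⟩)⁻¹ * (⟨_, su_mk_mem hF g.2 (frobE hF)⟩ : GammaS (uForm hF n))
    have h4 : γ₀.1 = SemidirectProduct.inl Q * SemidirectProduct.inr (frobE hF) *
        (SemidirectProduct.inl Q)⁻¹ := by
      refine SemidirectProduct.ext ?_ (by simp [γ₀, coe_simIncl])
      simp [γ₀, coe_simIncl, eq_mul_inv_of_mul_eq hd, mul_assoc]
    obtain ⟨κ, hκ⟩ := γ₀.2
    have h5 : ∀ i j, hm hF Q i j = κ * frobE hF (hm hF Q i j) := fun i j => by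
      have h6 : ∀ j : Fin n, (fun i => frobE hF ((Pi.single j 1 : Fin n → F) i)) = Pi.single j 1 := fun j => by
        ext i; simp [Pi.single_apply, apply_ite (frobE hF)]
      have := hκ.B (Q.1 *ᵥ Pi.single i 1) (Q.1 *ᵥ Pi.single j 1)
      rw [h4, semiAct_tw, semiAct_tw, h6, h6, uB_eq, h6, bf_single] at this
      simpa using this
    have h6 : ∀ i j, frobE hF (hm hF Q i j) = hm hF Q j i := fun i j => by
      simp [hm, mul_apply, hτ, mul_comm]
    have h7 : (hm hF Q).det ≠ 0 := by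
      rw [hm, det_mul, det_transpose]
      exact mul_ne_zero Q.det_ne_zero (fieldAutGL (frobE hF) Q).det_ne_zero
    obtain ⟨i₀, j₀, h8⟩ := hent h7
    choose N hN using fun i j => (hφ (hm hF Q i j / hm hF Q i₀ j₀)).1 (by
      rw [map_div₀, h5 i j, h5 i₀ j₀, mul_div_mul_left _ _ hκ.ne, ← h5, ← h5])
    have h9 : hm hF Q = hm hF Q i₀ j₀ • (of N).map φ := by
      ext i j; simp [hN, mul_div_cancel₀ _ h8]
    have h10 : (of N).det ≠ 0 := fun h => h7 (by
      rw [h9, det_smul, ← RingHom.mapMatrix_apply, ← RingHom.map_det, h, map_zero, mul_zero])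
    refine ⟨of N, ⟨h10, ?_⟩, Q, h10, γ₀, _, ?_, h4, h8, h9⟩
    · have h11 : κ * κ = 1 := mul_right_cancel₀ h8 (by
        have a := h5 i₀ j₀
        have b := h5 j₀ i₀
        rw [h6] at a b
        linear_combination -a - κ * b)
      have h12 : ∀ i j, φ (N i j) = κ * φ (N j i) := fun i j => by rw [hN, hN, h5 i j, h6, mul_div_assoc]
      rcases mul_self_eq_one_iff.1 h11 with rfl | rfl
      · exact Or.inl (Matrix.ext fun i j => φ.injective (by simpa using h12 j i))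
      · exact Or.inr (Matrix.ext fun i j => φ.injective (by simpa using h12 j i))
    · exact (H.simPhi_eq_of (c := d⁻¹) (by simp [γ₀, coe_simIncl])).symm
  · intro N ⟨h1, h4⟩
    obtain ⟨e, ε, he, h5, h6, h7⟩ : ∃ e ε : F, e ≠ 0 ∧ e = ε * frobE hF e ∧ ε * ε = 1 ∧
        (N.map φ)ᵀ = ε • N.map φ := by
      rcases h4 with h | h
      · exact ⟨1, 1, one_ne_zero, by simp, by simp, by rw [← transpose_map, h, one_smul]⟩
      · obtain ⟨a, ha⟩ := frobQ_ne hF
        exact ⟨a - frobE hF a, -1, sub_ne_zero.2 ha.symm, by simp [hτ], by simp, by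
          rw [← transpose_map, h]; ext; simp⟩
    have h8 : (e • N.map φ).det ≠ 0 := by
      rw [det_smul, ← RingHom.mapMatrix_apply, ← RingHom.map_det]
      exact mul_ne_zero (pow_ne_zero _ he) ((map_ne_zero φ).2 h1)
    have h9 : (e • N.map φ).map (frobE hF) = frobE hF e • N.map φ := by ext; simp [hfix]
    obtain ⟨P, hP⟩ := herm_congr (frobE_sq hF) (frobE_ne hF) (GeneralLinearGroup.mkOfDetNeZero _ h8) (by
      change ((e • N.map φ).map _)ᵀ = e • N.map φ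
      rw [h9, transpose_smul, h7, smul_smul, mul_comm, ← h5])
    let Q := (invTrGL P)⁻¹
    have h10 : hm hF Q = e • N.map φ := hP.symm
    have h11 : frobE hF ε = ε := by rcases mul_self_eq_one_iff.1 h6 with rfl | rfl <;> simp
    let γ₀ : GammaS (uForm hF n) := ⟨SemidirectProduct.inl Q * SemidirectProduct.inr (frobE hF) *
      (SemidirectProduct.inl Q)⁻¹, ε, isSemiSim_su hF (by rintro rfl; simp at h6) h11 fun x y => by
        obtain ⟨x, rfl⟩ := (glRho Q).surjective x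
        obtain ⟨y, rfl⟩ := (glRho Q).surjective y
        rw [glRho_apply, glRho_apply, semiAct_tw, semiAct_tw, uB_eq, uB_eq, h10, bf_smul, bf_smul]
        simp only [SemidirectProduct.mul_right, SemidirectProduct.right_inl, SemidirectProduct.right_inr,
          SemidirectProduct.inv_right, inv_one, one_mul, mul_one, map_mul, ← mul_assoc, ← h5]
        simp [bf, dotProduct, mulVec, hτ, hfix]⟩
    have h12 : γ₀.1.right = frobE hF := by simp [γ₀]
    obtain ⟨g, hg⟩ := exists_su_split hF hn γ₀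
    refine ⟨_, ⟨hn, _, _, _, h12 ▸ by rw [orderOf_frobE]; exact even_two, (inndiagPSU_iff hF hn _).2 ⟨g, rfl⟩,
      (fieldPSU_iff hF hn _ _).2 rfl, hg⟩, orderOf_eq_prime ?_ fun h => ?_, Q, h1, γ₀, e, rfl, rfl, he, h10⟩
    · rw [← map_pow, show γ₀ ^ 2 = 1 from Subtype.ext ?_, map_one]
      change (_ * _ * _) ^ 2 = 1
      rw [conj_pow, ← map_pow, sq, frobE_sq, map_one, mul_one, mul_inv_cancel]
    · exact frobE_ne hF (h12 ▸ H.right_eq hef h3 (h.trans (map_one _).symm))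
  · rintro _ _ N N' Q Q' ⟨h1, γ, e, rfl, h4, he, h5⟩ ⟨h1', γ', e', rfl, h4', he', h5'⟩ g
    have h6 : H.simPhi γ' = H.simPsi g * H.simPhi γ * (H.simPsi g)⁻¹ ↔ ∃ c, Q'⁻¹ * g.1 * Q =
        GeneralLinearGroup.scalar _ c * fieldAutGL (frobE hF) (Q'⁻¹ * g.1 * Q) := by
      rw [eq_comm, ← mul_inv_eq_one]
      change H.simPhi (simIncl _ g) * _ * (H.simPhi (simIncl _ g))⁻¹ * _ = 1 ↔ _
      rw [← map_inv H.simPhi, ← map_inv H.simPhi, ← map_mul, ← map_mul, ← map_mul, H.simPhi_eq_one hef h3]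
      refine exists_congr fun c => ?_
      rw [Subgroup.coe_mul, Subgroup.coe_mul, Subgroup.coe_mul, Subgroup.coe_inv, Subgroup.coe_inv, h4, h4',
        coe_simIncl, SemidirectProduct.ext_iff]
      simp only [SemidirectProduct.mul_right, SemidirectProduct.right_inl, SemidirectProduct.right_inr,
        SemidirectProduct.inv_right, inv_one, one_mul, mul_one, mul_inv_cancel, and_true,
        SemidirectProduct.mul_left, SemidirectProduct.left_inl, SemidirectProduct.left_inr,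
        SemidirectProduct.inv_left, map_one, MulAut.one_apply, map_mul, map_inv, _root_.mul_inv_rev, inv_inv,
        MulAut.apply_inv_self]
      generalize fieldAutGL (frobE hF) Q = a
      generalize fieldAutGL (frobE hF) Q' = a'
      generalize fieldAutGL (frobE hF) g.1 = b
      rw [← mul_inv_eq_iff_eq_mul, ← (MulAut.conj Q'⁻¹).injective.eq_iff (b := GeneralLinearGroup.scalar _ c),
        MulAut.conj_apply, MulAut.conj_apply, ← scalar_comm, mul_inv_cancel_right]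
      refine Eq.congr_left ?_
      group
    rw [h6]
    constructor
    · rintro ⟨c, hc⟩
      obtain ⟨c, m, hm'⟩ := exists_GL_of_twist hφ hc
      have h7 : (g : GL (Fin n) F) = GeneralLinearGroup.scalar _ c *
          (Q' * GeneralLinearGroup.map φ m * Q⁻¹) := by
        rw [← mul_assoc, ← mul_assoc, scalar_comm, mul_assoc Q', ← hm']; group
      obtain ⟨κ, hκ⟩ := g.2
      have h8 := (hm_key hF hφ h5 h5' c m κ).1 (h7 ▸ (hm_eq_iff hF).2 hκ.B)
      obtain ⟨i, j, h9⟩ := hent h1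
      have h10 : (c : F) * frobE hF c * e' ≠ 0 := by simp [he']
      have h11 : ∀ i j, (c : F) * frobE hF c * e' * φ ((m.1ᵀ * N' * m.1) i j) =
        κ * e * φ (N i j) := fun i j => congrFun (congrFun h8 i) j
      have h12 : (m.1ᵀ * N' * m.1) i j ≠ 0 := fun h => by
        simpa [h, hκ.ne, he, h9] using h11 i j
      refine ⟨c, m, Units.mk0 _ (div_ne_zero h12 h9), Cg_iff.2 (Matrix.ext fun a b => φ.injective
        (mul_left_cancel₀ h10 ?_)), h7⟩
      rw [h11, Matrix.smul_apply, smul_eq_mul, Units.val_mk0, map_mul, map_div₀, ← mul_assoc, mul_div_assoc', h11,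
        mul_div_cancel_right₀ _ ((map_ne_zero φ).2 h9)]
    · rintro ⟨c, m, μ, -, h⟩
      refine ⟨cob (frobE hF) c, ?_⟩
      rw [show Q'⁻¹ * g.1 * Q = GeneralLinearGroup.scalar _ c * GeneralLinearGroup.map φ m by
        rw [h, ← mul_assoc, ← scalar_comm]; group, map_mul, fieldAutGL_map hφ, fieldAutGL_scalar, ← mul_assoc,
        ← map_mul]
      simp [cob]
  · rintro _ _ N N' Q Q' ⟨-, -, e, -, -, he, h5⟩ ⟨-, -, e', -, -, he', h5'⟩ m μ h
    refine ⟨e' * φ μ / e, isSemiSim_hm hF (by simp [he, he']) ?_⟩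
    have := (hm_key hF hφ h5 h5' 1 m (e' * φ μ / e)).2 (by
      rw [Cg_iff.1 h, div_mul_cancel₀ _ he]; ext; simp [mul_assoc])
    rwa [map_one, one_mul] at this
  · rintro _ N Q ⟨h1, -, e, -, -, he, h5⟩ c m μ h
    obtain ⟨i, j, h9⟩ := hent h1
    rw [mem_GU_iff (frobE_apply hF), ← one_smul F (1 : Matrix (Fin n) (Fin n) F)]
    refine (hm_key hF hφ h5 h5 c m 1).trans ?_
    rw [Cg_iff.1 h]
    constructor
    · intro h
      have : (c : F) * frobE hF c * e * φ (μ * N i j) = 1 * e * φ (N i j) := congrFun (congrFun h i) j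
      rw [map_mul] at this
      exact mul_right_cancel₀ (mul_ne_zero he ((map_ne_zero φ).2 h9)) (by linear_combination this)
    · intro h
      ext a b
      simp only [Matrix.smul_apply, map_apply, smul_eq_mul, map_mul]
      linear_combination e * φ (N a b) * h
  · simp only [Units.val_mul, Units.coe_map, MonoidHom.coe_coe, map_mul, hfix, Units.val_pow_eq_pow_val,
      map_pow] at h ⊢
    linear_combination h
  · simp only [Units.val_mul, Units.coe_map, MonoidHom.coe_coe, map_mul, hfix, Units.val_pow_eq_pow_val,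
      map_pow] at h ⊢
    linear_combination ((c : F) * frobE hF c * φ μ + 1) * h
  · obtain ⟨c, rfl⟩ := exists_cob_eq two_ne_zero (orderOf_frobE hF) hu
    obtain ⟨μ, hμ⟩ := (hφ ((c : F) * frobE hF c)⁻¹).1 (by rw [map_inv₀, map_mul, hτ, mul_comm])
    have h0 : μ ≠ 0 := by rintro rfl; exact inv_ne_zero (by simp) (hμ.symm.trans (map_zero φ))
    refine ⟨c, Units.mk0 μ h0, by rw [Units.val_mk0, hμ, mul_inv_cancel₀ (by simp)], Units.ext ?_⟩
    simp only [coe_cob, Units.val_mul, Units.coe_map, MonoidHom.coe_coe, Units.val_mk0, hμ,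
      Units.val_pow_eq_pow_val]
    field_simp

end PSU

end CfsgH8
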