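import Cfsg.Agent.H8.GR2

/-!
Graph involutions of linear and unitary groups: characteristic two.
-/

set_option autoImplicit false

namespace CfsgH8

open Subgroup Module Matrix CfsgH5 CfsgH5.Form

variable {ι : Type} [Fintype ι] [DecidableEq ι] {K : Type*} [Field K]

theorem eq_of_sq_two (h2 : (2 : K) = 0) {a b : K} (h : a ^ 2 = b ^ 2) : a = b := by
  rcases sq_eq_sq_iff_eq_or_eq_neg.1 h with h | h
  · exact h
  · linear_combination h - b * h2

theorem Gd.symm_two (h2 : (2 : K) = 0) {N : Matrix ι ι K} (h : Gd N) : Nᵀ = N :=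
  h.2.elim id fun h => h.trans (by ext i j; rw [neg_apply]; linear_combination -N i j * h2)

theorem symp_symm (h2 : (2 : K) = 0) {m : ℕ} (u v : Fin m ⊕ Fin m → K) :
    Cfsg.sympForm m K u v = (plusForm m K).B u v := by
  rw [sympForm_eq, plusForm_B]
  exact Finset.sum_congr rfl fun i _ => by linear_combination -u (.inl i) * v (.inr i) * h2

/-- block triangular matrices -/
def blk {κ : Type} (a : K) (r : κ → K) (D : Matrix κ κ K) : Matrix (Unit ⊕ κ) (Unit ⊕ κ) K :=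
  fromBlocks (of fun _ _ => a) (of fun _ => r) 0 D

theorem blk_mulVec (a : K) (r : ι → K) (D : Matrix ι ι K) (u : Unit ⊕ ι → K) : blk a r D *ᵥ u =
    Sum.elim (fun _ => a * u (.inl ()) + r ⬝ᵥ (u ∘ .inr)) (D *ᵥ (u ∘ .inr)) := by
  rw [blk, fromBlocks_mulVec]
  ext (i | i) <;> simp [mulVec, dotProduct]

theorem blk_mul (a a' : K) (r r' : ι → K) (D D' : Matrix ι ι K) :
    blk a r D * blk a' r' D' = blk (a * a') (a • r' + r ᵥ* D') (D * D') := by
  rw [blk, blk, fromBlocks_multiply]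
  ext (i | i) (j | j) <;> simp [blk, mul_apply, vecMul, dotProduct]

theorem det_blk (a : K) (r : ι → K) (D : Matrix ι ι K) : (blk a r D).det = a * D.det := by
  rw [blk, det_fromBlocks_zero₂₁]; simp

omit [Fintype ι] [DecidableEq ι] in
theorem eq_blk {g : Matrix (Unit ⊕ ι) (Unit ⊕ ι) K} (h : ∀ i, g (.inr i) (.inl ()) = 0) :
    g = blk (g (.inl ()) (.inl ())) (fun j => g (.inl ()) (.inr j)) g.toBlocks₂₂ := by
  ext (i | i) (j | j) <;> simp [blk, h, toBlocks₂₂]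

theorem scalar_eq_blk (c : Kˣ) : (GeneralLinearGroup.scalar (Unit ⊕ ι) c).1 = blk (c : K) 0 ((c : K) • 1) := by
  ext (i | i) (j | j) <;> simp [blk, diagonal_apply, one_apply]

omit [Fintype ι] [DecidableEq ι] in
theorem blk_inj {a a' : K} {r r' : ι → K} {D D' : Matrix ι ι K} (h : blk a r D = blk a' r' D') :
    a = a' ∧ r = r' ∧ D = D' :=
  ⟨congrFun (congrFun h (.inl ())) (.inl ()), funext fun j => congrFun (congrFun h (.inl ())) (.inr j),
    Matrix.ext fun i j => congrFun (congrFun h (.inr i)) (.inr j)⟩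

theorem bf_blk (m : ℕ) (u v : Unit ⊕ (Fin m ⊕ Fin m) → K) : bf (blk 1 0 (J (Fin m) K)) u v =
    u (.inl ()) * v (.inl ()) + Cfsg.sympForm m K (u ∘ .inr) (v ∘ .inr) := by
  rw [bf, blk_mulVec]
  simp [dotProduct, Cfsg.sympForm]

theorem symp_nondeg {m : ℕ} {x : Fin m ⊕ Fin m → K} (h : ∀ y, Cfsg.sympForm m K y x = 0) : x = 0 :=
  spForm_nondeg m x h

omit [Fintype ι] in
theorem single_inl_comp : (Pi.single (Sum.inl ()) 1 : Unit ⊕ ι → K) ∘ .inr = 0 := by ext; simp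

theorem quad_blk (h2 : (2 : K) = 0) {m : ℕ} {g : GL (Unit ⊕ (Fin m ⊕ Fin m)) K} {c : K}
    (h : ∀ v, Cfsg.quadFormOdd m K (g.1 *ᵥ v) = c * Cfsg.quadFormOdd m K v) : ∃ a r D, g.1 = blk a r D ∧
      a ^ 2 = c ∧ ∀ x, (r ⬝ᵥ x) ^ 2 + Cfsg.quadFormPlus m K (D *ᵥ x) = c * Cfsg.quadFormPlus m K x := by
  have h1 : ∀ u v, (oddForm m K).B (g.1 *ᵥ u) (g.1 *ᵥ v) = c * (oddForm m K).B u v := fun u v => by
    have a := (oddForm m K).Q_add u v
    have b := (oddForm m K).Q_add (g.1 *ᵥ u) (g.1 *ᵥ v)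
    rw [← mulVec_add] at b
    simp only [oddForm_Q, h] at a b
    linear_combination c * a - b
  have h3 : ∀ u v, (oddForm m K).B u v = Cfsg.sympForm m K (u ∘ .inr) (v ∘ .inr) := fun u v => by
    rw [symp_symm h2, oddForm_B, plusForm_B, h2]; simp
  have h4 : (g.1 *ᵥ Pi.single (.inl ()) 1) ∘ .inr = 0 := symp_nondeg fun y => by
    obtain ⟨u, hu⟩ := (glRho g).surjective (Sum.elim 0 y)
    have := h1 u (Pi.single (.inl ()) 1)
    rw [h3, h3, ← glRho_apply g u, hu] at this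
    simpa [Cfsg.sympForm, single_inl_comp] using this
  have h5 := eq_blk (g := g.1) fun i => by simpa using congrFun h4 i
  refine ⟨_, _, _, h5, ?_, fun x => ?_⟩
  · have := h (Pi.single (.inl ()) 1)
    rw [h5, blk_mulVec] at this
    simpa [Cfsg.quadFormOdd, single_inl_comp] using this
  · have := h (Sum.elim 0 x)
    rw [h5, blk_mulVec] at this
    simpa [Cfsg.quadFormOdd, Cfsg.quadFormPlus] using this

theorem bil_blk (h2 : (2 : K) = 0) {m : ℕ} {g : GL (Unit ⊕ (Fin m ⊕ Fin m)) K} {c : Kˣ}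
    (h : Cg (bf (blk 1 0 (J (Fin m) K))) (bf (blk 1 0 (J (Fin m) K))) g c) : ∃ a D, g.1 = blk a 0 D ∧
      a ^ 2 = c ∧ ∀ x y, Cfsg.sympForm m K (D *ᵥ x) (D *ᵥ y) = c * Cfsg.sympForm m K x y := by
  have h0 : ∀ x, Cfsg.sympForm m K x x = 0 := (spForm m K).sp_self
  have h1 : ∀ u, (g.1 *ᵥ u) (.inl ()) ^ 2 = c * u (.inl ()) ^ 2 := fun u => by
    simpa [bf_blk, h0, sq] using h u u
  have h3 : g.1 (.inl ()) (.inl ()) ^ 2 = c := by simpa using h1 (Pi.single (.inl ()) 1)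
  have h4 : ∀ j, g.1 (.inl ()) (.inr j) = 0 := fun j => by simpa using h1 (Pi.single (.inr j) 1)
  have h5 : ∀ u, (g.1 *ᵥ u) (.inl ()) = g.1 (.inl ()) (.inl ()) * u (.inl ()) := fun u => by
    simp [mulVec, dotProduct, h4]
  have h6 : (g.1 *ᵥ Pi.single (.inl ()) 1) ∘ .inr = 0 := symp_nondeg fun y => by
    obtain ⟨u, hu⟩ := (glRho g).surjective (Sum.elim 0 y)
    have := h u (Pi.single (.inl ()) 1)
    rw [bf_blk, bf_blk, h5 u, h5, ← glRho_apply g u, hu, ← h3] at this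
    simp only [Pi.single_eq_same, Sum.elim_comp_inr] at this
    rw [single_inl_comp, show Cfsg.sympForm m K (u ∘ .inr) 0 = 0 by simp [Cfsg.sympForm]] at this
    linear_combination this
  have h7 := eq_blk (g := g.1) fun i => by simpa using congrFun h6 i
  rw [funext h4] at h7
  refine ⟨_, _, h7, h3, fun x y => ?_⟩
  have := h (Sum.elim 0 x) (Sum.elim 0 y)
  rw [h7, blk_mulVec, blk_mulVec] at this
  simpa [bf_blk] using this

variable [Finite K]

theorem exists_sq_dot (h2 : (2 : K) = 0) {f : (ι → K) → K} (h1 : ∀ x y, f (x + y) = f x + f y)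
    (h3 : ∀ (c : K) x, f (c • x) = c ^ 2 * f x) : ∃ s, ∀ u, f u = (u ⬝ᵥ s) ^ 2 := by
  choose s hs using fun i => exists_sq_of_two_eq_zero h2 (f (Pi.single i 1))
  refine ⟨s, fun u => ?_⟩
  induction u using Pi.single_induction with
  | zero => simpa using h3 0 0
  | add u v a b => rw [h1, a, b, add_dotProduct]; linear_combination -(u ⬝ᵥ s) * (v ⬝ᵥ s) * h2
  | single i x => rw [← mul_one x, ← smul_eq_mul x, Pi.single_smul, h3, ← hs]; simp [mul_pow]

theorem pq_odd_two (h2 : (2 : K) = 0) (m : ℕ) :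
    Nonempty (Cfsg.projQuot (Cfsg.Geo.similarityGroup (bf (blk 1 0 (J (Fin m) K)))) ≃*
      Cfsg.PGO K (Cfsg.quadFormOdd m K)) := by
  have hp : ∀ {D : Matrix _ _ K} {c : K} {r}, (∀ x, (r ⬝ᵥ x) ^ 2 + Cfsg.quadFormPlus m K (D *ᵥ x) =
      c * Cfsg.quadFormPlus m K x) → ∀ x y, Cfsg.sympForm m K (D *ᵥ x) (D *ᵥ y) = c * Cfsg.sympForm m K x y := by
    intro D c r h x y
    have a := (plusForm m K).Q_add x y
    have b := (plusForm m K).Q_add (D *ᵥ x) (D *ᵥ y)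
    have := h (x + y)
    rw [← mulVec_add] at b
    simp only [plusForm_Q, ← symp_symm h2] at a b
    rw [dotProduct_add] at this
    linear_combination this - h x - h y + c * a - b - (r ⬝ᵥ x) * (r ⬝ᵥ y) * h2
  let Θ : Cfsg.Geo.quadSimilarityGroup (Cfsg.quadFormOdd m K) →* Matrix _ _ K :=
    { toFun g := blk (g.1.1 (.inl ()) (.inl ())) 0 g.1.1.toBlocks₂₂
      map_one' := by ext (i | i) (j | j) <;> simp [blk, toBlocks₂₂, one_apply]
      map_mul' := by
        rintro ⟨g, c, hg⟩ ⟨g', c', hg'⟩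
        obtain ⟨a, r, D, h, -⟩ := quad_blk h2 hg
        obtain ⟨a', r', D', h', -⟩ := quad_blk h2 hg'
        change blk ((g.1 * g'.1) _ _) 0 (g.1 * g'.1).toBlocks₂₂ = blk (g.1 _ _) _ g.1.toBlocks₂₂ *
          blk (g'.1 _ _) _ g'.1.toBlocks₂₂
        rw [h, h', blk_mul, blk_mul]
        simp [blk] }
  have hΘ : ∀ {g a r D}, g.1.1 = blk a r D → Θ g = blk a 0 D := fun {g a r D} h => by
    change blk _ _ _ = _
    rw [h]; simp [blk]
  let Θ' := Θ.toHomUnits.codRestrict (Cfsg.Geo.similarityGroup (bf (blk 1 0 (J (Fin m) K)))) (by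
    rintro ⟨g, c, hg⟩
    obtain ⟨a, r, D, h, h3, h4⟩ := quad_blk h2 hg
    refine ⟨c, fun u v => ?_⟩
    rw [MonoidHom.coe_toHomUnits, hΘ h, blk_mulVec, blk_mulVec, bf_blk, bf_blk, Sum.elim_comp_inr,
      Sum.elim_comp_inr, hp h4, ← h3]
    simp only [Sum.elim_inl, zero_dotProduct]
    ring)
  have hs : ∀ g c, (Θ' g).1 = GeneralLinearGroup.scalar _ c ↔ g.1 = GeneralLinearGroup.scalar _ c := by
    rintro ⟨g, c, hg⟩ d
    obtain ⟨a, r, D, h, h3, h4⟩ := quad_blk h2 hg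
    rw [Units.ext_iff, Units.ext_iff, scalar_eq_blk]
    change Θ _ = _ ↔ _
    refine ⟨fun h5 => ?_, fun h5 => hΘ h5⟩
    obtain ⟨rfl, -, rfl⟩ := blk_inj ((hΘ h).symm.trans h5)
    rw [h, show r = 0 from funext fun i => ?_]
    have := h4 (Pi.single i 1)
    rw [smul_mulVec, one_mulVec, ← plusForm_Q, Q_smul, h3, plusForm_Q] at this
    simpa using this
  refine (projQuot_equiv (MulEquiv.ofBijective Θ' ⟨(injective_iff_map_eq_one _).2 fun g h =>
    Subtype.ext (((hs g 1).1 (by rw [h, map_one]; rfl)).trans (map_one _)), ?_⟩)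
    fun g => exists_congr (hs g)).map MulEquiv.symm
  rintro ⟨g, c, hg⟩
  obtain ⟨a, D, h, h3, h4⟩ := bil_blk h2 hg
  obtain ⟨r, hr⟩ := exists_sq_dot h2 (f := fun x => c * (plusForm m K).Q x - (plusForm m K).Q (D *ᵥ x))
    (fun x y => by rw [mulVec_add, Q_add, Q_add, ← symp_symm h2, ← symp_symm h2, h4]; ring)
    fun a x => by rw [mulVec_smul, Q_smul, Q_smul]; ring
  have h5 : (blk a r D).det ≠ 0 := by rw [det_blk, ← det_blk a 0, ← h]; exact g.det_ne_zero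
  refine ⟨⟨GeneralLinearGroup.mkOfDetNeZero _ h5, c, fun v => ?_⟩, Subtype.ext (Units.ext
    ((hΘ rfl).trans h.symm))⟩
  have := hr (v ∘ .inr)
  change Cfsg.quadFormOdd m K (blk a r D *ᵥ v) = _
  rw [blk_mulVec]
  change (a * _ + _) ^ 2 + Cfsg.quadFormPlus m K (D *ᵥ (v ∘ .inr)) = c * (_ + Cfsg.quadFormPlus m K (v ∘ .inr))
  rw [dotProduct_comm, plusForm_Q, plusForm_Q] at this
  linear_combination -this + v (.inl ()) ^ 2 * h3 + a * v (.inl ()) * (r ⬝ᵥ (v ∘ .inr)) * h2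

theorem pq_isom_two [Nonempty ι] (h2 : (2 : K) = 0) {N : Matrix ι ι K} (hN : N.det ≠ 0) {H : Type*} [Group H]
    (θ : H →* GL ι K) (hθ : Function.Injective θ) (h : ∀ g, Cg (bf N) (bf N) g 1 ↔ ∃ s, θ s = g) :
    Nonempty (Cfsg.projQuot (Cfsg.Geo.similarityGroup (bf N)) ≃* H) := by
  refine ⟨(MulEquiv.ofBijective ((QuotientGroup.mk' _).comp (θ.codRestrict
    (Cfsg.Geo.similarityGroup (bf N)) fun s => ⟨1, (h _).2 ⟨s, rfl⟩⟩))
    ⟨(injective_iff_map_eq_one _).2 fun s hs => ?_, fun x => ?_⟩).symm⟩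
  · obtain ⟨c, hc⟩ := mem_scalars_iff'.1 (mem_subgroupOf.1 ((QuotientGroup.eq_one_iff _).1 hs))
    obtain ⟨i, j, h1⟩ := hent hN
    have h3 := (h _).2 ⟨s, hc⟩ (Pi.single i 1) (Pi.single j 1)
    have h4 := Cg.scalar (N := N) (N' := N) (m := 1) (μ := 1) (fun u v => by simp) c
      (Pi.single i 1) (Pi.single j 1)
    rw [mul_one, h3, bf_single] at h4
    obtain rfl : c = 1 := Units.ext (eq_of_sq_two h2 (by simpa using (mul_right_cancel₀ h1 h4).symm))
    exact hθ (hc.trans ((map_one _).trans (map_one _).symm))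
  · obtain ⟨⟨g, μ, hg⟩, rfl⟩ := QuotientGroup.mk_surjective x
    obtain ⟨a, ha⟩ := exists_sq_of_two_eq_zero h2 ((μ⁻¹ : Kˣ) : K)
    have h0 : a ≠ 0 := by rintro rfl; exact μ⁻¹.ne_zero (by simpa using ha.symm)
    have h1 := Cg.scalar hg (Units.mk0 a h0)
    rw [show Units.mk0 a h0 ^ 2 = μ⁻¹ from Units.ext ha, inv_mul_cancel] at h1
    obtain ⟨s, hs⟩ := (h _).1 h1
    refine ⟨s, (QuotientGroup.eq.2 (mem_subgroupOf.2 (mem_scalars_iff'.2 ⟨Units.mk0 a h0, ?_⟩))).symm⟩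
    change g⁻¹ * θ s = _
    rw [hs, scalar_comm, inv_mul_cancel_left]

theorem class_two (h2 : (2 : K) = 0) {N : Matrix ι ι K} (hN : Gd N) :
    (∀ m, Fintype.card ι = 2 * m + 1 → Sm (bf N) (bf (blk 1 0 (J (Fin m) K)))) ∧
    ∀ m, Fintype.card ι = 2 * m → ∀ w₀ ≠ 0, Sm (bf N) (Cfsg.sympForm m K) ∨
      Sm (bf N) (bf (J (Fin m) K * Cfsg.sympTransvection m w₀ 1)) := by
  have hs : ∀ u v, bf N u v = bf N v u := fun u v => by rw [← bf_transpose, hN.symm_two h2]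
  obtain ⟨s, h1⟩ := exists_sq_dot h2 (f := fun u => bf N u u)
    (fun x y => by rw [bf_add, hs x, hs y, bf_add, bf_add, hs y x]; linear_combination bf N x y * h2)
    fun c x => by rw [bf_smul_left, hs, bf_smul_left]; ring
  obtain ⟨w, hw⟩ := (glRho (GeneralLinearGroup.mkOfDetNeZero N hN.1)).surjective s
  have h3 : ∀ u, bf N u w = u ⬝ᵥ s := fun u => congrArg (u ⬝ᵥ ·) hw
  let A := N + vecMulVec s s
  have h4 : ∀ u v, bf A u v = bf N u v + u ⬝ᵥ s * v ⬝ᵥ s := fun u v => by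
    simp [bf, A, add_mulVec, vecMulVec_mulVec, dotProduct_comm s v, mul_comm]
  have h5 : ∀ u, bf A u u = 0 := fun u => by rw [h4, h1]; linear_combination (u ⬝ᵥ s) ^ 2 * h2
  have h6 : w ⬝ᵥ s = 0 ∨ w ⬝ᵥ s = 1 := by
    have := (h3 w).symm.trans (h1 w)
    rw [or_comm, ← mul_right_eq_self₀, ← sq]
    exact this.symm
  rcases h6 with h6 | h6
  · have h7 : A.det ≠ 0 := fun h => by
      obtain ⟨v, hv, h7⟩ := exists_mulVec_eq_zero_iff.2 h
      have h8 : ∀ u, bf N u v + u ⬝ᵥ s * v ⬝ᵥ s = 0 := fun u => by rw [← h4, bf, h7, dotProduct_zero]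
      have h9 : v ⬝ᵥ s = 0 := by simpa [h6, hs w, h3] using h8 w
      exact hv (bf_nondeg hN.1 fun u => by simpa [h9] using h8 u)
    refine ⟨fun m hm => absurd (alt_even h7 h5) (by simp [hm]), fun m hm w₀ h0 => ?_⟩
    rcases eq_or_ne w 0 with rfl | h8
    · exact Or.inl (sm_sp hN.1 (fun v => by rw [h1, ← h3]; simp [bf]) hm)
    obtain ⟨j, hj⟩ := Nondeg.sp_exists_isom (S := altF h5) (fun v hv => bf_nondeg h7 hv) (finrank_of_card hm)
    obtain ⟨g, hg, h9⟩ := (spForm_nondeg m).witt_vec (j.map_ne_zero_iff.2 h8) h0 (spParam_eq _ _)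
    have h10 : ∀ u v, (spForm m K).B (g (j u)) (g (j v)) = bf A u v := fun u v => (isom_B hg _ _).trans (hj.B u v)
    refine Or.inr ⟨j.trans g, 1, one_ne_zero, fun u v => ?_⟩
    rw [bf, ← mulVec_mulVec, sympTransvection_mulVec, tv_apply]
    change (spForm m K).B (g (j u)) (g (j v) + (1 * (spForm m K).B (g (j v)) w₀) • w₀) = _
    rw [add_right, smul_right, ← h9, h10, h10, h10, h4, h4, h4, h3, h3, h6, spParam_σ]
    linear_combination u ⬝ᵥ s * v ⬝ᵥ s * h2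
  let l : (ι → K) →ₗ[K] K := dotProductBilin K K s
  have hl : ∀ u, l u = u ⬝ᵥ s := fun u => dotProduct_comm _ _
  have h7 : ∀ u, bf A u w = 0 := fun u => by rw [h4, h3, h6]; linear_combination u ⬝ᵥ s * h2
  let π : (ι → K) →ₗ[K] LinearMap.ker l := (LinearMap.id - l.smulRight w).codRestrict _ fun u => by
    simp [hl, h6]
  have h8 : ∀ u v, ((altF h5).res (LinearMap.ker l)).B (π u) (π v) = bf A u v := fun u v => by
    change (altF h5).B (u - l u • w) (v - l v • w) = (altF h5).B u v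
    have a : ∀ u, (altF h5).B u w = 0 := h7
    rw [sub_right, smul_right, a, sub_left, smul_left, sp_skew _ v w, a]
    simp
  have h9 : ((altF h5).res (LinearMap.ker l)).Nondeg := fun x hx => Subtype.ext (bf_nondeg hN.1 fun u => by
    have a := h8 u x
    have b : x.1 ⬝ᵥ s = 0 := (hl _).symm.trans x.2
    rw [show π x = x from Subtype.ext (by simp [π, hl, b]), hx, h4, b] at a
    simpa using a.symm)
  have h10 : finrank K (LinearMap.ker l) + 1 = Fintype.card ι := by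
    have := l.finrank_range_add_finrank_ker
    rw [LinearMap.range_eq_top.2 fun c => ⟨c • w, by simp [hl, h6]⟩] at this
    simpa [add_comm] using this
  refine ⟨fun m hm => ?_, fun m hm => absurd h9.sp_even (by rw [Nat.even_iff]; omega)⟩
  obtain ⟨j, hj⟩ := h9.sp_exists_isom (m := m) (by omega)
  let f : (ι → K) →ₗ[K] (Unit ⊕ (Fin m ⊕ Fin m) → K) :=
    { toFun u := Sum.elim (fun _ => l u) (j (π u))
      map_add' u v := by ext (i | i) <;> simp
      map_smul' c v := by ext (i | i) <;> simp }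
  have h11 : ∀ u v, bf (blk 1 0 (J (Fin m) K)) (f u) (f v) = bf N u v := fun u v => by
    rw [bf_blk]
    change l u * l v + (spForm m K).B (j (π u)) (j (π v)) = _
    rw [hj.B, h8, h4, hl, hl]
    linear_combination u ⬝ᵥ s * v ⬝ᵥ s * h2
  exact ⟨f.linearEquivOfInjective ((injective_iff_map_eq_zero _).2 fun v hv => bf_nondeg hN.1 fun u => by
    rw [← h11, hv]; simp [bf]) (by simp [hm]; omega), 1, one_ne_zero, fun u v => (h11 u v).trans (one_mul _).symm⟩

theorem exists_sm {ι' : Type} [Fintype ι'] [DecidableEq ι'] {N' : Matrix ι' ι' K} (h : Gd N')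
    (hc : Fintype.card ι = Fintype.card ι') : ∃ N : Matrix ι ι K, Gd N ∧ Sm (bf N) (bf N') := by
  obtain ⟨e⟩ := Fintype.card_eq.1 hc
  refine ⟨N'.submatrix e e, ⟨by simpa using h.1, h.2.imp (fun h => by rw [transpose_submatrix, h])
    fun h => by rw [transpose_submatrix, h]; rfl⟩, LinearEquiv.funCongrLeft K K e.symm, 1, one_ne_zero,
    fun u v => ?_⟩
  rw [one_mul, bf, bf, submatrix_mulVec_equiv, ← comp_equiv_symm_dotProduct]
  rfl

namespace GrS

variable {X : Type*} [Group X] {G I : Subgroup X} {A : X → Prop} {R : X → Matrix ι ι K → Prop}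
  {F : Type*} [Field F] {φ : K →+* F} {C : Subgroup Fˣ} {P : Fˣ → Kˣ → Prop}
  (H : GrS G I A R φ C P)
include H

theorem odd_class {m : ℕ} (hm : Fintype.card ι = 2 * m + 1) {γ γ' : X} (h : A γ) (ho : orderOf γ = 2)
    (h' : A γ') (ho' : orderOf γ' = 2) :
    Nonempty (↥(G ⊓ centralizer {γ}) ≃* Cfsg.PGO K (Cfsg.quadFormOdd m K)) ∧ Cfsg.IsConjUnder G γ γ' := by
  obtain ⟨N, hN, hR⟩ := H.ex γ h ho
  obtain ⟨N', hN', hR'⟩ := H.ex γ' h' ho'
  by_cases h2 : (2 : K) = 0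
  · obtain ⟨e⟩ := H.cent' hR ((class_two h2 hN).1 m hm)
    obtain ⟨e'⟩ := pq_odd_two h2 m
    exact ⟨⟨e.trans e'⟩, (H.conj hR hR').2 (((class_two h2 hN).1 m hm).trans ((class_two h2 hN').1 m hm).symm)⟩
  · exact ⟨H.cent_o hR (sm_odd hN h2 hm) (oddForm_Q m) h2,
      (H.conj hR hR').2 ((sm_odd hN h2 hm).trans (sm_odd hN' h2 hm).symm)⟩

theorem two_classes (h2 : (2 : K) = 0) {m : ℕ} (hm : 1 ≤ m) (hc : Fintype.card ι = 2 * m) :
    ∃ (γ₁ γ₃ : X) (t : symplecticGroup (Fin m) K), Cfsg.IsTransvection t.1 ∧ A γ₁ ∧ orderOf γ₁ = 2 ∧ A γ₃ ∧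
      orderOf γ₃ = 2 ∧ ¬ Cfsg.IsConjUnder G γ₁ γ₃ ∧ (∀ γ, A γ → orderOf γ = 2 →
        Cfsg.IsConjUnder G γ₁ γ ∨ Cfsg.IsConjUnder G γ₃ γ) ∧
      Nonempty (↥(G ⊓ centralizer {γ₁}) ≃* symplecticGroup (Fin m) K) ∧
      Nonempty (↥(G ⊓ centralizer {γ₃}) ≃* centralizer ({t} : Set (symplecticGroup (Fin m) K))) := by
  have : Nonempty (Fin m ⊕ Fin m) := ⟨.inl ⟨0, hm⟩⟩
  have c1 : Fintype.card ι = Fintype.card (Fin m ⊕ Fin m) := by simp; omega
  let w : Fin m ⊕ Fin m → K := 1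
  have hw : w ≠ 0 := one_ne_zero
  let t : symplecticGroup (Fin m) K := ⟨_, sympTransvection_mem m w 1⟩
  have h0 : ∀ x, Cfsg.sympForm m K x x = 0 := (spForm m K).sp_self
  have h1 : ∀ u v, bf (J (Fin m) K * t.1) u v = Cfsg.sympForm m K u (t.1 *ᵥ v) := fun u v => by
    rw [bf, ← mulVec_mulVec]; rfl
  have h3 : ∀ u v, bf (J (Fin m) K * t.1) u v = Cfsg.sympForm m K u v +
      Cfsg.sympForm m K u w * Cfsg.sympForm m K v w := fun u v => by
    rw [h1, sympTransvection_mulVec, tv_apply, ← spForm_B, add_right, smul_right, spParam_σ]; ring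
  have hJ : (J (Fin m) K).det ≠ 0 := (isUnit_det_J _ _).ne_zero
  have h4 : (J (Fin m) K * t.1).det ≠ 0 := by
    rw [det_mul]; exact mul_ne_zero hJ (SymplecticGroup.symplectic_det t.2).ne_zero
  obtain ⟨N₁, a1, b1⟩ := exists_sm (ι := ι) (N' := J (Fin m) K) ⟨hJ, Or.inr (J_transpose _ _)⟩ c1
  obtain ⟨N₃, a3, b3⟩ := exists_sm (ι := ι) (N' := J (Fin m) K * t.1) ⟨h4, Or.inl (bf_ext fun u v => by
    rw [bf_transpose, h3, h3, symp_symm h2 v, symp_symm h2 u v, (plusForm m K).orth_symm, mul_comm])⟩ c1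
  obtain ⟨γ₁, d1, e1, f1⟩ := H.ex' _ a1
  obtain ⟨γ₃, d3, e3, f3⟩ := H.ex' _ a3
  have hθ : Function.Injective (Cfsg.spToMat m K).toHomUnits := fun a b h =>
    Subtype.ext (congrArg Units.val h)
  obtain ⟨x, hx⟩ : ∃ x, Cfsg.sympForm m K x w ≠ 0 := by
    by_contra! h
    exact hw (symp_nondeg h)
  refine ⟨γ₁, γ₃, t, ⟨?_, ?_⟩, d1, e1, d3, e3, fun h => ?_, fun γ h ho => ?_, ?_, ?_⟩
  · simp only [t, Cfsg.sympTransvection, one_smul, add_sub_cancel_left]
    refine le_antisymm (rank_vecMulVec_le _ _) (Nat.pos_of_ne_zero fun h => hx ?_)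
    rw [rank, Submodule.finrank_eq_zero, LinearMap.range_eq_bot, ← mulVecLin_zero, ← toLin'_apply', ← toLin'_apply',
      toLin'.injective.eq_iff, vecMulVec_eq_zero] at h
    rw [Cfsg.sympForm, h.resolve_left hw, dotProduct_zero]
  · simp only [t, Cfsg.sympTransvection, one_smul, add_sub_cancel_left]
    rw [vecMulVec_mul_vecMulVec, dotProduct_comm, show w ⬝ᵥ J (Fin m) K *ᵥ w = 0 from h0 w]
    simp
  · obtain ⟨j, c, hc, h⟩ := (b3.symm.trans ((H.conj f1 f3).1 h).symm).trans b1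
    have := (h0 (j x)).symm.trans (h x x)
    rw [h3, h0, zero_add] at this
    exact mul_ne_zero hc (mul_ne_zero hx hx) this.symm
  · obtain ⟨N, hN, hR⟩ := H.ex γ h ho
    exact ((class_two h2 hN).2 m hc w hw).imp (fun h => (H.conj f1 hR).2 (b1.trans h.symm))
      fun h => (H.conj f3 hR).2 (b3.trans h.symm)
  · obtain ⟨e⟩ := H.cent' f1 b1
    obtain ⟨e'⟩ := pq_isom_two h2 hJ _ hθ fun g => ⟨fun h => ⟨⟨g.1, mem_symplecticGroup_iff.2 fun u v =>
      (h u v).trans (one_mul _)⟩, Units.ext rfl⟩, by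
        rintro ⟨s, rfl⟩ u v
        exact (mem_symplecticGroup_iff.1 s.2 u v).trans (one_mul _).symm⟩
    exact ⟨e.trans e'⟩
  obtain ⟨e⟩ := H.cent' f3 b3
  refine (pq_isom_two h2 h4 ((Cfsg.spToMat m K).toHomUnits.comp (centralizer {t}).subtype)
    (hθ.comp Subtype.val_injective) fun g => ⟨fun h => ?_, ?_⟩).map e.trans
  · have h5 : ∀ u, Cfsg.sympForm m K (g.1 *ᵥ u) w = Cfsg.sympForm m K u w := fun u => eq_of_sq_two h2 (by
      simpa [h3, h0, sq] using h u u)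
    have h6 : g.1 ∈ symplecticGroup (Fin m) K := mem_symplecticGroup_iff.2 fun u v => by
      simpa [h3, h5] using h u v
    refine ⟨⟨⟨g.1, h6⟩, mem_centralizer_singleton_iff.2 (spHom_inj m (LinearEquiv.ext fun v =>
      sub_eq_zero.1 (spForm_nondeg m _ fun y => ?_)))⟩, Units.ext rfl⟩
    obtain ⟨u, rfl⟩ := (glRho g).surjective y
    have := h u v
    rw [h1, h1, Units.val_one, one_mul, ← mem_symplecticGroup_iff.1 h6 u] at this
    rw [sub_right, spHom_apply, spHom_apply, sub_eq_zero]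
    simpa [spForm_B, glRho_apply] using this.symm
  · rintro ⟨⟨s, hs⟩, rfl⟩ u v
    have h5 : t.1 * s.1 = s.1 * t.1 := congrArg Subtype.val (mem_centralizer_singleton_iff.1 hs).symm
    rw [h1, h1, Units.val_one, one_mul, ← mem_symplecticGroup_iff.1 s.2 u, mulVec_mulVec _ s.1, ← h5,
      ← mulVec_mulVec]
    rfl

end GrS

end CfsgH8
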