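import Cfsg.Agent.H8.LB7

/-!
Graph involutions of even-dimensional orthogonal groups: splitting of classes.
-/

set_option autoImplicit false

namespace CfsgH8

open Subgroup Module Matrix CfsgH5 CfsgH5.Form

variable {ι : Type} [Fintype ι] [DecidableEq ι] [Nonempty ι] {F : Type*} [Field F] [Finite F]
  {S : Form (orthParam F) (ι → F)} (hS : S.Nondeg) (h2 : (2 : F) ≠ 0)
include hS h2

theorem graph_mult (hG : GenC F ι) {k : ℕ} (hk : Fintype.card ι = 2 * k) {g : Sim S} {c : Fˣ}
    (hg : (g : GL ι F) * g = GeneralLinearGroup.scalar ι c) (h1 : sdk hS hG hk g ≠ 1) :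
    (simMult hS g : F) = c := by
  have h4 : ∀ u v, S.B (glRho (g : GL ι F) u) (glRho (g : GL ι F) v) = simMult hS g * S.B u v :=
    (simMult_spec hS g).B
  have h5 : ∀ v, glRho (g : GL ι F) (glRho (g : GL ι F) v) = (c : F) • v := fun v => by
    rw [← LinearEquiv.mul_apply, ← map_mul, hg, glRho_scalar]
  have h6 : (simMult hS g : F) ^ 2 = c ^ 2 := by
    have := simMult_scalar_o hS c
    rw [show (⟨_, scalar_mem_Sim c⟩ : Sim S) = g * g from Subtype.ext hg.symm, map_mul] at this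
    simpa [pow_two] using congrArg Units.val this
  refine (sq_eq_sq_iff_eq_or_eq_neg.1 h6).resolve_right fun h => h1 (sdk_of_det hS hG hk h2 ?_)
  rw [det_skew hS h2 (c := c) (by simpa [smul_one_eq_diagonal] using congrArg Units.val hg)
    (fun u v => mul_left_cancel₀ c.ne_zero (by
      have := h4 (glRho (g : GL ι F) u) v
      rw [h5, smul_left, h, glRho_apply, glRho_apply] at this
      linear_combination this)) hk, h]
  simp

omit [Nonempty ι] [Finite F] [DecidableEq ι] in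
theorem eigen_split {g : (ι → F) ≃ₗ[F] (ι → F)} {d : F} (hd : d ≠ 0) (h1 : ∀ v, g (g v) = d ^ 2 • v)
    (hB : ∀ u v, S.B (g u) v = S.B u (g v)) : ∃ U U' : Submodule F (ι → F), (∀ v, v ∈ U ↔ g v = d • v) ∧
      (∀ v, v ∈ U' ↔ g v = (-d) • v) ∧ IsCompl U U' ∧ (S.res U).Nondeg ∧ (S.res U').Nondeg ∧
      LinearMap.det (g : (ι → F) →ₗ[F] (ι → F)) = d ^ finrank F U * (-d) ^ finrank F U' := by
  let U := Module.End.eigenspace g.toLinearMap d
  let U' := Module.End.eigenspace g.toLinearMap (-d)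
  have hU : ∀ v, v ∈ U ↔ g v = d • v := fun v => Module.End.mem_eigenspace_iff
  have hU' : ∀ v, v ∈ U' ↔ g v = (-d) • v := fun v => Module.End.mem_eigenspace_iff
  clear_value U U'
  have h0 := mul_ne_zero h2 hd
  have hc : IsCompl U U' := by
    refine ⟨Submodule.disjoint_def.2 fun v a b => smul_right_injective _ h0 ?_,
      codisjoint_iff.2 (eq_top_iff.2 fun v _ => Submodule.mem_sup.2
        ⟨(2 * d)⁻¹ • (d • v + g v), ?_, (2 * d)⁻¹ • (d • v - g v), ?_, ?_⟩)⟩
    · rw [hU] at a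
      rw [hU'] at b
      linear_combination (norm := module) b - a
    · rw [hU, map_smul, map_add, map_smul, h1]; module
    · rw [hU', map_smul, map_sub, map_smul, h1]; module
    · linear_combination (norm := module) inv_mul_cancel₀ h0 • v
  have ho : ∀ u ∈ U, ∀ u' ∈ U', S.B u u' = 0 := fun u hu u' hu' => mul_left_cancel₀ h0 (by
    have := hB u u'
    rw [(hU u).1 hu, (hU' u').1 hu', smul_left, smul_right] at this
    simp only [orthParam_σ] at this
    linear_combination this)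
  refine ⟨U, U', hU, hU', hc, nondeg_of_compl hc ho hS,
    nondeg_of_compl hc.symm (fun u hu u' hu' => by rw [orth_symm, ho _ hu' _ hu]) hS, ?_⟩
  have h4 : g = blockHom hc (LinearEquiv.smulOfNeZero F U d hd, LinearEquiv.smulOfNeZero F U' (-d)
      (neg_ne_zero.2 hd)) := LinearEquiv.toLinearMap_injective (isCompl_ext hc (fun u hu => ((hU u).1 hu).trans
      (blockHom_left hc (LinearEquiv.smulOfNeZero F U d hd, _) ⟨u, hu⟩).symm) fun u hu => ((hU' u).1 hu).trans
      (blockHom_right hc (_, LinearEquiv.smulOfNeZero F U' (-d) (neg_ne_zero.2 hd)) ⟨u, hu⟩).symm)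
  have h5 : ∀ (W : Submodule F (ι → F)) (a : F) (ha : a ≠ 0), LinearMap.det
      (LinearEquiv.smulOfNeZero F W a ha : W →ₗ[F] W) = a ^ finrank F W := fun W a ha => by
    rw [show (LinearEquiv.smulOfNeZero F W a ha : W →ₗ[F] W) = a • LinearMap.id from rfl, LinearMap.det_smul]
    simp
  rw [h4, det_blockHom, h5, h5]

omit [Nonempty ι] in
theorem quad_data {g : (ι → F) ≃ₗ[F] (ι → F)} {c : F} (hc : ∀ x : F, x ^ 2 ≠ c + 0 * x)
    (h1 : ∀ v, g (g v) = c • v) (hB : ∀ u v, S.B (g u) v = S.B u (g v)) {k : ℕ}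
    (hk : Fintype.card ι = 2 * k) (h3 : 2 ≤ k) : (∃ u, S.Q u ≠ 0 ∧ S.B (g u) u = 0) ∧
      LinearMap.det (g : (ι → F) →ₗ[F] (ι → F)) = (-c) ^ k := by
  have := Fact.mk hc
  let ψ := QuadraticAlgebra.lift (R := F) (a := c) (b := 0) ⟨g.toLinearMap, LinearMap.ext fun v => by simp [h1]⟩
  letI := Module.compHom (ι → F) ψ.toRingHom
  have hz : ∀ (z : QuadraticAlgebra F c 0) (v : ι → F), z • v = z.re • v + z.im • g v := fun _ _ => rfl
  have : IsScalarTower F (QuadraticAlgebra F c 0) (ι → F) := ⟨fun a z v => by simp [hz, smul_smul]⟩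
  have : Finite (QuadraticAlgebra F c 0) := Module.finite_of_finite F
  have : FiniteDimensional (QuadraticAlgebra F c 0) (ι → F) := Module.Finite.of_restrictScalars_finite F _ _
  have hd : finrank (QuadraticAlgebra F c 0) (ι → F) = k := by
    have := Module.finrank_mul_finrank F (QuadraticAlgebra F c 0) (ι → F)
    rw [QuadraticAlgebra.finrank_eq_two, finrank_of_card hk] at this
    omega
  have h2' := (two_ne_iff (algebraMap F (QuadraticAlgebra F c 0))).1 h2
  let β : Form (orthParam (QuadraticAlgebra F c 0)) (ι → F) :=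
    ofSym (fun u v => ⟨S.B (g u) v, S.B u v⟩) (fun x y z => by ext <;> simp)
      (fun a x z => by ext <;> simp [hz, h1, mul_assoc, mul_left_comm])
      (fun x y => QuadraticAlgebra.ext ((hB y x).trans (S.orth_symm _ _)) (S.orth_symm _ _)) h2'
  have hβ : ∀ u v, β.B u v = ⟨S.B (g u) v, S.B u v⟩ := fun _ _ => rfl
  clear_value β
  have hn : β.Nondeg := fun x hx => hS x fun y => by simpa [hβ] using congrArg QuadraticAlgebra.im (hx y)
  constructor
  · obtain ⟨u, hu⟩ := hn.exists_Q_eq (by omega) QuadraticAlgebra.omega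
    have h4 := β.self _ _ (q_eq_Q β u)
    rw [hu, hβ] at h4
    refine ⟨u, fun h => h2 ?_, by simpa using congrArg QuadraticAlgebra.re h4⟩
    have h5 := congrArg QuadraticAlgebra.im h4
    rw [S.self _ _ (q_eq_Q S u), h] at h5
    simpa [one_add_one_eq_two] using h5.symm
  · rw [show (g : (ι → F) →ₗ[F] (ι → F)) = ((QuadraticAlgebra.omega : QuadraticAlgebra F c 0) •
      LinearMap.id : (ι → F) →ₗ[QuadraticAlgebra F c 0] (ι → F)).restrictScalars F from LinearMap.ext fun v => by simp [hz],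
      LinearMap.det_restrictScalars, LinearMap.det_smul, hd, map_mul, map_pow,
      Algebra.norm_eq_matrix_det (QuadraticAlgebra.basis c 0), det_fin_two]
    simp [Algebra.leftMulMatrix_eq_repr_mul, QuadraticAlgebra.basis]

theorem graph_facts (hG : GenC F ι) {k : ℕ} (hk : Fintype.card ι = 2 * k) (h3 : 2 ≤ k) {g : Sim S} {c : Fˣ}
    (hg : (g : GL ι F) * g = GeneralLinearGroup.scalar ι c) (h1 : sdk hS hG hk g ≠ 1) :
    (∃ h ∈ OG S, dkG h = 1 ∧ spG S h = -1 ∧ h * g = g * h) ∧ (Even k → ∀ (M : Sim S) (z : Fˣ),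
      (M : GL ι F) * g = GeneralLinearGroup.scalar ι z * (g * M) → smu hS M = 1) := by
  have h4 := graph_mult hS h2 hG hk hg h1
  have h5 : ∀ v, glRho (g : GL ι F) (glRho (g : GL ι F) v) = (c : F) • v := fun v => by
    rw [← LinearEquiv.mul_apply, ← map_mul, hg, glRho_scalar]
  have hB : ∀ u v, S.B (glRho (g : GL ι F) u) v = S.B u (glRho (g : GL ι F) v) := fun u v =>
    mul_left_cancel₀ c.ne_zero (by
      have := (simMult_spec hS g).B (glRho (g : GL ι F) u) v
      rw [semiAct_inl, semiAct_inl, ← glRho_apply, ← glRho_apply, h5, smul_left, h4] at this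
      exact this.symm)
  have h8 := det_eq_sdk hS hG hk h2 g
  rw [(Int.units_eq_one_or _).resolve_left h1, h4, ← det_glRho] at h8
  have h6 : ∀ v, (g : GL ι F) * rfG S v = rfG S (glRho (g : GL ι F) v) * g := fun v => by
    rw [← mul_inv_eq_iff_eq_mul, ← conjG_inl]
    exact conjG_rf (simMult_spec hS g) v
  have h7 : ∀ {u v}, S.Q u ≠ 0 → S.Q v ≠ 0 → chi (S.Q u) * chi (S.Q v) = -1 →
      rfG S (glRho (g : GL ι F) u) * rfG S (glRho (g : GL ι F) v) = rfG S u * rfG S v →
      ∃ h ∈ OG S, dkG h = 1 ∧ spG S h = -1 ∧ h * g = g * h := fun {u v} a b c d =>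
    ⟨rfG S u * rfG S v, mul_mem (rfG_mem _) (rfG_mem _), by
      rw [dkG_mul hS hG (rfG_mem _) (rfG_mem _), dkG_rf hS a, dkG_rf hS b]; simp, by
      rw [spG_mul hS (rfG_mem _) (rfG_mem _), spG_rf hS a, spG_rf hS b, c], by
      rw [← mul_assoc, h6, mul_assoc _ _ (rfG S v), h6, ← mul_assoc, d]⟩
  by_cases hc : ∀ x : F, x ^ 2 ≠ c + 0 * x
  · obtain ⟨⟨u, a, b⟩, d⟩ := quad_data hS h2 hc h5 hB hk h3
    have e : S.Q (glRho (g : GL ι F) u) = c * S.Q u := h4 ▸ (simMult_spec hS g).Q u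
    refine ⟨h7 a (e ▸ mul_ne_zero c.ne_zero a) ?_ ?_, fun he => absurd (d.symm.trans h8) ?_⟩
    · rw [e, chi_mul c.ne_zero a, mul_left_comm, Int.units_mul_self, mul_one, chi_eq_neg_one_iff]
      rintro ⟨x, hx⟩
      exact hc x (by rw [hx]; ring)
    · rw [h5, rfG, rfG, rfG, rf_smul _ c.ne_zero, ← map_mul, ← map_mul, rf_comm b]
    · rw [he.neg_pow]
      intro h
      exact h2 (mul_right_cancel₀ (pow_ne_zero k c.ne_zero) (by push_cast at h; linear_combination h))
  push Not at hc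
  obtain ⟨d, hd⟩ := hc
  rw [zero_mul, add_zero] at hd
  have hd0 : d ≠ 0 := by rintro rfl; exact c.ne_zero (by simpa using hd.symm)
  obtain ⟨U, U', hU, hU', hc, n1, n2, h9⟩ := eigen_split hS h2 hd0 (hd ▸ h5) hB
  have h10 := Submodule.finrank_add_eq_of_isCompl hc
  rw [finrank_of_card hk] at h10
  constructor
  · obtain ⟨l, hl0, hl⟩ := exists_chi_eq_neg_one h2
    have : ∀ {W : Submodule F (ι → F)} {a : F}, a ≠ 0 → (∀ v, v ∈ W ↔ glRho (g : GL ι F) v = a • v) →
        (S.res W).Nondeg → 2 ≤ finrank F W → ∃ h ∈ OG S, dkG h = 1 ∧ spG S h = -1 ∧ h * g = g * h := by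
      intro W a ha b c d
      obtain ⟨u, hu⟩ := c.exists_Q_eq d 1
      obtain ⟨v, hv⟩ := c.exists_Q_eq d l
      replace hu : S.Q u = 1 := hu
      replace hv : S.Q v = l := hv
      refine h7 (hu ▸ one_ne_zero) (hv ▸ hl0) (by rw [hu, hv, hl]; simp) ?_
      rw [(b _).1 u.2, (b _).1 v.2, rfG, rfG, rf_smul _ ha, rf_smul _ ha]
      rfl
    by_cases h : 2 ≤ finrank F U
    · exact this hd0 hU n1 h
    · exact this (neg_ne_zero.2 hd0) hU' n2 (by omega)
  intro he M z hM
  have h11 : Odd (finrank F U') := by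
    by_contra h
    rw [(Nat.not_odd_iff_even.1 h).neg_pow, ← pow_add, h10, pow_mul, hd, h8] at h9
    exact h2 (mul_right_cancel₀ (pow_ne_zero k c.ne_zero) (by push_cast at h9; linear_combination -h9))
  have h12 : ∀ v, glRho (M : GL ι F) (glRho (g : GL ι F) v) =
      (z : F) • glRho (g : GL ι F) (glRho (M : GL ι F) v) := fun v => by
    rw [← LinearEquiv.mul_apply, ← map_mul, hM, map_mul, map_mul, LinearEquiv.mul_apply, glRho_scalar]; rfl
  have h13 : (z : F) * z = 1 := by
    have := h12 (glRho (g : GL ι F) 1)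
    rw [h5, h12 1, map_smul, map_smul, h5, smul_smul, smul_smul] at this
    have h0 : glRho (M : GL ι F) 1 ≠ 0 := by simp
    exact mul_right_cancel₀ c.ne_zero ((smul_left_injective F h0 this).symm.trans (one_mul _).symm)
  have h14 : ∀ {a : F} {v}, glRho (g : GL ι F) v = a • v →
      glRho (g : GL ι F) (glRho (M : GL ι F) v) = (z * a) • glRho (M : GL ι F) v := fun {a v} h => by
    rw [mul_smul, ← map_smul, ← h, h12, smul_smul, h13, one_smul]
  have h15 : ∀ {W W' : Submodule F (ι → F)}, (∀ v ∈ W, glRho (M : GL ι F) v ∈ W') →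
      finrank F W ≤ finrank F W' := fun {W W'} h => LinearMap.finrank_le_finrank_of_injective
    (f := (glRho (M : GL ι F)).toLinearMap.restrict h) fun a b hab =>
      Subtype.ext ((glRho (M : GL ι F)).injective (congrArg Subtype.val hab))
  rcases mul_self_eq_one_iff.1 h13 with h | h
  · have h16 : ∀ v ∈ U', glRho (M : GL ι F) v ∈ U' := fun v hv => (hU' _).2 (by
      rw [h14 ((hU' _).1 hv), h, one_mul])
    have h17 : IsIsom ((S.res U').scale (simMult hS M : F)) (S.res U') (LinearEquiv.ofInjectiveEndo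
        ((glRho (M : GL ι F)).toLinearMap.restrict h16) fun a b hab =>
        Subtype.ext ((glRho (M : GL ι F)).injective (congrArg Subtype.val hab))) :=
      ⟨fun x y => (simMult_spec hS M).B x y, fun x => (simMult_spec hS M).q x _ (q_eq_Q _ _)⟩
    have := h17.disc_eq
    rw [n2.disc_scale (Units.ne_zero _), right_eq_mul] at this
    rw [smu_apply]
    refine (Int.units_eq_one_or _).resolve_right fun h => ?_
    rw [h, h11.neg_one_pow] at this
    exact absurd this (by decide)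
  · have a := h15 (W := U) (W' := U') fun v hv => (hU' _).2 (by rw [h14 ((hU _).1 hv), h, neg_one_mul])
    have b := h15 (W := U') (W' := U) fun v hv => (hU _).2 (by rw [h14 ((hU' _).1 hv), h]; simp)
    obtain ⟨i, hi⟩ := he
    obtain ⟨j, hj⟩ := h11
    omega

theorem split_graph_o {Q : (ι → F) → F} (hQ : ∀ v, S.Q v = Q v) (h5 : 5 ≤ Fintype.card ι) {k : ℕ}
    (hk : Fintype.card ι = 2 * k) {g : Sim S} (h1 : sdk hS (genC_of h5) hk g ≠ 1)
    (hg : orderOf ((fsetup_o hQ hS h5).simPsi g) = 2) {n : ℕ}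
    (hn : Cfsg.splitClassCount ((fsetup_o hQ hS h5).psiP (genC_of h5) hk).range (Cfsg.Inn _)
      ((fsetup_o hQ hS h5).simPsi g) = n) : (n = 1 ∨ n = 2) ∧ (spG S (negG ι F) = 1 ∨ Even k → n = 2) := by
  have H := fsetup_o hQ hS h5
  have hG : GenC F ι := genC_of h5
  obtain ⟨e, f, hef⟩ := o_hyp hS h5
  have h4 : H.simPsi (g * g) = 1 := by rw [map_mul, ← sq, ← hg, pow_orderOf_eq_one]
  obtain ⟨c, hc⟩ := (H.simPsi_eq_one hef (by omega)).1 h4
  obtain ⟨⟨h, a1, a2, a3, a4⟩, a5⟩ := graph_facts hS h2 hG hk (by omega) hc h1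
  rw [split_plus_eq hQ hS h5] at hn
  rw [← hn, ← index_smu hS hG h2 hk]
  have h6 : ((smu hS).comp (sdk hS hG hk).ker.subtype).ker ≤ (KO hS hG).subgroupOf (sdk hS hG hk).ker ⊔
      (centralizer {H.simPsi g}).comap (H.psiP hG hk) := by
    intro x hx
    by_cases h7 : x.1 ∈ KO hS hG
    · exact mem_sup_left h7
    by_cases h8 : spG S (negG ι F) = 1
    swap
    · exact absurd ((mem_KO_klein hS hG h2 hk h8).2 ⟨hx, x.2⟩) h7
    let y : (sdk hS hG hk).ker := ⟨⟨h, OG_le_Sim a1⟩, (sdk_OG hS hG hk a1).trans a2⟩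
    rw [← inv_mul_cancel_right x y]
    refine mul_mem_sup (mul_mem_KO_d8 hS hG h2 hk h8 hx (smu_OG hS a1) x.2 y.2 h7 fun h9 => ?_)
      (mem_centralizer_singleton_iff.2 ?_)
    · have := ((mem_KO_d8 hS hG h2 hk h8 (c := 1) a1 (by simp [y])).1 h9).2
      rw [a3] at this
      exact absurd this (by decide)
    · change H.simPsi y * _ = _ * H.simPsi y
      rw [← map_mul, ← map_mul]
      exact congrArg _ (Subtype.ext a4)
  refine ⟨?_, fun h7 => congrArg index (le_antisymm (sup_le (fun x hx => smu_of_KO hS hG hx)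
    fun x hx => ?_) h6)⟩
  · have := index_dvd_of_le h6
    rw [index_smu hS hG h2 hk] at this ⊢
    exact (Nat.dvd_prime Nat.prime_two).1 this
  have h8 : H.simPsi (x * g * (g * x)⁻¹) = 1 := by
    rw [map_mul, map_inv, map_mul, map_mul, mul_inv_eq_one]
    exact mem_centralizer_singleton_iff.1 hx
  obtain ⟨z, hz⟩ := (H.simPsi_eq_one hef (by omega)).1 h8
  rcases h7 with h7 | h7
  swap
  · exact a5 h7 x z (mul_inv_eq_iff_eq_mul.1 hz)
  obtain ⟨v, hv⟩ := hS.exists_Q_ne
  obtain ⟨θ, -, b1, -, b2, b3⟩ := exists_theta_d8 hS hG h2 hk h7 hv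
  have h9 := (b1 _).2 ((o_mem_Inn' hQ hS h5 _).1 (h8 ▸ one_mem _))
  have h10 : sdk hS hG hk x = 1 := x.2
  rw [map_mul, map_inv, map_mul, map_mul, mul_inv_eq_one] at h9
  change smu hS x = 1
  rw [b3] at h1 h10
  rw [b2]
  revert h1 h9 h10
  generalize θ x = a
  generalize θ g = b
  generalize (-1 : ℤˣ) ^ (k + 1) = s
  revert a b s
  decide

end CfsgH8
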