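import Cfsg.Agent.H1.Super
import Cfsg.Agent.H9.SC
import Cfsg.Agent.H2.Transfer2

/-! Groups in which all subgroups of a fixed order of a Sylow subgroup are strongly closed. -/

set_option autoImplicit false
set_option linter.style.haveILetI false
set_option linter.unusedSectionVars false

namespace CfsgH8

open Cfsg Subgroup CfsgFT CfsgH2
open scoped Pointwise commutatorElement

universe u

variable {G : Type u} [Group G] [Finite G] {p : ℕ} [hp : Fact p.Prime]

/-- elements of `L` acting trivially on all `L`-invariant sections of order `p` -/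
def Tr (p : ℕ) (L : Subgroup G) : Subgroup G where
  carrier := {g | g ∈ L ∧ ∀ T R : Subgroup G, T ≤ R → T.relIndex R = p → R ≤ N(T) → L ≤ N(T) →
    L ≤ N(R) → ∀ x ∈ R, g * x * g⁻¹ * x⁻¹ ∈ T}
  one_mem' := ⟨one_mem _, fun T R _ _ _ _ _ x _ => by simp⟩
  mul_mem' := by
    rintro a b ⟨ha, ha'⟩ ⟨hb, hb'⟩
    refine ⟨mul_mem ha hb, fun T R h1 h2 h3 h4 h5 x hx => ?_⟩
    have : a * b * x * (a * b)⁻¹ * x⁻¹ =
        a * (b * x * b⁻¹ * x⁻¹) * a⁻¹ * (a * x * a⁻¹ * x⁻¹) := by group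
    rw [this]
    exact mul_mem (conj_mem_of_mem_normalizer (h4 ha) (hb' T R h1 h2 h3 h4 h5 x hx))
      (ha' T R h1 h2 h3 h4 h5 x hx)
  inv_mem' := by
    rintro a ⟨ha, ha'⟩
    refine ⟨inv_mem ha, fun T R h1 h2 h3 h4 h5 x hx => ?_⟩
    have : a⁻¹ * x * a⁻¹⁻¹ * x⁻¹ = a⁻¹ * (a * x * a⁻¹ * x⁻¹)⁻¹ * a := by group
    rw [this]
    exact conj_mem_of_mem_normalizer' (h4 ha) (inv_mem (ha' T R h1 h2 h3 h4 h5 x hx))

theorem Tr_le (L : Subgroup G) : Tr p L ≤ L := fun _ h => h.1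

theorem mem_Tr_of {L : Subgroup G} {g : G} (hg : g ∈ L)
    (h : ∀ (K : Type u) [Group K] [Finite K] (M : Subgroup K) (A : Subgroup G) (f : A →* K)
      (hL : L ≤ A), Nat.card M = p → (∀ l (hl : l ∈ L), f ⟨l, hL hl⟩ ∈ N(M)) →
        f ⟨g, hL hg⟩ ∈ C(M)) : g ∈ Tr p L := by
  refine ⟨hg, fun T R h1 h2 h3 h4 h5 x hx => ?_⟩
  let π := QuotientGroup.mk' (T.subgroupOf N(T))
  let M := (R.subgroupOf N(T)).map π
  have hM : Nat.card M = p := by
    rw [← h2, ← relIndex_subgroupOf h3]; exact CfsgH1.card_map_mk' _ _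
  have := h _ M N(T) π h4 hM fun l hl => by
    apply mem_normalizer_of_conj_mem
    rintro _ ⟨y, hy, rfl⟩
    refine ⟨⟨l, h4 hl⟩ * y * ⟨l, h4 hl⟩⁻¹, ?_, by simp⟩
    exact conj_mem_of_mem_normalizer (H := R) (h5 hl) hy
  have e := (mem_centralizer_iff.1 this) (π ⟨x, h3 hx⟩) ⟨⟨x, h3 hx⟩, hx, rfl⟩
  have : π (⟨g, h4 hg⟩ * ⟨x, h3 hx⟩ * ⟨g, h4 hg⟩⁻¹ * ⟨x, h3 hx⟩⁻¹) = 1 := by
    simp only [map_mul, map_inv, ← e]; group
  exact (QuotientGroup.eq_one_iff (N := T.subgroupOf N(T)) _).1 this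

theorem pow_mem_Tr {L : Subgroup G} {g : G} (hg : g ∈ L) : g ^ (p - 1) ∈ Tr p L :=
  mem_Tr_of (pow_mem hg _) fun K _ _ M A f hL hM h => by
    have := CfsgH1.pow_mem_cent_of_card_prime hp.out hM (h g hg)
    rwa [← map_pow] at this

theorem comm_le_Tr (L : Subgroup G) : ⁅L, L⁆ ≤ Tr p L := by
  rw [commutator_le]
  intro a ha b hb
  refine mem_Tr_of (mul_mem (mul_mem (mul_mem ha hb) (inv_mem ha)) (inv_mem hb))
    fun K _ _ M A f hL hM h => ?_
  have hc : IsCyclic M := isCyclic_of_prime_card hM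
  have := CfsgH1.comm_le_cent_of_cyclic hc (le_refl N(M)) le_rfl
    (commutator_mem_commutator (h a ha) (h b hb))
  rwa [← map_commutatorElement] at this

theorem mem_Tr_of_min {L : Subgroup G} (hmin : ∀ q : ℕ, q.Prime → q ∣ Nat.card L → p ≤ q) {g : G}
    (hg : g ∈ L) : g ∈ Tr p L := by
  refine mem_of_pow_mem_of_coprime ?_ (pow_mem_Tr hg)
  refine Nat.coprime_of_dvd fun q hq h1 h2 => ?_
  have := hmin q hq (h1.trans (orderOf_dvd_natCard _ hg))
  have h3 := Nat.le_of_dvd (by have := hp.out.two_le; omega) h2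
  have := hp.out.two_le
  omega

theorem norm_zpowers_of_cyclic {F : Subgroup G} (hF : IsCyclic F) {x l : G} (hx : x ∈ F)
    (hl : l ∈ N(F)) : l ∈ N(zpowers x) := by
  obtain ⟨⟨f, hf⟩, h⟩ := hF.exists_generator
  obtain ⟨i, hi⟩ := h ⟨x, hx⟩
  obtain ⟨k, hk⟩ := h ⟨_, conj_mem_of_mem_normalizer hl hf⟩
  have hi : f ^ i = x := congrArg Subtype.val hi
  have hk : f ^ k = l * f * l⁻¹ := congrArg Subtype.val hk
  apply mem_normalizer_of_cj_le
  rw [cj_zpowers, zpowers_le, ← hi, ← conj_zpow, ← hk, ← zpow_mul, mul_comm, zpow_mul]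
  exact zpow_mem_zpowers _ _

theorem cent_of_cyclic {L F : Subgroup G} (hF : IsCyclic F) (hp' : IsPGroup p F) (hL : L ≤ N(F))
    {g : G} (hg : g ∈ Tr p L) (ho : (orderOf g).Coprime p) : g ∈ C(F) := by
  haveI : IsMulCommutative F := hF.isMulCommutative
  have h := CfsgH1.le_centralizer_of_omega (A := zpowers g) (V := F) (zpowers_le.2 (hL hg.1))
    (coprime_card_of_pgroup hp' (by rwa [Nat.card_zpowers])) fun v hv hv' a ha => by
      obtain ⟨k, hk⟩ := exists_orderOf_eq_pow hp' hv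
      have e : orderOf v = p := by
        rw [hk] at hv' ⊢; rw [(Nat.Prime.pow_eq_iff hv').1 rfl |>.2, pow_one]
      have := hg.2 ⊥ (zpowers v) bot_le (by rw [relIndex_bot_left, Nat.card_zpowers, e])
        le_normalizer_of_normal le_normalizer_of_normal (fun l hl => norm_zpowers_of_cyclic hF hv (hL hl)) v (mem_zpowers v)
      have c : Commute g v := by
        rw [mem_bot] at this
        show g * v = v * g
        calc g * v = g * v * g⁻¹ * v⁻¹ * (v * g) := by group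
          _ = v * g := by rw [this, one_mul]
      obtain ⟨n, rfl⟩ := ha
      exact (c.zpow_left n).eq
  exact le_centralizer_iff.1 h (mem_zpowers g)

/-- membership in `⟨y⟩Φ(Q)` is detected by maximal subgroups -/
theorem mem_sup_frattini {Q : Subgroup G} (hQ : IsPGroup p Q) {y y' : G} (hy : y ∈ Q) (hy' : y' ∈ Q)
    (h : ∀ M ≤ Q, M.relIndex Q = p → y ∈ M → y' ∈ M) :
    y' ∈ (frattini Q).map Q.subtype ⊔ zpowers y := by
  by_contra e
  set F := (frattini Q).map Q.subtype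
  have hF : F ≤ Q := map_subtype_le _
  obtain ⟨K, h1, ⟨h2, h3⟩, h4⟩ := exists_maximal_subgroup (Φ := fun K => K ≤ Q ∧ y' ∉ K)
    (A := F ⊔ zpowers y) ⟨sup_le hF (zpowers_le.2 hy), e⟩
  have hFK : F ≤ K := le_sup_left.trans h1
  have hn : Q ≤ N(K) := fun z hz => mem_normalizer_of_conj_mem fun x hx => by
    have : z * x * z⁻¹ = ⁅z, x⁆ * x := by rw [commutatorElement_def]; group
    rw [this]
    exact mul_mem (hFK (commutator_le_map_frattini hQ (commutator_mem_commutator hz (h2 hx)))) hx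
  have hi : ∀ z ∈ Q, z ∉ K → K.relIndex (K ⊔ zpowers z) = p := fun z hz hz' =>
    relIndex_sup_zpowers (hn hz) hz' (hFK (pow_mem_map_frattini hQ hz))
  have : K ⊔ zpowers y' = Q := by
    refine le_antisymm (sup_le h2 (zpowers_le.2 hy')) fun z hz => ?_
    by_cases hz' : z ∈ K
    · exact mem_sup_left hz'
    have a : y' ∈ K ⊔ zpowers z := by
      by_contra a
      exact hz' (h4 _ ⟨sup_le h2 (zpowers_le.2 hz), a⟩ le_sup_left ▸ mem_sup_right (mem_zpowers z))
    rcases eq_or_eq_of_relIndex_prime (hi z hz hz') (le_sup_left : K ≤ K ⊔ zpowers y')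
      (sup_le le_sup_left (zpowers_le.2 a)) with b | b
    · exact absurd (b ▸ mem_sup_right (mem_zpowers y')) h3
    · rw [b]; exact mem_sup_right (mem_zpowers z)
  exact h3 (h K h2 (this ▸ hi y' hy' h3) (h1 (mem_sup_right (mem_zpowers y))))

/-- a subgroup of a `p`-group extends to one of any intermediate order -/
theorem exists_card_between {A B : Subgroup G} (hB : IsPGroup p B) (h : A ≤ B) {d : ℕ}
    (h1 : Nat.card A ≤ p ^ d) (h2 : p ^ d ≤ Nat.card B) :
    ∃ E, A ≤ E ∧ E ≤ B ∧ Nat.card E = p ^ d := by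
  obtain ⟨E, a, ⟨b, c⟩, e⟩ := exists_maximal_subgroup
    (Φ := fun K => K ≤ B ∧ Nat.card K ≤ p ^ d) (A := A) ⟨h, h1⟩
  refine ⟨E, a, b, ?_⟩
  by_contra hne
  have hlt : E < B := lt_of_le_of_ne b fun x => hne (le_antisymm c (x ▸ h2))
  obtain ⟨x, hx⟩ := SetLike.exists_of_lt (lt_inf_normalizer hB hlt)
  obtain ⟨k, hk⟩ := exists_orderOf_eq_pow hB hx.1.1
  obtain ⟨j, j1, j2⟩ := exists_pow_not_mem (p := p) hx.2 (k := k)
    (by rw [← hk, pow_orderOf_eq_one]; exact one_mem _)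
  have hc := card_sup_zpowers (pow_mem hx.1.2 _) j1 j2
  obtain ⟨a, ha⟩ := (hB.to_le b).exists_card_eq
  have : a < d := by
    by_contra x
    exact hne (le_antisymm c (ha ▸ Nat.pow_le_pow_right hp.out.pos (by omega)))
  have := e (E ⊔ zpowers (x ^ p ^ j)) ⟨sup_le b (zpowers_le.2 (pow_mem hx.1.1 _)), by
    rw [hc, ha, ← pow_succ]; exact Nat.pow_le_pow_right hp.out.pos this⟩ le_sup_left
  exact j1 (this ▸ mem_sup_right (mem_zpowers _))

theorem le_card_of_relIndex {M Q : Subgroup G} (hQ : IsPGroup p Q) (h : M ≤ Q)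
    (hi : M.relIndex Q = p) {d : ℕ} (hd : p ^ d < Nat.card Q) : p ^ d ≤ Nat.card M := by
  obtain ⟨a, ha⟩ := (hQ.to_le h).exists_card_eq
  rw [← card_mul_relIndex h, hi, ha, ← pow_succ, Nat.pow_lt_pow_iff_right hp.out.one_lt] at hd
  rw [ha]; exact Nat.pow_le_pow_right hp.out.pos (by omega)

/-- small elements are fixed modulo the Frattini subgroup -/
theorem comm_mem_frattini {L Q : Subgroup G} (hQ : IsPGroup p Q) (hL : L ≤ N(Q)) {d : ℕ}
    (hd : p ^ d < Nat.card Q) (h : ∀ E ≤ Q, Nat.card E = p ^ d → L ≤ N(E)) {g y : G}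
    (hg : g ∈ Tr p L) (hy : y ∈ Q) (ho : orderOf y ≤ p ^ d) :
    g * y * g⁻¹ * y⁻¹ ∈ (frattini Q).map Q.subtype := by
  set F := (frattini Q).map Q.subtype
  have hF : F ≤ Q := map_subtype_le _
  have hLF : L ≤ N(F) := hL.trans (normalizer_le_normalizer_map_frattini Q)
  have hQF : Q ≤ N(F) := le_normalizer.trans (normalizer_le_normalizer_map_frattini Q)
  by_cases hyF : y ∈ F
  · exact mul_mem (conj_mem_of_mem_normalizer (hLF hg.1) hyF) (inv_mem hyF)
  refine hg.2 F (F ⊔ zpowers y) le_sup_left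
    (relIndex_sup_zpowers (hQF hy) hyF (pow_mem_map_frattini hQ hy))
    ((sup_le hF (zpowers_le.2 hy)).trans hQF) hLF (fun l hl => ?_) y (mem_sup_right (mem_zpowers y))
  apply mem_normalizer_of_cj_le
  rw [cj_sup, cj_eq_iff_mem_normalizer.2 (hLF hl), cj_zpowers]
  refine sup_le le_sup_left (zpowers_le.2 (mem_sup_frattini hQ hy
    (conj_mem_of_mem_normalizer (hL hl) hy) fun M a b c => ?_))
  obtain ⟨E, e1, e2, e3⟩ := exists_card_between (hQ.to_le a) (zpowers_le.2 c)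
    (by rwa [Nat.card_zpowers]) (le_card_of_relIndex hQ a b hd)
  exact e2 (conj_mem_of_mem_normalizer (h E (e2.trans a) e3 hl) (e1 (mem_zpowers y)))

theorem cent_of_inv {L : Subgroup G} {d : ℕ} (hd0 : d ≠ 0) {g : G} (hg : g ∈ Tr p L)
    (ho : (orderOf g).Coprime p) (Q : Subgroup G) : IsPGroup p Q → L ≤ N(Q) → p ^ d < Nat.card Q →
    (∀ E ≤ Q, (Nat.card E = p ^ d ∨ (p ^ d = 2 ∧ Nat.card E = 4)) → L ≤ N(E)) → g ∈ C(Q) := by
  induction Q using subgroup_induction_up with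
  | h Q ih =>
  intro hQ hL hd h
  by_contra hne
  have hA : (Nat.card (zpowers g)).Coprime p := by rwa [Nat.card_zpowers]
  obtain ⟨D, d1, d2, d3, d4⟩ := CfsgH9.exists_small hA Q hQ (zpowers_le.2 (hL hg.1))
    (fun e => hne (e (mem_zpowers g)))
  have key : ¬ g ∈ C(D) := fun e => d2 (by
    rw [← d3, commutator_comm]
    exact commutator_eq_bot_of_le_centralizer (zpowers_le.2 e))
  by_cases h2 : p ^ d = 2
  · refine key (mem_centralizer_iff.2 fun y hy => ?_)
    have hp2 : p = 2 := ((Nat.Prime.pow_eq_iff Nat.prime_two).1 h2).1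
    have h4 : orderOf y ∣ 2 ^ 2 := orderOf_dvd_of_pow_eq_one (by simpa [CfsgH9.ee, hp2] using d4 y hy)
    have hn : L ≤ N(zpowers y) := by
      obtain ⟨i, hi, e⟩ := (Nat.dvd_prime_pow Nat.prime_two).1 h4
      interval_cases i
      · rw [pow_zero, orderOf_eq_one_iff] at e
        rw [e, zpowers_one_eq_bot]; exact le_normalizer_of_normal
      · exact h _ (zpowers_le.2 (d1 hy)) (Or.inl (by rw [Nat.card_zpowers, e, h2]; rfl))
      · exact h _ (zpowers_le.2 (d1 hy)) (Or.inr ⟨h2, by rw [Nat.card_zpowers, e]; rfl⟩)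
    exact mem_centralizer_iff.1 (cent_of_cyclic inferInstance (hQ.to_le (zpowers_le.2 (d1 hy))) hn
      hg ho) y (mem_zpowers y)
  set F := (frattini Q).map Q.subtype with hFd
  have hF : F ≤ Q := map_subtype_le _
  have hLF : L ≤ N(F) := hL.trans (normalizer_le_normalizer_map_frattini Q)
  have hcm : ∀ B ≤ Q, (∀ y ∈ B, orderOf y ≤ p ^ d) → ⁅B, zpowers g⁆ ≤ F := fun B hB hb => by
    rw [commutator_comm, commutator_le]
    intro a ha y hy
    exact comm_mem_frattini hQ hL hd (fun E a b => h E a (Or.inl b))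
      (zpowers_le.2 hg ha) (hB hy) (hb y hy)
  have hD : D ≤ F := d3 ▸ hcm D d1 fun y hy => by
    refine (Nat.le_of_dvd ?_ (orderOf_dvd_of_pow_eq_one (d4 y hy))).trans ?_
    · unfold CfsgH9.ee; split_ifs; norm_num; exact hp.out.pos
    · unfold CfsgH9.ee; split_ifs with e
      · subst e
        have : d ≠ 1 := by rintro rfl; exact h2 rfl
        exact Nat.pow_le_pow_right (n := 2) (by norm_num) (by omega : 2 ≤ d)
      · exact Nat.le_self_pow hd0 p
  have hQ0 : Q ≠ ⊥ := fun e => d2 (le_bot_iff.1 (e ▸ d1))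
  have hFc : Nat.card F ≤ p ^ d := by
    by_contra e
    exact key (centralizer_le hD (ih F (card_lt_of_lt (map_frattini_lt hQ0)) (hQ.to_le hF) hLF
      (by omega) fun E a b => h E (a.trans hF) b))
  by_cases hall : ∀ y ∈ Q, orderOf y ≤ p ^ d
  · refine hne (le_centralizer_iff.1 (CfsgH1.le_centralizer_of_commutator_le_frattini
      (zpowers_le.2 (hL hg.1)) (by
        obtain ⟨k, hk⟩ := (hQ.to_subgroup (frattini Q)).exists_card_eq
        rw [hk]; exact hA.pow_right k) (hcm Q le_rfl hall))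
      (mem_zpowers g))
  push Not at hall
  obtain ⟨y, hy, hy'⟩ := hall
  have hz : zpowers (y ^ p) = F := by
    refine eq_of_le_of_card_le (zpowers_le.2 (pow_mem_map_frattini hQ hy)) (hFc.trans ?_)
    obtain ⟨k, hk⟩ := exists_orderOf_eq_pow hQ hy
    rw [hk, Nat.pow_lt_pow_iff_right hp.out.one_lt] at hy'
    obtain ⟨k, rfl⟩ : ∃ j, k = j + 1 := ⟨k - 1, by omega⟩
    rw [Nat.card_zpowers, orderOf_pow' _ hp.out.ne_zero, hk, pow_succ, Nat.gcd_mul_left_left,
      Nat.mul_div_cancel _ hp.out.pos]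
    exact Nat.pow_le_pow_right hp.out.pos (by omega)
  exact key (centralizer_le hD (cent_of_cyclic (hz ▸ inferInstance) (hQ.to_le hF) hLF hg ho))

/-- H-subgroups are strongly closed -/
theorem sc_of_hsub {E P : Subgroup G} (hP : IsPGroup p P) (hE : E ≤ P)
    (h : ∀ g : G, E.map (MulAut.conj g).toMonoidHom ⊓ N(E) ≤ E) {y g : G} (hy : y ∈ E)
    (hg : g * y * g⁻¹ ∈ P) : g * y * g⁻¹ ∈ E := by
  have : P ≤ N(E) := by
    by_contra e
    have hlt : P ⊓ N(E) < P := lt_of_le_of_ne inf_le_left fun x => e (x ▸ inf_le_right)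
    obtain ⟨x, hx, hx'⟩ := SetLike.exists_of_lt (lt_inf_normalizer hP hlt)
    refine hx' ⟨hx.1, mem_normalizer_of_conj_mem fun z hz => h x ⟨conj_mem_cj x hz, ?_⟩⟩
    exact (conj_mem_of_mem_normalizer hx.2 (⟨hE hz, le_normalizer hz⟩ : z ∈ P ⊓ N(E))).2
  exact h g ⟨conj_mem_cj g hy, this hg⟩

theorem mem_frattini_of {Q : Subgroup G} (hQ : IsPGroup p Q) {y : G} (hy : y ∈ Q)
    (h : ∀ M ≤ Q, M.relIndex Q = p → y ∈ M) : y ∈ (frattini Q).map Q.subtype := by
  simpa using mem_sup_frattini hQ (one_mem Q) hy fun M a b _ => h M a b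

theorem npc_of_sc (hmin : ∀ q : ℕ, q.Prime → q ∣ Nat.card G → p ≤ q) {P : Subgroup G}
    (hP : IsSylowIn p P ⊤) {d : ℕ} (hd0 : d ≠ 0) (hd : p ^ d < Nat.card P)
    (h : ∀ E ≤ P, (Nat.card E = p ^ d ∨ (p ^ d = 2 ∧ Nat.card E = 4)) →
      ∀ y ∈ E, ∀ g, g * y * g⁻¹ ∈ P → g * y * g⁻¹ ∈ E) : HasNormalPComplement p G := by
  have hT : ∀ g : G, g ∈ Tr p (zpowers g) := fun g => mem_Tr_of_min
    (fun q a b => hmin q a (b.trans (card_subgroup_dvd_card _))) (mem_zpowers g)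
  have big : ∀ Q ≤ P, p ^ d < Nat.card Q → ∀ g ∈ N(Q), (orderOf g).Coprime p → g ∈ C(Q) :=
    fun Q a b g c e => cent_of_inv hd0 (hT g) e Q (hP.pgroup.to_le a) (zpowers_le.2 c) b
      fun E e1 e2 => zpowers_le.2 (mem_normalizer_of_conj_mem fun y hy =>
        h E (e1.trans a) e2 y hy g (a (conj_mem_of_mem_normalizer c (e1 hy))))
  set F := (frattini P).map P.subtype
  have fus : ∀ x ∈ P, ∀ g, g * x * g⁻¹ ∈ P → x⁻¹ * (g * x * g⁻¹) ∈ F := fun x hx g hg => by
    refine alperin_elements hP (fun x y => x⁻¹ * y ∈ F) (fun x _ => by simp)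
      (fun x y z a b => by simpa [mul_assoc] using mul_mem a b) (fun g _ hg x hx => ?_)
      (fun Q g hQ _ hg _ _ ⟨z, _, z1, z2, z3⟩ x hx => ?_) hx (mem_top g) hg
    · obtain ⟨v, hv, e⟩ := exists_act_of_centralizes (hP.mono le_normalizer le_top)
        (fun x a b => big P le_rfl hd x a b) hg
      rw [← e x hx]
      exact commutator_le_map_frattini hP.pgroup (inv_mul_conj_mem_commutator hx hv)
    have hc : Nat.card Q ≤ p ^ d := by
      by_contra e
      exact z3 (big Q hQ.le (by omega) z z1 z2)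
    refine mem_frattini_of hP.pgroup (hQ.le (mul_mem (inv_mem hx)
      (conj_mem_of_mem_normalizer hg hx))) fun M m1 m2 => ?_
    have hn : g ∈ N(Q ⊓ M) := mem_normalizer_of_conj_mem fun y hy => by
      obtain ⟨E, e1, e2, e3⟩ := exists_card_between (hP.pgroup.to_le m1) (zpowers_le.2 hy.2)
        ((card_le_of_le (zpowers_le.2 hy.1)).trans hc) (le_card_of_relIndex hP.pgroup m1 m2 hd)
      have := conj_mem_of_mem_normalizer hg hy.1
      exact ⟨this, e2 (h E (e2.trans m1) (Or.inl e3) y (e1 (mem_zpowers y)) g (hQ.le this))⟩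
    have hMn := le_normalizer_of_relIndex_prime hP.pgroup m1 m2
    by_cases hQM : Q ≤ M
    · exact hQM (mul_mem (inv_mem hx) (conj_mem_of_mem_normalizer hg hx))
    obtain ⟨z, hz, hz'⟩ := SetLike.not_le_iff_exists.1 hQM
    have hi : (Q ⊓ M).relIndex Q = p := by
      rw [inf_relIndex_left, ← relIndex_sup_of_normalizer (hQ.le.trans hMn)]
      rcases eq_or_eq_of_relIndex_prime m2 (le_sup_left : M ≤ M ⊔ Q) (sup_le m1 hQ.le) with e | e
      · exact absurd (e ▸ mem_sup_right hz) hz'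
      · rw [e, m2]
    have := ((hT g).2 (Q ⊓ M) Q inf_le_left hi (le_normalizer_inf' le_normalizer (hQ.le.trans hMn))
      (zpowers_le.2 hn) (zpowers_le.2 hg) x hx).2
    have := conj_mem_of_mem_normalizer' (hMn (hQ.le hx)) this
    simpa [mul_assoc] using this
  have h1 := inf_resIn_le_of_fusion hP (L := F) fun x hx g _ hg => fus x hx.1 g hg
  haveI := resIn_normal (p := p) (⊤ : Subgroup G)
  rw [← hasNPC_top_iff, hP.hasNPC_iff, inf_comm]
  exact roquette_core hP (resIn_resIn _) (inf_comm P _ ▸ h1)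

theorem npc_of_cyclic (hmin : ∀ q : ℕ, q.Prime → q ∣ Nat.card G → p ≤ q) (P : Sylow p G)
    (h : IsCyclic (P : Subgroup G)) : HasNormalPComplement p G :=
  frobenius_hasNPC' P fun Q a _ g b c => cent_of_cyclic (L := zpowers g) (isCyclic_of_le a)
    (P.isPGroup'.to_le a) (zpowers_le.2 b) (mem_Tr_of_min
      (fun q a b => hmin q a (b.trans (card_subgroup_dvd_card _))) (mem_zpowers g)) c

/-- hypothesis on a `p`-subgroup -/
def SCd (p : ℕ) (H P : Subgroup G) : Prop := IsCyclic P ∨ ∃ d, d ≠ 0 ∧ p ^ d < Nat.card P ∧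
  ∀ E ≤ P, (Nat.card E = p ^ d ∨ (p ^ d = 2 ∧ Nat.card E = 4)) →
    ∀ y ∈ E, ∀ g ∈ H, g * y * g⁻¹ ∈ P → g * y * g⁻¹ ∈ E

theorem scd_of {P : Subgroup G} (hP : IsPGroup p P) (h : IsCyclic P ∨ ∃ D : Subgroup G, D ≤ P ∧
    1 < Nat.card D ∧ Nat.card D < Nat.card P ∧ ∀ E : Subgroup G, E ≤ P →
      (Nat.card E = Nat.card D ∨ (Nat.card D = 2 ∧ Nat.card E = 4)) →
      ∀ g : G, E.map (MulAut.conj g).toMonoidHom ⊓ N(E) ≤ E) : SCd p ⊤ P := by
  rcases h with h | ⟨D, h1, h2, h3, h4⟩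
  · exact Or.inl h
  obtain ⟨d, hd⟩ := (hP.to_le h1).exists_card_eq
  rw [hd] at h2 h3 h4
  exact Or.inr ⟨d, by rintro rfl; simp at h2, h3, fun E a b y hy g _ hg =>
    sc_of_hsub hP a (h4 E a b) hy hg⟩

theorem npc_of_scd {H P : Subgroup G} (hmin : ∀ q : ℕ, q.Prime → q ∣ Nat.card H → p ≤ q)
    (hP : IsSylowIn p P H) (h : SCd p H P) : HasNormalPComplement p H := by
  rcases h with h | ⟨d, h0, h1, h2⟩
  · exact npc_of_cyclic hmin hP.toSylow
      (isCyclic_of_surjective _ (subgroupOfEquivOfLe hP.le).symm.surjective)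
  refine npc_of_sc hmin (IsSylowIn.of_sylow_top hP.toSylow) h0 ?_ fun E a b y hy g hg => ?_
  · rwa [hP.toSylow_coe, Nat.card_congr (subgroupOfEquivOfLe hP.le).toEquiv]
  obtain ⟨z, z1, z2⟩ := h2 (E.map H.subtype) (map_le_iff_le_comap.2 a)
    (by rwa [card_map_of_injective H.subtype_injective]) y ⟨y, hy, rfl⟩ g g.2 hg
  exact (Subtype.ext z2 : z = g * y * g⁻¹) ▸ z1

theorem exists_normal_prime {P K N : Subgroup G} [N.Normal] (hP : IsPGroup p P) (hK : K ≤ N)
    (hG : K ⊔ N(P) = ⊤) (h : SCd p ⊤ P) (hne : ¬ P ≤ N) :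
    ∃ M : Subgroup G, M.Normal ∧ N ≤ M ∧ (N.relIndex M).Prime := by
  let π := QuotientGroup.mk' N
  suffices ∃ M : Subgroup (G ⧸ N), M.Normal ∧ (Nat.card M).Prime by
    obtain ⟨M, a, b⟩ := this
    refine ⟨M.comap π, inferInstance, fun x hx => ?_, ?_⟩
    · rw [mem_comap, (QuotientGroup.eq_one_iff x).2 hx |> (show π x = 1 from ·)]; exact one_mem _
    · rwa [← CfsgH1.card_map_mk', map_comap_eq_self_of_surjective (QuotientGroup.mk'_surjective N)]
  have hL : N(P).map π = ⊤ := by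
    rw [← map_top_of_surjective π (QuotientGroup.mk'_surjective N), ← hG, Subgroup.map_sup,
      (CfsgH1.map_mk'_eq_bot_iff N).2 hK, bot_sup_eq]
  have nor : ∀ A : Subgroup G, N(P) ≤ N(A) → (A.map π).Normal := fun A hA => by
    rw [← normalizer_eq_top_iff, eq_top_iff, ← hL]
    exact (map_mono hA).trans (le_normalizer_map π)
  haveI := nor P le_rfl
  have h0 : P.map π ≠ ⊥ := fun e => hne ((CfsgH1.map_mk'_eq_bot_iff N).1 e)
  rcases h with h | ⟨d, d0, d1, d2⟩
  · obtain ⟨M, a, -, b⟩ := CfsgH1.exists_prime_normal_of_cyclic (C := P.map π)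
      (isCyclic_of_surjective _ (π.subgroupMap_surjective P)) h0
    exact ⟨M, a, b⟩
  set L := N(P)
  set T := Tr p L
  haveI := nor T fun l hl => mem_normalizer_of_conj_mem fun x hx => by
    have : l * x * l⁻¹ = ⁅l, x⁆ * x := by rw [commutatorElement_def]; group
    rw [this]
    exact mul_mem (comm_le_Tr L (commutator_mem_commutator hl hx.1)) hx
  obtain ⟨S, hS⟩ := IsSylowIn.exists_sylowIn p T
  have hSP : IsPGroup p ↥(S ⊔ P) :=
    IsPGroup.to_sup_of_normal_right' hS.pgroup hP (hS.le.trans (Tr_le L))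
  obtain ⟨x, x1, x2, x3, x4⟩ := exists_central_of_ne_bot (hSP.map π) (map_mono le_sup_right)
    le_normalizer_of_normal h0
  let V := omegaOne p (P.map π ⊓ C(P.map π) ⊓ C(T.map π))
  have hxV : x ∈ V := by
    refine mem_omegaOne ⟨⟨x1, centralizer_le (map_mono (le_sup_right : P ≤ S ⊔ P)) x4⟩, ?_⟩ x3
    obtain ⟨x, hx, rfl⟩ := x1
    refine mem_centralizer_iff.2 ?_
    rintro _ ⟨g, hg, rfl⟩
    obtain ⟨v, hv, e⟩ := exists_act_of_centralizes hS (Q := P) (fun z a b =>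
      cent_of_inv d0 a b P hP le_rfl d1 fun E e1 e2 l hl => mem_normalizer_of_conj_mem fun y hy =>
        d2 E e1 e2 y hy l (mem_top l) (conj_mem_of_mem_normalizer hl (e1 hy))) hg
    have c := mem_centralizer_iff.1 x4 (π v) ⟨v, mem_sup_left hv, rfl⟩
    have := congrArg π (e x hx)
    simp only [map_mul, map_inv, c, mul_inv_cancel_right] at this
    rw [eq_mul_inv_iff_mul_eq] at this
    exact this.symm
  have hV : V ≤ C(T.map π) := (omegaOne_le _).trans inf_le_right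
  obtain ⟨W, -, a, b⟩ := CfsgH1.exists_card_prime_normalized (p := p) (V := V) (A := ⊤)
    (omegaOne_ea_of_comm (isMulCommutative_iff_le_centralizer.2 ((inf_le_left.trans inf_le_right).trans
      (centralizer_le (SetLike.coe_subset_coe.2 (inf_le_left.trans inf_le_left))))))
    (fun e => x2 (by rw [e] at hxV; exact hxV))
    (le_normalizer_of_normal.trans (normalizer_le_normalizer_omegaOne _))
    (by
      rw [← hL, ← map_commutator]
      exact (map_mono (comm_le_Tr L)).trans (le_centralizer_iff.1 hV))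
    (fun a ha => by
      rw [← hL] at ha
      obtain ⟨a, ha, rfl⟩ := ha
      exact le_centralizer_iff.1 hV ⟨_, pow_mem_Tr ha, map_pow π a _⟩)
  exact ⟨W, normalizer_eq_top_iff.1 (top_le_iff.1 a), b ▸ hp.out⟩

omit hp in
theorem emb_of_scd (E : Subgroup G) : E.Normal →
    (∀ (p : ℕ) [Fact p.Prime] (P : Subgroup G), IsSylowIn p P E → SCd p ⊤ P) →
    ∀ N : Subgroup G, N.Normal → ¬ E ≤ N →
      ∃ M : Subgroup G, M.Normal ∧ N ≤ M ∧ (N.relIndex M).Prime := by
  induction E using subgroup_induction_up with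
  | h E ih =>
  intro hE h N hN hne
  have h1 : Nat.card E ≠ 1 := fun e => hne ((card_eq_one.1 e).le.trans bot_le)
  haveI : Fact (Nat.card E).minFac.Prime := ⟨Nat.minFac_prime h1⟩
  set p := (Nat.card E).minFac
  obtain ⟨P, hP⟩ := IsSylowIn.exists_sylowIn p E
  have hc := hasNPC_subgroup_iff.1 (npc_of_scd (fun q a b => Nat.minFac_le_of_dvd a.two_le b) hP
    ((h p P hP).imp id fun ⟨d, a, b, c⟩ => ⟨d, a, b, fun E e f y hy g _ => c E e f y hy g trivial⟩))
  haveI := resIn_normal (p := p) E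
  set K := resIn p E
  have hKE : K ≤ E := resIn_le E
  by_cases hK : K ≤ N
  · refine exists_normal_prime hP.pgroup hK (eq_top_iff.2 fun g _ => ?_) (h p P hP)
      fun e => hne (hP.sup_resIn ▸ sup_le e hK)
    obtain ⟨n, hn, e⟩ := hP.frattini (g := g) (le_normalizer_of_normal (mem_top g))
    have : E ≤ K ⊔ N(P) :=
      hP.sup_resIn ▸ sup_le (le_normalizer.trans le_sup_right) le_sup_left
    simpa using mul_mem (inv_mem (this hn)) (mem_sup_right e : _ ∈ K ⊔ N(P))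
  refine ih K (card_lt_of_lt (lt_of_le_of_ne hKE fun e => hc (e ▸ Nat.minFac_dvd _))) inferInstance
    (fun q _ Q hQ => ?_) N hN hK
  by_cases e : q = p
  · subst e
    exact Or.inl ((hQ.eq_bot_iff.2 hc) ▸ inferInstance)
  refine h q Q (hQ.trans_of_not_dvd hKE fun a => e ?_)
  obtain ⟨k, hk⟩ := relIndex_resIn (p := p) E
  exact (Nat.prime_dvd_prime_iff_eq Fact.out Fact.out).1 ((Fact.out : q.Prime).dvd_of_dvd_pow (hk ▸ a))

end CfsgH8
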