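import Cfsg.Agent.H8.Lang
import Cfsg.Agent.H5.Count
import Cfsg.Agent.H5.FieldQ
import Cfsg.Agent.H5.Params

/-!
Orthonormal bases of hermitian spaces over finite fields.
-/

set_option autoImplicit false

namespace CfsgH8

open Matrix CfsgH5 CfsgH5.Form Module

variable {F : Type*} [Field F]

theorem herm_exists_aniso {σ : F →+* F} {hσ : ∀ a, σ (σ a) = a} (hne : ∃ a, σ a ≠ a) {V : Type*}
    [AddCommGroup V] [Module F V] (S : Form (unitParam σ hσ) V) {x y : V} (h : S.B x y ≠ 0) :
    ∃ z, S.B z z ≠ 0 := by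
  by_contra hc
  push Not at hc
  obtain ⟨θ, hθ⟩ := exists_trace_one σ hσ hne
  have h1 := hc ((θ / S.B x y) • x + y)
  have h2 := hc ((θ / S.B x y) • x)
  rw [add_left, add_right, add_right, h2, hc y, S.unit_herm _ y, smul_left, div_mul_cancel₀ _ h] at h1
  rw [zero_add, add_zero, hθ] at h1
  exact one_ne_zero h1

theorem exists_orthonormal [Finite F] {σ : F →+* F} {hσ : ∀ a, σ (σ a) = a} (hne : ∃ a, σ a ≠ a)
    (n : ℕ) : ∀ {V : Type*} [AddCommGroup V] [Module F V] [FiniteDimensional F V]
    (S : Form (unitParam σ hσ) V), S.Nondeg → finrank F V = n →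
    ∃ b : Fin n → V, ∀ i j, S.B (b i) (b j) = if i = j then 1 else 0 := by
  induction n with
  | zero => intro V _ _ _ S _ _; exact ⟨Fin.elim0, fun i => i.elim0⟩
  | succ n ih =>
    intro V _ _ _ S hS hn
    haveI : Nontrivial V := Module.nontrivial_of_finrank_pos (R := F) (by omega)
    obtain ⟨x, hx⟩ := exists_ne (0 : V)
    obtain ⟨y, hy⟩ := hS.exists_ne hx
    obtain ⟨z, hz⟩ := herm_exists_aniso hne S hy
    obtain ⟨c, hc⟩ := exists_norm' σ hσ hne (a := (S.B z z)⁻¹) (by rw [map_inv₀, ← S.unit_herm])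
    have hd : S.B (c • z) (c • z) = 1 := by
      rw [smul_left, smul_right, ← mul_assoc]
      change c * σ c * _ = 1
      rw [hc, inv_mul_cancel₀ hz]
    have hd0 : c • z ≠ 0 := by intro h; simp [h] at hd
    have h1 := hS.finrank_perp_singleton hd0
    obtain ⟨b, hb⟩ := ih (S.res (S.perp {c • z}))
      (hS.nondegOn_perp_singleton (by rw [hd]; exact one_ne_zero)).res (by omega)
    refine ⟨Fin.cons (c • z) fun i => b i, fun i j => ?_⟩
    have hp : ∀ i, S.B (b i) (c • z) = 0 := fun i => S.mem_perp_singleton.1 (b i).2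
    induction i using Fin.cases <;> induction j using Fin.cases
    · simpa using hd
    · rename_i j
      simpa [(Fin.succ_ne_zero j).symm] using perp_symm (hp j)
    · rename_i j
      simpa [Fin.succ_ne_zero j] using hp j
    · rename_i i j
      simpa using hb i j

variable {ι : Type*} [Fintype ι] [DecidableEq ι]

/-- hermitian matrices are congruent to the identity -/
theorem herm_congr [Finite F] {σ : F ≃+* F} (hσ : σ * σ = 1) (hne : σ ≠ 1) (M : GL ι F)
    (hM : ((M : Matrix ι ι F).map σ)ᵀ = M) :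
    ∃ P : GL ι F, (M : Matrix ι ι F) = P * ((P : Matrix ι ι F).map σ)ᵀ := by
  have hσ' : ∀ a, (σ : F →+* F) ((σ : F →+* F) a) = a := fun a => DFunLike.congr_fun hσ a
  have hne' : ∃ a, (σ : F →+* F) a ≠ a := by
    by_contra h
    push Not at h
    exact hne (RingEquiv.ext h)
  have hMe : ∀ i j, σ ((M : Matrix ι ι F) j i) = (M : Matrix ι ι F) i j := fun i j =>
    congrFun (congrFun hM i) j
  let S : Form (unitParam (σ : F →+* F) hσ') (ι → F) := ofHerm (σ : F →+* F) hσ' hne'
    (fun x y => x ⬝ᵥ ((M : Matrix ι ι F) *ᵥ fun i => σ (y i))) (fun x y z => by simp)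
    (fun c x z => by simp) (fun x y => by
      simp only [dotProduct, mulVec, map_sum, map_mul, Finset.mul_sum, RingHom.coe_coe]
      rw [Finset.sum_comm]
      refine Finset.sum_congr rfl fun i _ => Finset.sum_congr rfl fun j _ => ?_
      have := hσ' (y j)
      simp only [RingHom.coe_coe] at this
      rw [hMe, this]; ring)
  have hSB : ∀ x y, S.B x y = x ⬝ᵥ ((M : Matrix ι ι F) *ᵥ fun i => σ (y i)) := fun _ _ => rfl
  have hS : S.Nondeg := fun x hx => by
    have h1 : (M : Matrix ι ι F) *ᵥ (fun i => σ (x i)) = 0 := by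
      ext i
      simpa [hSB] using hx (Pi.single i 1)
    have h2 := (glRho M).map_eq_zero_iff.1 h1
    ext i
    simpa using congrFun h2 i
  obtain ⟨b, hb⟩ := exists_orthonormal hne' (Fintype.card ι) S hS (by simp)
  let e := Fintype.equivFin ι
  let R : Matrix ι ι F := Matrix.of fun i => b (e i)
  have hR : R * M * (R.map σ)ᵀ = 1 := by
    ext i j
    have := hb (e i) (e j)
    rw [hSB] at this
    simp only [EmbeddingLike.apply_eq_iff_eq] at this
    rw [one_apply, ← this, Matrix.mul_assoc]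
    rfl
  have hdet : R.det ≠ 0 := by
    intro h
    have := congrArg det hR
    simp [h] at this
  let R' := GeneralLinearGroup.mkOfDetNeZero R hdet
  have h3 : R' * M * (invTrGL (fieldAutGL σ R'))⁻¹ = 1 := Units.ext hR
  refine ⟨R'⁻¹, ?_⟩
  have h4 : M = R'⁻¹ * (invTrGL (fieldAutGL σ R'⁻¹))⁻¹ := by
    rw [map_inv, map_inv, inv_inv, eq_inv_mul_iff_mul_eq, ← mul_inv_eq_one, h3]
  exact congrArg Units.val h4

end CfsgH8
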