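import Cfsg.Agent.H8.Lin2

/-! Characters of small degree of groups with a Sylow subgroup of prime order, III (Brauer 1942). -/

set_option autoImplicit false
set_option linter.unusedSectionVars false

namespace CfsgH8
open Subgroup CfsgH4 Cfsg CfsgH3 CfsgH3.IP CfsgH2 FinSub O1
open scoped ComplexConjugate commutatorElement

variable {G : Type*} [Group G] [Fintype G]

theorem tight {f : G → ℂ} (hf : IsCharacter G f) (T : Finset (IrrCharacter G)) (h : ∀ A ∈ T, ⟪f, A.1⟫ ≠ 0) {n : ℕ}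
    (hn : f 1 = n) (l : IrrCharacter G → ℕ) (hl : ∀ A ∈ T, l A ≤ deg A) :
    ∑ A ∈ T, l A ≤ n ∧ (n ≤ ∑ A ∈ T, l A → (∀ A ∈ T, deg A = l A) ∧ ∀ g, f g = ∑ A ∈ T, A.1 g) := by
  have c := isChar_sub_fin hf T h
  obtain ⟨m, hm⟩ := c.exists_deg
  have h1 : n = ∑ A ∈ T, deg A + m := by
    simp only [Pi.sub_apply, Finset.sum_apply, hn, deg_spec] at hm
    exact_mod_cast (by linear_combination hm : (n : ℂ) = ∑ A ∈ T, (deg A : ℂ) + m)
  have h2 := Finset.sum_le_sum hl
  refine ⟨by omega, fun h3 => ⟨fun A hA => ((Finset.sum_eq_sum_iff_of_le hl).1 (by omega) A hA).symm, fun g => ?_⟩⟩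
  have := congrFun (c.eq_zero_of_deg (by rw [hm, show m = 0 by omega, Nat.cast_zero])) g
  simpa [sub_eq_zero] using this

variable {p : ℕ} [hp : Fact p.Prime] {P : Sylow p G} [h : O1 P] [DecidableEq (IrrCharacter G)]
  {X : Finset (IrrCharacter G)} {ζ : I0 P → IrrCharacter G} {a : IrrCharacter G → ℤ} {δ : ℤ}
  {χ χ' : IrrCharacter G} {i j : I0 P} {θ : IrrCharacter (CP P)}

theorem SmD.table (S : SmD P χ χ' i j θ) (B : PBl P X ζ a δ) (hG : ∀ N : Subgroup G, N.Normal → P.1 ≤ N → N = ⊤)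
    (h1 : deg χ = fN P) (h2 : deg χ ≠ 1) (hd : 2 * deg χ + 1 ≤ p) : p = 2 * fN P + 1 ∧
    (∀ A ∈ (X.erase (i1 G)).filter (a · = 1), A.1 1 = p + 1) ∧ (∀ A ∈ X.filter (a · = -1), A.1 1 = p - 1) ∧
    2 * ∑ A ∈ X, a A - δ = 1 ∧ ∀ k, ((ζ k).1 1 = (p - δ) / 2) ∧ ∀ g, ¬ p ∣ orderOf g →
      1 + ∑ A ∈ (X.erase (i1 G)).filter (a · = 1), A.1 g + (1 - δ) / 2 * (ζ k).1 g = cc χ χ g ∧
      ∑ A ∈ X.filter (a · = -1), A.1 g + (1 + δ) / 2 * (ζ k).1 g = cc χ χ g := by
  obtain ⟨c1, c2, c3, c4⟩ := S.con B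
  have k7 := B.sum_X fun _ => 1
  have k8 := B.sum_X a
  simp only [← Finset.card_eq_sum_ones, B.card] at k7
  rw [B.a_one, Finset.sum_congr (s₁ := (X.erase _).filter _) rfl fun A hA => (Finset.mem_filter.1 hA).2,
    Finset.sum_congr (s₁ := X.filter _) rfl fun A hA => (Finset.mem_filter.1 hA).2] at k8
  simp only [Finset.sum_const, nsmul_eq_mul] at k8
  set U := (X.erase (i1 G)).filter (a · = 1)
  set V := X.filter (a · = -1)
  have mU : ∀ A ∈ U, A ∈ X ∧ A ≠ i1 G ∧ a A = 1 := fun A hA => by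
    simp only [U, Finset.mem_filter, Finset.mem_erase] at hA; tauto
  have mV : ∀ A ∈ V, A ∈ X ∧ a A = -1 := fun A hA => Finset.mem_filter.1 hA
  have n1 : i1 G ∉ U := fun h => (mU _ h).2.1 rfl
  have d1 : deg (i1 G) = 1 := Nat.cast_eq_one.1 (deg_spec (i1 G)).symm
  have e0 := fN_pos (P := P)
  set e := fN P
  have f1 : cc χ χ 1 = (e * e : ℕ) := by simp [cc, deg_spec, h1]
  have f2 : cc χ χ' 1 = (e * e : ℕ) := by simp [cc, ← S.agree 1 reg_one, deg_spec, h1]
  have f3 : ∀ g, ¬ p ∣ orderOf g → cc χ χ' g = cc χ χ g := fun g hg => by simp only [cc, S.agree g hg]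
  have o1 : ⟪cc χ χ, (i1 G).1⟫ ≠ 0 := by rw [ip_cc, χ.2.inner_self]; exact one_ne_zero
  obtain ⟨q, rfl⟩ : ∃ q, p = q + 1 := ⟨p - 1, by omega⟩
  rcases B.sign with rfl | rfl
  · obtain ⟨k, hk⟩ := c3 rfl
    have n2 : ζ k ∉ V := fun h => B.disj k (mV _ h).1
    have t1 := tight (cc_char χ χ) (insert (i1 G) U) ((Finset.forall_mem_insert _ _ _).2 ⟨o1, fun A hA =>
      c1 A (mU A hA).1 (mU A hA).2.2⟩) f1 (fun A => if A ∈ U then q + 2 else 1) ((Finset.forall_mem_insert _ _ _).2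
      ⟨by simp [n1, d1], fun A hA => (if_pos hA).trans_le ((B.degX_ge hG (mU A hA).1).1 (mU A hA).2.1 (mU A hA).2.2)⟩)
    have t2 := tight (cc_char χ χ') (insert (ζ k) V) ((Finset.forall_mem_insert _ _ _).2 ⟨hk, fun A hA =>
      c2 A (mV A hA).1 (mV A hA).2⟩) f2 (fun A => if A ∈ V then q else e) ((Finset.forall_mem_insert _ _ _).2
      ⟨by simpa [n2] using (B.degY_ge k).1 rfl, fun A hA => by simpa [hA] using (B.degX_ge hG (mV A hA).1).2 (mV A hA).2⟩)
    simp only [Finset.sum_insert n1, Finset.sum_insert n2, if_neg n1, if_neg n2, Finset.sum_ite_mem, Finset.inter_self,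
      Finset.sum_congr rfl fun A hA => if_pos hA, Finset.sum_const, smul_eq_mul, Finset.forall_mem_insert] at t1 t2
    have u1 : 2 * U.card + 1 ≤ e := by
      by_contra h3
      have := t1.1
      nlinarith
    have u2 : 2 * V.card + 1 ≤ e := by
      by_contra h3
      have := t2.1
      nlinarith
    have u4 : e = 2 * V.card + 1 := by omega
    have u5 : e = 2 * U.card + 1 := by omega
    have u3 : q = 2 * e := by
      by_contra h3
      have := t2.1
      have : 1 ≤ V.card := by omega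
      have : 2 * e + 1 ≤ q := by omega
      nlinarith
    obtain ⟨⟨-, s1⟩, s2⟩ := t1.2 (by nlinarith)
    obtain ⟨⟨s3, s4⟩, s5⟩ := t2.2 (by nlinarith)
    refine ⟨by omega, fun A hA => by rw [deg_spec, s1 A hA, if_pos hA]; push_cast; ring,
      fun A hA => by rw [deg_spec, s4 A hA, if_pos hA]; simp, by omega, fun l => ⟨?_, fun g hg => ⟨?_, ?_⟩⟩⟩
    · rw [B.agree l k 1 reg_one, deg_spec, s3, u3]; push_cast; ring
    · rw [s2]; simp
    · rw [← f3 g hg, s5, B.agree l k g hg]; push_cast; ring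
  · obtain ⟨k, hk⟩ := c4 rfl
    have n2 : ζ k ∉ U := fun h => B.disj k (mU _ h).1
    have n3 : ζ k ≠ i1 G := fun h => B.disj k (h ▸ B.one)
    have n4 : i1 G ∉ insert (ζ k) U := by simp [n1, n3.symm]
    have t1 := tight (cc_char χ χ) (insert (i1 G) (insert (ζ k) U)) ((Finset.forall_mem_insert _ _ _).2 ⟨o1,
      (Finset.forall_mem_insert _ _ _).2 ⟨hk, fun A hA => c1 A (mU A hA).1 (mU A hA).2.2⟩⟩) f1
      (fun A => if A ∈ U then q + 2 else if A = i1 G then 1 else q + 1 - e) ((Finset.forall_mem_insert _ _ _).2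
      ⟨by simp [n1, d1], (Finset.forall_mem_insert _ _ _).2 ⟨by simpa [n2, n3] using (B.degY_ge k).2 rfl,
        fun A hA => (if_pos hA).trans_le ((B.degX_ge hG (mU A hA).1).1 (mU A hA).2.1 (mU A hA).2.2)⟩⟩)
    have t2 := tight (cc_char χ χ') V (fun A hA => c2 A (mV A hA).1 (mV A hA).2) f2 (fun _ => q)
      fun A hA => by simpa using (B.degX_ge hG (mV A hA).1).2 (mV A hA).2
    simp only [Finset.sum_insert n4, Finset.sum_insert n2, if_neg n1, if_neg n2, if_neg n3, if_true,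
      Finset.sum_congr rfl fun A hA => if_pos hA, Finset.sum_const, smul_eq_mul, Finset.forall_mem_insert] at t1 t2
    obtain ⟨r, hr⟩ : ∃ r, q + 1 - e = r := ⟨_, rfl⟩
    rw [hr] at t1
    have u0 : e + 1 ≤ r := by omega
    have u1 : 2 * U.card + 2 ≤ e := by
      by_contra h3
      have := t1.1
      nlinarith
    have u2 : 2 * V.card ≤ e := by
      by_contra h3
      have := t2.1
      nlinarith
    have u4 : e = 2 * V.card := by omega
    have u5 : e = 2 * U.card + 2 := by omega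
    have u3 : q = 2 * e := by
      by_contra h3
      have := t2.1
      have : 2 * e + 1 ≤ q := by omega
      nlinarith
    obtain ⟨⟨-, s3, s1⟩, s2⟩ := t1.2 (by nlinarith)
    obtain ⟨s4, s5⟩ := t2.2 (by nlinarith)
    refine ⟨by omega, fun A hA => by rw [deg_spec, s1 A hA, if_pos hA]; push_cast; ring,
      fun A hA => by rw [deg_spec, s4 A hA]; simp, by omega, fun l => ⟨?_, fun g hg => ⟨?_, ?_⟩⟩⟩
    · rw [B.agree l k 1 reg_one, deg_spec, s3, show r = e + 1 by omega, u3]; push_cast; ring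
    · rw [s2, B.agree l k g hg]; simp; ring
    · rw [← f3 g hg, s5]; simp

omit h in
theorem orbS_pow (ψ : P.1 →* ℂˣ) (x : P.1) (k : ℕ) : orbS ψ (x ^ k) = orbS (ψ ^ k) x := by
  simp only [orbS, map_pow]; rfl

theorem SmD.norm_const (S : SmD P χ χ' i j θ) (h1 : deg θ = 1) (t2 : Fintype.card (I0 P) = 2)
    (hK : ∀ d : CP P, rt P d = 1 → (d : G) ∈ center G) :
    ∃ N : ℝ, ∀ z, p ∣ orderOf z → ‖χ.1 z - χ'.1 z‖ = N := by
  classical
  have hU : (Finset.univ : Finset (I0 P)) = {i, j} := (Finset.eq_of_subset_of_card_le (Finset.subset_univ _)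
    (by rw [Finset.card_univ, t2, Finset.card_pair S.ne])).symm
  have s : ∀ y : P.1, y ≠ 1 → orbS j.1.out y = -1 - orbS i.1.out y := fun y hy => by
    have := sum_orbS_I0 hy
    rw [hU, Finset.sum_pair S.ne] at this; linear_combination this
  obtain ⟨x, hx, x1⟩ := exists_gen P
  have x2 : (⟨x, hx⟩ : P.1) ≠ 1 := fun e => x1 (congrArg Subtype.val e)
  refine ⟨‖2 * orbS i.1.out ⟨x, hx⟩ + 1‖, fun z hz => ?_⟩
  obtain ⟨c, w, hw, e⟩ := exists_conj_sing P hz
  let y : CP P := ⟨rt P w, le_C P (rt P _).2⟩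
  have h6 : rt P (w * y⁻¹) = 1 := by simp [y, rt_coe (c := y) (rt P _).2]
  obtain ⟨ω, o1, o2⟩ := χ.2.exists_scalar_of_mem_center (hK _ h6)
  obtain ⟨ω', -, o3⟩ := χ'.2.exists_scalar_of_mem_center (hK _ h6)
  obtain rfl : ω = ω' := by
    have := S.agree _ (rt_eq_one.1 h6)
    rw [← mul_one ((w * y⁻¹ : CP P) : G), o2, o3, S.agree 1 reg_one] at this
    exact mul_right_cancel₀ (irr_one_ne _) this
  have y1 : rt P w ≠ 1 := mt rt_eq_one.mp (not_not.mpr hw)
  rw [← χ.2.classFun z c, ← χ'.2.classFun z c, e, show (w : G) = (w * y⁻¹ : CP P) * rt P w by simp [y], o2, o3,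
    ← mul_sub, norm_mul, norm_eq_one_of_pow_eq_one' (orderOf_pos _).ne' o1, one_mul, S.val, S.val', h1, s _ y1]
  obtain ⟨k, hk⟩ : ∃ k : ℕ, (⟨x, hx⟩ : P.1) ^ k = rt P w := by
    obtain ⟨k, hk⟩ := (Submonoid.mem_powers_iff _ _).1 (mem_powers_iff_mem_zpowers.2 ((zp hx x1).ge (rt P w).2))
    exact ⟨k, Subtype.ext hk⟩
  have n1 : i.1.out ^ k ≠ 1 := fun e => outT_ne_one i (MonoidHom.ext fun u => by
    obtain ⟨l, hl⟩ : (u : G) ∈ zpowers (rt P w : G) := (zp (rt P w).2 fun e => y1 (Subtype.ext e)).symm ▸ u.2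
    have : i.1.out (rt P w) = 1 := by rw [← hk, map_pow, ← MonoidHom.pow_apply, e]; rfl
    rw [show u = rt P w ^ l from Subtype.ext hl.symm, map_zpow, this, one_zpow]; rfl)
  rw [← hk, orbS_pow]
  rcases Finset.mem_insert.1 (hU ▸ Finset.mem_univ (mkT _ _ n1)) with e | e
  · rw [orbS_mk n1 e]; congr 1; push_cast; ring
  · rw [orbS_mk n1 (Finset.mem_singleton.1 e), s _ x2, ← norm_neg]; congr 1; push_cast; ring

theorem brauer_core (hG : ∀ N : Subgroup G, N.Normal → P.1 ≤ N → N = ⊤) (hk : ∀ g, χ.1 g = χ.1 1 → g = 1)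
    (h2 : deg χ ≠ 1) (hd : 2 * deg χ + 1 ≤ p) : 2 * deg χ + 1 = p ∧ deg χ = fN P ∧
    (∀ d : CP P, rt P d = 1 → (d : G) ∈ center G) ∧ (NP P).index = p + 1 := by
  classical
  have d0 := deg_pos χ
  have nc : center G ≠ ⊤ := fun e => h2 (Nat.cast_eq_one.1 ((deg_spec χ).symm.trans (χ.2.deg_one_of_comm fun a b =>
    mem_center_iff.1 (e ▸ mem_top b : b ∈ center G) a)))
  have nP : ¬ P.1 ≤ center G := fun l => nc (hG _ inferInstance l)
  obtain ⟨χ', i, j, θ, S⟩ := exists_SmD (P := P) (fun l => nP fun y hy => by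
    rw [hk y (l hy)]; exact one_mem _) hd
  obtain ⟨X, ζ, a, δ, B⟩ := exists_PBl P
  have hK : ∀ d : CP P, rt P d = 1 → (d : G) ∈ center G := fun d e => mem_center_iff.2 fun x =>
    S.cent hk (by omega) d e x ((hG _ inferInstance subset_normalClosure).ge (mem_top x))
  have h1 : deg θ = 1 := Nat.cast_eq_one.1 ((deg_spec θ).symm.trans (θ.2.deg_one_of_comm fun u v => by
    let y : CP P := ⟨rt P u, le_C P (rt P _).2⟩
    have h6 := mem_center_iff.1 (hK (u * y⁻¹) (by simp [y, rt_coe (c := y) (rt P _).2])) v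
    have h7 : y * v = v * y := Subtype.ext (v.2 _ (rt P u).2)
    calc u * v = u * y⁻¹ * v * y := by rw [mul_assoc _ v, ← h7]; group
      _ = v * u := by rw [show u * y⁻¹ * v = v * (u * y⁻¹) from Subtype.ext h6.symm]; group))
  have h3 : deg χ = fN P := by rw [S.deg_eq, h1, one_mul]
  obtain ⟨hp2, t1, t2, t3, t4⟩ := S.table B hG h3 h2 hd
  refine ⟨by omega, h3, hK, ?_⟩
  have c2 : Fintype.card (I0 P) = 2 := Nat.eq_of_mul_eq_mul_right (fN_pos (P := P)) (by rw [card_I0]; omega)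
  obtain ⟨N, hN⟩ := S.norm_const h1 c2 hK
  have cN := card_NP (P := P)
  have cX := B.card
  set e := fN P
  have hp3 : (p : ℂ) = 2 * e + 1 := by exact_mod_cast hp2
  have hp4 : (p : ℝ) = 2 * e + 1 := by exact_mod_cast hp2
  have e2 : (2 : ℝ) ≤ e := by exact_mod_cast (by omega : 2 ≤ e)
  have G0 : (0 : ℝ) < Nat.card G := by exact_mod_cast Nat.card_pos
  have G1 := card_ne_zero_complex G
  have sY : ∀ g, ¬ p ∣ orderOf g → ∑ k, (ζ k).1 g = 2 * (ζ i).1 g := fun g hg => by
    rw [Finset.sum_congr rfl fun k _ => B.agree k i g hg]; simp [c2]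
  have dd : (δ : ℂ) * δ = 1 := by rcases B.sign with e | e <;> simp [e]
  let s : G → ℝ := fun g => if p ∣ orderOf g then 1 else 0
  have σ1 : ∀ g, B.cmb (fun A => 2 * a A) (-δ) g = p * s g := fun g => by
    rw [B.cmb_apply]
    by_cases hg : p ∣ orderOf g
    · rw [Finset.sum_congr rfl (g := fun _ => 2) fun A hA => by
        rw [B.valX A hA g hg]; rcases B.sg A hA with e | e <;> simp [e], B.sumY hg]
      simp only [Finset.sum_const, cX, s, if_pos hg, hp3, nsmul_eq_mul]; push_cast; linear_combination dd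
    · simp only [mul_assoc, ← Finset.mul_sum, ← B.rel i g hg, sY g hg, s, if_neg hg]; simp; ring
  have sum1 : ∀ F : G → ℂ, ∑ g, F g = Nat.card G * ⟪F, (i1 G).1⟫ := fun F => by
    rw [inner_one_right, mul_inv_cancel_left₀ G1]
  have σ2 : p * ∑ g, s g = 2 * Nat.card G := by
    have := sum1 (B.cmb (fun A => 2 * a A) (-δ))
    simp only [σ1, B.ip_cmb_X _ _ B.one, B.a_one, ← Finset.mul_sum] at this
    exact_mod_cast (by push_cast; linear_combination this : (p : ℂ) * ((∑ g, s g : ℝ) : ℂ) = 2 * Nat.card G)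
  have ne := fun e => S.ne_char (Subtype.ext e)
  have b1 : ⟪χ.1 - χ'.1, χ.1⟫ = 1 := by
    rw [CfsgH3.inner_sub_left, χ.2.inner_self, χ'.2.inner_of_ne χ.2 (Ne.symm ne), sub_zero]
  have b2 : ⟪χ.1 - χ'.1, χ'.1⟫ = -1 := by
    rw [CfsgH3.inner_sub_left, χ'.2.inner_self, χ.2.inner_of_ne χ'.2 ne, zero_sub]
  have b3 : ∀ g, ‖(χ.1 - χ'.1) g‖ = N * s g := fun g => by
    by_cases hg : p ∣ orderOf g
    · simp [s, hg, hN g hg]
    · simp [s, hg, S.agree g hg]
  have ss : ∀ g, s g * s g = s g := fun g => by simp only [s]; split_ifs <;> simp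
  have b4 : N * N = p := by
    have := inner_self_eq (χ.1 - χ'.1)
    rw [CfsgH3.inner_sub_right, b1, b2] at this
    simp only [b3, sq, mul_mul_mul_comm N (s _), ss, ← Finset.mul_sum] at this
    have k : (2 : ℝ) = (Nat.card G : ℝ)⁻¹ * (N * N * ∑ g, s g) := by
      exact Complex.ofReal_injective (Eq.trans (by norm_num) this)
    rw [eq_inv_mul_iff_mul_eq₀ G0.ne'] at k
    refine mul_right_cancel₀ (b := (2 : ℝ) * Nat.card G) (mul_pos two_pos G0).ne' ?_
    linear_combination -(p : ℝ) * k - N * N * σ2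
  have χ1 : χ.1 1 = e := by rw [deg_spec, h3]
  have e0 : (e : ℂ) ≠ 0 := χ1 ▸ irr_one_ne χ
  have e1 : (e : ℂ) + 1 ≠ 0 := Nat.cast_add_one_ne_zero e
  have ccn : ∀ g, cc χ χ g = ((‖χ.1 g‖ ^ 2 : ℝ) : ℂ) := fun g => by
    rw [cc, Complex.mul_conj, Complex.normSq_eq_norm_sq]
  have key : ∀ g, ¬ p ∣ orderOf g → g ∉ center G → ‖χ.1 g‖ ≤ 1 := fun g hg hz => by
    have k1 : ∑ x, (χ.1 - χ'.1) x * (χ.1 - χ'.1) (x⁻¹ * g) = 2 * Nat.card G / e * χ.1 g := by
      have hc := isClassFunction_sub χ.2.classFun χ'.2.classFun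
      simp only [Pi.sub_apply χ.1 χ'.1 (_ * g), mul_sub, Finset.sum_sub_distrib, conv_irr hc, b1, b2,
        ← S.agree g hg, ← S.agree 1 reg_one, χ1]
      ring
    have k2 : ∑ x, p * s x * (p * s (x⁻¹ * g)) = Nat.card G * (2 * p * (e + ‖χ.1 g‖ ^ 2) / (e * (e + 1))) := by
      have := B.conv_cmb (fun A => 2 * a A) (-δ) g
      rw [B.sum_X, B.a_one, Finset.sum_congr (s₁ := (X.erase _).filter _) rfl (g := fun A => 4 / (p + 1) * A.1 g)
          fun A hA => by rw [t1 A hA, (Finset.mem_filter.1 hA).2]; norm_num,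
        Finset.sum_congr (s₁ := X.filter _) rfl (g := fun A => 4 / (p - 1) * A.1 g)
          fun A hA => by rw [t2 A hA, (Finset.mem_filter.1 hA).2]; norm_num,
        Finset.sum_congr (s₁ := Finset.univ (α := I0 P)) rfl (g := fun k => 2 / (p - δ) * (ζ k).1 g)
          fun k _ => by rw [(t4 k).1, neg_mul_neg, dd, one_div_div], ← Finset.mul_sum, ← Finset.mul_sum,
        ← Finset.mul_sum, sY g hg, eq_sub_of_add_eq ((t4 i).2 g hg).2,
        eq_sub_of_add_eq' (eq_sub_of_add_eq ((t4 i).2 g hg).1), ccn] at this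
      simp only [σ1] at this
      refine Complex.ofReal_injective ?_
      push_cast at this ⊢
      rw [this, hp3]
      have : (2 * e + 1 + 1 : ℂ) ≠ 0 := by rw [show (2 * e + 1 + 1 : ℂ) = 2 * (e + 1) by ring]; simp [e1]
      rcases B.sign with e | e <;> simp only [e, Int.cast_neg, Int.cast_one, sub_neg_eq_add, add_sub_cancel_right] <;>
        field_simp <;> ring
    have k3 := (norm_sum_le _ _).trans_eq' (congrArg norm k1)
    simp only [norm_mul, b3, mul_mul_mul_comm N (s _), b4, norm_div, Complex.norm_natCast, Complex.norm_ofNat] at k3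
    simp only [mul_mul_mul_comm (p : ℝ) (s _), mul_assoc (p : ℝ), ← Finset.mul_sum] at k2 k3
    have k4 : ‖χ.1 g‖ < e := by
      refine (χ.2.isChar.norm_le g).lt_of_ne' (fun e => hz ?_) |>.trans_eq (by rw [χ1, Complex.norm_natCast])
      refine mem_center_iff.2 fun x => ?_
      have := hk _ (χ.2.isChar.commutator_mem_ker e.symm x)
      rw [mul_inv_eq_one, mul_inv_eq_iff_eq_mul] at this
      exact this.symm
    have k5 : (p : ℝ) * ∑ x, s x * s (x⁻¹ * g) = Nat.card G * (2 * (e + ‖χ.1 g‖ ^ 2) / (e * (e + 1))) :=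
      mul_left_cancel₀ (a := (p : ℝ)) (by rw [hp4]; positivity) (by rw [k2]; ring)
    rw [k5, div_mul_eq_mul_div, ← mul_div_assoc, div_le_div_iff₀ (by positivity) (by positivity)] at k3
    have k6 : ‖χ.1 g‖ * (e + 1) ≤ e + ‖χ.1 g‖ ^ 2 := le_of_mul_le_mul_left (a := (2 : ℝ) * Nat.card G * e)
      (by linarith) (mul_pos (mul_pos two_pos G0) (by linarith))
    by_contra k7
    nlinarith
  let u : G → ℝ := fun g => if p ∣ orderOf g then 1 else 4 * ‖χ.1 g‖ ^ 2
  have U1 : ∀ g, B.cmb (fun _ => 2) 1 g = u g := fun g => by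
    rw [B.cmb_apply]
    by_cases hg : p ∣ orderOf g
    · rw [Finset.sum_congr rfl fun A hA => by rw [B.valX A hA g hg], B.sumY hg, ← Finset.mul_sum]
      simp only [u, if_pos hg]; exact_mod_cast (by linarith : 2 * ∑ A ∈ X, a A + 1 * -δ = 1)
    · have := (t4 i).2 g hg
      rw [← Finset.mul_sum, B.sum_X, sY g hg]
      simp only [u, if_neg hg, ccn] at this ⊢
      push_cast at this ⊢
      linear_combination 2 * this.1 + 2 * this.2
  have U2 : ∑ g, u g = 2 * Nat.card G := by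
    have := sum1 (B.cmb (fun _ => 2) 1)
    simp only [U1, B.ip_cmb_X _ _ B.one] at this
    exact_mod_cast (by push_cast; linear_combination this : ((∑ g, u g : ℝ) : ℂ) = 2 * Nat.card G)
  have U3 : ∑ g, u g ^ 2 = (4 * e + 2) * Nat.card G := by
    have := inner_self_eq (B.cmb (fun _ => 2) 1)
    nth_rewrite 2 [PBl.cmb] at this
    simp only [CfsgH3.inner_add_right, CfsgH3.inner_smul_right, CfsgH3.inner_sum_right, B.ip_cmb_Y, U1,
      Complex.norm_real, Real.norm_eq_abs, sq_abs] at this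
    rw [Finset.sum_congr rfl fun A hA => by rw [B.ip_cmb_X _ _ hA]] at this
    simp only [Finset.sum_const, cX, Finset.card_univ, c2, nsmul_eq_mul, map_ofNat, map_one] at this
    have k : (4 * e + 2 : ℝ) = (Nat.card G : ℝ)⁻¹ * ∑ g, u g ^ 2 := by
      exact Complex.ofReal_injective (Eq.trans (by push_cast; ring) this)
    rw [k, mul_comm, mul_inv_cancel_left₀ G0.ne']
  have U4 : ∑ g, (u g ^ 2 - 4 * u g) ≤ ∑ g, (-3 * s g + if g ∈ center G then 16 * (e ^ 4 - e ^ 2 : ℝ) else 0) :=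
    Finset.sum_le_sum fun g _ => by
      have r0 := norm_nonneg (χ.1 g)
      by_cases hg : p ∣ orderOf g
      · have : (0 : ℝ) ≤ e ^ 4 - e ^ 2 := by nlinarith [sq_nonneg ((e : ℝ) ^ 2 - 1)]
        simp only [u, s, if_pos hg]; split_ifs <;> nlinarith
      simp only [u, s, if_neg hg]
      split_ifs with hz
      · rw [χ.2.isChar.mem_cent.1 (χ.2.center_le_cent hz), χ1, Complex.norm_natCast]; nlinarith
      · have := key g hg hz
        have : ‖χ.1 g‖ ^ 2 ≤ 1 := by nlinarith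
        nlinarith [sq_nonneg ‖χ.1 g‖]
  rw [Finset.sum_sub_distrib, ← Finset.mul_sum, U2, U3, Finset.sum_add_distrib, ← Finset.mul_sum,
    ← Finset.sum_filter (· ∈ center G), Finset.sum_const, nsmul_eq_mul, ← Fintype.card_subtype, ← Nat.card_eq_fintype_card] at U4
  have z1 : p * Nat.card (center G) ≤ Nat.card (CP P) := Nat.le_of_dvd Nat.card_pos
    (((Nat.Prime.coprime_iff_not_dvd hp.out).2 fun d => nP (le_of_dvd_card d)).mul_dvd_of_dvd_of_dvd
      (h.card.symm.dvd.trans (card_dvd_of_le (le_C P))) (card_dvd_of_le (center_le_centralizer _)))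
  have z2 : (Nat.card G : ℝ) = Nat.card (CP P) * e * (NP P).index := by
    rw [← card_mul_index (NP P), cN]; push_cast; ring
  have z3 : (p : ℝ) * Nat.card (center G) ≤ Nat.card (CP P) := by exact_mod_cast z1
  have C0 : (0 : ℝ) < Nat.card (CP P) := by exact_mod_cast Nat.card_pos
  have z4 : (Nat.card G : ℝ) * (8 * e * (e - 1)) ≤ Nat.card (CP P) * (16 * (e ^ 4 - e ^ 2)) := by
    have : (0 : ℝ) ≤ 16 * (e ^ 4 - e ^ 2) := by nlinarith [sq_nonneg ((e : ℝ) ^ 2 - 1)]
    have k1 := mul_le_mul_of_nonneg_right z3 this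
    have k2 := mul_le_mul_of_nonneg_left U4 (show (0 : ℝ) ≤ p by positivity)
    have k3 : Nat.card {x // x ∈ center G} = Nat.card (center G) := rfl
    rw [mul_add, mul_left_comm _ (-3), σ2, k3] at k2
    rw [hp4] at k1 k2
    linarith
  have z5 : ((NP P).index : ℝ) ≤ 2 * e + 2 := le_of_mul_le_mul_left (a := (Nat.card (CP P) : ℝ) * (8 * e * e * (e - 1)))
    (by rw [z2] at z4; linarith) (mul_pos C0 (mul_pos (by nlinarith) (by linarith)))
  have z6 : (NP P).index ≤ p + 1 := by exact_mod_cast (by rw [hp4]; linarith : ((NP P).index : ℝ) ≤ p + 1)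
  have z7 : (NP P).index % p = 1 := by
    rw [← card_sylow_eq_NP, card_sylow_modEq_one p G, Nat.mod_eq_of_lt hp.out.one_lt]
  have z8 : (NP P).index ≠ 1 := fun e => by
    have := hG _ (normalizer_eq_top_iff.1 (index_eq_one.1 e)) le_rfl
    exact nP fun y hy => mem_center_iff.2 fun x => le_C P hy x (this.ge (mem_top x))
  have := Nat.mod_add_div (NP P).index p
  rcases hq : (NP P).index / p with _ | _ | n <;> rw [hq, z7] at this
  · omega
  · omega
  · nlinarith

theorem brauer_psl (hG : ∀ N : Subgroup G, N.Normal → P.1 ≤ N → N = ⊤) (hk : ∀ g, χ.1 g = χ.1 1 → g = 1)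
    (h2 : deg χ ≠ 1) (hd : 2 * deg χ + 1 ≤ p) :
    Nonempty (G ⧸ center G ≃* Matrix.ProjectiveSpecialLinearGroup (Fin 2) (ZMod p)) := by
  obtain ⟨k1, k2, k3, k4⟩ := brauer_core hG hk h2 hd
  have d0 := deg_pos χ
  have nc : center G ≠ ⊤ := fun e => h2 (Nat.cast_eq_one.1 ((deg_spec χ).symm.trans (χ.2.deg_one_of_comm fun a b =>
    mem_center_iff.1 (e ▸ mem_top b : b ∈ center G) a)))
  have nP : ¬ p ∣ Nat.card (center G) := fun d => nc (hG _ inferInstance (le_of_dvd_card d))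
  have c1 : CP P = P.1 ⊔ center G := le_antisymm (fun c hc => by
    let y : CP P := ⟨rt P ⟨c, hc⟩, le_C P (rt P _).2⟩
    have := mul_mem (mem_sup_right (S := P.1) (k3 (⟨c, hc⟩ * y⁻¹) (by simp [y, rt_coe (c := y) (rt P _).2])))
      (mem_sup_left (rt P ⟨c, hc⟩).2)
    simpa [y] using this) (sup_le (le_C P) (center_le_centralizer _))
  have c2 : Nat.card (CP P) = p * Nat.card (center G) := by
    have := CfsgH1.card_sup_mul_card_inf P.1 (center G)
    rwa [← c1, inf_eq_bot_of_coprime (h.card.symm ▸ (Nat.Prime.coprime_iff_not_dvd hp.out).2 nP), card_bot, mul_one,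
      h.card] at this
  have c3 : Nat.card (G ⧸ center G) = (p + 1) * p * deg χ := Nat.eq_of_mul_eq_mul_right (Nat.card_pos (α := center G)) (by
    rw [← card_eq_card_quotient_mul_card_subgroup, ← card_mul_index (NP P), card_NP, c2, k4, k2]; ring)
  have : Nontrivial (G ⧸ center G) := QuotientGroup.nontrivial_iff.2 nc
  have : IsSimpleGroup (G ⧸ center G) := ⟨fun N hN => by
    by_cases d : p ∣ Nat.card (N.comap (QuotientGroup.mk' (center G)))
    · exact Or.inr (comap_injective (QuotientGroup.mk'_surjective _)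
        ((hG _ inferInstance (le_of_dvd_card d)).trans (comap_top _).symm))
    · have l := cent_of_small (P := P) χ.2.isChar hk (deg_spec χ) (by omega) d
      have l2 := hG (centralizer (N.comap (QuotientGroup.mk' (center G)) : Set G)) inferInstance (le_centralizer_iff.1 l)
      refine Or.inl (eq_bot_iff.2 fun x hx => ?_)
      obtain ⟨x, rfl⟩ := QuotientGroup.mk'_surjective _ x
      exact (QuotientGroup.eq_one_iff x).2 (centralizer_eq_top_iff_subset.1 l2 hx)⟩
  exact ((NAS.of_card (by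
    rw [c3, mul_assoc]; exact Nat.not_prime_mul (by omega) (by have := hp.out.two_le; nlinarith))).psl_of_card hp.out c3
    (by omega)).2 _ (Nat.card_zmod p)

omit [DecidableEq (IrrCharacter G)] in
theorem brauer_core' (hG : ∀ N : Subgroup G, N.Normal → P.1 ≤ N → N = ⊤) (h2 : deg χ ≠ 1)
    (hd : 2 * deg χ + 1 ≤ p) : 2 * deg χ + 1 = p := by
  classical
  obtain ⟨ξ, hξ, e⟩ := χ.2.exists_quotient χ.2.isChar.ker fun _ h => h
  have := Fintype.ofFinite (G ⧸ χ.2.isChar.ker)
  have s := QuotientGroup.mk'_surjective χ.2.isChar.ker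
  have nd : ¬ p ∣ Nat.card χ.2.isChar.ker := fun d => h2 (by
    rw [eq_i1_of_ker (hG _ inferInstance (le_of_dvd_card d))]; exact Nat.cast_eq_one.1 (deg_spec (i1 G)).symm)
  have : O1 (P.mapSurjective s) := ⟨by
    have := CfsgH1.card_sup_mul_card_inf P.1 χ.2.isChar.ker
    rw [inf_eq_bot_of_coprime (h.card.symm ▸ (Nat.Prime.coprime_iff_not_dvd hp.out).2 nd), card_bot, mul_one,
      h.card, ← QuotientGroup.ker_mk' χ.2.isChar.ker, ← comap_map_eq, CfsgH1.card_comap_of_surjective _ s] at this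
    exact Nat.eq_of_mul_eq_mul_right Nat.card_pos this⟩
  have d : deg (⟨ξ, hξ⟩ : IrrCharacter _) = deg χ := Nat.cast_injective (R := ℂ) (by
    rw [← deg_spec, ← deg_spec]; exact e 1)
  rw [← d] at h2 hd ⊢
  refine (brauer_core (P := P.mapSurjective s) (fun N hN l => comap_injective s ((hG _ inferInstance
    (map_le_iff_le_comap.1 l)).trans (comap_top _).symm)) (fun g hg => ?_) h2 hd).1
  obtain ⟨g, rfl⟩ := s g
  exact (QuotientGroup.eq_one_iff g).2 ((e g).symm.trans (hg.trans (e 1)))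

omit [DecidableEq (IrrCharacter G)] in
/-- Brauer's theorem on linear groups of degree at most `(p - 1) / 2`. -/
theorem brauer_lin (hP : ¬ P.1.Normal) {f : G → ℂ} (hf : IsCharacter G f) (hk : ∀ g, f g = f 1 → g = 1) {d : ℕ}
    (h1 : f 1 = d) (hd : 2 * d + 1 ≤ p) : 2 * d + 1 = p ∧
    Nonempty (G ⧸ center G ≃* Matrix.ProjectiveSpecialLinearGroup (Fin 2) (ZMod p)) := by
  classical
  let H := normalClosure (P.1 : Set G)
  have hH : P.1 ≤ H := subset_normalClosure
  have hQ : O1 (P.subtype hH) := ⟨by rw [Sylow.coe_subtype, CfsgH1.card_subgroupOf_of_le hH, h.card]⟩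
  have fr := P.normalizer_sup_eq_top' hH
  obtain ⟨ψ, hψ, c1, c2⟩ : ∃ ψ, IsIrrCharacter H ψ ∧ ⟪fun x : H => f x, ψ⟫ ≠ 0 ∧ ψ 1 ≠ 1 := by
    by_contra hn
    push Not at hn
    have h1 : ∀ c ∈ commutator H, f c = f (1 : H) := fun c hc => apply_eq_of_constituents (hf.restrict H)
      fun ψ hψ h => apply_commutator_of_deg_one hψ.isChar (hn ψ hψ h) hc
    have h2 : H ≤ normalizer P.1 := fun g hg => centralizer_le_normalizer _ fun y hy => mul_inv_eq_iff_eq_mul.mp
      (mul_inv_eq_one.mp (hk _ (h1 ⁅⟨y, hH hy⟩, ⟨g, hg⟩⁆ (commutator_mem_commutator (mem_top _) (mem_top _)))))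
    exact hP (normalizer_eq_top_iff.mp ((sup_eq_left.mpr h2).symm.trans fr))
  let ξ : IrrCharacter H := ⟨ψ, hψ⟩
  have l := (hf.restrict H).deg_le_of_constituent hψ c1 h1 (deg_spec ξ)
  have n1 : deg ξ ≠ 1 := fun e => c2 ((deg_spec ξ).trans (by rw [e, Nat.cast_one]))
  have k1 := brauer_core' (top_of_ncl P) n1 (l.trans' le_rfl |> fun _ => by omega)
  obtain rfl : d = deg ξ := by omega
  have e := (hf.restrict H).eq_of_constituent_of_deg_eq hψ c1 (h1.trans (deg_spec ξ).symm)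
  have hk' : ∀ g, ξ.1 g = ξ.1 1 → g = 1 := fun g hg => Subtype.ext (hk g
    ((congrFun e g).trans (hg.trans (congrFun e 1).symm)))
  obtain ⟨-, k2, -, -⟩ := brauer_core (top_of_ncl P) hk' n1 hd
  obtain ⟨ι⟩ := brauer_psl (top_of_ncl P) hk' n1 hd
  have zc : ∀ c ∈ centralizer (H : Set G), c ∈ center G := fun c hc => by
    have i1 : IsIrrCharacter (H ⊔ zpowers c : Subgroup G) fun x => f x := (hf.restrict _).irr_of_res_irr
      (inclusion le_sup_left) (e ▸ hψ : IsIrrCharacter H fun x => f x)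
    have i2 := i1.center_le_cent (x := ⟨c, mem_sup_right (mem_zpowers c)⟩) (mem_center_iff.2 fun x => Subtype.ext
      (mem_centralizer_singleton_iff.1 ((sup_le (fun y hy => mem_centralizer_singleton_iff.2 (hc y hy))
        (zpowers_le.2 (mem_centralizer_singleton_iff.2 rfl)) : H ⊔ zpowers c ≤ centralizer {c}) x.2)))
    refine mem_center_iff.2 fun x => ?_
    have := hk _ (hf.commutator_mem_ker (z := c) i2 x)
    rw [mul_inv_eq_one, mul_inv_eq_iff_eq_mul] at this
    exact this.symm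
  let χ : IrrCharacter G := ⟨f, hf.irr_of_res_irr H.subtype (e ▸ hψ : IsIrrCharacter H fun x => f x)⟩
  have dχ : deg χ = deg ξ := Nat.cast_injective (R := ℂ) ((deg_spec χ).symm.trans h1)
  obtain ⟨y, hy, y1⟩ := exists_gen P
  obtain ⟨χ', i, j, θ, S⟩ := exists_SmD (P := P) (χ := χ) (fun l => y1 (hk y (l hy))) (by omega)
  have c3 : CP P ≤ H ⊔ center G := fun c hc => by
    let y : CP P := ⟨rt P ⟨c, hc⟩, le_C P (rt P _).2⟩
    have := mul_mem (mem_sup_right (S := H) (zc _ (S.cent hk (by have := deg_pos χ; omega) (⟨c, hc⟩ * y⁻¹)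
      (by simp [y, rt_coe (c := y) (rt P _).2])))) (mem_sup_left (hH (rt P ⟨c, hc⟩).2))
    simpa [y] using this
  have c4 : H.subgroupOf (NP P) ⊔ (CP P).subgroupOf (NP P) = ⊤ := by
    have : ((CP P).subgroupOf (NP P)).Normal := normal_subgroupOf_centralizer_normalizer _
    have e1 : fN (P.subtype hH) = ((CP P).subgroupOf (NP P)).relIndex (H.subgroupOf (NP P)) := by
      have a1 : NP (P.subtype hH) = (NP P).subgroupOf H := (subgroupOf_normalizer_eq hH).symm
      have a2 : CP (P.subtype hH) = (CP P).subgroupOf H := Subgroup.ext fun x =>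
        ⟨fun hx y hy => congrArg Subtype.val (hx ⟨y, hH hy⟩ hy), fun hx y hy => Subtype.ext (hx y hy)⟩
      rw [fN, a1, a2, subgroupOf, relIndex_comap, subgroupOf_map_subtype, subgroupOf, relIndex_comap,
        subgroupOf_map_subtype, inf_comm]
    have e2 := relIndex_mul_index (le_sup_right (a := H.subgroupOf (NP P)) (b := (CP P).subgroupOf (NP P)))
    have e3 := S.deg_eq
    have := fN_pos (P := P)
    have := deg_pos θ
    rw [relIndex_sup_right, ← e1, ← k2, ← dχ, e3] at e2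
    refine index_eq_one.1 (Nat.eq_one_of_mul_eq_one_left (m := deg θ) (Nat.eq_of_mul_eq_mul_left (fN_pos (P := P)) ?_))
    rw [← mul_assoc, mul_comm (fN P), e2, mul_one]; rfl
  have c5 : H ⊔ center G = ⊤ := eq_top_iff.2 (fr.ge.trans (sup_le (fun x hx =>
    (sup_le (comap_mono le_sup_left) (comap_mono c3) : _ ≤ (H ⊔ center G).subgroupOf (NP P))
      (c4.ge (mem_top ⟨x, hx⟩))) le_sup_left))
  let φ : H →* G ⧸ center G := (QuotientGroup.mk' _).comp H.subtype
  have s : Function.Surjective φ := fun x => by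
    obtain ⟨x, rfl⟩ := QuotientGroup.mk'_surjective _ x
    obtain ⟨a, ha, z, hz, rfl⟩ := mem_sup_of_normal_right.1 (c5.ge (mem_top x))
    exact ⟨⟨a, ha⟩, by simp [φ, (QuotientGroup.eq_one_iff z).2 hz]⟩
  have kφ : φ.ker = center H := Subgroup.ext fun x => by
    rw [MonoidHom.mem_ker, show φ x = ((x : G) : G ⧸ center G) from rfl, QuotientGroup.eq_one_iff]
    exact ⟨fun h => mem_center_iff.2 fun y => Subtype.ext (mem_center_iff.1 h y),
      fun h => zc _ fun y hy => congrArg Subtype.val (mem_center_iff.1 h ⟨y, hy⟩)⟩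
  exact ⟨k1, ⟨((QuotientGroup.quotientKerEquivOfSurjective φ s).symm.trans
    (QuotientGroup.quotientMulEquivOfEq kφ)).trans ι⟩⟩

omit [DecidableEq (IrrCharacter G)] h in
theorem O1.of_dvd (h1 : p ∣ Nat.card G) (h2 : ¬ p ^ 2 ∣ Nat.card G) (P : Sylow p G) : O1 P := ⟨by
  obtain ⟨n, hn⟩ := IsPGroup.iff_card.1 P.2
  have := P.dvd_card_of_dvd_card h1
  rw [hn] at this ⊢
  rcases n with _ | _ | n
  · exact absurd (Nat.le_of_dvd one_pos this) hp.out.one_lt.not_ge
  · exact pow_one p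
  · exact absurd ((pow_dvd_pow p (by omega)).trans (hn ▸ card_subgroup_dvd_card P.1)) h2⟩

end CfsgH8
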