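import Mathlib
import Cfsg.Agent.H8.Lin3

/-! Jordan's theorem on finite linear groups: the Frobenius–Bieberbach argument. -/

set_option autoImplicit false
set_option linter.unusedSectionVars false

namespace CfsgH8
open Subgroup CfsgH4 Cfsg CfsgH3 CfsgH3.IP CfsgH2
open scoped ComplexConjugate commutatorElement Real

universe u
variable {G : Type u} [Group G] [Finite G]

section Normed
variable {A : Type*} [NormedRing A] [NormedAlgebra ℂ A] {u : G →* A} (hu : ∀ g, ‖u g‖ ≤ 1)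
include hu

theorem norm_conj_sub (x g : G) (α : ℂ) : ‖u (x * g * x⁻¹) - algebraMap ℂ A α‖ ≤ ‖u g - algebraMap ℂ A α‖ := by
  have : u (x * g * x⁻¹) - algebraMap ℂ A α = u x * (u g - algebraMap ℂ A α) * u x⁻¹ := by
    rw [mul_sub, sub_mul, ← Algebra.commutes, mul_assoc (algebraMap ℂ A α), ← map_mul u x x⁻¹, mul_inv_cancel, map_one,
      mul_one, map_mul, map_mul]
  rw [this]
  refine (norm_mul_le _ _).trans ((mul_le_of_le_one_right (norm_nonneg _) (hu _)).trans ((norm_mul_le _ _).trans ?_))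
  exact mul_le_of_le_one_left (norm_nonneg _) (hu _)

theorem frob_comm {a b : G} (hb : ‖u b - 1‖ < 1) (h : Commute a ⁅a, b⁆) : u ⁅a, b⁆ = 1 := by
  set c := ⁅a, b⁆ with hc
  have e : ∀ k : ℕ, c ^ k * b = a ^ k * b * (a ^ k)⁻¹ := fun k => by
    induction k with
    | zero => simp
    | succ k ih =>
      have : a * (c ^ k * b) * a⁻¹ = c ^ k * (c * b) := by
        rw [← mul_assoc, (h.pow_right k).eq, hc, commutatorElement_def]; group
      rw [pow_succ, mul_assoc, ← this, ih]; group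
  let m := orderOf c
  let s := ∑ k ∈ Finset.range m, (u (c ^ k * b) - 1)
  have m0 : (0 : ℝ) < m := Nat.cast_pos.2 (orderOf_pos c)
  have h1 : ‖s‖ ≤ m * ‖u b - 1‖ := (norm_sum_le _ _).trans ((Finset.sum_le_card_nsmul _ _ _ fun k _ => by
    rw [e]; simpa using norm_conj_sub hu (a ^ k) b 1).trans (by simp))
  have h2 : (u c - 1) * s = -((m : ℂ) • (u c - 1)) := by
    simp only [s, Finset.sum_sub_distrib, map_mul, map_pow, ← Finset.sum_mul, mul_sub, ← mul_assoc, mul_geom_sum]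
    simp [m, ← map_pow, Nat.cast_smul_eq_nsmul, ← mul_sub, Nat.cast_comm]
  have h3 := norm_mul_le (u c - 1) s
  rw [h2, norm_neg, norm_smul, Complex.norm_natCast] at h3
  by_contra hn
  have := norm_pos_iff.2 (sub_ne_zero.2 hn)
  nlinarith [mul_le_mul_of_nonneg_left h1 this.le, mul_pos m0 this]

theorem comm_of_near (hi : ∀ g, u g = 1 → g = 1) {α : ℂ} {a : G} (ha : ‖u a - algebraMap ℂ A α‖ < 1 / 2) (b : G) :
    ‖u b - 1‖ < 1 → Commute a b := by
  induction b using (Finite.wellFounded_of_trans_of_irrefl fun x y : G => ‖u x - 1‖ < ‖u y - 1‖).induction with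
  | _ b ih => ?_
  intro hb
  by_cases b1 : b = 1
  · rw [b1]; exact Commute.one_right a
  have b0 := norm_pos_iff.2 (sub_ne_zero.2 (mt (hi b) b1))
  have e : u ⁅a, b⁆ - 1 = ((u a - algebraMap ℂ A α) * (u b - 1) - (u b - 1) * (u a - algebraMap ℂ A α)) *
      u (a⁻¹ * b⁻¹) := by
    have : (u a - algebraMap ℂ A α) * (u b - 1) - (u b - 1) * (u a - algebraMap ℂ A α) = u (a * b) - u (b * a) := by
      simp only [mul_sub, sub_mul, Algebra.commutes, map_mul, mul_one, one_mul]; abel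
    rw [this, sub_mul, ← map_mul, ← map_mul, commutatorElement_def, ← map_one u]; congr 2 <;> group
  have l : ‖u ⁅a, b⁆ - 1‖ < ‖u b - 1‖ := by
    rw [e]
    refine ((norm_mul_le _ _).trans ((mul_le_of_le_one_right (norm_nonneg _) (hu _)).trans (norm_sub_le _ _))).trans_lt ?_
    nlinarith [norm_mul_le (u a - algebraMap ℂ A α) (u b - 1), norm_mul_le (u b - 1) (u a - algebraMap ℂ A α)]
  exact commutatorElement_eq_one_iff_commute.1 (hi _ (frob_comm hu hb (ih _ l (l.trans hb))))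

end Normed

theorem exists_sector : ∃ s : ℂ → Fin 12, ∀ z w : ℂ, ‖z‖ = 1 → ‖w‖ = 1 → s z = s w →
    ‖z⁻¹ * w - (√3 / 2 : ℝ)‖ < 1 / 2 := by
  have pp : 0 < π / 6 := by positivity
  have b : ∀ z : ℂ, 0 < ⌈(z.arg + π) / (π / 6)⌉ ∧ ⌈(z.arg + π) / (π / 6)⌉ ≤ 12 := fun z =>
    ⟨Int.ceil_pos.2 (div_pos (by linarith [z.neg_pi_lt_arg]) pp), Int.ceil_le.2 (by
      rw [div_le_iff₀ pp]; push_cast; linarith [z.arg_le_pi])⟩
  refine ⟨fun z => ⟨(⌈(z.arg + π) / (π / 6)⌉ - 1).toNat, by have := b z; omega⟩, fun z w hz hw h => ?_⟩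
  have h1 : ⌈(w.arg + π) / (π / 6)⌉ = ⌈(z.arg + π) / (π / 6)⌉ := by
    have := b z; have := b w; have := congrArg Fin.val h; simp only at this; omega
  have h2 : |(w.arg + π) / (π / 6) - (z.arg + π) / (π / 6)| < 1 := by
    have a1 := Int.ceil_eq_iff.1 h1
    have a2 := Int.ceil_eq_iff.1 (rfl : ⌈(z.arg + π) / (π / 6)⌉ = _)
    exact abs_lt.2 ⟨by linarith, by linarith⟩
  rw [← sub_div, abs_div, abs_of_pos pp, div_lt_one pp, add_sub_add_right_eq_sub] at h2
  have h3 := Real.cos_lt_cos_of_nonneg_of_le_pi (abs_nonneg _) (by linarith [Real.pi_pos]) h2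
  rw [Real.cos_pi_div_six, Real.cos_abs] at h3
  have e : z⁻¹ * w = Complex.exp ((w.arg - z.arg : ℝ) * Complex.I) := by
    conv_lhs => rw [← z.norm_mul_exp_arg_mul_I, ← w.norm_mul_exp_arg_mul_I, hz, hw]
    simp [sub_mul, Complex.exp_sub, div_eq_inv_mul]
  rw [e, ← sq_lt_sq₀ (norm_nonneg _) (by norm_num), Complex.sq_norm, Complex.normSq_apply]
  simp only [Complex.sub_re, Complex.sub_im, Complex.exp_ofReal_mul_I_re, Complex.exp_ofReal_mul_I_im,
    Complex.ofReal_re, Complex.ofReal_im]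
  nlinarith [Real.sin_sq_add_cos_sq (w.arg - z.arg), Real.sq_sqrt (show (0 : ℝ) ≤ 3 by norm_num),
    Real.sqrt_pos.2 (show (0 : ℝ) < 3 by norm_num)]

theorem exists_lin_sum (hc : ∀ a b : G, a * b = b * a) {χ : G → ℂ} (hχ : IsCharacter G χ) :
    ∃ (ι : Type) (_ : Fintype ι) (l : ι → G →* ℂˣ), χ = fun g => ∑ i, (l i g : ℂ) := by
  refine hχ.induction (P := fun χ => ∃ (ι : Type) (_ : Fintype ι) (l : ι → G →* ℂˣ), χ = fun g => ∑ i, (l i g : ℂ))
    ⟨Empty, inferInstance, nofun, by ext; simp⟩ (fun ψ hψ => ?_) ?_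
  · obtain ⟨l, rfl⟩ := hψ.isChar.exists_hom_of_deg_one (hψ.deg_one_of_comm hc)
    exact ⟨Unit, inferInstance, fun _ => l, by ext; simp⟩
  · rintro _ _ - - ⟨ι, _, l, rfl⟩ ⟨κ, _, m, rfl⟩
    exact ⟨ι ⊕ κ, inferInstance, Sum.elim l m, by ext; simp⟩

theorem exists_weights (hc : ∀ a b : G, a * b = b * a) {V : Type*} [AddCommGroup V] [Module ℂ V] [FiniteDimensional ℂ V]
    (ρ : Representation ℂ G V) : ∃ (ι : Type) (_ : Fintype ι) (l : ι → G →* ℂˣ), Fintype.card ι = Module.finrank ℂ V ∧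
      ∀ x z, Module.End.HasEigenvalue (ρ x) z → ∃ i, (l i x : ℂ) = z := by
  classical
  obtain ⟨ι, _, l, h⟩ := exists_lin_sum hc (isCharacter_rep ρ)
  let σ : Representation ℂ G (ι → ℂ) :=
    { toFun := fun g => Matrix.toLin' (Matrix.diagonal fun i => l i g)
      map_one' := by simp [Module.End.one_eq_id]
      map_mul' := fun a b => by simp [← Matrix.diagonal_mul_diagonal, Module.End.mul_eq_comp] }
  obtain ⟨e, he⟩ := exists_equiv_of_char_eq ρ σ (h.trans (funext fun g => by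
    simp [σ, Representation.character, Matrix.trace_toLin'_eq]))
  refine ⟨ι, inferInstance, l, by rw [e.finrank_eq, Module.finrank_fintype_fun_eq_card], fun x z hz => ?_⟩
  obtain ⟨v, hv⟩ := hz.exists_hasEigenvector
  obtain ⟨i, hi⟩ := Function.ne_iff.1 (e.map_ne_zero_iff.2 hv.2)
  have := congrFun (he x v) i
  rw [hv.apply_eq_smul] at this
  exact ⟨i, mul_right_cancel₀ hi (by simpa [σ, Matrix.mulVec_diagonal] using this.symm)⟩

theorem exists_unitary {χ : G → ℂ} (hχ : IsCharacter G χ) : ∃ (W : Type u) (_ : NormedAddCommGroup W)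
    (_ : InnerProductSpace ℂ W) (_ : FiniteDimensional ℂ W) (σ : Representation ℂ G W),
    σ.character = χ ∧ ∀ g w, ‖σ g w‖ = ‖w‖ := by
  obtain ⟨n, ρ, rfl⟩ := hχ
  have := Fintype.ofFinite G
  let f : (Fin n → ℂ) →ₗ[ℂ] EuclideanSpace ℂ (G × Fin n) := (WithLp.linearEquiv 2 ℂ _).symm.toLinearMap ∘ₗ
    LinearMap.pi fun j => LinearMap.proj j.2 ∘ₗ ρ j.1
  have hf : Function.Injective f := fun a b h => funext fun i => by simpa [f] using congrArg (· (1, i)) h
  refine ⟨f.range, inferInstance, inferInstance, inferInstance, repTransport ρ (LinearEquiv.ofInjective f hf),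
    (Representation.char_iso (repTransportEquiv _ _)).symm, fun g w => ?_⟩
  obtain ⟨v, rfl⟩ := (LinearEquiv.ofInjective f hf).surjective w
  rw [repTransport_apply, LinearEquiv.symm_apply_apply]
  change ‖f _‖ = ‖f _‖
  rw [EuclideanSpace.norm_eq, EuclideanSpace.norm_eq,
    ← Equiv.sum_comp ((Equiv.mulRight g).prodCongr (Equiv.refl _)) fun j => ‖f v j‖ ^ 2]
  simp [f]

/-- Frobenius' form of Jordan's theorem. -/
theorem jordan_frob {χ : G → ℂ} (hχ : IsCharacter G χ) (hk : ∀ g, χ g = χ 1 → g = 1) {n : ℕ} (h1 : χ 1 = n) :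
    ∃ A : Subgroup G, A.Normal ∧ (∀ x ∈ A, ∀ y ∈ A, x * y = y * x) ∧
      ∀ H : Subgroup G, (∀ x ∈ H, ∀ y ∈ H, x * y = y * x) → A.relIndex H ≤ 12 ^ n := by
  obtain ⟨W, _, _, _, σ, rfl, hσ⟩ := exists_unitary hχ
  have := FiniteDimensional.complete ℂ W
  let E := Module.End.toContinuousLinearMap (𝕜 := ℂ) W
  let u : G →* (W →L[ℂ] W) := E.toAlgHom.toMonoidHom.comp σ
  have hu : ∀ g, ‖u g‖ ≤ 1 := fun g => ContinuousLinearMap.opNorm_le_bound _ one_pos.le fun w => by
    rw [one_mul]; exact (hσ g w).le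
  have hi : ∀ g, u g = 1 → g = 1 := fun g h => hk g ((character_eq_one_iff_mem_ker σ g).2
    (E.injective (h.trans (map_one E).symm)))
  let α : ℂ := (√3 / 2 : ℝ)
  let S := {a | ‖u a - algebraMap ℂ _ α‖ < 1 / 2}
  have cm : ∀ a ∈ S, ∀ b ∈ S, a * b = b * a := fun a ha b hb => comm_of_near hu hi ha b (by
    have h1 := norm_sub_le_norm_sub_add_norm_sub (u b) (algebraMap ℂ _ α) 1
    have h2 : ‖algebraMap ℂ (W →L[ℂ] W) α - 1‖ ≤ 1 / 2 := by
      rw [← map_one (algebraMap ℂ _), ← map_sub, norm_algebraMap, ← Complex.ofReal_one, ← Complex.ofReal_sub,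
        Complex.norm_real, Real.norm_eq_abs]
      refine (mul_le_of_le_one_right (abs_nonneg _) ContinuousLinearMap.norm_id_le).trans (abs_le.2 ⟨?_, ?_⟩) <;>
        nlinarith [Real.sq_sqrt (show (0 : ℝ) ≤ 3 by norm_num), Real.sqrt_pos.2 (show (0 : ℝ) < 3 by norm_num)]
    linarith [show ‖u b - algebraMap ℂ _ α‖ < 1 / 2 from hb])
  refine ⟨closure S, ⟨fun a ha g => ?_⟩, fun x hx y hy => ?_, fun H hH => ?_⟩
  · exact (closure_le (K := (closure S).comap (MulAut.conj g).toMonoidHom)).2 (fun b hb =>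
      subset_closure ((norm_conj_sub hu g b α).trans_lt hb)) ha
  · exact congrArg Subtype.val ((isMulCommutative_closure cm).is_comm.comm ⟨x, hx⟩ ⟨y, hy⟩)
  obtain ⟨ι, _, l, c, hl⟩ := exists_weights (G := H) (fun a b => Subtype.ext (hH _ a.2 _ b.2)) (σ.comp H.subtype)
  obtain ⟨s, hs⟩ := exists_sector
  classical
  have d : Module.finrank ℂ W = n := by rw [σ.char_one] at h1; exact_mod_cast h1
  rw [← d, ← c, ← Fintype.card_fin 12, ← Fintype.card_fun, ← Nat.card_eq_fintype_card]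
  refine Nat.card_le_card_of_injective (fun q i => s (l i q.out)) fun q q' h => ?_
  rw [← q.out_eq, ← q'.out_eq]
  let x := q.out⁻¹ * q'.out
  refine QuotientGroup.eq.2 (subset_closure (?_ : ‖u x - algebraMap ℂ _ α‖ < 1 / 2))
  rcases subsingleton_or_nontrivial (W →L[ℂ] W) with _ | _
  · rw [Subsingleton.elim (_ - _) 0]; norm_num
  have st : star (u x) = u (x : G)⁻¹ := by
    have : star (u x) * u x = 1 := ((u x).norm_map_iff_adjoint_comp_self).1 (hσ x)
    rw [← mul_one (star _), ← map_one u, ← mul_inv_cancel (x : G), map_mul, ← mul_assoc, this, one_mul]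
  have : IsStarNormal (u x - algebraMap ℂ _ α) := ⟨by
    rw [star_sub, st, ← algebraMap_star_comm, show star α = α from Complex.conj_ofReal _]
    exact (((Commute.refl _).inv_left.map u).sub_right (Algebra.commutes _ _).symm).sub_left (Algebra.commutes _ _)⟩
  obtain ⟨k, hk, e⟩ := spectrum.exists_nnnorm_eq_spectralRadius (u x - algebraMap ℂ _ α)
  rw [IsStarNormal.spectralRadius_eq_nnnorm, ENNReal.coe_inj] at e
  rw [← spectrum.sub_singleton_eq] at hk
  obtain ⟨z, hz, _, rfl, rfl⟩ := hk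
  obtain ⟨i, rfl⟩ := hl x z (Module.End.hasEigenvalue_iff_mem_spectrum.2 (AlgEquiv.spectrum_eq E _ ▸ hz))
  have n1 : ∀ y, ‖(l i y : ℂ)‖ = 1 := fun y => norm_eq_one_of_pow_eq_one' (n := Nat.card H) Nat.card_pos.ne'
    (by rw [← Units.val_pow_eq_pow_val, ← map_pow, pow_card_eq_one']; simp)
  have := hs _ _ (n1 _) (n1 _) (congrFun h i)
  rw [← coe_nnnorm, ← e, coe_nnnorm]
  simpa [x, α] using this

end CfsgH8
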