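import Mathlib
import Cfsg.Agent.H8.Jor1

/-! Blichfeldt's theorem on Hall subgroups of linear groups, and Jordan's theorem. -/

set_option autoImplicit false
set_option linter.unusedSectionVars false

namespace CfsgH8
open Subgroup CfsgH4 Cfsg CfsgH3 CfsgH3.IP CfsgH2 CfsgH1
open scoped ComplexConjugate commutatorElement

universe u
variable {G : Type u} [Group G] [Finite G] {χ : G → ℂ} {d n : ℕ}

theorem deg_one_of_pi (hχ : IsIrrCharacter G χ) (h1 : χ 1 = d) (hd : d ≤ n)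
    (hG : IsPiNum {q | n + 1 < q} (Nat.card G)) : χ 1 = 1 := by
  by_contra h
  obtain ⟨q, hq, qd⟩ := Nat.exists_prime_and_dvd (n := d) fun e => h (by rw [h1, e, Nat.cast_one])
  have := Nat.le_of_dvd (Nat.pos_of_ne_zero fun e => hχ.one_ne_zero (by rw [h1, e, Nat.cast_zero])) qd
  have : n + 1 < q := hG q hq (qd.trans (hχ.deg_dvd_card h1))
  omega

theorem comm_of_pi (hχ : IsCharacter G χ) (hk : ∀ g, χ g = χ 1 → g = 1) (h1 : χ 1 = d) (hd : d ≤ n) {H : Subgroup G}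
    (hH : IsPiNum {q | n + 1 < q} (Nat.card H)) : ∀ x ∈ H, ∀ y ∈ H, x * y = y * x := fun x hx y hy => by
  have := Fintype.ofFinite H
  refine mul_inv_eq_iff_eq_mul.1 (mul_inv_eq_one.1 (hk _ (apply_eq_of_constituents (c := ⁅(⟨x, hx⟩ : H), ⟨y, hy⟩⁆)
    (hχ.restrict H) fun ψ hψ h => ?_)))
  obtain ⟨e, he⟩ := hψ.isChar.exists_deg
  exact apply_commutator_of_deg_one hψ.isChar (deg_one_of_pi hψ he
    (((hχ.restrict H).deg_le_of_constituent hψ h h1 he).trans hd) hH) (commutator_mem_commutator (mem_top _) (mem_top _))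

theorem exists_gal (hχ : IsCharacter G χ) (hk : ∀ g, χ g = χ 1 → g = 1) (h1 : χ 1 = d) {p : ℕ} (hp : p.Prime)
    (hd : d + 1 < p) (hG : p ∣ Nat.card G) : ∃ σ : ℂ ≃+* ℂ, (fun g => σ (χ g)) ≠ χ ∧
      ∀ f, IsCharacter G f → ∀ g, ¬ p ∣ orderOf g → σ (f g) = f g := by
  classical
  have := Fact.mk hp
  obtain ⟨x, hx⟩ := exists_prime_orderOf_dvd_card' p hG
  obtain ⟨k, hk1, hk2⟩ : ∃ k, k.Coprime p ∧ χ (x ^ k) ≠ χ x := by
    by_contra! h
    obtain ⟨t, ht⟩ := hχ.isGen.exists_int_of_pow (g := x) fun k hk => h k (hx ▸ hk)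
    have := Fintype.ofFinite (zpowers x)
    obtain ⟨a, ha⟩ := (hχ.restrict (zpowers x)).inner_nat isChar_one
    rw [inner_one_right, Nat.card_zpowers, hx, inv_mul_eq_iff_eq_mul₀ (Nat.cast_ne_zero.2 hp.ne_zero)] at ha
    have e : ∑ y : zpowers x, (χ y - t) = d - t := by
      rw [Finset.sum_eq_single 1 (fun y _ y1 => ?_) (by simp), OneMemClass.coe_one, h1]
      obtain ⟨k, hk⟩ := (mem_powers_iff_mem_zpowers.2 y.2 :)
      rw [← hk, h k ((Nat.Prime.coprime_iff_not_dvd hp).2 fun d => y1 (Subtype.ext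
        (hk.symm.trans (orderOf_dvd_iff_pow_eq_one.1 (hx ▸ d))))).symm, ht, sub_self]
    rw [Finset.sum_sub_distrib, ha, Finset.sum_const, Finset.card_univ, ← Nat.card_eq_fintype_card, Nat.card_zpowers,
      hx, nsmul_eq_mul] at e
    have e1 : (p : ℤ) * a - p * t = d - t := by exact_mod_cast e
    have e2 := hχ.norm_le x
    rw [ht, h1, Complex.norm_intCast, Complex.norm_natCast] at e2
    have e3 : t ≤ d := by exact_mod_cast (le_abs_self _).trans e2
    have e4 : t ≠ d := fun e => hp.one_lt.ne' (by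
      rw [← hx, hk x (by rw [ht, h1, e, Int.cast_natCast]), orderOf_one])
    have e5 : (d : ℤ) + 1 < p := by exact_mod_cast hd
    have e6 : t < a := by nlinarith [lt_of_le_of_ne e3 e4]
    nlinarith
  have c0 : Nat.card G ≠ 0 := Nat.card_pos.ne'
  obtain ⟨σ, s1, s2⟩ := exists_ringEquiv_pow_fix hp.ne_zero (Nat.ordCompl_pos p c0).ne'
    (Nat.coprime_ordCompl hp c0) hk1
  refine ⟨σ, fun e => hk2 ((hχ.isGen.map_eq_apply_pow (σ := σ) (hx ▸ s1)).symm.trans (congrFun e x)),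
    fun f hf g hg => (hf.isGen.map_eq_apply_pow (σ := σ) (k := 1) fun z hz => ?_).trans (by rw [pow_one])⟩
  rw [pow_one]
  exact s2 z (pow_eq_one_of_dvd hz (((Nat.Prime.coprime_iff_not_dvd hp).2 hg).symm.pow_right _ |>.dvd_of_dvd_mul_left
    (by rw [Nat.ordProj_mul_ordCompl_eq_self]; exact orderOf_dvd_natCard g)))

theorem exists_comm_pq (hχ : IsIrrCharacter G χ) (hk : ∀ g, χ g = χ 1 → g = 1) (h1 : χ 1 = d) {p q : ℕ} (hp : p.Prime)
    (hq : q.Prime) (dp : d + 1 < p) (dq : d + 1 < q) (gp : p ∣ Nat.card G) (gq : q ∣ Nat.card G) :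
    ∃ x y : G, orderOf x = p ∧ orderOf y = q ∧ Commute x y := by
  have := Fintype.ofFinite G
  obtain ⟨g, g1, g2⟩ : ∃ g : G, p ∣ orderOf g ∧ q ∣ orderOf g := by
    by_contra! h
    obtain ⟨σ, s1, s2⟩ := exists_gal hχ.isChar hk h1 hp dp gp
    obtain ⟨τ, t1, t2⟩ := exists_gal hχ.isChar hk h1 hq dq gq
    have hσ := hχ.map_ringHom σ
    have e : χ + (fun g => τ (σ (χ g))) = (fun g => σ (χ g)) + fun g => τ (χ g) := funext fun g => by
      by_cases hg : p ∣ orderOf g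
      · simp only [Pi.add_apply, t2 _ hχ.isChar g (h g hg), add_comm (χ g)]
        exact congrArg (· + _) (t2 _ hσ.isChar g (h g hg))
      · simp only [Pi.add_apply, s2 _ hχ.isChar g hg]
    obtain ⟨m, hm⟩ := (hσ.map_ringHom τ).isChar.inner_nat hχ.isChar
    have := congrArg (⟪·, χ⟫) e
    simp only [CfsgH3.inner_add_left, hχ.inner_self] at this
    erw [hm, hσ.inner_of_ne hχ s1, (hχ.map_ringHom τ).inner_of_ne hχ t1] at this
    norm_cast at this
    omega
  exact ⟨_, _, orderOf_pow_orderOf_div (orderOf_pos g).ne' g1, orderOf_pow_orderOf_div (orderOf_pos g).ne' g2,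
    (Commute.refl g).pow_pow _ _⟩

section
variable {π : Set ℕ} (ih : ∀ K : Subgroup G, K ≠ ⊤ → ∃ H, IsPiHallOf π H K)
  (cm : ∀ H : Subgroup G, IsPiNum π (Nat.card H) → ∀ x ∈ H, ∀ y ∈ H, x * y = y * x)
include ih

theorem hall_of_index {K : Subgroup G} (hK : K ≠ ⊤) (h : ∀ p : ℕ, p.Prime → p ∈ π → ¬ p ∣ K.index) :
    ∃ H : Subgroup G, IsPiHall π H := by
  obtain ⟨H, h1, h2, h3⟩ := ih K hK
  exact ⟨H, h2, fun p hp hπ d => by
    rw [← relIndex_mul_index h1] at d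
    exact (hp.dvd_mul.1 d).elim (h3 p hp hπ) (h p hp hπ)⟩

include cm

theorem hall_of_lin (l : G →* ℂˣ) {p : ℕ} (hp : p.Prime) (hπ : p ∈ π) (hl : ∃ y, p ∣ orderOf (l y)) :
    ∃ H : Subgroup G, IsPiHall π H := by
  have := Fact.mk hp
  have c0 : Nat.card G ≠ 0 := Nat.card_pos.ne'
  obtain ⟨y, hy⟩ := hl
  let m := (powMonoidHom (ordCompl[p] (Nat.card G))).comp l
  have hN : m.ker ≠ ⊤ := fun e => Nat.not_dvd_ordCompl hp c0 (hy.trans (orderOf_dvd_of_pow_eq_one (e.ge (mem_top y))))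
  obtain ⟨k, hk⟩ : ∃ k, m.ker.index = p ^ k := by
    have : Finite m.range := Finite.of_surjective _ m.rangeRestrict_surjective
    rw [index_ker]
    refine IsPGroup.iff_card.1 ?_
    rintro ⟨_, g, rfl⟩
    exact ⟨(Nat.card G).factorization p, Subtype.ext (by
      simp [m, ← pow_mul, mul_comm, Nat.ordProj_mul_ordCompl_eq_self, ← map_pow])⟩
  obtain ⟨H, h1, h2, h3⟩ := ih _ hN
  obtain ⟨P⟩ := (inferInstance : Nonempty (Sylow p G))
  by_contra hn
  refine hn ⟨piCore π G ⊔ P, (isPiNum_card_piCore π G).card_sup le_normalizer_of_normal (.of_isPGroup P.2 hπ),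
    fun q hq qπ d => ?_⟩
  have := Fact.mk hq
  have pq : q ≠ p := fun e => P.not_dvd_index (e.symm.dvd.trans (d.trans (index_dvd_of_le le_sup_right)))
  obtain ⟨Q, hQ⟩ := IsSylowIn.exists_sylowIn q H
  have q1 := hQ.trans_of_not_dvd h1 (h3 q hq qπ)
  have : Q.Normal := normalizer_eq_top_iff.1 (by_contra fun h => hn (hall_of_index ih h fun r hr rπ d => ?_))
  · refine (q1.trans_of_not_dvd le_top fun d => pq ?_).not_dvd ?_
    · rw [relIndex_top_right, hk] at d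
      exact (Nat.prime_dvd_prime_iff_eq hq hp).1 (hq.dvd_of_dvd_pow d)
    · rw [relIndex_top_right]
      exact d.trans (index_dvd_of_le ((le_piCore (.of_isPGroup hQ.pgroup qπ)).trans le_sup_left))
  have s : normalizer (Q : Set G) ⊔ m.ker = ⊤ := eq_top_iff.2 fun g _ => by
    obtain ⟨a, ha, h⟩ := q1.frattini (g := g) (le_normalizer_of_normal (mem_top g))
    simpa using mul_mem (mem_sup_right (inv_mem ha)) (mem_sup_left h)
  have e : (normalizer (Q : Set G)).relIndex m.ker = (normalizer (Q : Set G)).index := by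
    have a1 := relIndex_mul_index (inf_le_left (a := normalizer (Q : Set G)) (b := m.ker))
    have a2 := relIndex_mul_index (inf_le_right (a := normalizer (Q : Set G)) (b := m.ker))
    rw [inf_relIndex_left, ← relIndex_sup_right, s, relIndex_top_right, ← a2, inf_relIndex_right, mul_comm] at a1
    exact (Nat.eq_of_mul_eq_mul_right (Nat.pos_of_ne_zero index_ne_zero_of_finite) a1).symm
  exact h3 r hr rπ ((e ▸ d).trans (relIndex_dvd_of_le_left _ fun x hx =>
    centralizer_le_normalizer _ fun y hy => cm H h2 y (hQ.le hy) x hx))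

theorem hall_of_pq (hZ : ∀ y : G, (orderOf y).Prime → orderOf y ∈ π → centralizer {y} ≠ ⊤)
    (pq : ∀ p q : ℕ, p.Prime → q.Prime → p ∈ π → q ∈ π → p ∣ Nat.card G → q ∣ Nat.card G →
      ∃ x y : G, orderOf x = p ∧ orderOf y = q ∧ Commute x y) : ∃ H : Subgroup G, IsPiHall π H := by
  let Y := {y : G | (orderOf y).Prime ∧ orderOf y ∈ π}
  let F : G → Set ℕ := fun y => {t | t.Prime ∧ t ∈ π ∧ ¬ t ∣ (centralizer {y}).index}
  rcases Y.eq_empty_or_nonempty with e | e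
  · refine ⟨⊥, by rw [card_bot]; exact IsPiNum.one, fun p hp hπ d => ?_⟩
    have := Fact.mk hp
    obtain ⟨y, rfl⟩ := exists_prime_orderOf_dvd_card' p (index_bot (G := G) ▸ d)
    exact e.le (⟨hp, hπ⟩ : y ∈ Y)
  obtain ⟨y, hy, mx⟩ := Set.Finite.exists_maximalFor F Y Y.toFinite e
  have k1 : ∀ {H : Subgroup G} {w}, IsPiNum π (Nat.card H) → w ∈ H → (centralizer {w}).index ∣ H.index :=
    fun {H w} hH hw => index_dvd_of_le fun x hx => mem_centralizer_singleton_iff.2 (cm H hH x hx w hw)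
  have k2 : ∀ w ∈ Y, orderOf w ∈ F w := fun w hw => ⟨hw.1, hw.2, fun d => by
    have := Fact.mk hw.1
    obtain ⟨P, hP⟩ := (isPGroup_zpowers_of_orderOf (pow_one (orderOf w)).symm).exists_le_sylow
    exact P.not_dvd_index (d.trans (k1 (.of_isPGroup P.2 hw.2) (hP (mem_zpowers w))))⟩
  have k3 : ∀ {H : Subgroup G} {w w'}, IsPiHallOf π H (centralizer {w}) → w' ∈ H → F w ≤ F w' :=
    fun {H w w'} hH hw t ht => ⟨ht.1, ht.2.1, fun d => by
      have := d.trans (k1 hH.2.1 hw)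
      rw [← relIndex_mul_index hH.1] at this
      exact (ht.1.dvd_mul.1 this).elim (hH.2.2 t ht.1 ht.2.1) ht.2.2⟩
  refine hall_of_index ih (hZ y hy.1 hy.2) fun q hq qπ d => ?_
  obtain ⟨x, z, hx, hz, c⟩ := pq _ q hy.1 hq hy.2 qπ (orderOf_dvd_natCard y) (d.trans (index_dvd_card _))
  obtain ⟨H, hH⟩ := ih _ (hZ y hy.1 hy.2)
  have := Fact.mk hy.1
  have := Fact.mk hq
  obtain ⟨S, hS⟩ := IsSylowIn.exists_sylowIn (orderOf y) H
  obtain ⟨g, -, hg⟩ := ((hS.trans_of_not_dvd hH.1 (hH.2.2 _ hy.1 hy.2)).trans_of_not_dvd le_top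
    (by rw [relIndex_top_right]; exact (k2 y hy).2.2)).exists_cj_le
    (isPGroup_zpowers_of_orderOf (hx.trans (pow_one _).symm)) le_top
  have hx' : orderOf (g * x * g⁻¹) = orderOf y := (orderOf_conj' g x).trans hx
  obtain ⟨H', hH'⟩ := ih _ (hZ (g * x * g⁻¹) (hx' ▸ hy.1) (hx' ▸ hy.2))
  have : q ∣ Nat.card H' := by
    have := orderOf_dvd_natCard (⟨g * z * g⁻¹, mem_centralizer_singleton_iff.2
      (c.map (MulAut.conj g)).symm⟩ : centralizer {g * x * g⁻¹})
    rw [orderOf_mk, orderOf_conj', hz, ← CfsgH2.card_mul_relIndex hH'.1] at this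
    exact (hq.dvd_mul.1 this).resolve_right (hH'.2.2 q hq qπ)
  obtain ⟨w, hw⟩ := exists_prime_orderOf_dvd_card' q this
  rw [← orderOf_coe] at hw
  have wY : (w : G) ∈ Y := ⟨hw ▸ hq, hw ▸ qπ⟩
  exact (mx wY ((k3 hH (hS.le (hg (conj_mem_cj g (mem_zpowers x))))).trans (k3 hH' w.2)) (hw ▸ k2 w wY)).2.2 d

end

/-- Blichfeldt's theorem. -/
theorem blichfeldt (hχ : IsCharacter G χ) (hk : ∀ g, χ g = χ 1 → g = 1) (h1 : χ 1 = d) (hd : d ≤ n) :
    ∃ H : Subgroup G, IsPiHall {q | n + 1 < q} H := by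
  induction hN : Nat.card G using Nat.strong_induction_on generalizing G d with | _ N ih => ?_
  have := Fintype.ofFinite G
  have i1 : ∀ K : Subgroup G, K ≠ ⊤ → ∃ H, IsPiHallOf {q | n + 1 < q} H K := fun K hK =>
    have ⟨H, hH⟩ := ih _ (hN ▸ card_top (G := G) ▸ CfsgH2.card_lt_of_lt hK.lt_top) (hχ.restrict K)
      (fun g h => Subtype.ext (hk g h)) h1 hd rfl
    ⟨_, isPiHallOf_map hH⟩
  have cm := fun H => comm_of_pi hχ hk h1 hd (H := H)
  by_contra hn
  obtain ⟨g, g1⟩ : ∃ g : G, g ≠ 1 := by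
    by_contra! h
    have : Nat.card G = 1 := Nat.card_eq_one_iff_exists.2 ⟨1, h⟩
    exact hn ⟨⊥, by rw [card_bot]; exact IsPiNum.one, fun p hp _ d => hp.one_lt.ne' (by
      rwa [index_bot, this, Nat.dvd_one] at d)⟩
  obtain ⟨ψ, hψ, c, hg⟩ : ∃ ψ, IsIrrCharacter G ψ ∧ ⟪χ, ψ⟫ ≠ 0 ∧ ψ g ≠ ψ 1 := by
    by_contra! h
    exact g1 (hk g (apply_eq_of_constituents hχ h))
  obtain ⟨e, e0, he⟩ := hψ.exists_deg
  have en := (hχ.deg_le_of_constituent hψ c h1 he).trans hd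
  by_cases hK : hψ.isChar.ker = ⊥
  · have hf : ∀ g, ψ g = ψ 1 → g = 1 := fun g h => hK.le h
    refine hn (hall_of_pq i1 cm (fun y hy yπ hc => ?_) fun p q hp hq (pπ : n + 1 < p) (qπ : n + 1 < q) =>
      exists_comm_pq hψ hf he hp hq (by omega) (by omega))
    have hy1 : ‖ψ y‖ = ‖ψ 1‖ :=
      hψ.center_le_cent (mem_center_iff.2 fun g => mem_centralizer_singleton_iff.1 (hc.ge (mem_top g)))
    obtain ⟨m, ρ, -, rfl⟩ := hψ
    obtain ⟨ω, w1, w2⟩ := rep_scalar_of_norm_eq ρ (g := y) (hy1.trans (by rw [ρ.char_one, Complex.norm_natCast]))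
    refine hn (hall_of_lin i1 cm (LinearMap.det.comp ρ).toHomUnits hy yπ ⟨y, ?_⟩)
    have := Fact.mk hy
    have o : orderOf ω = orderOf y := orderOf_eq_prime w1 fun e => hy.one_lt.ne' (orderOf_eq_one_iff.2 (hf y
      ((character_eq_deg_iff ρ y).2 (by rw [w2, e, one_smul]) |>.trans ρ.char_one.symm)))
    have d : Module.finrank ℂ (Fin m → ℂ) = e := by rw [ρ.char_one] at he; exact_mod_cast he
    rw [← orderOf_units, MonoidHom.coe_toHomUnits, MonoidHom.comp_apply, w2, LinearMap.det_smul, LinearMap.det_id,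
      mul_one, d, Nat.Coprime.orderOf_pow, o]
    exact o ▸ Nat.coprime_of_lt_prime e0.ne' (by have : n + 1 < orderOf y := yπ; omega) hy
  obtain ⟨ξ, hξ, hx⟩ := hψ.exists_quotient hψ.isChar.ker fun _ h => h
  obtain ⟨A, hA⟩ := ih _ (hN ▸ (card_mul_index hψ.isChar.ker) ▸ lt_mul_of_one_lt_left
    (Nat.pos_of_ne_zero index_ne_zero_of_finite) ((one_lt_card_iff_ne_bot _).2 hK)) hξ.isChar (fun q h => by
      obtain ⟨q, rfl⟩ := QuotientGroup.mk_surjective q
      exact (QuotientGroup.eq_one_iff q).2 ((hx q).symm.trans (h.trans (hx 1)))) ((hx 1).trans he) en rfl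
  have s := QuotientGroup.mk'_surjective hψ.isChar.ker
  by_cases hT : A = ⊤
  · rw [hT, IsPiHall, card_top] at hA
    obtain ⟨l, rfl⟩ := hξ.isChar.exists_hom_of_deg_one (deg_one_of_pi hξ ((hx 1).trans he) en hA.1)
    obtain ⟨p, hp, d⟩ := Nat.exists_prime_and_dvd (n := orderOf (l g)) fun e => hg (by
      rw [← hx, ← hx]; simp [orderOf_eq_one_iff.1 e])
    exact hn (hall_of_lin i1 cm (l.comp (QuotientGroup.mk' _)) hp (hA.1 p hp (d.trans ((orderOf_map_dvd l _).trans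
      (orderOf_dvd_natCard _)))) ⟨g, d⟩)
  · exact hn (hall_of_index i1 (K := A.comap (QuotientGroup.mk' _))
      (fun e => hT (comap_injective s (e.trans (comap_top _).symm))) (by rw [index_comap_of_surjective _ s]; exact hA.2))

theorem exists_mono [Group.IsNilpotent G] (hχ : IsCharacter G χ) : ∀ d : ℕ, χ 1 = d →
    ∃ D : Subgroup G, D.Normal ∧ D.index ∣ d.factorial ∧ ∀ x ∈ D, ∀ y ∈ D, χ ⁅x, y⁆ = χ 1 := by
  have := Fintype.ofFinite G
  refine hχ.induction (P := fun χ => ∀ d : ℕ, χ 1 = d → ∃ D : Subgroup G, D.Normal ∧ D.index ∣ d.factorial ∧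
    ∀ x ∈ D, ∀ y ∈ D, χ ⁅x, y⁆ = χ 1) (fun d _ => ⟨⊤, inferInstance, by simp, by simp⟩) (fun ψ hψ d hd => ?_)
    fun a b ha hb h1 h2 d hd => ?_
  · obtain ⟨H, l, rfl⟩ := isMonomial_of_isNilpotent hψ
    obtain rfl : H.index = d := by rw [indFun_one] at hd; simpa using hd
    refine ⟨H.normalCore, inferInstance, ?_, fun x hx y hy => ?_⟩
    · rw [normalCore_eq_ker, index_ker, index_eq_card, ← Nat.card_perm]; exact card_subgroup_dvd_card _
    · rw [indFun_apply', indFun_apply']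
      refine congrArg _ (Finset.sum_congr rfl fun g _ => ?_)
      have : g * ⁅x, y⁆ * g⁻¹ = (⁅(⟨_, hx g⟩ : H), ⟨_, hy g⟩⁆ : H) := map_commutatorElement (MulAut.conj g) x y
      rw [this, ext0_coe, mul_one, mul_inv_cancel, ext0_of_mem H _ (one_mem H)]
      rw [map_commutatorElement, commutatorElement_eq_one_iff_mul_comm.2 (mul_comm _ _), ← map_one l]; rfl
  · obtain ⟨m, hm⟩ := ha.exists_deg
    obtain ⟨k, hk⟩ := hb.exists_deg
    obtain rfl : m + k = d := by rw [Pi.add_apply, hm, hk] at hd; exact_mod_cast hd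
    obtain ⟨D, _, d1, d2⟩ := h1 m hm
    obtain ⟨E, _, e1, e2⟩ := h2 k hk
    refine ⟨D ⊓ E, inferInstance, ?_, fun x hx y hy => by rw [Pi.add_apply, d2 x hx.1 y hy.1, e2 x hx.2 y hy.2]; rfl⟩
    rw [← relIndex_mul_index inf_le_right, inf_relIndex_right]
    exact (mul_dvd_mul ((relIndex_dvd_index_of_normal D E).trans d1) e1).trans
      (Nat.factorial_mul_factorial_dvd_factorial_add m k)

/-- Jordan's theorem. -/
theorem jordan (hχ : IsCharacter G χ) (hk : ∀ g, χ g = χ 1 → g = 1) (h1 : χ 1 = n) :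
    ∃ A : Subgroup G, A.Normal ∧ (∀ x ∈ A, ∀ y ∈ A, x * y = y * x) ∧
      A.index ≤ n.factorial * 12 ^ (n * (Nat.primeCounting (n + 1) + 1)) := by
  obtain ⟨A, hA, cA, h⟩ := jordan_frob hχ hk h1
  obtain ⟨H, hH⟩ := blichfeldt hχ hk h1 le_rfl
  have k : ∀ K : Subgroup G, A.index ∣ A.relIndex K * K.index := fun K => by
    rw [← inf_relIndex_right, relIndex_mul_index inf_le_right]; exact index_dvd_of_le inf_le_left
  obtain ⟨a, b, ha, hb, e⟩ := Nat.dvd_mul.1 (k H)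
  have r0 := fun K : Subgroup G => Nat.pos_of_ne_zero (relIndex_ne_zero A K)
  have a1 := (Nat.le_of_dvd (r0 H) ha).trans (h H (comm_of_pi hχ hk h1 le_rfl hH.1))
  have b0 : b ≠ 0 := ne_zero_of_dvd_ne_zero index_ne_zero_of_finite hb
  have f : ∀ m : ℕ, m ≠ 0 → (∀ p, p.Prime → p ∣ m → p ≤ n + 1) →
      m = ∏ p ∈ (n + 1 + 1).primesBelow, p ^ m.factorization p := fun m m0 hm => by
    conv_lhs => rw [← Nat.prod_factorization_pow_eq_self m0]
    exact Finsupp.prod_of_support_subset _ (fun p hp => Nat.mem_primesBelow.2 ⟨Nat.lt_succ_of_le (hm p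
      (Nat.prime_of_mem_primeFactors hp) (Nat.dvd_of_mem_primeFactors hp)), Nat.prime_of_mem_primeFactors hp⟩) _
      fun _ _ => pow_zero _
  refine ⟨A, hA, cA, ?_⟩
  rw [← e, mul_add, mul_one, pow_add, ← mul_assoc, mul_comm]
  refine Nat.mul_le_mul ?_ a1
  rw [f b b0 fun p hp d => not_lt.1 fun l => hH.2 p hp l (d.trans hb),
    f _ n.factorial_ne_zero fun p hp d => (hp.dvd_factorial.1 d).trans n.le_succ, pow_mul, Nat.primeCounting,
    ← Nat.primesBelow_card_eq_primeCounting', ← Finset.prod_const, ← Finset.prod_mul_distrib]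
  refine Finset.prod_le_prod' fun p hp => ?_
  have hp := (Nat.mem_primesBelow.1 hp).2
  have := Fact.mk hp
  obtain ⟨P⟩ := (inferInstance : Nonempty (Sylow p G))
  have := P.2.isNilpotent
  obtain ⟨D, -, d1, d2⟩ := exists_mono (hχ.restrict P.1) n h1
  obtain ⟨j, hj⟩ := P.2.index D
  have e1 := ((Nat.ordProj_dvd b p).trans (Dvd.intro_left a e)).trans (k (D.map P.1.subtype))
  rw [index_map_subtype, ← mul_assoc] at e1
  refine (Nat.le_of_dvd (Nat.mul_pos (r0 _) (Nat.pos_of_ne_zero index_ne_zero_of_finite))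
    ((((Nat.Prime.coprime_iff_not_dvd hp).2 P.not_dvd_index).pow_left _).dvd_of_dvd_mul_right e1)).trans ?_
  rw [mul_comm]
  refine Nat.mul_le_mul ?_ (h _ ?_)
  · rw [hj] at d1 ⊢
    exact Nat.pow_le_pow_right hp.pos ((hp.pow_dvd_iff_le_factorization n.factorial_ne_zero).1 d1)
  · rintro _ ⟨x, hx, rfl⟩ _ ⟨y, hy, rfl⟩
    exact mul_inv_eq_iff_eq_mul.1 (mul_inv_eq_one.1 (hk _ (d2 x hx y hy)))

end CfsgH8
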