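import Cfsg.Agent.H8.AutO4

/-!
Local balance: abstract part.
-/

set_option autoImplicit false

namespace CfsgH8

open Subgroup Module CfsgH5 CfsgH5.Form

section Abstract

variable {X : Type*} [Group X]

/-- no nontrivial `p'`-subgroup of `C(x)` is normalized by `C_I(x)` -/
def LBal (p : ℕ) (I : Subgroup X) (x : X) : Prop :=
  ∀ N : Subgroup X, (∀ n ∈ N, Commute n x) → (∀ y ∈ I, Commute y x → ∀ n ∈ N, y * n * y⁻¹ ∈ N) →
    (Nat.card N).Coprime p → N = ⊥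

theorem LBal.conj {p : ℕ} {I : Subgroup X} [hI : I.Normal] {x a α : X} (h : LBal p I a)
    (hα : α * x * α⁻¹ = a) : LBal p I x := by
  intro N h1 h2 h3
  have := h (N.map (MulAut.conj α).toMonoidHom) (by
    rintro _ ⟨n, hn, rfl⟩
    rw [← hα]
    exact (h1 n hn).map (MulAut.conj α)) (by
    rintro y hy hc _ ⟨n, hn, rfl⟩
    refine ⟨_, h2 (α⁻¹ * y * α⁻¹⁻¹) (hI.conj_mem y hy _) ?_ n hn, by simp [mul_assoc]⟩
    have := hc.map (MulAut.conj α⁻¹)
    rw [← hα] at this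
    simpa [mul_assoc] using this) (by rwa [card_map_of_injective (MulAut.conj α).injective])
  exact (map_eq_bot_iff_of_injective _ (MulAut.conj α).injective).1 this

theorem LBal.core {p : ℕ} {I A : Subgroup X} {x : X} (h : LBal p I x) (hA : I ≤ A) :
    Cfsg.pPrimeCore p ↥(A ⊓ centralizer {x}) = ⊥ := by
  refine sSup_eq_bot.2 fun N hN => ?_
  have := h (N.map (Subgroup.subtype _)) (by
    rintro _ ⟨n, -, rfl⟩
    exact mem_centralizer_singleton_iff.1 n.2.2) (by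
    rintro y hy hc _ ⟨n, hn, rfl⟩
    exact ⟨_, hN.1.conj_mem n hn ⟨y, hA hy, mem_centralizer_singleton_iff.2 hc⟩, rfl⟩)
    (by rw [card_map_of_injective Subtype.val_injective]; exact hN.2)
  exact (map_eq_bot_iff_of_injective _ Subtype.val_injective).1 this

theorem pow_card_of_mem {N : Subgroup X} {n : X} (hn : n ∈ N) : n ^ Nat.card N = 1 :=
  congrArg Subtype.val (pow_card_eq_one' (x := (⟨n, hn⟩ : N)))

theorem lbal_of {p : ℕ} {I : Subgroup X} [hI : I.Normal] {x : X} (𝒯 : Set X)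
    (h1 : ∀ t ∈ 𝒯, t ∈ I ∧ Commute t x)
    (h2 : ∀ N : Subgroup X, (∀ n ∈ N, n ∈ I ∧ Commute n x) →
      (∀ y ∈ I, Commute y x → ∀ n ∈ N, y * n * y⁻¹ ∈ N) → (Nat.card N).Coprime p →
      ∀ n ∈ N, ∀ t ∈ 𝒯, Commute n t)
    (h3 : ∀ α, Commute α x → (∀ t ∈ 𝒯, Commute α t) → ∀ k, k.Coprime p → α ^ k = 1 → α = 1) :
    LBal p I x := by
  intro N hN1 hN2 hN3
  have h0 : ∀ n ∈ N ⊓ I, n = 1 := fun n hn =>
    h3 n (hN1 n hn.1) (h2 (N ⊓ I) (fun n hn => ⟨hn.2, hN1 n hn.1⟩)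
      (fun y hy hc n hn => ⟨hN2 y hy hc n hn.1, hI.conj_mem n hn.2 y⟩)
      (hN3.coprime_dvd_left (card_dvd_of_le inf_le_left)) n hn) _ hN3 (pow_card_of_mem hn.1)
  refine eq_bot_iff.2 fun n hn => h3 n (hN1 n hn) (fun t ht => ?_) _ hN3 (pow_card_of_mem hn)
  have := h0 (t * n * t⁻¹ * n⁻¹) (mem_inf.2 ⟨mul_mem (hN2 t (h1 t ht).1 (h1 t ht).2 n hn) (inv_mem hn), by
    have := mul_mem (h1 t ht).1 (hI.conj_mem _ (inv_mem (h1 t ht).1) n)
    simpa only [mul_assoc] using this⟩)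
  rw [mul_inv_eq_one, mul_inv_eq_iff_eq_mul] at this
  exact this.symm

theorem card_fix_eq {K : Type*} [Group K] (hZ : center K = ⊥) (x : MulAut K) :
    Nat.card ↥(MonoidHom.eqLocus x.toMonoidHom (MonoidHom.id K)) =
      Nat.card ↥(Cfsg.Inn K ⊓ centralizer {x}) := by
  have hi : Function.Injective (MulAut.conj : K →* MulAut K) := by
    refine (injective_iff_map_eq_one _).2 fun k hk => ?_
    have : k ∈ center K := mem_center_iff.2 fun g => by
      have := congrArg (fun f : MulAut K => f g) hk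
      simp only [MulAut.conj_apply, MulAut.one_apply] at this
      rw [mul_inv_eq_iff_eq_mul] at this
      exact this.symm
    rwa [hZ] at this
  rw [← card_map_of_injective hi]
  congr 3
  ext β
  have key : ∀ k, MulAut.conj k * x = x * MulAut.conj k ↔ x k = k := fun k => by
    have : MulAut.conj (x k) = x * MulAut.conj k * x⁻¹ := by ext; simp
    rw [← hi.eq_iff, this, mul_inv_eq_iff_eq_mul, eq_comm]
  constructor
  · rintro ⟨k, hk, rfl⟩
    exact ⟨⟨k, rfl⟩, mem_centralizer_singleton_iff.2 ((key k).2 hk)⟩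
  · rintro ⟨⟨k, rfl⟩, hk⟩
    exact ⟨k, (key k).1 (mem_centralizer_singleton_iff.1 hk), rfl⟩

theorem lb_iff {K : Type*} [Group K] [Finite K] (hZ : center K = ⊥) {A : Subgroup (MulAut K)}
    (hinn : ∀ k, MulAut.conj k ∈ A) {p : ℕ} [Fact p.Prime] {x : MulAut K} {P : Prop}
    (h1 : (∃ y ∈ Cfsg.Inn K, Commute y x ∧ orderOf y = p) → LBal p (Cfsg.Inn K) x)
    (h2 : (∀ y ∈ Cfsg.Inn K, Commute y x → orderOf y ≠ p) → P ∧ ∃ y ∈ Cfsg.Inn K, Commute y x ∧ y ≠ 1) :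
    Cfsg.pPrimeCore p ↥(A ⊓ centralizer {x}) ≠ ⊥ ↔
      P ∧ Nat.Coprime p (Nat.card ↥(MonoidHom.eqLocus x.toMonoidHom (MonoidHom.id K))) := by
  have hA : Cfsg.Inn K ≤ A := by rintro _ ⟨k, rfl⟩; exact hinn k
  have hp : p.Prime := Fact.out
  rw [card_fix_eq hZ, hp.coprime_iff_not_dvd]
  have key : p ∣ Nat.card ↥(Cfsg.Inn K ⊓ centralizer {x}) ↔
      ∃ y ∈ Cfsg.Inn K, Commute y x ∧ orderOf y = p := by
    constructor
    · intro h
      obtain ⟨y, hy⟩ := exists_prime_orderOf_dvd_card' p h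
      exact ⟨y, y.2.1, mem_centralizer_singleton_iff.1 y.2.2, (Subgroup.orderOf_coe y).trans hy⟩
    · rintro ⟨y, a, b, c⟩
      exact c ▸ Subgroup.orderOf_dvd_natCard _ (mem_inf.2 ⟨a, mem_centralizer_singleton_iff.2 b⟩)
  constructor
  · intro h
    have : ¬ ∃ y ∈ Cfsg.Inn K, Commute y x ∧ orderOf y = p := fun h' => h ((h1 h').core hA)
    exact ⟨(h2 fun y a b c => this ⟨y, a, b, c⟩).1, key.not.2 this⟩
  · rintro ⟨-, h⟩ h0
    obtain ⟨y, a, b, c⟩ := (h2 fun y a b c => h (key.2 ⟨y, a, b, c⟩)).2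
    have hle : Cfsg.Inn K ⊓ centralizer {x} ≤ A ⊓ centralizer {x} := inf_le_inf_right _ hA
    have := sSup_eq_bot.1 h0 ((Cfsg.Inn K ⊓ centralizer {x}).subgroupOf _) ⟨⟨fun n hn g =>
      mem_subgroupOf.2 (mem_inf.2 ⟨(Cfsg.innNormal K).conj_mem _ (mem_inf.1 (mem_subgroupOf.1 hn)).1 _,
        (g * n * g⁻¹).2.2⟩)⟩, by
      rw [Nat.card_congr (subgroupOfEquivOfLe hle).toEquiv]
      exact (hp.coprime_iff_not_dvd.2 h).symm⟩
    have hy : y ∈ Cfsg.Inn K ⊓ centralizer {x} := ⟨a, mem_centralizer_singleton_iff.2 b⟩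
    have h3 : (⟨y, hle hy⟩ : ↥(A ⊓ centralizer {x})) ∈ (⊥ : Subgroup _) := this ▸ mem_subgroupOf.2 hy
    exact c (congrArg Subtype.val (mem_bot.1 h3))

theorem exists_orderOf_eq [Finite X] {p : ℕ} [Fact p.Prime] {y : X} (h : ∀ k, y ^ k = 1 → p ∣ k) :
    ∃ j, orderOf (y ^ j) = p := by
  obtain ⟨j, hj⟩ := h _ (pow_orderOf_eq_one y)
  have h0 := (orderOf_pos y).ne'
  refine ⟨j, ?_⟩
  rw [orderOf_pow' _ (by rintro rfl; exact h0 (by simpa using hj)), hj, Nat.gcd_mul_left_left,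
    Nat.mul_div_cancel _ (Nat.pos_of_ne_zero (by rintro rfl; exact h0 (by simpa using hj)))]

theorem eq_one_of_coprime {y : X} {a b : ℕ} (h : a.Coprime b) (ha : y ^ a = 1) (hb : y ^ b = 1) :
    y = 1 := by
  rw [← orderOf_eq_one_iff]
  exact Nat.eq_one_of_dvd_coprimes h (orderOf_dvd_of_pow_eq_one ha) (orderOf_dvd_of_pow_eq_one hb)

/-- generated by `r`-elements, centre an `r'`-group, no normal `p'`-subgroups modulo the centre -/
structure GoodP (p r : ℕ) (E : Type*) [Group E] : Prop where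
  gen : closure {t : E | Unip r t} = ⊤
  cen : ∀ z ∈ center E, ∃ m, m.Coprime r ∧ z ^ m = 1
  nrm : ∀ N : Subgroup E, N.Normal → (∀ n ∈ N, ∃ k, k.Coprime p ∧ n ^ k ∈ center E) → N ≤ center E

theorem GoodP.comm {p r : ℕ} {E : Type*} [Group E] (hE : GoodP p r E) (J : E →* X)
    (hJ : ∀ t, J t = 1 → t ∈ center E) {N : Subgroup X} (hN : (Nat.card N).Coprime p)
    (h1 : ∀ t, ∀ n ∈ N, J t * n * (J t)⁻¹ ∈ N) {n : X} (hn : n ∈ N)
    (h2 : ∀ t, ∃ t', n * J t * n⁻¹ = J t') (t : E) : Commute n (J t) := by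
  have h0 : N.comap J ≤ center E := hE.nrm _ ⟨fun a ha g => by
    rw [mem_comap, map_mul, map_mul, map_inv]; exact h1 g _ ha⟩ fun a ha =>
      ⟨_, hN, hJ _ (by rw [map_pow]; exact pow_card_of_mem ha)⟩
  have : (⊤ : Subgroup E) ≤ (centralizer {n}).comap J := by
    rw [← hE.gen, closure_le]
    rintro t ⟨k, hk⟩
    obtain ⟨t', ht'⟩ := h2 t⁻¹
    have hz : t * t' ∈ center E := h0 (by
      rw [mem_comap, map_mul, ← ht', map_inv]
      simpa only [mul_assoc] using mul_mem (h1 t n hn) (inv_mem hn))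
    obtain ⟨m, hm, hm'⟩ := hE.cen _ hz
    have h3 : J t' ^ r ^ k = 1 := by
      rw [← ht', conj_pow, ← map_pow, inv_pow, hk]; simp
    have h4 : J (t * t') ^ r ^ k = 1 := by
      have hc : Commute t t' := by
        have := mem_center_iff.1 hz t
        rw [mul_assoc, mul_right_inj] at this
        exact this
      rw [← map_pow, hc.mul_pow, hk, one_mul, map_pow, h3]
    have h5 : J (t * t') = 1 := eq_one_of_coprime (hm.pow_right k) (by rw [← map_pow, hm', map_one]) h4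
    rw [map_mul, ← ht', map_inv, ← mul_assoc, ← mul_assoc, mul_inv_eq_one, mul_inv_eq_iff_eq_mul] at h5
    exact mem_centralizer_singleton_iff.2 h5
  exact (mem_centralizer_singleton_iff.1 (this (mem_top t))).symm

theorem lbal_of_good {p r : ℕ} {E : Type*} [Group E] (hE : GoodP p r E) (J : E →* X)
    (hJ : ∀ t, J t = 1 → t ∈ center E) {I : Subgroup X} [I.Normal] {x : X}
    (h1 : ∀ t, J t ∈ I ∧ Commute (J t) x)
    (h2 : ∀ y ∈ I, Commute y x → ∀ t, ∃ t', y * J t * y⁻¹ = J t')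
    (h3 : ∀ α, Commute α x → (∀ t, Commute α (J t)) → ∀ k, k.Coprime p → α ^ k = 1 → α = 1) :
    LBal p I x :=
  lbal_of (Set.range J) (by rintro _ ⟨t, rfl⟩; exact h1 t)
    (by
      rintro N a b c n hn _ ⟨t, rfl⟩
      exact hE.comm J hJ c (fun t => b _ (h1 t).1 (h1 t).2) hn (h2 n (a n hn).1 (a n hn).2) t)
    fun α a b => h3 α a fun t => b _ ⟨t, rfl⟩

theorem exists_pow_mem_of_sup {r : ℕ} {N Q E : Subgroup X} (hN : ∀ t ∈ E, ∀ n ∈ N, t * n * t⁻¹ ∈ N)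
    (hNE : N ≤ E) (hQE : Q ≤ E) (hQ : IsPGroup r Q) {t : X} (ht : t ∈ N ⊔ Q) : ∃ j, t ^ r ^ j ∈ N := by
  haveI : (N.subgroupOf E).Normal := ⟨fun n hn g => hN g g.2 n hn⟩
  have h1 : (⟨t, sup_le hNE hQE ht⟩ : E) ∈ N.subgroupOf E ⊔ Q.subgroupOf E := by
    rw [← subgroupOf_sup hNE hQE]; exact ht
  obtain ⟨n, hn, q, hq, e⟩ := mem_sup_of_normal_left.1 h1
  obtain ⟨j, hj⟩ := hQ ⟨q, hq⟩
  refine ⟨j, ?_⟩
  have h2 : q ^ r ^ j = 1 := Subtype.ext (congrArg Subtype.val hj :)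
  have h3 : (n * q) ^ r ^ j ∈ N.subgroupOf E := by
    rw [← QuotientGroup.eq_one_iff, QuotientGroup.mk_pow, QuotientGroup.mk_mul,
      (QuotientGroup.eq_one_iff n).2 hn, one_mul, ← QuotientGroup.mk_pow, h2, QuotientGroup.mk_one]
  rw [e] at h3
  exact h3

end Abstract

section Linear

variable {F : Type*} [Field F] {V : Type*} [AddCommGroup V] [Module F V]

/-- scalar maps -/
def IsSc (g : V ≃ₗ[F] V) : Prop := ∃ c : F, ∀ v, g v = c • v

theorem IsSc.comm {g : V ≃ₗ[F] V} (h : IsSc g) (t : V ≃ₗ[F] V) : t * g = g * t := by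
  obtain ⟨c, hc⟩ := h
  ext v
  simp [hc]

theorem IsSc.pow {g : V ≃ₗ[F] V} (h : IsSc g) (k : ℕ) : IsSc (g ^ k) := by
  obtain ⟨c, hc⟩ := h
  refine ⟨c ^ k, fun v => ?_⟩
  induction k with
  | zero => simp
  | succ k ih => rw [pow_succ', LinearEquiv.mul_apply, ih, map_smul, hc, smul_smul, pow_succ]

theorem IsSc.pow_card [Finite F] {g : V ≃ₗ[F] V} (h : IsSc g) : g ^ (Nat.card F - 1) = 1 := by
  obtain ⟨c, hc⟩ := h
  ext v
  have key : ∀ k, (g ^ k) v = c ^ k • v := fun k => by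
    induction k with
    | zero => simp
    | succ k ih => rw [pow_succ', LinearEquiv.mul_apply, ih, map_smul, hc, smul_smul, pow_succ]
  by_cases h0 : c = 0
  · have : v = 0 := g.injective (by simp [hc, h0])
    simp [this]
  · have := Fintype.ofFinite F
    rw [key, Nat.card_eq_fintype_card, FiniteField.pow_card_sub_one_eq_one c h0]
    simp

theorem coprime_card_sub_one [Finite F] (r : ℕ) [Fact r.Prime] [CharP F r] :
    (Nat.card F - 1).Coprime r := by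
  have := Fintype.ofFinite F
  obtain ⟨n, -, hn⟩ := FiniteField.card F r
  rw [Nat.card_eq_fintype_card, hn]
  have h1 : 1 ≤ r ^ (n : ℕ) := Nat.one_le_pow _ _ (Fact.out : r.Prime).pos
  refine Nat.Coprime.coprime_dvd_right (dvd_pow_self r n.ne_zero) ?_
  have := (Nat.coprime_self_add_right (m := r ^ (n : ℕ) - 1) (n := 1)).2 (by simp)
  rwa [Nat.sub_add_cancel h1] at this

theorem goodP_of [Finite F] {p r : ℕ} [Fact r.Prime] [CharP F r] {E : Subgroup (V ≃ₗ[F] V)}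
    {s : Set (V ≃ₗ[F] V)} (hE : E = closure s) (hs : ∀ t ∈ s, Unip r t)
    (hc : ∀ z ∈ E, (∀ t ∈ E, t * z = z * t) → IsSc z)
    (hn : ∀ N : Subgroup (V ≃ₗ[F] V), N ≤ E → (∀ t ∈ E, ∀ n ∈ N, t * n * t⁻¹ ∈ N) →
      (∀ n ∈ N, ∃ k, k.Coprime p ∧ IsSc (n ^ k)) → ∀ n ∈ N, IsSc n) : GoodP p r E := by
  have hc' : ∀ z : E, z ∈ center E ↔ IsSc z.1 := fun z =>
    ⟨fun h => hc z z.2 fun t ht => congrArg Subtype.val (mem_center_iff.1 h ⟨t, ht⟩),
      fun h => mem_center_iff.2 fun t => Subtype.ext (h.comm t)⟩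
  refine ⟨?_, fun z hz => ⟨_, coprime_card_sub_one r, Subtype.ext ((hc' z).1 hz).pow_card⟩,
    fun N hN h n hn' => (hc' n).2 (hn (N.map E.subtype) (map_subtype_le N) ?_ ?_ _ ⟨n, hn', rfl⟩)⟩
  · subst hE
    refine top_unique ((closure_closure_coe_preimage (k := s)).ge.trans (closure_mono fun t ht => ?_))
    obtain ⟨k, hk⟩ := hs _ ht
    exact ⟨k, Subtype.ext hk⟩
  · rintro t ht _ ⟨n, hn, rfl⟩
    exact ⟨_, hN.conj_mem n hn ⟨t, ht⟩, rfl⟩
  · rintro _ ⟨n, hn, rfl⟩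
    obtain ⟨k, h1, h2⟩ := h n hn
    exact ⟨k, h1, (hc' _).1 h2⟩

theorem not_le_sup {p r : ℕ} (hp : p.Prime) (hr : r.Prime) (hpr : p ≠ r) {E N Q : Subgroup (V ≃ₗ[F] V)}
    (hNE : N ≤ E) (hN : ∀ t ∈ E, ∀ n ∈ N, t * n * t⁻¹ ∈ N)
    (h : ∀ n ∈ N, ∃ k, k.Coprime p ∧ IsSc (n ^ k)) (hQE : Q ≤ E) (hQ : IsPGroup r Q)
    (h4 : ∃ t ∈ E, ∀ k, IsSc (t ^ k) → p ∣ k) : ¬ E ≤ N ⊔ Q := by
  intro hle
  obtain ⟨t, ht, h4⟩ := h4
  obtain ⟨j, hj⟩ := exists_pow_mem_of_sup hN hNE hQE hQ (hle ht)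
  obtain ⟨k, h1, h2⟩ := h _ hj
  rw [← pow_mul] at h2
  rcases (Nat.Prime.dvd_mul hp).1 (h4 _ h2) with h3 | h3
  · exact hpr ((Nat.prime_dvd_prime_iff_eq hp hr).1 (hp.dvd_of_dvd_pow h3))
  · exact (hp.coprime_iff_not_dvd.1 h1.symm) h3

theorem dvd_of_swap {t : V ≃ₗ[F] V} {e f : V} {a b : F} (he : t e = a • f) (hf : t f = b • e)
    (hef : ∀ c : F, f ≠ c • e) (h0 : e ≠ 0) (k : ℕ) (h : IsSc (t ^ k)) : 2 ∣ k := by
  have ha : a ≠ 0 := by rintro rfl; exact h0 (t.injective (by simp [he]))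
  have hb : b ≠ 0 := by rintro rfl; exact hef 0 (t.injective (by simp [hf]))
  have key : ∀ j, (t ^ (2 * j)) e = (a * b) ^ j • e := fun j => by
    induction j with
    | zero => simp
    | succ j ih =>
      rw [mul_add, mul_one, pow_add, LinearEquiv.mul_apply, pow_two, LinearEquiv.mul_apply, he, map_smul,
        hf, smul_smul, map_smul, ih, smul_smul, pow_succ']
  by_contra hk
  obtain ⟨j, rfl⟩ : Odd k := Nat.odd_iff.2 (by omega)
  obtain ⟨c, hc⟩ := h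
  have := hc e
  rw [pow_succ', LinearEquiv.mul_apply, key, map_smul, he, smul_smul] at this
  refine hef (((a * b) ^ j * a)⁻¹ * c) ?_
  rw [mul_smul, ← this, smul_smul, inv_mul_cancel₀ (by simp [ha, hb]), one_smul]

variable [FiniteDimensional F V]

/-- the transvections with centre `v` -/
def trQ (v : V) : Subgroup (V ≃ₗ[F] V) where
  carrier := {g | ∃ φ : Dual F V, φ v = 0 ∧ g = tr φ v}
  mul_mem' := by
    rintro _ _ ⟨φ, h, rfl⟩ ⟨ψ, h', rfl⟩
    exact ⟨φ + ψ, by simp [h, h'], tr_mul_left h h'⟩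
  one_mem' := ⟨0, rfl, by simp⟩
  inv_mem' := by
    rintro _ ⟨φ, h, rfl⟩
    exact ⟨-φ, by simp [h], tr_inv' h⟩

omit [FiniteDimensional F V] in
theorem unip_tr (r : ℕ) [CharP F r] (φ : Dual F V) (v : V) : Unip r (tr φ v) := by
  by_cases h : φ v = 0
  · refine ⟨1, ?_⟩
    have key : ∀ k : ℕ, tr φ v ^ k = tr φ ((k : F) • v) := fun k => by
      induction k with
      | zero => simp
      | succ k ih => rw [pow_succ, ih, tr_mul_right (by simp [h]) h, Nat.cast_succ, add_smul, one_smul]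
    rw [key]; simp
  · rw [tr_of_ne h]; exact Unip.one r

theorem lin_dichotomy {N : Subgroup (V ≃ₗ[F] V)}
    (hn : ∀ t ∈ slSub F V, ∀ n ∈ N, t * n * t⁻¹ ∈ N) :
    (∀ n ∈ N, IsSc n) ∨ ∃ v, slSub F V ≤ N ⊔ trQ v := by
  by_cases hc : ∀ n ∈ N, ∀ v, ∃ c : F, n v = c • v
  · exact Or.inl fun n hn => exists_scalar (n : V →ₗ[F] V) (hc n hn)
  right
  push Not at hc
  obtain ⟨n, hnN, v, hv⟩ := hc
  refine ⟨v, sl_le_of_centres (eq_top_iff.2 fun u _ => ?_)⟩
  have h1 : v ∈ centres (N ⊔ trQ v) := fun φ h => mem_sup_right ⟨φ, h, rfl⟩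
  have h2 : ∀ m ∈ N, m v ∈ centres (N ⊔ trQ v) := fun m hm => centres_apply (mem_sup_left hm) h1
  obtain ⟨φ, h3, h4⟩ := exists_sep_one hv
  have h5 : φ (u - φ u • n v) = 0 := by simp [h3]
  have h6 := h2 _ (hn _ (tr_mem_sl φ (u - φ u • n v)) n hnN)
  rw [LinearEquiv.mul_apply, LinearEquiv.mul_apply, tr_inv h5, tr_fix _ h4, tr_apply h5, h3, one_smul] at h6
  have := add_mem (sub_mem h6 (h2 n hnN)) (Submodule.smul_mem _ (φ u) (h2 n hnN))
  simpa using this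

theorem add_scalar_of_tr (hd : 2 ≤ finrank F V) (g : V →+ V)
    (h : ∀ (φ : Dual F V) v, φ v = 0 → ∀ x, g (tr φ v x) = tr φ v (g x)) : ∃ c : F, ∀ x, g x = c • x := by
  have key : ∀ (φ : Dual F V) v x, φ v = 0 → g (φ x • v) = φ (g x) • v := fun φ v x hv => by
    have := h φ v hv x
    rwa [tr_apply hv, tr_apply hv, map_add, add_right_inj] at this
  have h2 : ∀ v : V, ∃ x, ∀ c : F, x ≠ c • v := fun v => by
    obtain ⟨x, hx⟩ := exists_notMem_of_finrank_lt (H := Submodule.span F {v})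
      ((finrank_span_le_card _).trans_lt (by simp; omega))
    exact ⟨x, fun c h => hx (Submodule.mem_span_singleton.2 ⟨c, h.symm⟩)⟩
  have h3 : ∀ (a : F) v, g (a • v) = a • g v := fun a v => by
    obtain ⟨x, hx⟩ := h2 v
    obtain ⟨φ, h3, h4⟩ := exists_sep_one hx
    have e1 := key (a • φ) v x (by simp [h4])
    have e2 := key φ v x h4
    rw [h3, one_smul] at e2
    rw [e2, smul_smul]
    simpa [h3] using e1
  refine exists_scalar { g with map_smul' := h3 } fun v => ?_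
  obtain ⟨x, hx⟩ := h2 v
  obtain ⟨φ, h3, h4⟩ := exists_sep_one hx
  exact ⟨φ (g x), by simpa [h3] using key φ v x h4⟩

theorem sl_eq_closure : slSub F V = closure {t | ∃ φ v, t = tr φ v} :=
  le_antisymm (sl_le fun φ v _ => subset_closure ⟨φ, v, rfl⟩)
    ((closure_le _).2 (by rintro _ ⟨φ, v, rfl⟩; exact tr_mem_sl φ v))

theorem isPGroup_trQ (r : ℕ) [CharP F r] (v : V) : IsPGroup r (trQ (F := F) v) :=
  isPGroup_of_unip (by rintro _ ⟨φ, -, rfl⟩; exact unip_tr r φ v)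

theorem trQ_le (v : V) : trQ v ≤ slSub F V := by rintro _ ⟨φ, -, rfl⟩; exact tr_mem_sl φ v

theorem goodP_sl [Finite F] {p r : ℕ} (hp : p.Prime) [Fact r.Prime] [CharP F r] (hpr : p ≠ r)
    (hd : 2 ≤ finrank F V) (h4 : ∃ t ∈ slSub F V, ∀ k, IsSc (t ^ k) → p ∣ k) :
    GoodP p r (slSub F V) :=
  goodP_of sl_eq_closure (by rintro _ ⟨φ, v, rfl⟩; exact unip_tr r φ v)
    (fun z _ h => add_scalar_of_tr hd (z : V →+ V) fun φ v _ x =>
      (congrArg (fun g : V ≃ₗ[F] V => g x) (h _ (tr_mem_sl φ v))).symm)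
    fun N h1 h2 h3 => (lin_dichotomy h2).resolve_right fun ⟨v, hv⟩ =>
      not_le_sup hp Fact.out hpr h1 h2 h3 (trQ_le v) (isPGroup_trQ r v) h4 hv

theorem sl_even (hd : 2 ≤ finrank F V) : ∃ t ∈ slSub F V, ∀ k, IsSc (t ^ k) → 2 ∣ k := by
  haveI : Nontrivial V := Module.nontrivial_of_finrank_pos (R := F) (by omega)
  obtain ⟨e, he⟩ := exists_ne (0 : V)
  obtain ⟨f, hf⟩ := exists_notMem_of_finrank_lt (H := Submodule.span F {e})
    ((finrank_span_le_card _).trans_lt (by simp; omega))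
  have hf' : ∀ c : F, f ≠ c • e := fun c h => hf (Submodule.mem_span_singleton.2 ⟨c, h.symm⟩)
  obtain ⟨φ, h1, h2⟩ := exists_sep_one hf'
  obtain ⟨ψ₀, h3⟩ := exists_dual_one (F := F) he
  let ψ := ψ₀ - ψ₀ f • φ
  have h4 : ψ e = 1 := by simp [ψ, h2, h3]
  have h5 : ψ f = 0 := by simp [ψ, h1]
  refine ⟨tr (-φ) e * tr ψ f * tr (-φ) e, mul_mem (mul_mem (tr_mem_sl _ _) (tr_mem_sl _ _)) (tr_mem_sl _ _),
    dvd_of_swap (a := 1) (b := -1) ?_ ?_ hf' he⟩
  · simp [tr_apply (show (-φ) e = 0 by simp [h2]), tr_apply h5, h1, h2, h4]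
  · simp [tr_apply (show (-φ) e = 0 by simp [h2]), tr_apply h5, h1, h2, h4, h5]

end Linear

section Forms

variable {F : Type*} [Field F] {T : FParam F} {V : Type*} [AddCommGroup V] [Module F V]
  {S : Form T V} [FiniteDimensional F V]

theorem add_scalar_of_eich (hS : S.Nondeg) {e f : V} (hef : S.IsHyp e f) (hd : 3 ≤ finrank F V)
    (g : V →+ V) (h : ∀ u w l (hE : S.IsEich u w l) x, g (eich hE x) = eich hE (g x)) :
    ∃ c : F, ∀ x, g x = c • x := by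
  have h1 : ∀ u, S.q u = 0 → ∃ c : F, g u = c • u := fun u hu => by
    by_cases h0 : u = 0
    · exact ⟨0, by simp [h0]⟩
    obtain ⟨c, hc⟩ := Submodule.mem_span_singleton.1 (hS.mem_span_of_fixed (Or.inr (by omega)) hu h0
      (x := g u) fun k hk => by
        obtain ⟨w, l, hE, rfl⟩ := (mem_Qu hu).1 hk
        rw [← h, eich_self])
    exact ⟨c, hc.symm⟩
  have hε : ∀ x, g (T.ε • x) = T.ε • g x := fun x => by rcases T.hε with e | e <;> simp [e]
  have h2 : ∀ {e f : V}, S.IsHyp e f → ∀ b : F, g f = b • f → ∀ w ∈ S.perp {e, f},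
      ∃ a : F, g w = b • w + a • e := fun {e f} hef b hb w hw => by
    obtain ⟨l, hl⟩ := S.exists_rep w
    have hw' := S.mem_perp_pair.1 hw
    have hE : S.IsEich e w l := ⟨hef.qe, hw'.1, hl⟩
    have e1 := h _ _ _ hE f
    obtain ⟨c, hc⟩ := h1 (l • e) (S.q_smul_zero l hef.qe)
    rw [hb, map_smul, eich_f hef hE hw'.2, map_sub, map_add, hb, hε, hc] at e1
    refine ⟨T.ε * (c * l - b * l), ?_⟩
    linear_combination (norm := module) T.ε • e1 - T.εε • g w + (b * T.εε) • w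
  have h3 : ∀ {e f : V}, S.IsHyp e f → ∀ b : F, g f = b • f → ∀ w ∈ S.perp {e, f},
      g w = b • w := fun {e f} hef b hb w hw => by
    obtain ⟨a, ha⟩ := h2 hef b hb w hw
    obtain ⟨c, hc⟩ := h1 _ hef.symm.qf
    have hw' := S.mem_perp_pair.1 hw
    obtain ⟨a', ha'⟩ := h2 hef.symm c hc w (S.mem_perp_pair.2 ⟨hw'.2, by simp [hw'.1]⟩)
    have := congrArg (S.B · f) (ha.symm.trans ha')
    simp only [add_left, smul_left, hw'.2, hef.ef, hef.ff, mul_zero, zero_add, mul_one] at this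
    rw [ha, this, zero_smul, add_zero]
  obtain ⟨w, hw, hw0⟩ := Submodule.exists_mem_ne_zero_of_ne_bot (p := S.perp {e, f}) fun h0 => by
    have := hef.nondegOn.finrank_add
    rw [hef.finrank_span, perp_span, h0, finrank_bot] at this
    omega
  have hw' := S.mem_perp_pair.1 hw
  obtain ⟨b, hb⟩ := h1 f hef.qf
  have h4 : ∀ {e' f' : V}, S.IsHyp e' f' → S.B w e' = 0 → S.B w f' = 0 → g f' = b • f' :=
    fun {e' f'} h' a1 a2 => by
      obtain ⟨c, hc⟩ := h1 f' h'.qf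
      have := (h3 h' c hc w (S.mem_perp_pair.2 ⟨a1, a2⟩)).symm.trans (h3 hef b hb w hw)
      rw [hc, smul_left_injective F hw0 this]
  have h5 : ∀ {e' f' : V}, S.IsHyp e' f' → S.B w e' = 0 → S.B w f' = 0 → ∀ s : F,
      g (s • f') = b • s • f' := fun {e' f'} h' a1 a2 s => by
    by_cases hs : s = 0
    · simp [hs]
    exact h4 (e' := (T.σ s)⁻¹ • e') ⟨S.q_smul_zero _ h'.qe, S.q_smul_zero _ h'.qf, by
      simp [h'.ef, T.σ_ne hs]⟩ (by simp [a1]) (by simp [a2])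
  refine ⟨b, fun x => ?_⟩
  have e1 := h3 hef b hb _ (hef.decomp x)
  have e2 := h5 hef.symm hw'.2 (by simp [hw'.1]) (S.B x f * T.ε)
  rw [smul_smul (S.B x f * T.ε), mul_assoc, T.εε, mul_one] at e2
  rw [map_sub, map_add, e2, h5 hef hw'.1 hw'.2] at e1
  linear_combination (norm := module) e1

theorem EG_even (hS : S.Nondeg) {e f : V} (hef : S.IsHyp e f) (hd : T.Λ ≠ ⊥ ∨ finrank F V ≠ 2) :
    ∃ t ∈ S.EG, ∀ k, IsSc (t ^ k) → 2 ∣ k := by
  obtain ⟨t, ht, c, hc, h1⟩ := hS.EG_trans_points hd hef.qe hef.ne_left hef.qf hef.ne_right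
  have h2 : S.B (t f) f ≠ 0 := fun h => by
    have := isom_B (EG_le_isom ht) f e
    rw [h1, smul_right, h, mul_zero, hef.fe] at this
    exact T.ε_ne this.symm
  obtain ⟨s, hs, d, -, h3⟩ := exists_Qu_map_sing hef.qf h2 (y := e) (by simp [hef.ef])
    (by rw [isom_q (EG_le_isom ht), hef.qf]) hef.qe
  obtain ⟨w, l, hE, rfl⟩ := (mem_Qu hef.qf).1 hs
  refine ⟨eich hE * t, mul_mem (eich_mem_EG hE) ht, dvd_of_swap (a := c) (b := d) ?_ h3 (fun a h => ?_)
    hef.ne_left⟩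
  · rw [LinearEquiv.mul_apply, h1, map_smul, eich_self]
  · have := hef.ef
    rw [h, smul_right, hef.ee, mul_zero] at this
    exact zero_ne_one this

variable [Finite F] {p r : ℕ} [Fact r.Prime] [CharP F r]

theorem goodP_EG_of (hS : S.Nondeg) {e f : V} (hef : S.IsHyp e f) (hd : T.Λ ≠ ⊥ ∨ finrank F V ≠ 2)
    (hn : ∀ N : Subgroup (V ≃ₗ[F] V), N ≤ S.EG → (∀ t ∈ S.EG, ∀ n ∈ N, t * n * t⁻¹ ∈ N) →
      (∀ n ∈ N, ∃ k, k.Coprime p ∧ IsSc (n ^ k)) → ∀ n ∈ N, ∀ u, S.q u = 0 → ∃ c : F, n u = c • u) :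
    GoodP p r S.EG :=
  goodP_of rfl (by rintro _ ⟨u, w, l, h, rfl⟩; exact unip_eich h)
    (fun z hz h => hS.scalar_of_comm hd hef.qe hef.ne_left (EG_le_isom hz) h)
    fun N h1 h2 h3 n hn' => hS.scalar_of_fix hd hef.qe hef.ne_left (EG_le_isom (h1 hn'))
      (hn N h1 h2 h3 n hn')

theorem goodP_EG (hp : p.Prime) (hpr : p ≠ r) (hS : S.Nondeg) {e f : V} (hef : S.IsHyp e f)
    (hd : T.Λ ≠ ⊥ ∨ (finrank F V ≠ 2 ∧ finrank F V ≠ 4)) (h4 : ∃ t ∈ S.EG, ∀ k, IsSc (t ^ k) → p ∣ k) :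
    GoodP p r S.EG :=
  goodP_EG_of hS hef (hd.imp id And.left) fun _ h1 h2 h3 =>
    (hS.normal_dichotomy hd (h1.trans EG_le_isom) h2).resolve_right fun ⟨u, hu, h⟩ =>
      not_le_sup hp Fact.out hpr h1 h2 h3 (Qu_le_EG u) (isPGroup_Qu hu) h4 h

theorem goodP_EG_two (hr : 2 ≠ r) {S : Form (orthParam F) V} (hS : S.Nondeg) (hd : 3 ≤ finrank F V) :
    GoodP 2 r S.EG := by
  obtain ⟨e₀, f₀, hef⟩ := hS.exists_isHyp hd
  have h4 := EG_even hS hef (Or.inr (by omega))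
  by_cases hd4 : finrank F V = 4
  swap
  · exact goodP_EG Nat.prime_two hr hS hef (Or.inr ⟨by omega, hd4⟩) h4
  refine goodP_EG_of hS hef (Or.inr (by omega)) fun N h1 h2 h3 n hn e he => ?_
  by_contra hne
  push Not at hne
  have hi : N ≤ S.isom := h1.trans EG_le_isom
  have key : ∀ u, S.q u = 0 → ∀ m ∈ N, S.B (m u) u = 0 := fun u hu m hm => by
    by_contra h
    exact not_le_sup Nat.prime_two Fact.out hr h1 h2 h3 (Qu_le_EG u) (isPGroup_Qu hu) h4
      (hS.EG_le_of_opp hu (by rw [isom_q (hi hm), hu]) h le_sup_right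
        (Qu_map_le' (hi hm) (mem_sup_left hm) le_sup_right))
  have he0 : e ≠ 0 := by rintro rfl; exact hne 0 (by simp)
  have hq : S.q (n e) = 0 := by rw [isom_q (hi hn), he]
  set L := Submodule.span F {e} ⊔ Submodule.span F {n e} with hL
  have hT : S.TotSing L := (totSing_span he).sup_span hq (by simpa [perp_span] using key e he n hn)
  have hL2 : finrank F L = 2 := by
    rw [hL, finrank_sup_span_eq fun h => by
      obtain ⟨c, hc⟩ := Submodule.mem_span_singleton.1 h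
      exact hne c hc.symm, finrank_span_singleton he0]
  have hLp : L = S.perp L := Submodule.eq_of_le_of_finrank_eq hT.le_perp (by
    have := hS.finrank_perp L
    omega)
  have heL : e ∈ L := Submodule.mem_sup_left (Submodule.mem_span_singleton_self e)
  have hnL : n e ∈ L := Submodule.mem_sup_right (Submodule.mem_span_singleton_self _)
  have hst : n ∈ stab F (L : Set V) := mem_stab_of_le fun v hv => by
    obtain ⟨a, ha, b, hb, rfl⟩ := Submodule.mem_sup.1 hv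
    obtain ⟨a, rfl⟩ := Submodule.mem_span_singleton.1 ha
    obtain ⟨b, rfl⟩ := Submodule.mem_span_singleton.1 hb
    rw [map_add, map_smul, map_smul]
    refine add_mem (L.smul_mem _ hnL) (L.smul_mem _ ?_)
    rw [hLp, hL, perp_sup, perp_span, perp_span]
    exact ⟨by simpa using key e he (n * n) (mul_mem hn hn), by simpa using key _ hq n hn⟩
  let M : Subgroup (L ≃ₗ[F] L) := (N.subgroupOf (stab F (L : Set V))).map (stabRes L)
  have hext : ∀ t ∈ slSub F L, ∃ t' : stab F (L : Set V), t'.1 ∈ S.EG ∧ stabRes L t' = t := by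
    refine sl_le (K := (S.EG.subgroupOf (stab F (L : Set V))).map (stabRes L)) fun φ v hv => ?_
    obtain ⟨ψ, hψ⟩ := LinearMap.exists_extend φ
    obtain ⟨w, hw⟩ := hS.exists_dual (-ψ)
    have h5 : ∀ x : L, S.B x w = -φ x := fun x => by
      rw [← hw, ← hψ]; rfl
    have hE : S.IsEich v w (S.Q w) := orth_isEich (hT.Q v.2) (by rw [orth_symm, h5, hv, neg_zero])
    have h6 : ∀ x : L, eich hE x = x + φ x • v := fun x => by
      rw [orth_eich_of_perp hE (hT.B _ x.2 _ v.2), h5]; simp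
    refine ⟨⟨eich hE, mem_stab_of_le fun x hx => ?_⟩, eich_mem_EG hE, ?_⟩
    · rw [h6 ⟨x, hx⟩]; exact add_mem hx (L.smul_mem _ v.2)
    · ext x
      rw [stabRes_apply, tr_apply hv]
      exact h6 x
  have hM : ∀ t ∈ slSub F L, ∀ m ∈ M, t * m * t⁻¹ ∈ M := by
    rintro t ht _ ⟨m, hm, rfl⟩
    obtain ⟨t, ht', rfl⟩ := hext t ht
    exact ⟨t * m * t⁻¹, h2 _ ht' _ hm, by simp⟩
  have hM' : ∀ t ∈ slSub F L, ∀ m ∈ M ⊓ slSub F L, t * m * t⁻¹ ∈ M ⊓ slSub F L := fun t ht m hm =>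
    mem_inf.2 ⟨hM t ht m hm.1, mul_mem (mul_mem ht hm.2) (inv_mem ht)⟩
  have hM3 : ∀ m ∈ M ⊓ slSub F L, ∃ k, k.Coprime 2 ∧ IsSc (m ^ k) := by
    rintro _ ⟨⟨m, hm, rfl⟩, -⟩
    obtain ⟨k, a, c, hc⟩ := h3 _ hm
    exact ⟨k, a, c, fun v => Subtype.ext (by rw [← map_pow, stabRes_apply]; exact hc v)⟩
  have hsc := (lin_dichotomy hM').resolve_right fun ⟨v, hv⟩ =>
    not_le_sup Nat.prime_two Fact.out hr inf_le_right hM' hM3 (trQ_le v) (isPGroup_trQ r v)
      (sl_even hL2.ge) hv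
  let m := stabRes L ⟨n, hst⟩
  have hm : m ∈ M := ⟨_, hn, rfl⟩
  obtain ⟨c, hc⟩ := add_scalar_of_tr hL2.ge (m : L →+ L) fun φ v hv x => by
    have ht := tr_mem_sl φ v
    have h5 : m * tr φ v * m⁻¹ ∈ slSub F L := by rw [conj_tr]; exact tr_mem_sl _ _
    have h6 := hsc ((tr φ v)⁻¹ * (m * tr φ v * m⁻¹)) (mem_inf.2 ⟨by
      simpa only [mul_assoc, inv_inv] using mul_mem (hM _ (inv_mem ht) m hm) (inv_mem hm),
      mul_mem (inv_mem ht) h5⟩)
    have h7 : Unip r ((tr φ v)⁻¹ * (m * tr φ v * m⁻¹)) :=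
      (unip_tr r φ v).inv.mul_of_commute ((unip_tr r φ v).conj m) (by
        have := h6.comm (tr φ v)⁻¹
        rw [mul_assoc (tr φ v)⁻¹, mul_right_inj] at this
        exact this)
    obtain ⟨j, hj⟩ := h7
    have h8 := eq_one_of_coprime ((coprime_card_sub_one r).pow_right j) h6.pow_card hj
    rw [inv_mul_eq_one, eq_mul_inv_iff_mul_eq] at h8
    exact (congrArg (fun g : L ≃ₗ[F] L => g x) h8).symm
  exact hne c (congrArg Subtype.val (hc ⟨e, heL⟩))

end Forms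

end CfsgH8
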