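import Cfsg.Agent.H8.LB1

/-!
Local balance: descent.
-/

set_option autoImplicit false

namespace CfsgH8

open Subgroup Module Matrix CfsgH5 CfsgH5.Form

section Model

variable {ι : Type*} [Fintype ι] [DecidableEq ι] {F : Type*} [Field F] {F₀ : Type*} [Field F₀]
  {φ : F₀ →+* F} {P : GL ι F}

/-- extension of scalars of linear automorphisms -/
noncomputable def dE (φ : F₀ →+* F) (P : GL ι F) : ((ι → F₀) ≃ₗ[F₀] (ι → F₀)) →* GammaL ι F :=
  SemidirectProduct.inl.comp ((descG φ P).comp glRho.symm.toMonoidHom)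

theorem dE_apply (t : (ι → F₀) ≃ₗ[F₀] (ι → F₀)) :
    dE φ P t = SemidirectProduct.inl (descG φ P (glRho.symm t)) := rfl

theorem descG_mulVec (g : GL ι F₀) (v : ι → F₀) :
    (descG φ P g : Matrix ι ι F) *ᵥ (P : Matrix ι ι F) *ᵥ vmap φ v =
      (P : Matrix ι ι F) *ᵥ vmap φ ((g : Matrix ι ι F₀) *ᵥ v) := by
  rw [vmap_mulVec, mulVec_mulVec, mulVec_mulVec, ← Units.val_mul, ← Units.val_mul, descG_apply,
    inv_mul_cancel_right]

theorem semiAct_dE (t : (ι → F₀) ≃ₗ[F₀] (ι → F₀)) (v : ι → F₀) :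
    semiAct (dE φ P t) ((P : Matrix ι ι F) *ᵥ vmap φ v) = (P : Matrix ι ι F) *ᵥ vmap φ (t v) := by
  rw [dE_apply, semiAct_inl, descG_mulVec, ← glRho_apply (glRho.symm t), MulEquiv.apply_symm_apply]

theorem gammaL_ext_desc {a b : GammaL ι F} (h1 : a.right = b.right)
    (h : ∀ v, semiAct a ((P : Matrix ι ι F) *ᵥ vmap φ v) = semiAct b ((P : Matrix ι ι F) *ᵥ vmap φ v)) :
    a = b := by
  refine gammaL_ext h1 fun v => ?_
  have : v ∈ Submodule.span F (Set.range fun x : ι → F₀ => (P : Matrix ι ι F) *ᵥ vmap φ x) :=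
    span_vmap φ P ▸ Submodule.mem_top
  induction this using Submodule.span_induction with
  | mem _ hx => obtain ⟨x, rfl⟩ := hx; exact h x
  | zero => simp
  | add _ _ _ _ a b => rw [map_add, map_add, a, b]
  | smul c _ _ a => rw [semiAct_smul, semiAct_smul, a, h1]

theorem semiAct_scalar (c : Fˣ) (v : ι → F) :
    semiAct (SemidirectProduct.inl (GeneralLinearGroup.scalar ι c) : GammaL ι F) v = (c : F) • v := by
  rw [semiAct_inl, ← glRho_apply, glRho_scalar]

theorem jv_smul (a : F₀) (v : ι → F₀) :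
    (P : Matrix ι ι F) *ᵥ vmap φ (a • v) = φ a • (P : Matrix ι ι F) *ᵥ vmap φ v := by
  rw [vmap_smul, mulVec_smul]

theorem jv_inj {v w : ι → F₀} (h : (P : Matrix ι ι F) *ᵥ vmap φ v = (P : Matrix ι ι F) *ᵥ vmap φ w) :
    v = w := by
  rw [← glRho_apply, ← glRho_apply] at h
  exact vmap_inj ((glRho P).injective h)

theorem dE_scalar_iff {t : (ι → F₀) ≃ₗ[F₀] (ι → F₀)} :
    (∃ c : Fˣ, dE φ P t = SemidirectProduct.inl (GeneralLinearGroup.scalar ι c)) ↔ IsSc t := by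
  constructor
  · rintro ⟨c, hc⟩
    refine exists_scalar (t : (ι → F₀) →ₗ[F₀] (ι → F₀)) fun v => ?_
    by_cases h0 : v = 0
    · exact ⟨0, by simp [h0]⟩
    obtain ⟨i, hi⟩ := Function.ne_iff.1 h0
    have h1 := semiAct_dE (φ := φ) (P := P) t v
    rw [hc, semiAct_scalar, ← mulVec_smul, ← glRho_apply, ← glRho_apply] at h1
    have h2 := (glRho P).injective h1
    refine ⟨t v i / v i, funext fun j => φ.injective ?_⟩
    have h3 : φ (t v j) = c * φ (v j) := (congrFun h2 j).symm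
    have h4 : φ (t v i) = c * φ (v i) := (congrFun h2 i).symm
    have h5 : φ (v i) ≠ 0 := by simpa using hi
    change φ (t v j) = φ (t v i / v i * v j)
    rw [map_mul, map_div₀, h3, h4, mul_div_cancel_right₀ _ h5]
  · rintro ⟨c, hc⟩
    rcases isEmpty_or_nonempty ι with h | ⟨⟨i⟩⟩
    · exact ⟨1, gammaL_ext rfl fun v => Subsingleton.elim _ _⟩
    have h0 : c ≠ 0 := by
      rintro rfl
      simpa using congrFun (t.injective ((hc (Pi.single i 1)).trans (by simp)) : Pi.single i (1 : F₀) = 0) i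
    refine ⟨Units.mk0 (φ c) (by simpa using h0), gammaL_ext_desc (φ := φ) (P := P) rfl fun v => ?_⟩
    rw [semiAct_dE, hc, jv_smul, semiAct_scalar, Units.val_mk0]

theorem dE_commute {γ : GammaL ι F} (hφ : ∀ a, γ.right a = a ↔ ∃ b, φ b = a) {d : Fˣ}
    (h : γ.left * fieldAutGL γ.right P = GeneralLinearGroup.scalar ι d * P)
    (t : (ι → F₀) ≃ₗ[F₀] (ι → F₀)) : Commute (dE φ P t) γ := by
  refine gammaL_ext_desc (φ := φ) (P := P) (by simp [dE_apply]) fun v => ?_
  rw [semiAct_mul, semiAct_mul, semiAct_fix hφ h, semiAct_dE, semiAct_fix hφ h, semiAct_smul,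
    semiAct_dE]
  rfl

theorem exists_dE_of_commute [Finite F] [Nonempty ι] {γ : GammaL ι F}
    (hφ : ∀ a, γ.right a = a ↔ ∃ b, φ b = a) {d : Fˣ}
    (h : γ.left * fieldAutGL γ.right P = GeneralLinearGroup.scalar ι d * P) {M : GL ι F} {c : Fˣ}
    (hM : SemidirectProduct.inl M * γ * (γ * SemidirectProduct.inl M)⁻¹ =
      (SemidirectProduct.inl (GeneralLinearGroup.scalar ι c) : GammaL ι F)) :
    ∃ (c : Fˣ) (m : GL ι F₀), M = GeneralLinearGroup.scalar ι c * descG φ P m := by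
  rw [mul_inv_eq_iff_eq_mul] at hM
  have h1 := congrArg SemidirectProduct.left hM
  simp only [SemidirectProduct.mul_left, SemidirectProduct.left_inl, SemidirectProduct.right_inl,
    map_one, MulAut.one_apply] at h1
  rw [← eq_mul_inv_iff_mul_eq] at h
  obtain ⟨c', m, hm⟩ := exists_GL_of_twist hφ (M := P⁻¹ * M * P) (c := c) (by
    rw [map_mul, map_mul, map_inv]
    rw [h] at h1
    generalize fieldAutGL γ.right P = P' at *
    generalize fieldAutGL γ.right M = M' at *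
    have h2 : ∀ (c : Fˣ) (X Y : GL ι F), X * (GeneralLinearGroup.scalar ι c * Y) =
        GeneralLinearGroup.scalar ι c * (X * Y) := fun c X Y => by
      rw [← mul_assoc, ← scalar_comm, mul_assoc]
    simp only [mul_assoc] at h1 ⊢
    rw [h2 d M, h2 d, mul_right_inj, ← h2 c P, ← mul_assoc, mul_inv_eq_iff_eq_mul] at h1
    rw [h1]
    group)
  refine ⟨c', m, ?_⟩
  rw [descG_apply, ← mul_assoc, ← mul_assoc, scalar_comm, mul_assoc P, ← hm]
  group

theorem commute_of_unip (r : ℕ) [Fact r.Prime] [CharP F r] {γ : GammaL ι F} {g : GL ι F}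
    (hg : Unip r g) {c : Fˣ} (h : γ * SemidirectProduct.inl g * (SemidirectProduct.inl g * γ)⁻¹ =
      SemidirectProduct.inl (GeneralLinearGroup.scalar ι c)) : Commute γ (SemidirectProduct.inl g) := by
  rcases isEmpty_or_nonempty ι with h0 | h0
  · rw [Subsingleton.elim g 1, map_one]; exact Commute.one_right _
  rw [_root_.mul_inv_rev, ← mul_assoc, mul_inv_eq_iff_eq_mul, ← inl_conjG, ← map_mul,
    SemidirectProduct.inl_inj] at h
  obtain ⟨k, hk⟩ := hg
  have h1 := congrArg (· ^ r ^ k) h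
  rw [← map_pow, hk, map_one, (show Commute _ g from scalar_comm c g).mul_pow, hk, mul_one, ← map_pow,
    ← map_one (GeneralLinearGroup.scalar ι)] at h1
  have h2 : (c : F) ^ r ^ k = 1 := by simpa using congrArg Units.val (scalarGL_inj h1).symm
  have h3 : c = 1 := Units.ext (by
    rw [← sub_eq_zero, ← pow_eq_zero_iff (pow_ne_zero k (Fact.out : r.Prime).ne_zero), sub_pow_char_pow, h2]
    simp)
  rw [h3, map_one, one_mul] at h
  rw [Commute, SemiconjBy, ← mul_inv_eq_iff_eq_mul, ← inl_conjG, h]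

theorem scalar_of_commute_dE {s : Set ((ι → F₀) ≃ₗ[F₀] (ι → F₀))}
    (hs : ∀ g : (ι → F₀) →+ (ι → F₀), (∀ t ∈ s, ∀ x, g (t x) = t (g x)) → ∃ c : F₀, ∀ x, g x = c • x)
    {γ : GammaL ι F} (h : ∀ t ∈ s, Commute γ (dE φ P t)) :
    ∃ c : F, ∀ v, semiAct γ ((P : Matrix ι ι F) *ᵥ vmap φ v) = c • (P : Matrix ι ι F) *ᵥ vmap φ v := by
  rcases isEmpty_or_nonempty ι with h0 | ⟨⟨i₀⟩⟩
  · exact ⟨0, fun v => Subsingleton.elim _ _⟩
  letI := φ.toAlgebra
  let z : (ι → F₀) →+ (ι → F) := AddMonoidHom.mk'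
    (fun v => ((P⁻¹ : GL ι F) : Matrix ι ι F) *ᵥ semiAct γ ((P : Matrix ι ι F) *ᵥ vmap φ v))
    fun v w => by rw [vmap_add, mulVec_add, map_add, mulVec_add]
  have hz : ∀ v, semiAct γ ((P : Matrix ι ι F) *ᵥ vmap φ v) = (P : Matrix ι ι F) *ᵥ z v := fun v => by
    change _ = _ *ᵥ _ *ᵥ _
    rw [mulVec_mulVec, ← Units.val_mul, mul_inv_cancel, Units.val_one, one_mulVec]
  have h1 : ∀ t ∈ s, ∀ v, z (t v) = ((glRho.symm t : GL ι F₀) : Matrix ι ι F₀).map φ *ᵥ z v := by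
    intro t ht v
    apply (glRho P).injective
    rw [glRho_apply, glRho_apply, ← hz, ← semiAct_dE, ← semiAct_mul, (h t ht).eq, semiAct_mul, hz,
      dE_apply, semiAct_inl, descG_apply, mulVec_mulVec, ← Units.val_mul, inv_mul_cancel_right,
      mulVec_mulVec]
    rfl
  have h2 : ∀ l : Dual F₀ F, ∃ c : F₀, ∀ v i, l (z v i) = c * v i := fun l => by
    obtain ⟨c, hc⟩ := hs (AddMonoidHom.mk' (fun v i => l (z v i)) fun v w => by ext; simp)
      fun t ht v => by
        ext i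
        have e : ∀ w, t w = ((glRho.symm t : GL ι F₀) : Matrix ι ι F₀) *ᵥ w := fun w => by
          rw [← glRho_apply, MulEquiv.apply_symm_apply]
        rw [e (AddMonoidHom.mk' _ _ v)]
        simp only [AddMonoidHom.mk'_apply, h1 t ht, mulVec, dotProduct, map_sum, map_apply]
        exact Finset.sum_congr rfl fun j _ => l.map_smul _ _
    exact ⟨c, fun v i => congrFun (hc v) i⟩
  refine ⟨z (Pi.single i₀ 1) i₀, fun v => ?_⟩
  rw [hz, ← mulVec_smul]
  congr 1
  ext i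
  rw [← sub_eq_zero, ← Module.forall_dual_apply_eq_zero_iff F₀]
  intro l
  obtain ⟨c, hc⟩ := h2 l
  have : l (z (Pi.single i₀ 1) i₀ * φ (v i)) = c * v i := by
    rw [mul_comm, ← show v i • z (Pi.single i₀ 1) i₀ = φ (v i) * _ from rfl, l.map_smul, hc]
    simp [mul_comm]
  rw [map_sub, hc]
  exact sub_eq_zero.2 this.symm

theorem pow_eq_one_of_fix [Finite F] {k : ℕ} (hc : Nat.card F = Nat.card F₀ ^ k) {σ : F ≃+* F}
    (h : ∀ a, σ (φ a) = φ a) : σ ^ k = 1 := by
  letI := φ.toAlgebra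
  haveI : Finite F₀ := Finite.of_injective φ φ.injective
  let τ : F ≃ₐ[F₀] F := AlgEquiv.ofRingEquiv (f := σ) h
  have h1 : finrank F₀ F = k := Nat.pow_right_injective (a := Nat.card F₀) Finite.one_lt_card
    ((Module.natCard_eq_pow_finrank (K := F₀) (V := F)).symm.trans hc)
  have h2 : τ ^ k = 1 := by rw [← h1, ← IsGalois.card_aut_eq_finrank, pow_card_eq_one']
  ext a
  have : ∀ j, (σ ^ j) a = (τ ^ j) a := fun j => by
    induction j generalizing a with
    | zero => rfl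
    | succ j ih => rw [pow_succ', pow_succ', RingAut.mul_apply, AlgEquiv.mul_apply, ih]; rfl
  rw [this, h2]; rfl

theorem pow_scalar_of_desc [Finite F] {k : ℕ} (hc : Nat.card F = Nat.card F₀ ^ k) {γ : GammaL ι F}
    {c : F} (h : ∀ v, semiAct γ ((P : Matrix ι ι F) *ᵥ vmap φ v) = c • (P : Matrix ι ι F) *ᵥ vmap φ v)
    [Nonempty ι] : ∃ c : Fˣ, γ ^ k = SemidirectProduct.inl (GeneralLinearGroup.scalar ι c) := by
  obtain ⟨i⟩ := ‹Nonempty ι›
  have h0 : (P : Matrix ι ι F) *ᵥ vmap φ (Pi.single i 1) ≠ 0 := fun h => by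
    simpa using congrFun (jv_inj (φ := φ) (P := P) (w := 0) (h.trans (by rw [vmap_zero, mulVec_zero]))) i
  have hc0 : c ≠ 0 := by rintro rfl; exact semiAct_ne_zero γ h0 (by simpa using h _)
  have h1 : γ.right ^ k = 1 := pow_eq_one_of_fix (φ := φ) hc fun a => by
    have := h (a • Pi.single i 1)
    rw [jv_smul, semiAct_smul, h, smul_smul, smul_smul, mul_comm c] at this
    exact mul_right_cancel₀ hc0 (smul_left_injective F h0 this)
  have h2 : ∀ j, ∃ c : Fˣ, ∀ v, semiAct (γ ^ j) ((P : Matrix ι ι F) *ᵥ vmap φ v) =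
      (c : F) • (P : Matrix ι ι F) *ᵥ vmap φ v := fun j => by
    induction j with
    | zero => exact ⟨1, fun v => by rw [pow_zero, semiAct_one, Units.val_one, one_smul]⟩
    | succ j ih =>
      obtain ⟨d, hd⟩ := ih
      exact ⟨Units.mk0 (γ.right d * c) (by simp [hc0]), fun v => by
        rw [pow_succ', semiAct_mul, hd, semiAct_smul, h, smul_smul, Units.val_mk0]⟩
  obtain ⟨d, hd⟩ := h2 k
  refine ⟨d, gammaL_ext_desc (φ := φ) (P := P) ?_ fun v => by rw [hd, semiAct_scalar]⟩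
  exact (map_pow (SemidirectProduct.rightHom (φ := fieldAutGL)) γ k).trans h1

variable {X : Type*} [Group X] {Γ : Type*} [Group Γ] {i : Γ →* GammaL ι F} {Φ : Γ →* X}
  (hΦ : ∀ γ, Φ γ = 1 ↔ ∃ c, i γ = SemidirectProduct.inl (GeneralLinearGroup.scalar ι c))
include hΦ

theorem commute_iff_model {a b : Γ} : Commute (Φ a) (Φ b) ↔
    ∃ c, i a * i b * (i b * i a)⁻¹ = SemidirectProduct.inl (GeneralLinearGroup.scalar ι c) := by
  rw [← map_mul, ← map_mul, ← map_inv, ← map_mul, ← hΦ, map_mul, map_inv, map_mul, map_mul,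
    mul_inv_eq_one]
  rfl

theorem commute_model {a b : Γ} (h : Commute (i a) (i b)) : Commute (Φ a) (Φ b) :=
  (commute_iff_model hΦ).2 ⟨1, by rw [h.eq]; simp⟩

theorem eq_model {a b : Γ} {c : Fˣ} (h : i a = SemidirectProduct.inl (GeneralLinearGroup.scalar ι c) * i b) :
    Φ a = Φ b := by
  rw [← mul_inv_eq_one, ← map_inv, ← map_mul, hΦ]
  exact ⟨c, by rw [map_mul, map_inv, h, mul_inv_cancel_right]⟩

variable {E : Subgroup ((ι → F₀) ≃ₗ[F₀] (ι → F₀))} {j : E →* Γ} (hj : ∀ t, i (j t) = dE φ P t)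
include hj

theorem model_eq_one {t : E} : Φ (j t) = 1 ↔ IsSc t.1 := by rw [hΦ, hj, dE_scalar_iff]

theorem model_conj {γ : Γ} {c : Fˣ} {m : GL ι F₀}
    (h : i γ = SemidirectProduct.inl (GeneralLinearGroup.scalar ι c * descG φ P m))
    (hm : ∀ t ∈ E, glRho m * t * (glRho m)⁻¹ ∈ E) (t : E) :
    ∃ t', Φ γ * Φ (j t) * (Φ γ)⁻¹ = Φ (j t') := by
  refine ⟨⟨_, hm t t.2⟩, ?_⟩
  rw [← map_inv, ← map_mul, ← map_mul]
  refine eq_model hΦ (c := 1) ?_
  rw [map_mul, map_mul, map_inv, hj, hj, h, map_one, map_one, one_mul]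
  simp only [map_mul, map_inv, dE_apply, MulEquiv.symm_apply_apply]
  simp only [← map_mul, ← map_inv, SemidirectProduct.inl_inj]
  rw [mul_assoc (GeneralLinearGroup.scalar ι c), scalar_comm c, scalar_comm c]
  simp only [map_mul, map_inv]
  group

theorem model_pow [Finite F] [Nonempty ι] (r : ℕ) [Fact r.Prime] [CharP F r]
    (hs : ∀ g : (ι → F₀) →+ (ι → F₀), (∀ t ∈ E, Unip r t → ∀ x, g (t x) = t (g x)) →
      ∃ c : F₀, ∀ x, g x = c • x) {k : ℕ} (hc : Nat.card F = Nat.card F₀ ^ k) {γ : Γ}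
    (h : ∀ t, Commute (Φ γ) (Φ (j t))) : Φ γ ^ k = 1 := by
  obtain ⟨c, hc'⟩ := scalar_of_commute_dE (φ := φ) (P := P) (s := {t | t ∈ E ∧ Unip r t}) (γ := i γ)
    (fun g hg => hs g fun t a b => hg t ⟨a, b⟩) fun t ht => by
      obtain ⟨c, hc⟩ := (commute_iff_model hΦ).1 (h ⟨t, ht.1⟩)
      rw [hj] at hc
      exact commute_of_unip r ((ht.2.map glRho.symm.toMonoidHom).map (descG φ P)) hc
  rw [← map_pow, hΦ, map_pow]
  exact pow_scalar_of_desc hc hc'

theorem lbal_model [Finite F] [Nonempty ι] {p r : ℕ} [Fact r.Prime] [CharP F r] (hE : GoodP p r E)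
    (hs : ∀ g : (ι → F₀) →+ (ι → F₀), (∀ t ∈ E, Unip r t → ∀ x, g (t x) = t (g x)) →
      ∃ c : F₀, ∀ x, g x = c • x) {k : ℕ} (hc : Nat.card F = Nat.card F₀ ^ p ^ k)
    {I : Subgroup X} [I.Normal] {x : X} (h1 : ∀ t, Φ (j t) ∈ I ∧ Commute (Φ (j t)) x)
    (h2 : ∀ y ∈ I, Commute y x → ∃ γ c m, Φ γ = y ∧
      i γ = SemidirectProduct.inl (GeneralLinearGroup.scalar ι c * descG φ P m) ∧
      ∀ t ∈ E, glRho m * t * (glRho m)⁻¹ ∈ E)
    (h3 : ∀ α, Commute α x → (∀ t, Commute α (Φ (j t))) → ∀ k, k.Coprime p → α ^ k = 1 → α ∈ Φ.range) :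
    LBal p I x :=
  lbal_of_good hE (Φ.comp j)
    (fun t ht => mem_center_iff.2 fun s => Subtype.ext (((model_eq_one hΦ hj).1 ht).comm s)) h1
    (fun y a b t => by
      obtain ⟨γ, c, m, rfl, h4, h5⟩ := h2 y a b
      exact model_conj hΦ hj h4 h5 t)
    fun α a b n c d => by
      obtain ⟨γ, rfl⟩ := h3 α a b n c d
      exact eq_one_of_coprime (c.pow_right k) d (model_pow hΦ hj r hs hc b)

end Model

end CfsgH8
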