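import Cfsg.Agent.H8.LB2
import Cfsg.Agent.H8.LangForm2

/-!
Local balance: field automorphisms of groups of forms.
-/

set_option autoImplicit false

namespace CfsgH8

open Subgroup Module Matrix CfsgH5 CfsgH5.Form

variable {ι : Type*} [Fintype ι] [DecidableEq ι] {F : Type*} [Field F] {T : FParam F}
  {S : Form T (ι → F)} {F₀ : Type*} [Field F₀] {T₀ : FParam F₀} {S₀ : Form T₀ (ι → F₀)}
  {φ : F₀ →+* F} {P : GL ι F}

theorem sim_conj_EG [Finite F] {m : GL ι F} (hm : m ∈ Sim S) :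
    ∀ t ∈ S.EG, glRho m * t * (glRho m)⁻¹ ∈ S.EG := fun _ ht => by
  obtain ⟨κ, hκ⟩ := hm
  refine conj_mem_closure (g := glRho m) ?_ ht
  rintro _ ⟨u, w, l, h, rfl⟩
  obtain ⟨h', hh⟩ := hκ.conj_eich h
  have : glRho m * eich h * (glRho m)⁻¹ = eich h' := by
    rw [mul_inv_eq_iff_eq_mul]
    ext1 x
    exact (hh x).symm
  rw [this]
  exact eich_mem_EG h'

theorem glRho_ext_desc {a b : (ι → F) ≃ₗ[F] (ι → F)}
    (h : ∀ v, a ((P : Matrix ι ι F) *ᵥ vmap φ v) = b ((P : Matrix ι ι F) *ᵥ vmap φ v)) : a = b :=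
  LinearEquiv.toLinearMap_injective (LinearMap.ext_on_range (span_vmap φ P) h)

theorem glRho_descG (t : (ι → F₀) ≃ₗ[F₀] (ι → F₀)) (v : ι → F₀) :
    glRho (descG φ P (glRho.symm t)) ((P : Matrix ι ι F) *ᵥ vmap φ v) =
      (P : Matrix ι ι F) *ᵥ vmap φ (t v) := semiAct_dE t v

theorem desc_eich {σ : F ≃+* F} (D : DescP σ φ T₀ T) {e : F} (he : IsExt φ S₀ S P e) {u w : ι → F₀}
    {l : F₀} (h : S₀.IsEich u w l) : ∃ h' : S.IsEich ((P : Matrix ι ι F) *ᵥ vmap φ u)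
      (e⁻¹ • (P : Matrix ι ι F) *ᵥ vmap φ w) (e⁻¹ * φ l), glRho (descG φ P (glRho.symm (eich h))) = eich h' := by
  have h0 := he.ne
  have h' : S.IsEich ((P : Matrix ι ι F) *ᵥ vmap φ u) (e⁻¹ • (P : Matrix ι ι F) *ᵥ vmap φ w)
      (e⁻¹ * φ l) := ⟨by simpa using he.q u 0 (by simpa using h.sing), by simp [he.B, h.perp], by
    rw [S.q_smul _ _ _ (he.q w l h.rep), map_inv₀, he.fix]
    congr 1; field_simp⟩
  refine ⟨h', glRho_ext_desc (φ := φ) (P := P) fun v => ?_⟩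
  rw [glRho_descG, eich_apply, eich_apply, sub_eq_add_neg, ← neg_smul, vmap_add, vmap_add, mulVec_add,
    mulVec_add, jv_smul, jv_smul, smul_right, he.B, he.B, map_inv₀, he.fix, D.eps, smul_smul,
    sub_eq_add_neg, ← neg_smul]
  congr 3
  · field_simp
  · simp only [map_neg, map_mul, map_add]; field_simp

theorem desc_EG {σ : F ≃+* F} (D : DescP σ φ T₀ T) {e : F} (he : IsExt φ S₀ S P e) :
    ∀ t ∈ S₀.EG, glRho (descG φ P (glRho.symm t)) ∈ S.EG := fun t ht => by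
  have key : S₀.EG ≤ S.EG.comap (glRho.toMonoidHom.comp ((descG φ P).comp glRho.symm.toMonoidHom)) →
      glRho (descG φ P (glRho.symm t)) ∈ S.EG := fun h => mem_comap.1 (h ht)
  refine key (EG_le.2 fun u w l h => mem_comap.2 ?_)
  obtain ⟨h', e1⟩ := desc_eich D he h
  change glRho (descG φ P (glRho.symm (eich h))) ∈ S.EG
  rw [e1]
  exact eich_mem_EG h'

theorem addsc_EG {r : ℕ} [Fact r.Prime] [CharP F r] (hS : S.Nondeg) {e f : ι → F} (hef : S.IsHyp e f)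
    (h3 : 3 ≤ Fintype.card ι) (g : (ι → F) →+ (ι → F))
    (h : ∀ t ∈ S.EG, Unip r t → ∀ x, g (t x) = t (g x)) : ∃ c : F, ∀ x, g x = c • x :=
  add_scalar_of_eich hS hef (by simpa using h3) g fun _ _ _ hE => h _ (eich_mem_EG hE) (unip_eich hE)

theorem sim_sq [Finite F] [Nonempty ι] (hS : S.Nondeg) (hT : ∀ a, T.σ a = a) (m : Sim S) :
    ∃ c : Fˣ, ∃ h ∈ S.isom, (m : GL ι F) ^ 2 = GeneralLinearGroup.scalar ι c * glRho.symm h := by
  refine ⟨simMult hS m, glRho ((⟨_, scalar_mem_Sim (simMult hS m)⟩⁻¹ * m ^ 2 : Sim S) : GL ι F),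
    (isom_iff_simMult hS _).2 (Units.ext ?_), by simp⟩
  rw [map_mul, map_inv, Units.val_mul, Units.val_inv_eq_inv_val, simMult_scalar, hT, map_pow]
  have := (simMult hS m).ne_zero
  simp only [Units.val_pow_eq_pow_val, Units.val_one]
  field_simp

/-- powers of similarities are elementary modulo scalars -/
def PowEG (p : ℕ) (S : Form T (ι → F)) [Finite F] : Prop :=
  ∀ m ∈ Sim S, ∃ k, k.Coprime p ∧ ∃ c : Fˣ, ∃ t ∈ S.EG, m ^ k = GeneralLinearGroup.scalar ι c * glRho.symm t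

theorem powEG_sp [Finite F] [Nonempty ι] {p : ℕ} (hp : Odd p) {S : Form (spParam F) (ι → F)}
    (hS : S.Nondeg) : PowEG p S := fun m hm => by
  obtain ⟨c, h, h1, h2⟩ := sim_sq hS (fun _ => rfl) ⟨m, hm⟩
  exact ⟨2, Nat.coprime_two_left.2 hp, c, h, hS.sp_EG ▸ h1, h2⟩

theorem powEG_orth [Finite F] {p : ℕ} (hp : Odd p) {S : Form (orthParam F) (ι → F)}
    (hS : S.Nondeg) (h5 : 5 ≤ Fintype.card ι) : PowEG p S := fun m hm => by
  have : Nonempty ι := Fintype.card_pos_iff.1 (by omega)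
  obtain ⟨c, h, h1, h2⟩ := sim_sq hS (fun _ => rfl) ⟨m, hm⟩
  have hG : GenC F ι := genC_of h5
  have h3 : glRho.symm h ∈ OG S := mem_OG.2 (by simpa using h1)
  refine ⟨2 * 2, (Nat.coprime_two_left.2 hp).mul_left (Nat.coprime_two_left.2 hp), c ^ 2, h ^ 2, ?_, ?_⟩
  · rw [← hS.om_eq_EG_of_five (by simpa using h5), ← glRho.apply_symm_apply (h ^ 2), mem_om_iffG hS hG,
      map_pow, pow_two, dkG_mul hS hG h3 h3, spG_mul hS h3 h3]
    exact ⟨mul_mem h3 h3, Int.units_mul_self _, Int.units_mul_self _⟩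
  · rw [pow_mul]
    erw [h2]
    rw [(show Commute _ _ from scalar_comm c _).mul_pow, map_pow, map_pow]

variable [Finite F] {G : Type*} [Group G] {ρ : G →* ((ι → F) ≃ₗ[F] (ι → F))}

namespace FSetup

variable (H : FSetup S ρ)
include H

theorem exists_j {E : Subgroup ((ι → F₀) ≃ₗ[F₀] (ι → F₀))}
    (hE : ∀ t ∈ E, glRho (descG φ P (glRho.symm t)) ∈ S.EG) :
    ∃ j : E →* GammaS S, (∀ t, (GammaS S).subtype (j t) = dE φ P t) ∧ ∀ t, H.simPhi (j t) ∈ Cfsg.Inn _ := by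
  refine ⟨((dE φ P).comp E.subtype).codRestrict _ fun t => ⟨1, isSemiSim_isom (EG_le_isom (hE t t.2))⟩,
    fun _ => rfl, fun t => ?_⟩
  obtain ⟨s, hs⟩ := H.exists_of_EG (hE t t.2)
  refine H.mem_Inn_iff.2 ⟨s, congrArg H.simPhi (Subtype.ext ?_)⟩
  rw [coe_simIncl]
  exact congrArg SemidirectProduct.inl (rhoGL_eq fun v => by rw [hs, glRho_apply]; rfl)

variable {e f : ι → F} (hef : S.IsHyp e f) (h3 : 3 ≤ Fintype.card ι)
include hef h3

theorem center_eq_bot : center (G ⧸ center G) = ⊥ := by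
  refine eq_bot_iff.2 fun x hx => ?_
  induction x using QuotientGroup.induction_on with | H s =>
  have : H.simPsi ⟨rhoGL ρ s, H.rhoGL_mem s⟩ = 1 := by
    rw [H.simPsi_rho]
    ext y
    simp [← mem_center_iff.1 hx y]
  obtain ⟨c, hc⟩ := (H.simPsi_eq_one hef h3).1 this
  exact mem_bot.2 ((QuotientGroup.eq_one_iff _).2 (central_of_scalar H.inj (c := c) fun v => by
    rw [← rhoGL_mulVec, show rhoGL ρ s = _ from hc, ← glRho_apply, glRho_scalar]))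

variable {γ : GammaS S} (hφ : ∀ a, γ.1.right a = a ↔ ∃ b, φ b = a) {d : Fˣ}
  (hd : γ.1.left * fieldAutGL γ.1.right P = GeneralLinearGroup.scalar ι d * P)
  (hE1 : ∀ t ∈ S₀.EG, glRho (descG φ P (glRho.symm t)) ∈ S.EG)
include hφ hd

theorem exists_of_commute {y : MulAut (G ⧸ center G)} (hy : y ∈ H.simPsi.range)
    (hc : Commute y (H.simPhi γ)) : ∃ (M : Sim S) (c : Fˣ) (m : GL ι F₀), H.simPsi M = y ∧
      (M : GL ι F) = GeneralLinearGroup.scalar ι c * descG φ P m := by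
  have : Nonempty ι := Fintype.card_pos_iff.1 (by omega)
  obtain ⟨M, rfl⟩ := hy
  obtain ⟨c, hc⟩ := (commute_iff_model (i := (GammaS S).subtype) fun _ => H.simPhi_eq_one hef h3).1 hc
  obtain ⟨c, m, h⟩ := exists_dE_of_commute hφ hd hc
  exact ⟨M, c, m, rfl, h⟩

include hE1

theorem exists_fix (hS₀ : S₀.Nondeg) {e₀ f₀ : ι → F₀} (hef₀ : S₀.IsHyp e₀ f₀) :
    ∃ y ∈ Cfsg.Inn _, Commute y (H.simPhi γ) ∧ ∀ k, y ^ k = 1 → 2 ∣ k := by
  obtain ⟨j, h1, h2⟩ := H.exists_j hE1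
  obtain ⟨t, ht, h⟩ := EG_even hS₀ hef₀ (Or.inr (by simp; omega))
  have hΦ := fun γ => H.simPhi_eq_one hef h3 (γ := γ)
  refine ⟨_, h2 ⟨t, ht⟩, commute_model (i := (GammaS S).subtype) hΦ ?_, fun k hk => h k ?_⟩
  · rw [h1]; exact dE_commute hφ hd t
  · rw [← map_pow, ← map_pow] at hk
    exact (model_eq_one (i := (GammaS S).subtype) hΦ h1).1 hk

variable [Finite F₀] (hE2 : ∀ (M : Sim S) (c : Fˣ) (m : GL ι F₀),
    (M : GL ι F) = GeneralLinearGroup.scalar ι c * descG φ P m → m ∈ Sim S₀)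
include hE2

omit hE1 in
theorem exists_h4 {p : ℕ} (hp : PowEG p S₀) {y : MulAut (G ⧸ center G)}
    (hy : y ∈ Cfsg.Inn _) (hc : Commute y (H.simPhi γ)) (ho : orderOf y = p) :
    ∃ t ∈ S₀.EG, ∀ k, IsSc (t ^ k) → p ∣ k := by
  obtain ⟨M, c, m, rfl, h⟩ := H.exists_of_commute hef h3 hφ hd (H.Inn_le_simPsi hy) hc
  obtain ⟨k, h1, c', t, ht, h2⟩ := hp m (hE2 M c m h)
  refine ⟨t, ht, fun j hj => h1.symm.dvd_of_dvd_mul_left ?_⟩
  obtain ⟨c₁, hc₁⟩ := (dE_scalar_iff (φ := φ) (P := P)).2 hj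
  obtain ⟨c₂, hc₂⟩ := (dE_scalar_iff (φ := φ) (P := P) (t := glRho (GeneralLinearGroup.scalar ι c'))).2
    ⟨c', glRho_scalar c'⟩
  rw [dE_apply, SemidirectProduct.inl_inj] at hc₁ hc₂
  rw [MulEquiv.symm_apply_apply] at hc₂
  rw [← ho, orderOf_dvd_iff_pow_eq_one, ← map_pow, H.simPsi_eq_one hef h3]
  refine ⟨c ^ (k * j) * (c₂ ^ j * c₁), ?_⟩
  rw [Subgroup.coe_pow, h, (show Commute _ _ from scalar_comm c _).mul_pow, ← map_pow (descG φ P), pow_mul m,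
    h2, (show Commute _ _ from scalar_comm c' _).mul_pow, map_mul (descG φ P), map_pow (descG φ P), hc₂,
    ← map_pow glRho.symm, hc₁]
  simp only [map_mul, map_pow]

theorem lbal_desc {p r : ℕ} [Fact r.Prime] [CharP F r] [CharP F₀ r] (hE : GoodP p r S₀.EG)
    (hS₀ : S₀.Nondeg) {e₀ f₀ : ι → F₀} (hef₀ : S₀.IsHyp e₀ f₀) (hc : Nat.card F = Nat.card F₀ ^ p)
    (hs : ∀ α : MulAut (G ⧸ center G), (∀ s : G, (∃ t ∈ S₀.EG, ρ s = glRho (descG φ P (glRho.symm t))) →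
      α (QuotientGroup.mk s) = QuotientGroup.mk s) → α ∈ H.simPhi.range) :
    LBal p (Cfsg.Inn _) (H.simPhi γ) := by
  have : Nonempty ι := Fintype.card_pos_iff.1 (by omega)
  obtain ⟨j, h1, h2⟩ := H.exists_j hE1
  have hΦ := fun γ => H.simPhi_eq_one hef h3 (γ := γ)
  refine lbal_model (i := (GammaS S).subtype) hΦ h1 hE (addsc_EG hS₀ hef₀ h3) (k := 1) (by rwa [pow_one])
    (fun t => ⟨h2 t, commute_model (i := (GammaS S).subtype) hΦ ?_⟩) (fun y a b => ?_) fun α _ b _ _ _ => ?_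
  · rw [h1]; exact dE_commute hφ hd _
  · obtain ⟨M, c, m, rfl, h⟩ := H.exists_of_commute hef h3 hφ hd (H.Inn_le_simPsi a) b
    exact ⟨simIncl S M, c, m, rfl, congrArg SemidirectProduct.inl h, sim_conj_EG (hE2 M c m h)⟩
  refine hs α fun s ⟨t, ht, hst⟩ => ?_
  have h4 : H.simPhi (j ⟨t, ht⟩) = MulAut.conj (QuotientGroup.mk s : G ⧸ center G) := by
    rw [← H.simPsi_rho]
    refine congrArg H.simPhi (Subtype.ext ((h1 _).trans ?_))
    rw [coe_simIncl]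
    exact congrArg SemidirectProduct.inl (rhoGL_eq fun v => by rw [hst, glRho_apply]; rfl).symm
  have h5 := (b ⟨t, ht⟩).eq
  rw [h4, ← mul_inv_eq_iff_eq_mul] at h5
  have h6 : (QuotientGroup.mk s : G ⧸ center G)⁻¹ * α (QuotientGroup.mk s) ∈ center _ :=
    mem_center_iff.2 fun g => by
      have := congrArg (fun β : MulAut _ => β g) h5
      simp only [MulAut.mul_apply, MulAut.conj_apply, map_mul, map_inv, MulAut.apply_inv_self] at this
      rw [mul_inv_eq_iff_eq_mul] at this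
      rw [mul_assoc, this]
      group
  rw [H.center_eq_bot hef h3, mem_bot, inv_mul_eq_one] at h6
  exact h6.symm

end FSetup

theorem IsExt.mem_Sim [Nonempty ι] [Finite F₀] {σ : F ≃+* F} (D : DescP σ φ T₀ T) (hS : S.Nondeg) {e : F}
    (he : IsExt φ S₀ S P e) (M : Sim S) (c : Fˣ) (m : GL ι F₀)
    (h : (M : GL ι F) = GeneralLinearGroup.scalar ι c * descG φ P m) : m ∈ Sim S₀ := by
  obtain ⟨κ, hκ⟩ := (⟨_, scalar_mem_Sim c⟩⁻¹ * M : Sim S).2
  have h1 := he.left hκ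
  have h2 : ((⟨_, scalar_mem_Sim c⟩⁻¹ * M : Sim S) : GL ι F) * P = P * GeneralLinearGroup.map φ m := by
    simp [h, descG_apply]
  rw [h2] at h1
  obtain ⟨κ₀, -, h⟩ := he.of_left D hS h1
  exact ⟨κ₀, h⟩

theorem IsExt.finite (φ : F₀ →+* F) : Finite F₀ := Finite.of_injective φ φ.injective

/-- the field case -/
theorem FSetup.lb_field (H : FSetup S ρ) [Finite G] {e f : ι → F} (hef : S.IsHyp e f)
    (h3 : 3 ≤ Fintype.card ι) {γ : GammaS S} [Finite F₀] (D : DescP γ.1.right φ T₀ T)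
    (h : IsDesc φ S₀ S γ P) {e₀ f₀ : ι → F₀} (hef₀ : S₀.IsHyp e₀ f₀)
    (hd : T₀.Λ ≠ ⊥ ∨ Fintype.card ι ≠ 4) {p r : ℕ} [Fact p.Prime] [Fact r.Prime]
    [CharP F r] (hpr : p ≠ r) (hc : Nat.card F = Nat.card F₀ ^ p)
    (h4 : (∃ t ∈ S₀.EG, ∀ k, IsSc (t ^ k) → p ∣ k) ∨ (Odd p → PowEG p S₀))
    (hs : ∀ α : MulAut (G ⧸ center G), (∀ s : G, (∃ t ∈ S₀.EG, ρ s = glRho (descG φ P (glRho.symm t))) →
      α (QuotientGroup.mk s) = QuotientGroup.mk s) → α ∈ H.simPhi.range)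
    {A : Subgroup (MulAut (G ⧸ center G))} (hinn : ∀ k, MulAut.conj k ∈ A) {Q : Prop} (hQ : Q) :
    Cfsg.pPrimeCore p ↥(A ⊓ centralizer {H.simPhi γ}) ≠ ⊥ ↔ Q ∧ Nat.Coprime p
      (Nat.card ↥(MonoidHom.eqLocus (H.simPhi γ).toMonoidHom (MonoidHom.id _))) := by
  have : Nonempty ι := Fintype.card_pos_iff.1 (by omega)
  have : CharP F₀ r := (φ.charP_iff_charP r).2 inferInstance
  obtain ⟨⟨d, hd'⟩, c, he⟩ := h
  have hS₀ := he.nondeg H.nd
  refine lb_iff (H.center_eq_bot hef h3) hinn (fun ⟨y, a, b, c⟩ => ?_) fun _ => ⟨hQ, ?_⟩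
  · refine H.lbal_desc hef h3 D.fixed hd' (desc_EG D he) (he.mem_Sim D H.nd)
      (goodP_EG Fact.out hpr hS₀ hef₀ (hd.imp id fun h => by simp; omega) ?_) hS₀ hef₀ hc hs
    rcases h4 with h4 | h4
    · exact h4
    rcases (Fact.out : p.Prime).eq_two_or_odd' with rfl | hp
    · exact EG_even hS₀ hef₀ (Or.inr (by simp; omega))
    · exact H.exists_h4 hef h3 D.fixed hd' (he.mem_Sim D H.nd) (h4 hp) a b c
  · obtain ⟨y, a, b, c⟩ := H.exists_fix hef h3 D.fixed hd' (desc_EG D he) hS₀ hef₀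
    exact ⟨y, a, b, fun h => by simpa using c 1 (by simp [h])⟩

end CfsgH8
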