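import Cfsg.Agent.H8.OutD4
import Cfsg.Agent.S0246

/-! The isomorphism `PSp₄(q) ≅ B₂(q)` and the outer automorphism group in characteristic two. -/

set_option autoImplicit false

namespace CfsgH8

open Matrix Finset Cfsg CfsgH6 CfsgH6.PreSt CfsgH6.Chev Cfsg.Lie CfsgH5

theorem equiv_adj_card {D : ChevalleyDatum} (g : Good D) {F : Type*} [Field F] [Finite F]
    {Γ : Type*} [Group Γ] (Y : PreSt g.cd F Γ) (hG : Y.G = ⊤)
    (hc : Nat.card (D.group F) = Nat.card (Γ ⧸ Subgroup.center Γ)) :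
    Nonempty (D.group F ≃* Γ ⧸ Subgroup.center Γ) := by
  have := g.finiteG F
  have h1 := liftC_surj Y hG
  have h2 := liftC_surj _ (g.adjG_G F)
  have h3 := g.ker_eq_center F (g.stC_G F) _ (Good.liftC_x (g.adjG F))
  let θ := (QuotientGroup.mk' (Subgroup.center Γ)).comp (Good.liftC Y)
  have h4 : Function.Surjective θ := (QuotientGroup.mk'_surjective _).comp h1
  have h5 : (Good.liftC (g.adjG F)).ker ≤ θ.ker := fun z hz => (QuotientGroup.eq_one_iff _).2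
    (Subgroup.mem_center_iff.2 fun y => by
      obtain ⟨y, rfl⟩ := h1 y
      rw [← map_mul, ← map_mul, Subgroup.mem_center_iff.1 (h3.le hz)])
  let φ := (Good.liftC (g.adjG F)).liftOfSurjective h2 ⟨θ, h5⟩
  refine ⟨MulEquiv.ofBijective φ ((Nat.bijective_iff_surjective_and_card φ).2 ⟨fun z => ?_, hc⟩)⟩
  obtain ⟨y, rfl⟩ := h4 z
  exact ⟨_, MonoidHom.liftOfRightInverse_comp_apply _ _ _ _ y⟩

/-- the roots of type `B₂` -/
def datB2 (r : ℕ) : (Fin 2 ⊕ Fin 2) × (Fin 2 ⊕ Fin 2) × ℤ × ℤ :=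
  [(.inr 0, .inl 0, 1, 0), (.inr 0, .inl 1, 1, 1), (.inl 1, .inl 0, 1, -1), (.inr 1, .inl 1, -1, 0),
    (.inl 1, .inr 1, -1, 0), (.inl 0, .inl 1, 1, -1), (.inl 0, .inr 1, 1, 1), (.inl 0, .inr 0, 1, 0)].getD r
    (.inl 0, .inl 1, 1, 0)

/-- the root elements of type `B₂` in the symplectic group -/
def polC2 (r : ℕ) : List ((Fin 2 ⊕ Fin 2) × (Fin 2 ⊕ Fin 2) × ℕ × ℤ) :=
  ((datB2 r).1, (datB2 r).2.1, 1, (datB2 r).2.2.1) :: ((datB2 r).2.1.swap, (datB2 r).1.swap, 1, (datB2 r).2.2.2) ::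
    [.inl 0, .inl 1, .inr 0, .inr 1].map fun a => (a, a, 0, 1)

theorem chk_C2 : ∀ r < chevB2.nroots, ∀ s < chevB2.nroots, s ≠ r → s ≠ gB2.T.neg r →
    ((sb (polC2 s) (1, 0, 1)).mul (sb (polC2 r) (-1, 1, 0))).Eq ((gB2.T.tm r s).foldl
      (fun L c => L.mul (sb (polC2 c.1) c.2)) ((sb (polC2 r) (-1, 1, 0)).mul (sb (polC2 s) (1, 0, 1)))) := by
  decide +kernel

theorem equiv_C2 (F : Type*) [Field F] [Finite F] : Nonempty (chevB2.group F ≃* PSp 2 F) := by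
  obtain ⟨X, h1, h2, h3⟩ := exists_pre_C F (l := 1) le_rfl
  let B := bdC 1 le_rfl
  have h4 : ∀ r < 8, (datB2 r).1 ≠ (datB2 r).2.1 ∧ (datB2 r).2.2.1 * (datB2 r).2.2.1 = 1 ∧
      B.s (datB2 r).1 (datB2 r).2.1 = 1 ∧ if (datB2 r).1 = (datB2 r).2.1.swap then (datB2 r).2.2.2 = 0 else
        (datB2 r).2.2.2 = (datB2 r).2.2.1 * B.s (datB2 r).2.1.swap (datB2 r).1.swap := by decide +kernel
  obtain ⟨Y, hY⟩ := exists_pre_of_chk gB2 polC2 chk_C2 (spToMat 2 F) Subtype.val_injective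
    (fun r t => X.x (B.rt' (h4 r r.2).1 (Or.inl rfl)) ((datB2 r).2.2.1 * t))
    (fun r t => by
      obtain ⟨a1, -, a2, a3⟩ := h4 r r.2
      refine (congrArg Units.val (h3 _ _)).trans ?_
      rw [MR.coe_x, BD.rt', xm, polC2]
      generalize datB2 r = d at *
      obtain ⟨a, b, e, e'⟩ := d
      have a4 : (1 : Matrix _ _ F) = (([.inl 0, .inl 1, .inr 0, .inr 1].map fun a : Fin 2 ⊕ Fin 2 => (a, a, 0, (1 : ℤ))).map
          fun e => single e.1 e.2.1 (e.2.2.2 * t ^ e.2.2.1)).sum := by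
        ext a b
        rcases a with a | a <;> rcases b with b | b <;> fin_cases a <;> fin_cases b <;> simp
      rw [List.map_cons, List.map_cons, List.sum_cons, List.sum_cons, ← a4, add_comm (1 : Matrix _ _ F), ← add_assoc]
      simp only at a1 a2 a3 ⊢
      split_ifs at a3 with a5
      · subst a5 a3
        rw [B.X_long, a2]
        simp only [MR.φ, RingHom.mapMatrix_apply, Matrix.map_single, smul_single]
        simp
      · subst a3
        rw [B.X_short a1 a5, a2, map_add]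
        simp only [MR.φ, RingHom.mapMatrix_apply, Matrix.map_single, smul_single, smul_add]
        simp [mul_right_comm])
    fun r t u => by rw [X.add, mul_add]
  refine equiv_adj_card gB2 Y (top_unique (h2.ge.trans ((Subgroup.closure_le _).2 ?_))) ?_
  · rintro _ ⟨r, -, t, rfl⟩
    obtain ⟨a, b, e1, e2, rfl⟩ := B.exists_rt' r
    obtain ⟨r, hr, e⟩ := (by decide +kernel : ∀ a b : Fin 2 ⊕ Fin 2, a ≠ b → ∃ r < 8,
      wb a - wb b = wb (datB2 r).1 - wb (datB2 r).2.1) a b e1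
    have := Y.x_mem_G ⟨r, hr⟩ ((datB2 r).2.2.1 * t)
    rw [hY] at this
    have b1 := congrArg (Int.cast : ℤ → F) (h4 r hr).2.1
    push_cast at b1
    rwa [show B.rt' e1 e2 = B.rt' (h4 r hr).1 (Or.inl rfl) from Subtype.ext e, show t = (datB2 r).2.2.1 *
      ((datB2 r).2.2.1 * t) by rw [← mul_assoc, b1, one_mul]]
  · have := Fintype.ofFinite F
    have a1 := cardB2 (F := F)
    have a2 := Subgroup.card_eq_card_quotient_mul_card_subgroup (Subgroup.center (symplecticGroup (Fin 2) F))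
    rw [Cfsg.Agent.S0246.result (Nat.card_eq_fintype_card (α := F)).symm 2 (by decide), card_sp] at a2
    refine Nat.eq_of_mul_eq_mul_left (Nat.gcd_pos_of_pos_left (Nat.card F - 1) two_pos) ?_
    rw [pow_one] at a1
    rw [a1, mul_comm _ (Nat.card (_ ⧸ _)), ← a2]
    simp [prod_range_succ, mul_assoc]

theorem isCyclic_out_B2 (F : Type*) [Field F] [Finite F] [CharP F 2] : IsCyclic (Out (chevB2.group F)) := by
  have := Fintype.ofFinite F
  have hC : ∀ i j : Fin 2, gB2.cd.C i j = (![![2, -2], ![-1, 2]] : Fin 2 → Fin 2 → ℤ) i j :=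
    (by decide +kernel : ∀ i j : Fin 2, chevB2.cartan i (chevB2.simple j) =
      (![![2, -2], ![-1, 2]] : Fin 2 → Fin 2 → ℤ) i j)
  have hI : ∀ c : Fin 2 → Fˣ, ∃ t : Fin 2 → Fˣ, ∀ i, c i = ∏ j, t j ^ gB2.cd.C j i := fun c => by
    obtain ⟨s, hs⟩ := (chi_eq_iff (c 1) 1).1 (by simp [chi_of_two_eq_zero (CharTwo.two_eq_zero (R := F))])
    refine ⟨![c 0 * s, c 0 * s * s], ?_⟩
    simp only [hC, Fin.prod_univ_two]
    refine Fin.forall_fin_two.2 ⟨?_, ?_⟩ <;> ext <;> simp [hs] <;> field_simp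
  let φ := frobeniusEquiv F 2
  obtain ⟨γ, -, h⟩ := grB2 (F := F) (fun x => φ.surjective x) (RingEquiv.refl F)
  have h1 : (gB2.adjG F).SP γ fB2 1 fun i => if eB2 i = 2 then φ else 1 := fun i t => by
    have := h i t
    rcases eB2_cases i with e | e <;> simpa [e, φ, frobenius_def] using this
  have h2 : (gB2.adjG F).SP ⇑(γ * γ) (1 : Equiv.Perm (Fin chevB2.rank)) 1 fun _ => φ := by
    convert sp_mul h1 h1 using 2 with i i
    · decide
    · simp
    · rcases (by decide : ∀ i, eB2 (fB2 i) = 2 ∧ eB2 i ≠ 2 ∨ eB2 (fB2 i) ≠ 2 ∧ eB2 i = 2) i with e | e <;> simp [e]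
  have h0 : (gB2.adjG F).SP ⇑(1 : MulAut (chevB2.group F)) (1 : Equiv.Perm (Fin chevB2.rank)) 1 fun _ => 1 := fun i t => by simp
  have h3 : ∀ n : ℕ, (gB2.adjG F).SP ⇑((γ * γ) ^ n) (1 : Equiv.Perm (Fin chevB2.rank)) 1 fun _ => φ ^ n := fun n => by
    induction n with
    | zero => exact h0
    | succ n ih => rw [pow_succ, pow_succ]; convert sp_mul ih h2 using 2 <;> simp
  have h4 : ∀ (θ : gB2.SA F) (γ' : MulAut (chevB2.group F)) (π : Equiv.Perm _) τ, (gB2.adjG F).SP γ' π 1 τ →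
      gB2.pA F θ = π → ∃ n : ℕ, (θ.1 : Out (chevB2.group F)) = ((γ * γ) ^ n * γ' : MulAut _) := fun θ γ' π τ e1 e2 => by
    obtain ⟨c, σ, e3⟩ := sp_of_gr admB2 e1 e2
    have := finite_ringAut (F := F)
    obtain ⟨n, rfl⟩ := mem_powers_iff_mem_zpowers.2 (mem_zpowers_frob (p := 2) σ)
    obtain ⟨d, e4⟩ := exists_sp_of_gr h0 (fun i => c (π⁻¹ i)) 1
    have e5 : d ∈ Inn _ := (sp_inn_iff e4).2 ⟨rfl, fun _ => rfl, hI _⟩
    refine ⟨n, ?_⟩
    rw [(gB2.isStG F).sp_ext (gB2.adjG_G F) e3 (θ' := d * ((γ * γ) ^ n * γ'))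
      (by convert sp_mul e4 (sp_mul (h3 n) e1) using 2 <;> simp [φ]), QuotientGroup.mk_mul,
      (QuotientGroup.eq_one_iff _).2 e5, one_mul]
  refine ⟨(γ : Out _), fun o => ?_⟩
  obtain ⟨θ, rfl⟩ := QuotientGroup.mk_surjective o
  obtain ⟨x, hx⟩ := gB2.exists_stab θ
  have h5 : (θ : Out (chevB2.group F)) = (MulAut.conj x * θ : MulAut _) := by
    rw [QuotientGroup.mk_mul, (QuotientGroup.eq_one_iff (N := Inn _) _).2 ⟨x, rfl⟩, one_mul]
  rcases symB2 (sym_rank_two rfl (gB2.pA F ⟨_, hx⟩)) with e | e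
  · obtain ⟨n, hn⟩ := h4 _ _ _ _ h0 e
    exact ⟨(2 * n : ℕ), by simp only [zpow_natCast, h5, hn, ← sq, ← pow_mul, mul_one, QuotientGroup.mk_pow]⟩
  · obtain ⟨n, hn⟩ := h4 _ _ _ _ h1 e
    exact ⟨(2 * n + 1 : ℕ), by simp only [zpow_natCast, h5, hn, ← sq, ← pow_mul, ← pow_succ, QuotientGroup.mk_pow]⟩

end CfsgH8
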