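import Cfsg.Agent.H8.LB3
import Cfsg.Agent.S2600

/-!
Local balance: field automorphisms of orthogonal and symplectic groups.
-/

set_option autoImplicit false

namespace CfsgH8

open Subgroup Module Matrix CfsgH5 CfsgH5.Form

theorem fixF_spec {F : Type*} [Field F] (σ : F ≃+* F) (a : F) :
    σ a = a ↔ ∃ b, (fixF σ).subtype b = a :=
  ⟨fun h => ⟨⟨a, mem_fixF.2 h⟩, rfl⟩, by rintro ⟨b, rfl⟩; exact mem_fixF.1 b.2⟩

section General

variable {ι : Type*} [Fintype ι] [DecidableEq ι] {F : Type*} [Field F] {T : FParam F}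
  {S : Form T (ι → F)} [Finite F] {G : Type*} [Group G] {ρ : G →* ((ι → F) ≃ₗ[F] (ι → F))}

theorem FSetup.mem_simPsi (H : FSetup S ρ) {γ : GammaS S} (h : γ.1.right = 1) :
    H.simPhi γ ∈ H.simPsi.range := by
  have : γ ∈ (simIncl S).range := by rw [range_simIncl]; exact h
  obtain ⟨g, rfl⟩ := this
  exact ⟨g, rfl⟩

theorem FSetup.conj_std (H : FSetup S ρ) {e f : ι → F} (hef : S.IsHyp e f) (h3 : 3 ≤ Fintype.card ι)
    {γ : GammaS S} (hi : SemidirectProduct.inr γ.1.right ∈ GammaS S) {p : ℕ}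
    (hord : orderOf (H.simPhi γ) = p) (hL : ∀ δ ∈ H.simPsi.range, (δ * H.simPhi ⟨_, hi⟩) ^ p = 1 →
      Cfsg.IsConjUnder H.simPsi.range (H.simPhi ⟨_, hi⟩) (δ * H.simPhi ⟨_, hi⟩)) :
    ∃ α, α * H.simPhi γ * α⁻¹ = H.simPhi ⟨_, hi⟩ := by
  obtain ⟨h, -, h3⟩ := hL _ ⟨_, rfl⟩ (by rw [← H.simPhi_split γ hi, ← hord]; exact pow_orderOf_eq_one _)
  rw [← H.simPhi_split γ hi] at h3
  exact ⟨h⁻¹, by rw [h3]; group⟩

end General

section Orth

variable {ι : Type*} [Fintype ι] [DecidableEq ι] {F : Type*} [Field F]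
  {S : Form (orthParam F) (ι → F)} [Finite F] {G : Type*} [Group G] [Finite G]
  {ρ : G →* ((ι → F) ≃ₗ[F] (ι → F))}

theorem FSetup.lb_orth (H : FSetup S ρ) (h5 : 5 ≤ Fintype.card ι) (hs : Function.Surjective H.simPhi)
    {γ : GammaS S} (hγ : γ.1.right ≠ 1) {p r : ℕ} [Fact p.Prime] [Fact r.Prime] [CharP F r] (hpr : p ≠ r)
    (hord : orderOf (H.simPhi γ) = p) {A : Subgroup (MulAut (G ⧸ center G))}
    (hinn : ∀ k, MulAut.conj k ∈ A) {Q : Prop} (hQ : Q) :
    Cfsg.pPrimeCore p ↥(A ⊓ centralizer {H.simPhi γ}) ≠ ⊥ ↔ Q ∧ Nat.Coprime p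
      (Nat.card ↥(MonoidHom.eqLocus (H.simPhi γ).toMonoidHom (MonoidHom.id _))) := by
  have : Nonempty ι := Fintype.card_pos_iff.1 (by omega)
  obtain ⟨e, f, hef⟩ := H.nd.exists_isHyp (by simp; omega)
  have ho := H.orderOf_right hef (by omega) Fact.out hord hγ
  obtain ⟨S₀, P, hP⟩ := H.exists_desc' hef (by omega) (descP_orth (fixF_spec γ.1.right))
    (by rw [ho, ← hord]; exact pow_orderOf_eq_one _)
  have hS₀ := hP.2.choose_spec.nondeg H.nd
  obtain ⟨e₀, f₀, hef₀⟩ := hS₀.exists_isHyp (by simp; omega)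
  exact H.lb_field hef (by omega) (descP_orth (fixF_spec _)) hP hef₀ (Or.inr (by omega)) hpr
    (ho ▸ card_fixF _) (Or.inr fun h => powEG_orth h hS₀ h5) (fun α _ => hs α) hinn hQ

end Orth

section Sp

variable {ι : Type*} [Fintype ι] [DecidableEq ι] {F : Type*} [Field F]
  {S : Form (spParam F) (ι → F)} [Finite F] {G : Type*} [Group G] [Finite G]
  {ρ : G →* ((ι → F) ≃ₗ[F] (ι → F))} {F₀ : Type*} [Field F₀] {S₀ : Form (spParam F₀) (ι → F₀)}
  {φ : F₀ →+* F} {P : GL ι F}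

theorem FSetup.sp_mem_range (H : FSetup S ρ) [CharP F 2] (h3 : 3 ≤ Fintype.card ι) {σ : F ≃+* F}
    (D : DescP σ φ (spParam F₀) (spParam F)) {c : F} (he : IsExt φ S₀ S P c) {e f : ι → F₀}
    (hef : S₀.IsHyp e f) (α : MulAut (G ⧸ center G))
    (h : ∀ s : G, (∃ t ∈ S₀.EG, ρ s = glRho (descG φ P (glRho.symm t))) →
      α (QuotientGroup.mk s) = QuotientGroup.mk s) : α ∈ H.simPhi.range := by
  have hc := he.ne
  set a := (P : Matrix ι ι F) *ᵥ vmap φ e with ha
  set b := (P : Matrix ι ι F) *ᵥ vmap φ f with hb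
  have hab : S.IsHyp a (c⁻¹ • b) := S.sp_isHyp (by simp [ha, hb, he.B, hef.ef, hc])
  have hZ : CenterP' 2 G := H.centerP' hab.qe hab.ne_left
  have h1 : ∀ w, S₀.B w e = 0 → ∀ l, ∃ s, α (QuotientGroup.mk s) = QuotientGroup.mk s ∧
      ∃ h' : S.IsEich a (c⁻¹ • (P : Matrix ι ι F) *ᵥ vmap φ w) (c⁻¹ * φ l), ρ s = eich h' := fun w hw l => by
    obtain ⟨h', e1⟩ := desc_eich D he (S₀.sp_isEich hw l)
    obtain ⟨s, hs⟩ := H.exists_eich h'
    exact ⟨s, h s ⟨_, eich_mem_EG _, hs.trans e1.symm⟩, h', hs⟩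
  have key : ∀ g : G, g ∈ QP S ρ a ↔ ∀ s ∈ QP S ρ a, α (QuotientGroup.mk s) = QuotientGroup.mk s →
      Commute (QuotientGroup.mk g : G ⧸ center G) (QuotientGroup.mk s) := fun g => by
    constructor
    · intro hg s hs _
      obtain ⟨w, l, hE, e1⟩ := (mem_QP hab.qe).1 hg
      obtain ⟨w', l', hE', e2⟩ := (mem_QP hab.qe).1 hs
      obtain ⟨h'', e3⟩ := commutator_eich hE hE'
      refine Commute.map (commutatorElement_eq_one_iff_commute.1 (H.inj ?_)) (QuotientGroup.mk' _)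
      rw [map_commutatorElement, e1, e2, e3, map_one, ← eich_zero (IsEich.zero hab.qe)]
      refine eich_congr _ _ rfl ?_
      rw [S.herm w w']
      simp [CharTwo.neg_eq]
    intro hg
    have h2 : ∀ w, S₀.B w e = 0 → ∀ l x, ∃ h' : S.IsEich a (c⁻¹ • (P : Matrix ι ι F) *ᵥ vmap φ w)
        (c⁻¹ * φ l), ρ g (eich h' x) = eich h' (ρ g x) := fun w hw l x => by
      obtain ⟨s, e1, h', hs⟩ := h1 w hw l
      have := hZ.eq_of_mk ((H.unip_of_eq hs).conj g) (H.unip_of_eq hs) (by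
        rw [QuotientGroup.mk_mul, QuotientGroup.mk_mul, (hg s (mem_QP_of_eq hs) e1).eq]; simp)
      rw [mul_inv_eq_iff_eq_mul] at this
      exact ⟨h', by rw [← hs, ← rho_mul_apply, this, rho_mul_apply]⟩
    have h4 : ρ g a = a := by
      obtain ⟨h', e1⟩ := h2 0 (by simp) 1 (c⁻¹ • b)
      have e2 := hab.fe
      rw [eich_apply, eich_apply] at e1
      simp only [vmap_zero, mulVec_zero, smul_zero, add_zero, zero_right, zero_add, e2, map_one, mul_one,
        map_sub, map_smul (ρ g) _ a, sub_right_inj, spParam_ε, neg_mul, one_mul, mul_neg, neg_neg,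
        neg_smul] at e1
      set s := S.B (ρ g (c⁻¹ • b)) a with hs
      have e3 : ρ g a = -s • a := by
        linear_combination (norm := module) c • e1 - mul_inv_cancel₀ hc • (ρ g a + s • a)
      have e4 := H.B_map g (c⁻¹ • b) a
      rw [e3, smul_right, ← hs, e2] at e4
      have e5 : (s + 1) ^ 2 = 0 := by
        have : (2 : F) = 0 := CharTwo.two_eq_zero
        simp only [spParam_σ, spParam_ε] at e4
        linear_combination -e4 + (s + 1) * this
      rw [e3, eq_neg_of_add_eq_zero_left (pow_eq_zero_iff two_ne_zero |>.1 e5), neg_neg, one_smul]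
    have h5 : ∀ w, S₀.B w e = 0 → ∃ d : F, ρ g ((P : Matrix ι ι F) *ᵥ vmap φ w) =
        (P : Matrix ι ι F) *ᵥ vmap φ w + d • a := fun w hw => by
      have : ρ g ((P : Matrix ι ι F) *ᵥ vmap φ w) - (P : Matrix ι ι F) *ᵥ vmap φ w ∈
          Submodule.span F {a} := by
        rw [← H.nd.perp_perp (Submodule.span F {a}), perp_span]
        intro y hy
        have hy' : S.B y a = 0 := by simpa using hy
        have hy'' : S.B (ρ g⁻¹ y) a = 0 := by rw [← H.B_right, h4, hy']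
        obtain ⟨h', e1⟩ := h2 w hw 0 (ρ g⁻¹ y)
        rw [eich_of_perp h' hy'', map_sub, map_smul, h4, ← rho_mul_apply, mul_inv_cancel, rho_one_apply,
          eich_of_perp h' hy', sub_right_inj, ← H.B_right, map_smul] at e1
        have e2 := smul_left_injective F hab.ne_left e1
        simp only [smul_right, spParam_σ, spParam_ε, neg_mul, one_mul, neg_inj] at e2
        refine perp_symm ?_
        rw [sub_right, mul_left_cancel₀ (inv_ne_zero hc) e2, sub_self]
      obtain ⟨d, hd⟩ := Submodule.mem_span_singleton.1 this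
      exact ⟨d, by rw [hd]; abel⟩
    refine H.mem_QP_of hab h4 fun x hx => ?_
    have h6 : ∃ d : F, ρ g (x + (c⁻¹ * S.B x a) • b) = x + (c⁻¹ * S.B x a) • b + d • a := by
      have : x ∈ Submodule.span F (Set.range fun x : ι → F₀ => (P : Matrix ι ι F) *ᵥ vmap φ x) :=
        span_vmap φ P ▸ Submodule.mem_top
      clear hx
      induction this using Submodule.span_induction with
      | mem _ hx =>
        obtain ⟨v, rfl⟩ := hx
        obtain ⟨d, hd⟩ := h5 (v + S₀.B v e • f) (by simp [hef.fe])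
        rw [vmap_add, mulVec_add, jv_smul] at hd
        exact ⟨d, by rwa [ha, he.B, inv_mul_cancel_left₀ hc]⟩
      | zero => exact ⟨0, by simp⟩
      | add x y _ _ h1 h2 =>
        obtain ⟨d, hd⟩ := h1
        obtain ⟨d', hd'⟩ := h2
        refine ⟨d + d', ?_⟩
        simp only [map_add, map_smul, add_left] at hd hd' ⊢
        linear_combination (norm := module) hd + hd'
      | smul k x _ h1 =>
        obtain ⟨d, hd⟩ := h1
        refine ⟨k * d, ?_⟩
        simp only [map_add, map_smul, smul_left] at hd ⊢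
        linear_combination (norm := module) k • hd
    simpa [hx] using h6
  obtain ⟨u, hu, hu0⟩ := Submodule.exists_mem_ne_zero_of_ne_bot (p := S.perp {a, c⁻¹ • b}) fun h0 => by
    have := hab.nondegOn.finrank_add
    rw [hab.finrank_span, perp_span, h0, finrank_bot] at this
    simp at this
    omega
  refine H.exists_simPhi (H.main_of_corr (p := 2) hab (Or.inl ⟨u, hu, hu0, S.sp_q u⟩) (h := 1)
    (Corr.twist (A := QP S ρ a) ⟨H.isPGroup_QP hab.qe, H.isPGroup_QP hab.qe, fun g hg => ?_,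
      fun g hg => ?_⟩ 1 (by simp)))
  · obtain ⟨g', hg'⟩ := exists_rel α g
    refine ⟨g', (key g').2 fun s hs e1 => ?_, hg'⟩
    have := ((key g).1 hg s hs e1).map α
    rwa [e1, hg'] at this
  · obtain ⟨g', hg'⟩ := exists_rel' α g
    refine ⟨g', (key g').2 fun s hs e1 => α.injective ?_, hg'⟩
    rw [map_mul, map_mul, e1, hg']
    exact (key g).1 hg s hs e1

variable {m : ℕ}

theorem sp_mem_range_odd (hm : 2 ≤ m) {x : MulAut (Cfsg.PSp m F)} (hx : Odd (orderOf x)) :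
    x ∈ (fsetup_sp m F).simPhi.range := by
  by_cases h2 : (2 : F) ≠ 0 ∨ 3 ≤ m
  · exact sp_surj hm h2 x
  push Not at h2
  obtain rfl : m = 2 := by omega
  have : CharP F 2 := CharTwo.of_one_ne_zero_of_two_eq_zero one_ne_zero h2.1
  have := Fintype.ofFinite F
  obtain ⟨f, -, hF⟩ := FiniteField.card F 2
  obtain ⟨h1, h3⟩ := Cfsg.Agent.S2600.result f.pos hF
  have H := fsetup_sp 2 F
  have hef := sp_hyp (F := F) (0 : Fin 2)
  have h4 : (f : ℕ) ∣ Nat.card H.outPhi.range := by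
    have : H.outPhi.ker ≤ (simRight _).ker := fun γ hγ =>
      ((H.simPhi_mem_Inn hef (by simp)).1 (H.outPhi_eq_one.1 hγ)).1
    have := index_dvd_of_le this
    rwa [index_ker, index_ker, MonoidHom.range_eq_top.2 fun σ => ⟨⟨_, sp_inr_mem σ⟩, rfl⟩, card_top,
      card_ringAut hF] at this
  have h5 : H.outPhi.range.index ∣ 2 := by
    obtain ⟨k, hk⟩ := h4
    have := H.outPhi.range.index_mul_card
    rw [hk] at this
    erw [h3] at this
    exact ⟨k, mul_right_cancel₀ f.pos.ne' (by rw [← this]; ring)⟩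
  have : H.outPhi.range.Normal := ⟨fun n hn g => by
    letI := IsCyclic.commGroup (α := Cfsg.Out (Cfsg.PSp 2 F))
    rwa [show g * n * g⁻¹ = n from mul_inv_cancel_comm g n]⟩
  obtain ⟨k, hk⟩ := hx
  obtain ⟨j, hj⟩ := h5
  have h6 : x = (x ^ (k + 1)) ^ 2 := by
    rw [← pow_mul, show (k + 1) * 2 = orderOf x + 1 by omega, pow_succ, pow_orderOf_eq_one, one_mul]
  obtain ⟨γ, hγ⟩ : QuotientGroup.mk' (Cfsg.Inn _) x ∈ H.outPhi.range := by
    have h7 : ∀ z : Cfsg.Out (Cfsg.PSp 2 F), z ^ (H.outPhi.range.index * j) ∈ H.outPhi.range := fun z => by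
      rw [mul_comm, pow_mul]
      exact pow_index_mem _ _
    have h8 := h7 (QuotientGroup.mk' _ (x ^ (k + 1)))
    rwa [← hj, ← map_pow, ← h6] at h8
  obtain ⟨M, hM⟩ := H.Inn_le_simPsi (QuotientGroup.eq.1 hγ)
  exact ⟨γ * simIncl _ M, by rw [map_mul]; exact mul_eq_of_eq_inv_mul hM⟩

theorem sp_lb (hm : 2 ≤ m) {γ : GammaS (spForm m F)} (hγ : γ.1.right ≠ 1) {p r : ℕ} [Fact p.Prime]
    [Fact r.Prime] [CharP F r] (hpr : p ≠ r) (hord : orderOf ((fsetup_sp m F).simPhi γ) = p)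
    {A : Subgroup (MulAut (Cfsg.PSp m F))} (hinn : ∀ k, MulAut.conj k ∈ A) :
    Cfsg.pPrimeCore p ↥(A ⊓ centralizer {(fsetup_sp m F).simPhi γ}) ≠ ⊥ ↔
      Cfsg.IsFieldAutClassPSp ((fsetup_sp m F).simPhi γ) ∧ Nat.Coprime p
      (Nat.card ↥(MonoidHom.eqLocus ((fsetup_sp m F).simPhi γ).toMonoidHom (MonoidHom.id _))) := by
  have : Nonempty (Fin m ⊕ Fin m) := ⟨.inl ⟨0, by omega⟩⟩
  have H := fsetup_sp m F
  have hef := sp_hyp (F := F) (⟨0, by omega⟩ : Fin m)
  have h3 : 3 ≤ Fintype.card (Fin m ⊕ Fin m) := by simp; omega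
  have ho := H.orderOf_right hef h3 Fact.out hord hγ
  have D := descP_sp (fixF_spec γ.1.right)
  obtain ⟨S₀, P, hP⟩ := H.exists_desc' hef h3 D (by rw [ho, ← hord]; exact pow_orderOf_eq_one _)
  have hS₀ := hP.2.choose_spec.nondeg H.nd
  obtain ⟨e₀, -, f₀, -, hef₀⟩ := hS₀.top.sp_exists_hyp top_ne_bot
  refine H.lb_field hef h3 D hP hef₀ (Or.inl sp_Λ) hpr (ho ▸ card_fixF _) (Or.inr fun h => powEG_sp h hS₀)
    (fun α hα => ?_) hinn ?_
  · by_cases h2 : (2 : F) = 0
    · have : CharP F 2 := CharTwo.of_one_ne_zero_of_two_eq_zero one_ne_zero h2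
      exact H.sp_mem_range h3 D hP.2.choose_spec hef₀ α hα
    · exact sp_surj hm (Or.inl h2) α
  obtain ⟨α, hα⟩ := H.conj_std hef h3 (sp_inr_mem _) hord (H.lang_sim hef h3 (γ₀ := ⟨_, sp_inr_mem _⟩) D
    (isDesc_inr (isExt_sp _)) sp_class ho)
  exact ⟨α, _, hγ, (stdFieldPSp_iff _ _).2 hα⟩

end Sp

end CfsgH8
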