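import Cfsg.Agent.H8.LB4
import Cfsg.Agent.H8.AutSU
import Cfsg.Agent.H5.Orth2

/-!
Local balance: unitary groups.
-/

set_option autoImplicit false

namespace CfsgH8

open Subgroup Module Matrix CfsgH5 CfsgH5.Form

theorem invol_eq {F : Type*} [Field F] [Finite F] {σ τ : F ≃+* F} (h1 : σ ≠ 1) (h2 : τ ≠ 1)
    (h3 : σ ^ 2 = 1) (h4 : τ ^ 2 = 1) : σ = τ := by
  classical
  have := finite_ringAut (F := F)
  have := isCyclic_ringAut (F := F)
  have := Fintype.ofFinite (F ≃+* F)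
  by_contra h
  have h5 := IsCyclic.card_pow_eq_one_le (α := F ≃+* F) two_pos
  have h6 := Finset.card_le_card (s := {1, σ, τ}) (t := Finset.univ.filter fun a : F ≃+* F => a ^ 2 = 1)
    (by intro x; simp only [Finset.mem_insert, Finset.mem_singleton]; rintro (rfl | rfl | rfl) <;> simp [*])
  rw [Finset.card_eq_three.2 ⟨_, _, _, h1.symm, h2.symm, h, rfl⟩] at h6
  omega

theorem nondeg_desc {ι : Type*} [Fintype ι] [DecidableEq ι] {F F₀ : Type*} [Field F] [Field F₀]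
    {T : FParam F} {S : Form T (ι → F)} (hS : S.Nondeg) (φ : F₀ →+* F) (P : GL ι F) {v : ι → F}
    (h : ∀ y, S.B ((P : Matrix ι ι F) *ᵥ vmap φ y) v = 0) : v = 0 := by
  refine hS _ fun y => ?_
  have : y ∈ Submodule.span F (Set.range fun x : ι → F₀ => (P : Matrix ι ι F) *ᵥ vmap φ x) :=
    span_vmap φ P ▸ Submodule.mem_top
  induction this using Submodule.span_induction with
  | mem _ h' => obtain ⟨v, rfl⟩ := h'; exact h v
  | zero => simp
  | add _ _ _ _ h1 h2 => simp [h1, h2]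
  | smul _ _ _ h1 => simp [h1]

variable {ι : Type*} [Fintype ι] [DecidableEq ι] {F : Type*} [Field F] [Finite F]
  {τ : F →+* F} {hτ : ∀ a, τ (τ a) = a} {S : Form (unitParam τ hτ) (ι → F)}

theorem unit_h4 (hne : ∃ a, τ a ≠ a) (hS : S.Nondeg) (h3 : 3 ≤ Fintype.card ι) {p : ℕ} (hp : p.Prime) :
    (∃ t ∈ S.EG, ∀ k, IsSc (t ^ k) → p ∣ k) ∨ PowEG p S := by
  have : Nonempty ι := Fintype.card_pos_iff.1 (by omega)
  have := Fact.mk hp
  have hE := hS.unit_EG hne (by simpa using h3)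
  obtain ⟨n, hn⟩ : ∃ n, finrank F (ι → F) = n + 3 := ⟨Fintype.card ι - 3, by simp; omega⟩
  obtain ⟨b, hb⟩ := hS.unit_exists_basis hne hn
  let N : Subgroup Fˣ := (MonoidHom.id Fˣ * Units.map (τ : F →* F)).ker
  have hN : ∀ a : Fˣ, a ∈ N ↔ (a : F) * τ a = 1 := fun a => by
    rw [MonoidHom.mem_ker, Units.ext_iff]; rfl
  have h0 : S.B (b 0) (b 0) ≠ 0 := by simp [hb]
  by_cases h : p ∣ Nat.card N
  · obtain ⟨ζ, hζ⟩ := exists_prime_orderOf_dvd_card' p h
    have h1 : S.B (b 1) (b 1) ≠ 0 := by simp [hb]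
    have h2 := (hN _).1 ζ.2
    refine Or.inl ⟨S.qrefl h0 h2 * S.qrefl h1 (norm_one_inv h2), ?_, fun k ⟨c, hc⟩ => ?_⟩
    · rw [hE]
      refine mem_inf.2 ⟨mul_mem (qrefl_mem _ _) (qrefl_mem _ _), mem_slSub.2 ?_⟩
      rw [LinearEquiv.coe_toLinearMap_mul, map_mul, det_qrefl, det_qrefl, mul_inv_cancel₀ (Units.ne_zero _)]
    have e1 : ∀ k, ((S.qrefl h0 h2 * S.qrefl h1 (norm_one_inv h2)) ^ k) (b 0) =
        ((ζ : Fˣ) : F) ^ k • b 0 := fun k => by
      induction k with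
      | zero => simp
      | succ k ih => rw [pow_succ, LinearEquiv.mul_apply, LinearEquiv.mul_apply,
          qrefl_fix h1 _ (by simp [hb]), qrefl_self, map_smul, ih, smul_smul, pow_succ']
    have e2 : ∀ k, ((S.qrefl h0 h2 * S.qrefl h1 (norm_one_inv h2)) ^ k) (b ⟨2, by omega⟩) = b ⟨2, by omega⟩ := fun k => by
      induction k with
      | zero => simp
      | succ k ih => rw [pow_succ, LinearEquiv.mul_apply, LinearEquiv.mul_apply,
          qrefl_fix h1 _ (by rw [hb, if_neg (by simp [Fin.ext_iff])]),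
          qrefl_fix h0 _ (by rw [hb, if_neg (by simp [Fin.ext_iff])]), ih]
    have e3 : c = 1 := smul_left_injective F (b.ne_zero ⟨2, by omega⟩) (by simp only; rw [← hc, e2, one_smul])
    have e4 : ((ζ : Fˣ) : F) ^ k = 1 := smul_left_injective F (b.ne_zero 0) (by
      simp only; rw [← e1, hc, e3])
    rw [← hζ, orderOf_dvd_iff_pow_eq_one]
    exact Subtype.ext (Units.ext (by simpa using e4))
  refine Or.inr fun m hm => ?_
  obtain ⟨c, hc⟩ := unit_exists_smul hne h0 (simMult_spec hS ⟨m, hm⟩).fix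
  rw [smul_left, smul_right, hb, if_pos rfl, mul_one] at hc
  have hc0 : c ≠ 0 := by rintro rfl; exact (simMult hS ⟨m, hm⟩).ne_zero (by simpa using hc.symm)
  have h1 : glRho ((⟨_, scalar_mem_Sim (Units.mk0 c hc0)⟩⁻¹ * ⟨m, hm⟩ : Sim S) : GL ι F) ∈ S.isom :=
    (isom_iff_simMult hS _).2 (Units.ext (by
      rw [map_mul, map_inv, Units.val_mul, Units.val_inv_eq_inv_val, simMult_scalar, ← hc]
      exact inv_mul_cancel₀ (by simpa using hc0)))
  set g := glRho ((⟨_, scalar_mem_Sim (Units.mk0 c hc0)⟩⁻¹ * ⟨m, hm⟩ : Sim S) : GL ι F) with hh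
  refine ⟨Nat.card N, ((Nat.Prime.coprime_iff_not_dvd hp).2 h).symm, Units.mk0 c hc0 ^ Nat.card N,
    g ^ Nat.card N, ?_, ?_⟩
  · rw [hE]
    refine mem_inf.2 ⟨pow_mem h1 _, ?_⟩
    have : LinearEquiv.det g ∈ N := (hN _).2 (by rw [LinearEquiv.coe_det]; exact hS.unit_det h1)
    rw [slSub, MonoidHom.mem_ker, map_pow]
    exact pow_card_of_mem this
  · rw [map_pow, map_pow, ← (show Commute _ _ from scalar_comm _ _).mul_pow, hh]
    simp

variable {G : Type*} [Group G] [Finite G] {ρ : G →* ((ι → F) ≃ₗ[F] (ι → F))}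

theorem FSetup.lb_unit_aux (H : FSetup S ρ) (hne : ∃ a, τ a ≠ a) (h3 : 3 ≤ Fintype.card ι)
    (hs : Function.Surjective H.simPhi) {γ : GammaS S} (hγ : ∀ a, γ.1.right a = τ a) {F₀ : Type*} [Field F₀]
    {φ : F₀ →+* F} (hφ : ∀ a, γ.1.right a = a ↔ ∃ b, φ b = a) {P : GL ι F} {d : Fˣ}
    (hd : γ.1.left * fieldAutGL γ.1.right P = GeneralLinearGroup.scalar ι d * P)
    (hc : Nat.card F = Nat.card F₀ ^ 2) {T₀ : FParam F₀} (hT : T₀.IsMax) (hT' : ∀ a, T₀.σ a = a)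
    {S₀ : Form T₀ (ι → F₀)} {e : F} (he : e ≠ 0) (hB : ∀ x y, S.B ((P : Matrix ι ι F) *ᵥ vmap φ x)
      ((P : Matrix ι ι F) *ᵥ vmap φ y) = e * φ (S₀.B x y)) {r : ℕ} [Fact r.Prime] [CharP F r]
    (hG : S₀.Nondeg → (∃ e f, S₀.IsHyp e f) ∧ GoodP 2 r S₀.EG)
    {A : Subgroup (MulAut (G ⧸ center G))} (hinn : ∀ k, MulAut.conj k ∈ A) {Q : Prop} (hQ : Q) :
    Cfsg.pPrimeCore 2 ↥(A ⊓ centralizer {H.simPhi γ}) ≠ ⊥ ↔ Q ∧ Nat.Coprime 2
      (Nat.card ↥(MonoidHom.eqLocus (H.simPhi γ).toMonoidHom (MonoidHom.id _))) := by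
  have := IsExt.finite φ
  have : CharP F₀ r := (φ.charP_iff_charP r).2 inferInstance
  obtain ⟨e₁, f₁, hef⟩ := H.nd.unit_exists_hyp hne (by simp; omega)
  have hS₀ : S₀.Nondeg := fun x hx => jv_inj (φ := φ) (P := P) (by
    rw [vmap_zero, mulVec_zero]
    exact nondeg_desc H.nd φ P fun y => by simp [hB, hx])
  obtain ⟨⟨e₀, f₀, hef₀⟩, hG⟩ := hG hS₀
  have hE1 : ∀ t ∈ S₀.EG, glRho (descG φ P (glRho.symm t)) ∈ S.EG := fun t ht => by
    obtain ⟨h1, h2⟩ := EG_le_su ht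
    have h4 : ∀ x y, S.B (glRho (descG φ P (glRho.symm t)) ((P : Matrix ι ι F) *ᵥ vmap φ x))
        (glRho (descG φ P (glRho.symm t)) ((P : Matrix ι ι F) *ᵥ vmap φ y)) =
        S.B ((P : Matrix ι ι F) *ᵥ vmap φ x) ((P : Matrix ι ι F) *ᵥ vmap φ y) := fun x y => by
      rw [glRho_descG, glRho_descG, hB, hB, isom_B h1]
    rw [H.nd.unit_EG hne (by simpa using h3)]
    refine mem_inf.2 ⟨mem_isom_of_span (span_vmap φ P) ?_ ?_, mem_slSub.2 ?_⟩
    · rintro _ ⟨x, rfl⟩ _ ⟨y, rfl⟩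
      exact h4 x y
    · rintro _ ⟨x, rfl⟩
      exact unit_q_eq_iff.2 (h4 x x)
    · rw [det_glRho, det_descG, ← det_glRho, MulEquiv.apply_symm_apply, mem_slSub.1 h2, map_one]
  have hE2 : ∀ (M : Sim S) (c : Fˣ) (m : GL ι F₀),
      (M : GL ι F) = GeneralLinearGroup.scalar ι c * descG φ P m → m ∈ Sim S₀ := fun M c m h => by
    obtain ⟨κ, hκ⟩ := M.2
    have hc0 : (c : F) * τ c ≠ 0 := by simp
    obtain ⟨κ₀, h1⟩ := (hφ (κ / (c * τ c))).1 (by
      rw [hγ, map_div₀, map_mul, hτ, show τ κ = κ from hκ.fix, mul_comm])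
    have h2 : ∀ x y, S₀.B ((m : Matrix ι ι F₀) *ᵥ x) ((m : Matrix ι ι F₀) *ᵥ y) = κ₀ * S₀.B x y := fun x y => by
      have := hκ.B ((P : Matrix ι ι F) *ᵥ vmap φ x) ((P : Matrix ι ι F) *ᵥ vmap φ y)
      rw [SemidirectProduct.right_inl, h, map_mul, semiAct_mul, semiAct_mul, semiAct_scalar,
        semiAct_scalar] at this
      simp only [semiAct_inl, descG_mulVec, smul_left, smul_right, hB, unitParam_σ] at this
      refine φ.injective ?_
      rw [map_mul, h1, div_mul_eq_mul_div, eq_div_iff hc0]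
      refine mul_left_cancel₀ he ?_
      rw [show (1 : F ≃+* F) (e * φ (S₀.B x y)) = e * φ (S₀.B x y) from rfl] at this
      linear_combination this
    refine ⟨κ₀, fun h0 => hκ.ne ?_, hT' _, h2, fun x l hl => hT.q_eq_π _ ?_⟩
    · rw [h0, map_zero, eq_comm, div_eq_zero_iff] at h1
      exact h1.resolve_right hc0
    · rw [semiAct_inl, h2, S₀.self _ _ hl, hT', hT']
      simp [mul_add, mul_left_comm]
  refine lb_iff (H.center_eq_bot hef h3) hinn (fun _ => ?_) fun _ => ⟨hQ, ?_⟩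
  · exact H.lbal_desc hef h3 hφ hd hE1 hE2 hG hS₀ hef₀ hc fun α _ => hs α
  · obtain ⟨y, a, b, c⟩ := H.exists_fix hef h3 hφ hd hE1 hS₀ hef₀
    exact ⟨y, a, b, fun h => by simpa using c 1 (by simp [h])⟩

theorem FSetup.lb_unit (H : FSetup S ρ) (hne : ∃ a, τ a ≠ a) (h3 : 3 ≤ Fintype.card ι)
    (hs : Function.Surjective H.simPhi) {γ : GammaS S} (hγ : γ.1.right ≠ 1) {p r : ℕ} [Fact p.Prime]
    [Fact r.Prime] [CharP F r] (hpr : p ≠ r) (hord : orderOf (H.simPhi γ) = p)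
    {A : Subgroup (MulAut (G ⧸ center G))} (hinn : ∀ k, MulAut.conj k ∈ A) {Q : Prop} (hQ : Q) :
    Cfsg.pPrimeCore p ↥(A ⊓ centralizer {H.simPhi γ}) ≠ ⊥ ↔ Q ∧ Nat.Coprime p
      (Nat.card ↥(MonoidHom.eqLocus (H.simPhi γ).toMonoidHom (MonoidHom.id _))) := by
  have : Nonempty ι := Fintype.card_pos_iff.1 (by omega)
  obtain ⟨e, f, hef⟩ := H.nd.unit_exists_hyp hne (by simp; omega)
  have ho := H.orderOf_right hef h3 Fact.out hord hγ
  have hc := card_fixF γ.1.right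
  have hφ := fixF_spec γ.1.right
  rw [ho] at hc
  let τE : F ≃+* F := RingEquiv.ofBijective τ (Finite.injective_iff_bijective.1 τ.injective)
  have h1 : τE ≠ 1 := fun h => hne.choose_spec (RingEquiv.congr_fun h _)
  have h2 : τE ^ 2 = 1 := RingEquiv.ext hτ
  have h4 : H.simPhi γ ^ orderOf γ.1.right = 1 := by rw [ho, ← hord]; exact pow_orderOf_eq_one _
  rcases (Fact.out : p.Prime).eq_two_or_odd' with rfl | hp
  · have h5 : ∀ a, γ.1.right a = τ a :=
      RingEquiv.congr_fun (invol_eq hγ h1 (ho ▸ pow_orderOf_eq_one _) h2)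
    obtain ⟨c, hc'⟩ := H.pow_scalar hef h3 h4
    obtain ⟨d, P, -, hd⟩ := lang_GL (ho ▸ two_ne_zero) rfl (M := γ.1.left) hc'
    obtain ⟨κ, hκ⟩ := γ.2
    set φ := (fixF γ.1.right).subtype
    have h6 : ∀ x y, τ (S.B ((P : Matrix ι ι F) *ᵥ vmap φ x) ((P : Matrix ι ι F) *ᵥ vmap φ y)) =
        d * τ d / κ * S.B ((P : Matrix ι ι F) *ᵥ vmap φ x) ((P : Matrix ι ι F) *ᵥ vmap φ y) := fun x y => by
      have := hκ.B ((P : Matrix ι ι F) *ᵥ vmap φ x) ((P : Matrix ι ι F) *ᵥ vmap φ y)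
      rw [semiAct_fix hφ hd, semiAct_fix hφ hd, smul_left, smul_right, h5, unitParam_σ] at this
      rw [div_mul_eq_mul_div, eq_div_iff hκ.ne]
      linear_combination -this
    have h7 : τ (d * τ d / κ) = d * τ d / κ := by
      rw [map_div₀, map_mul, hτ, show τ κ = κ from hκ.fix, mul_comm]
    generalize (d : F) * τ d / κ = l at h6 h7
    obtain ⟨x₀, y₀, h8⟩ : ∃ x y, S.B ((P : Matrix ι ι F) *ᵥ vmap φ x) ((P : Matrix ι ι F) *ᵥ vmap φ y) ≠ 0 := by
      by_contra! h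
      have := nondeg_desc H.nd φ P fun y => h y 1
      rw [← mulVec_zero (P : Matrix ι ι F), ← vmap_zero (φ := φ)] at this
      exact one_ne_zero (jv_inj this)
    set e := S.B ((P : Matrix ι ι F) *ᵥ vmap φ x₀) ((P : Matrix ι ι F) *ᵥ vmap φ y₀) with he
    have h9 : l = 1 ∨ l = -1 := by
      have := congrArg τ (h6 x₀ y₀)
      rw [hτ, map_mul, h7, h6, ← he] at this
      exact mul_self_eq_one_iff.1 (mul_right_cancel₀ h8 (by linear_combination -this))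
    have hl : l ≠ 0 := by rcases h9 with rfl | rfl <;> simp
    choose B₀ hB₀ using fun x y => (hφ (S.B ((P : Matrix ι ι F) *ᵥ vmap φ x)
      ((P : Matrix ι ι F) *ᵥ vmap φ y) / e)).1 (by rw [h5, map_div₀, h6, h6, mul_div_mul_left _ _ hl])
    have hB : ∀ x y, S.B ((P : Matrix ι ι F) *ᵥ vmap φ x) ((P : Matrix ι ι F) *ᵥ vmap φ y) =
        e * φ (B₀ x y) := fun x y => by rw [hB₀]; field_simp
    have inj : ∀ {a b}, e * φ a = e * φ b → a = b := fun h => φ.injective (mul_left_cancel₀ h8 h)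
    have a1 : ∀ x y z, B₀ (x + y) z = B₀ x z + B₀ y z := fun x y z => inj (by
      rw [← hB, vmap_add, mulVec_add, add_left, hB, hB, map_add, mul_add])
    have a2 : ∀ (c : fixF γ.1.right) x z, B₀ (c • x) z = c * B₀ x z := fun c x z => inj (by
      rw [← hB, jv_smul, smul_left, hB, map_mul]; ring)
    have a3 : ∀ x y, e * φ (B₀ y x) = l * (e * φ (B₀ x y)) := fun x y => by
      rw [← hB, ← hB, unit_herm, h6]
    have : CharP (fixF γ.1.right) r := (φ.charP_iff_charP r).2 inferInstance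
    have a4 : (2 : fixF γ.1.right) ≠ 0 := fun h => hpr
      ((Nat.prime_dvd_prime_iff_eq Fact.out Nat.prime_two).1
        ((CharP.cast_eq_zero_iff (fixF γ.1.right) r 2).1 (by exact_mod_cast h))).symm
    rcases h9 with rfl | rfl
    · exact H.lb_unit_aux hne h3 hs h5 hφ hd hc (orthParam_isMax a4) (fun _ => rfl)
        (S₀ := ofSym B₀ a1 a2 (fun x y => inj (by rw [a3, one_mul])) a4) h8 hB
        (fun h => ⟨h.exists_isHyp (by simpa using h3), goodP_EG_two hpr h (by simpa using h3)⟩) hinn hQ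
    · have a5 : ∀ x y, B₀ y x = -B₀ x y := fun x y => inj (by rw [a3, map_neg]; ring)
      refine H.lb_unit_aux hne h3 hs h5 hφ hd hc spParam_isMax (fun _ => rfl)
        (S₀ := ofAlt B₀ a1 a2 a5 fun x => mul_left_cancel₀ a4 (by linear_combination a5 x x)) h8 hB
        (fun h => ?_) hinn hQ
      obtain ⟨e₀, -, f₀, -, hef₀⟩ := h.top.sp_exists_hyp top_ne_bot
      exact ⟨⟨_, _, hef₀⟩, goodP_EG Fact.out hpr h hef₀ (Or.inl sp_Λ) (EG_even h hef₀ (Or.inl sp_Λ))⟩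
  let τ₀ : fixF γ.1.right →+* fixF γ.1.right := τ.restrict _ _ fun a ha => mem_fixF.2 (by
    exact (RingEquiv.congr_fun (ringAut_mul_comm γ.1.right τE) a).trans (congrArg τ (mem_fixF.1 ha)))
  have h5 : ∀ a, τ₀ (τ₀ a) = a := fun a => Subtype.ext (hτ a)
  have h6 : ∃ a, τ₀ a ≠ a := by
    by_contra! h
    exact h1 (eq_one_of_coprime (Nat.coprime_two_left.2 hp) h2 (pow_eq_one_of_fix hc
      (φ := (fixF γ.1.right).subtype) fun a => congrArg Subtype.val (h a)))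
  have D := descP_unit (hτ := hτ) (hτ₀ := h5) hφ (fun _ => rfl) h6
  obtain ⟨S₀, P, hP⟩ := H.exists_desc' hef h3 D h4
  have hS₀ := hP.2.choose_spec.nondeg H.nd
  obtain ⟨e₀, f₀, hef₀⟩ := hS₀.unit_exists_hyp h6 (by simp; omega)
  exact H.lb_field hef h3 D hP hef₀ (Or.inl (unit_Λ h6)) hpr hc
    ((unit_h4 h6 hS₀ h3 Fact.out).imp id fun h _ => h) (fun α _ => hs α) hinn hQ

end CfsgH8
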