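import Cfsg.Agent.H8.Herm

/-!
Field and graph-field automorphisms of `PSL_n`.
-/

set_option autoImplicit false

namespace CfsgH8

open Subgroup Matrix

variable {ι : Type*} [Fintype ι] [DecidableEq ι] {F : Type*} [Field F]

/-- inner-diagonal automorphisms -/
noncomputable def pslPsi : GL ι F →* MulAut (Matrix.ProjectiveSpecialLinearGroup ι F) :=
  pslPhi.comp SemidirectProduct.inl

theorem pslPsi_apply (g : GL ι F) : pslPsi g = pslPhi (SemidirectProduct.inl g) := rfl

theorem pslPsi_scalar (c : Fˣ) : pslPsi (GeneralLinearGroup.scalar ι c) = 1 := pslPhi_scalar c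

theorem pslPsi_mul_inr (M : GL ι F) (a : (F ≃+* F) × Multiplicative (ZMod 2)) :
    pslPsi M * pslPhi (SemidirectProduct.inr a) = pslPhi ⟨M, a⟩ := by
  rw [pslPsi_apply, ← map_mul]
  congr 1
  ext1 <;> simp

theorem inr_mul_pslPsi (M : GL ι F) (a : (F ≃+* F) × Multiplicative (ZMod 2)) :
    pslPhi (SemidirectProduct.inr a) * pslPsi M =
      pslPsi (graphAutGL a M) * pslPhi (SemidirectProduct.inr a) := by
  rw [pslPsi_apply, pslPsi_apply, ← map_mul, ← map_mul]
  congr 1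
  ext1 <;> simp

theorem isConjUnder_of_lang {M P : GL ι F} {d : Fˣ} {a : (F ≃+* F) × Multiplicative (ZMod 2)}
    (h : M * graphAutGL a P = GeneralLinearGroup.scalar ι d * P) :
    Cfsg.IsConjUnder (pslPsi (ι := ι) (F := F)).range (pslPhi (SemidirectProduct.inr a))
      (pslPsi M * pslPhi (SemidirectProduct.inr a)) := by
  refine ⟨pslPsi P, ⟨P, rfl⟩, ?_⟩
  rw [eq_mul_inv_iff_mul_eq, mul_assoc, inr_mul_pslPsi, ← mul_assoc, ← map_mul, h, map_mul,
    pslPsi_scalar, one_mul]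

theorem mem_center_GL [Nonempty ι] {z : GL ι F} :
    z ∈ center (GL ι F) ↔ ∃ c : Fˣ, z = GeneralLinearGroup.scalar ι c := by
  rw [GeneralLinearGroup.mem_center_iff_val_mem_range_scalar]
  constructor
  · rintro ⟨c, hc⟩
    have hc0 : c ≠ 0 := by
      rintro rfl
      have hdet := z.det_ne_zero
      rw [← hc] at hdet
      simp at hdet
    exact ⟨Units.mk0 c hc0, Units.ext hc.symm⟩
  · rintro ⟨c, rfl⟩
    exact ⟨c, rfl⟩

theorem map_eq_scalar_iff [Nonempty ι] {F₀ : Type*} [Field F₀] (φ : F₀ →+* F) (g : GL ι F₀) :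
    (∃ c : Fˣ, GeneralLinearGroup.map φ g = GeneralLinearGroup.scalar ι c) ↔
      ∃ c : F₀ˣ, g = GeneralLinearGroup.scalar ι c := by
  constructor
  · rintro ⟨c, hc⟩
    obtain ⟨i⟩ := ‹Nonempty ι›
    have he : ∀ j k, φ ((g : Matrix ι ι F₀) j k) = if j = k then (c : F) else 0 := fun j k => by
      have h1 : (g : Matrix ι ι F₀).map φ = Matrix.scalar ι (c : F) :=
        congrArg (fun z : GL ι F => (z : Matrix ι ι F)) hc
      simpa [diagonal_apply] using congrFun (congrFun h1 j) k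
    have h0 : (g : Matrix ι ι F₀) i i ≠ 0 := fun h => by simpa [h, c.ne_zero.symm] using he i i
    refine ⟨Units.mk0 _ h0, Units.ext ?_⟩
    ext j k
    apply φ.injective
    simp [he, diagonal_apply, apply_ite φ]
  · rintro ⟨c, rfl⟩
    refine ⟨Units.map (φ : F₀ →* F) c, Units.ext ?_⟩
    ext j k
    simp [diagonal_apply, apply_ite φ]

variable [Finite F]

theorem pslPsi_normal (h2 : 2 ≤ Fintype.card ι) : (pslPsi (ι := ι) (F := F)).range.Normal :=
  range_normal_of_surj _ (pslPhi_surj h2) _ _ SemidirectProduct.range_inl_eq_ker_rightHom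

theorem pslPsi_eq_one (h2 : 2 ≤ Fintype.card ι) {M : GL ι F} :
    pslPsi M = 1 ↔ ∃ c : Fˣ, M = GeneralLinearGroup.scalar ι c :=
  ⟨fun h => (scalar_of_pslPhi_eq_one (σ := 1) h2 h).2, by rintro ⟨c, rfl⟩; exact pslPsi_scalar c⟩

theorem pslPsi_mem_Inn (h2 : 2 ≤ Fintype.card ι) {M : GL ι F} : pslPsi M ∈ Cfsg.Inn _ ↔
    GeneralLinearGroup.det M ∈ (powMonoidHom (Fintype.card ι) : Fˣ →* Fˣ).range :=
  (pslPhi_mem_Inn_one (σ := 1) h2).trans (and_iff_right rfl)

omit [Finite F] in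
theorem Inn_le_pslPsi : Cfsg.Inn _ ≤ (pslPsi (ι := ι) (F := F)).range := fun β hβ => by
  obtain ⟨s, rfl⟩ := mem_Inn_psl.1 hβ
  exact ⟨_, rfl⟩

theorem commute_inr_iff (h2 : 2 ≤ Fintype.card ι) (M : GL ι F)
    (a : (F ≃+* F) × Multiplicative (ZMod 2)) :
    pslPsi M * pslPhi (SemidirectProduct.inr a) = pslPhi (SemidirectProduct.inr a) * pslPsi M ↔
      ∃ c : Fˣ, M = GeneralLinearGroup.scalar ι c * graphAutGL a M := by
  rw [inr_mul_pslPsi, mul_left_inj, ← mul_inv_eq_one, ← map_inv, ← map_mul, pslPsi_eq_one h2]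
  simp only [mul_inv_eq_iff_eq_mul]

theorem orderOf_field (h2 : 2 ≤ Fintype.card ι) (σ : F ≃+* F) :
    orderOf (pslPhi (SemidirectProduct.inr (σ, 1) : GammaGr ι F)) = orderOf σ := by
  refine orderOf_eq_orderOf_iff.2 fun k => ?_
  rw [← map_pow, ← map_pow, Prod.pow_mk, one_pow]
  refine ⟨fun h => (scalar_of_pslPhi_eq_one (M := 1) h2 h).1, fun h => ?_⟩
  rw [h, Prod.mk_one_one, map_one, map_one]

theorem lang_field (h2 : 2 ≤ Fintype.card ι) {σ : F ≃+* F} {r : ℕ} (hr : orderOf σ = r) :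
    ∀ δ ∈ (pslPsi (ι := ι) (F := F)).range, (δ * pslPhi (SemidirectProduct.inr (σ, 1))) ^ r = 1 →
      Cfsg.IsConjUnder pslPsi.range (pslPhi (SemidirectProduct.inr (σ, 1)))
        (δ * pslPhi (SemidirectProduct.inr (σ, 1))) := by
  rintro _ ⟨M, rfl⟩ h
  haveI : Nonempty ι := Fintype.card_pos_iff.1 (by omega)
  haveI := finite_ringAut (F := F)
  rw [pslPsi_mul_inr, ← map_pow] at h
  change pslPhi (gammaLIncl ⟨M, σ⟩ ^ r) = 1 at h
  rw [← map_pow] at h
  obtain ⟨h1, c, hc⟩ := scalar_of_pslPhi_eq_one h2 h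
  obtain ⟨d, P, -, hP⟩ := lang_GL (hr ▸ (orderOf_pos σ).ne') hr (M := M) (c := c)
    (SemidirectProduct.ext hc h1)
  exact isConjUnder_of_lang (by rw [graphAutGL_one]; exact hP)

theorem centralizer_field (h2 : 2 ≤ Fintype.card ι) {σ : F ≃+* F} {F₀ : Type*} [Field F₀]
    {φ : F₀ →+* F} (hφ : ∀ a, σ a = a ↔ ∃ b, φ b = a) (M : GL ι F) :
    pslPsi M * pslPhi (SemidirectProduct.inr (σ, 1)) = pslPhi (SemidirectProduct.inr (σ, 1)) * pslPsi M ↔
      ∃ (c : Fˣ) (m : GL ι F₀), M = GeneralLinearGroup.scalar ι c * GeneralLinearGroup.map φ m := by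
  haveI : Nonempty ι := Fintype.card_pos_iff.1 (by omega)
  haveI := finite_ringAut (F := F)
  rw [commute_inr_iff h2, graphAutGL_one]
  constructor
  · rintro ⟨c, hc⟩
    have h1 : (⟨GeneralLinearGroup.scalar ι c * 1, σ⟩ : GammaL ι F) =
        SemidirectProduct.inl M * SemidirectProduct.inr σ * (SemidirectProduct.inl M)⁻¹ := by
      ext1
      · simp only [SemidirectProduct.mul_left, SemidirectProduct.left_inl,
          SemidirectProduct.right_inl, map_one, MulAut.one_apply, SemidirectProduct.left_inr, mul_one,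
          SemidirectProduct.mul_right, SemidirectProduct.right_inr, one_mul, ← map_inv]
        rw [map_inv, eq_mul_inv_iff_mul_eq, ← hc]
      · simp
    have h3 := gammaL_scalar_pow σ c (1 : GL ι F) (orderOf σ)
    have h4 : (⟨1, σ⟩ : GammaL ι F) = SemidirectProduct.inr σ := rfl
    rw [h1, conj_pow, h4, ← map_pow, pow_orderOf_eq_one, map_one, mul_one, mul_one, mul_inv_cancel,
      eq_comm, map_eq_one_iff _ SemidirectProduct.inl_injective, map_eq_one_iff _ scalarGL_inj] at h3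
    obtain ⟨d, rfl⟩ := exists_cob_eq (orderOf_pos σ).ne' rfl h3
    obtain ⟨m, hm⟩ := exists_GL_of_fixed hφ (M := GeneralLinearGroup.scalar ι d⁻¹ * M) (by
      rw [map_mul, fieldAutGL_scalar]
      conv_rhs => rw [hc, ← mul_assoc, ← map_mul]
      congr 2
      simp [cob, div_eq_mul_inv])
    exact ⟨d, m, by rw [hm, ← mul_assoc, ← map_mul]; simp⟩
  · rintro ⟨c, m, rfl⟩
    refine ⟨cob σ c, ?_⟩
    rw [map_mul, fieldAutGL_map hφ, fieldAutGL_scalar, ← mul_assoc, ← map_mul]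
    simp [cob]

theorem graphField_order (h3 : 3 ≤ Fintype.card ι) {σ : F ≃+* F} {x : Multiplicative (ZMod 2)}
    (hx : x ≠ 1) {r : ℕ} (hr : r.Prime)
    (h : pslPhi (SemidirectProduct.inr (σ, x) : GammaGr ι F) ^ r = 1) : r = 2 ∧ σ * σ = 1 := by
  rw [← map_pow, ← map_pow, pslPhi_eq_one_iff h3] at h
  obtain ⟨c, hc⟩ := h
  have h1 := congrArg SemidirectProduct.right hc
  simp only [SemidirectProduct.right_inr, Prod.pow_mk, SemidirectProduct.right_inl,
    Prod.mk_eq_one] at h1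
  have h2 : r = 2 := by
    rcases hr.eq_two_or_odd' with h | ⟨k, rfl⟩
    · exact h
    · have hxx : x ^ 2 = 1 := by rcases two_cases x with rfl | rfl <;> decide
      have h2 := h1.2
      rw [pow_succ, pow_mul, hxx, one_pow, one_mul] at h2
      exact absurd h2 hx
  subst h2
  exact ⟨rfl, by rw [← pow_two]; exact h1.1⟩

omit [Finite F] in
theorem coe_graphAutGL_ne (σ : F ≃+* F) {x : Multiplicative (ZMod 2)} (hx : x ≠ 1) (M : GL ι F) :
    (((graphAutGL (σ, x) M)⁻¹ : GL ι F) : Matrix ι ι F) = ((M : Matrix ι ι F).map σ)ᵀ := by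
  rw [graphAutGL_ne _ hx]
  rfl

omit [Finite F] in
theorem graphAutGL_scalar_ne (σ : F ≃+* F) {x : Multiplicative (ZMod 2)} (hx : x ≠ 1) (c : Fˣ) :
    graphAutGL (σ, x) (GeneralLinearGroup.scalar ι c) =
      GeneralLinearGroup.scalar ι (Units.map (σ : F →* F) c)⁻¹ := by
  rw [map_inv, eq_inv_iff_mul_eq_one, mul_eq_one_iff_inv_eq]
  refine Units.ext ?_
  rw [coe_graphAutGL_ne _ hx]
  ext i j
  simp [diagonal_apply, apply_ite σ, eq_comm]

theorem lang_graphField_GL [Nonempty ι] {σ : F ≃+* F} (hσ : σ * σ = 1) (hne : σ ≠ 1)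
    {x : Multiplicative (ZMod 2)} (hx : x ≠ 1) {M : GL ι F} {c : Fˣ}
    (h : M * graphAutGL (σ, x) M = GeneralLinearGroup.scalar ι c) :
    ∃ (d : Fˣ) (P : GL ι F), M * graphAutGL (σ, x) P = GeneralLinearGroup.scalar ι d * P := by
  have hxx : x * x = 1 := by rcases two_cases x with rfl | rfl <;> decide
  have hgg : ∀ N : GL ι F, graphAutGL (σ, x) (graphAutGL (σ, x) N) = N := fun N => by
    rw [← MulAut.mul_apply, ← map_mul, Prod.mk_mul_mk, hσ, hxx, Prod.mk_one_one, map_one]; rfl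
  have ho : orderOf σ = 2 := orderOf_eq_prime (by rw [pow_two, hσ]) hne
  have h1 := congrArg (graphAutGL (σ, x)) h
  rw [map_mul, hgg, graphAutGL_scalar_ne _ hx] at h1
  have h2 : graphAutGL (σ, x) M * M = GeneralLinearGroup.scalar ι c := by
    rw [← mul_right_inj M, ← mul_assoc, h, scalar_comm]
  have h3 : nrm σ 2 c = 1 := by
    have := scalarGL_inj (h2.symm.trans h1)
    ext
    rw [coe_nrm, Finset.prod_range_succ, Finset.prod_range_one, pow_zero, pow_one]
    have := congrArg Units.val (eq_inv_iff_mul_eq_one.1 this)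
    simpa using this
  obtain ⟨d, rfl⟩ := exists_cob_eq two_ne_zero ho h3
  obtain ⟨P, hP⟩ := herm_congr hσ hne (GeneralLinearGroup.scalar ι d⁻¹ * M) (by
    rw [← coe_graphAutGL_ne σ hx]
    congr 1
    rw [map_mul, graphAutGL_scalar_ne _ hx, inv_eq_iff_mul_eq_one, scalar_comm d⁻¹, mul_assoc,
      ← mul_assoc _ M, h2, ← map_mul, ← map_mul, map_eq_one_iff _ scalarGL_inj]
    ext
    simp [coe_cob]
    field_simp)
  rw [← coe_graphAutGL_ne σ hx, ← Units.val_mul, Units.val_inj, eq_mul_inv_iff_mul_eq, map_inv,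
    mul_assoc, inv_mul_eq_iff_eq_mul] at hP
  exact ⟨d, P, hP⟩

theorem lang_graphField (h3 : 3 ≤ Fintype.card ι) {σ : F ≃+* F} (hσ : σ * σ = 1) (hne : σ ≠ 1)
    {x : Multiplicative (ZMod 2)} (hx : x ≠ 1) :
    ∀ δ ∈ (pslPsi (ι := ι) (F := F)).range, (δ * pslPhi (SemidirectProduct.inr (σ, x))) ^ 2 = 1 →
      Cfsg.IsConjUnder pslPsi.range (pslPhi (SemidirectProduct.inr (σ, x)))
        (δ * pslPhi (SemidirectProduct.inr (σ, x))) := by
  rintro _ ⟨M, rfl⟩ h
  haveI : Nonempty ι := Fintype.card_pos_iff.1 (by omega)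
  rw [pslPsi_mul_inr, ← map_pow, pslPhi_eq_one_iff h3] at h
  obtain ⟨c, hc⟩ := h
  have h1 := congrArg SemidirectProduct.left hc
  rw [pow_two] at h1
  obtain ⟨d, P, hP⟩ := lang_graphField_GL hσ hne hx h1
  exact isConjUnder_of_lang hP

theorem centralizer_graphField (h2 : 2 ≤ Fintype.card ι) {σ : F ≃+* F} (hσ : σ * σ = 1) (hne : σ ≠ 1)
    {x : Multiplicative (ZMod 2)} (hx : x ≠ 1) (M : GL ι F) :
    pslPsi M * pslPhi (SemidirectProduct.inr (σ, x)) = pslPhi (SemidirectProduct.inr (σ, x)) * pslPsi M ↔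
      ∃ (c : Fˣ) (m : GL ι F), graphAutGL (σ, x) m = m ∧ M = GeneralLinearGroup.scalar ι c * m := by
  haveI : Nonempty ι := Fintype.card_pos_iff.1 (by omega)
  have hxx : x * x = 1 := by rcases two_cases x with rfl | rfl <;> decide
  have hgg : ∀ N : GL ι F, graphAutGL (σ, x) (graphAutGL (σ, x) N) = N := fun N => by
    rw [← MulAut.mul_apply, ← map_mul, Prod.mk_mul_mk, hσ, hxx, Prod.mk_one_one, map_one]; rfl
  have ho : orderOf σ = 2 := orderOf_eq_prime (by rw [pow_two, hσ]) hne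
  have hn : ∀ d : Fˣ, nrm σ 2 d = d * Units.map (σ : F →* F) d := fun d => by
    ext
    rw [coe_nrm, Finset.prod_range_succ, Finset.prod_range_one, pow_zero, pow_one]
    simp
  rw [commute_inr_iff h2]
  constructor
  · rintro ⟨c, hc⟩
    have h1 := congrArg (graphAutGL (σ, x)) hc
    rw [map_mul, hgg, graphAutGL_scalar_ne _ hx] at h1
    have h3 : σ c = c := by
      rw [h1, ← mul_assoc, ← map_mul, eq_comm, mul_eq_right, map_eq_one_iff _ scalarGL_inj,
        mul_inv_eq_one] at hc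
      exact (congrArg Units.val hc).symm
    obtain ⟨d, rfl⟩ := exists_nrm_eq two_ne_zero ho h3
    refine ⟨d, GeneralLinearGroup.scalar ι d⁻¹ * M, ?_, by rw [← mul_assoc, ← map_mul]; simp⟩
    rw [map_mul, graphAutGL_scalar_ne _ hx]
    conv_rhs => rw [hc, ← mul_assoc, ← map_mul, hn]
    simp
  · rintro ⟨c, m, hm, rfl⟩
    refine ⟨nrm σ 2 c, ?_⟩
    rw [map_mul, hm, graphAutGL_scalar_ne _ hx, ← mul_assoc, ← map_mul, hn]
    simp

omit [Finite F] in
theorem grField_eq (σ : F ≃+* F) : pslPhi (SemidirectProduct.inr (σ, 1) : GammaGr ι F) * pslPhi grElt =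
    pslPhi (SemidirectProduct.inr (σ, Multiplicative.ofAdd 1)) := by
  rw [grElt, ← map_mul, ← map_mul]
  simp

theorem index_range_units {F₀ : Type*} [Field F₀] (φ : F₀ →+* F) :
    (Units.map (φ : F₀ →* F)).range.index = (Nat.card F - 1) / (Nat.card F₀ - 1) := by
  haveI : Finite F₀ := Finite.of_injective φ φ.injective
  have h := (Units.map (φ : F₀ →* F)).range.index_mul_card
  have h2 : Nat.card (Units.map (φ : F₀ →* F)).range = Nat.card F₀ˣ :=
    (Nat.card_congr (MonoidHom.ofInjective (Units.map_injective φ.injective)).toEquiv).symm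
  rw [h2, Nat.card_units, Nat.card_units] at h
  rw [← h, Nat.mul_div_cancel _ (by rw [← Nat.card_units]; exact Nat.card_pos)]

end CfsgH8
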