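import Cfsg.Agent.H8.LB5
import Cfsg.Agent.H8.LangPSL

/-!
Local balance: linear groups.
-/

set_option autoImplicit false

namespace CfsgH8

open Subgroup Module Matrix CfsgH5 CfsgH5.Form

theorem IsSc.eigen {F V : Type*} [Field F] [AddCommGroup V] [Module F V] {t : V ≃ₗ[F] V} {k : ℕ}
    (h : IsSc (t ^ k)) {u v : V} {a b : F} (hu : t u = a • u) (hv : t v = b • v) (hu0 : u ≠ 0) (hv0 : v ≠ 0) :
    a ^ k = b ^ k := by
  have key : ∀ {u : V} {a : F}, t u = a • u → ∀ k, (t ^ k) u = a ^ k • u := fun {u a} hu k => by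
    induction k with
    | zero => simp
    | succ k ih => rw [pow_succ, LinearEquiv.mul_apply, hu, map_smul, ih, smul_smul, pow_succ']
  obtain ⟨c, hc⟩ := h
  exact (smul_left_injective F hu0 ((key hu k).symm.trans (hc u))).trans
    (smul_left_injective F hv0 ((key hv k).symm.trans (hc v))).symm

variable {ι : Type*} [Fintype ι] [DecidableEq ι] {F : Type*} [Field F] {F₀ : Type*} [Field F₀]
  {φ : F₀ →+* F} {P : GL ι F}

theorem model_h4 {X : Type*} [Group X] {Γ : Type*} [Group Γ] {i : Γ →* GammaL ι F} {Φ : Γ →* X}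
    (hΦ : ∀ γ, Φ γ = 1 ↔ ∃ c, i γ = SemidirectProduct.inl (GeneralLinearGroup.scalar ι c)) {γ : Γ} {c : Fˣ}
    {m : GL ι F₀} (h : i γ = SemidirectProduct.inl (GeneralLinearGroup.scalar ι c * descG φ P m)) {p k : ℕ}
    (ho : orderOf (Φ γ) = p) (hk : k.Coprime p) (j : ℕ) (hj : IsSc (glRho (m ^ k) ^ j)) : p ∣ j := by
  refine hk.symm.dvd_of_dvd_mul_left ?_
  obtain ⟨c₁, hc₁⟩ := (dE_scalar_iff (φ := φ) (P := P)).2 hj
  rw [dE_apply, ← map_pow, MulEquiv.symm_apply_apply, ← pow_mul, map_pow, SemidirectProduct.inl_inj] at hc₁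
  rw [← ho, orderOf_dvd_iff_pow_eq_one, ← map_pow, hΦ]
  refine ⟨c ^ (k * j) * c₁, ?_⟩
  rw [map_pow, h, ← map_pow, (show Commute _ _ from scalar_comm c _).mul_pow, hc₁]
  simp only [map_mul, map_pow]

theorem sl_h4 [Finite F] (h2 : 2 ≤ Fintype.card ι) {p : ℕ} [Fact p.Prime] (h : p = 2 ∨ p ∣ Nat.card Fˣ) :
    ∃ t ∈ slSub F (ι → F), ∀ k, IsSc (t ^ k) → p ∣ k := by
  rcases (Fact.out : p.Prime).eq_two_or_odd' with rfl | hp
  · exact sl_even (by simpa using h2)
  obtain ⟨ζ, hζ⟩ := exists_prime_orderOf_dvd_card' p (h.resolve_left (by rintro rfl; exact absurd hp (by decide)))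
  obtain ⟨i, j, hij⟩ := Fintype.exists_pair_of_one_lt_card h2
  have a1 : ∀ (i : ι) (a : Fˣ), 1 + (LinearMap.proj i : Dual F (ι → F)) (Pi.single i ((a : F) - 1)) = a :=
    fun i a => by simp
  have a2 : ∀ (i : ι) (a : Fˣ), 1 + (LinearMap.proj i : Dual F (ι → F)) (Pi.single i ((a : F) - 1)) ≠ 0 :=
    fun i a => by simp
  refine ⟨dl _ _ (a2 i ζ) * dl _ _ (a2 j ζ⁻¹), mem_slSub.2 ?_, fun k hk => ?_⟩
  · rw [LinearEquiv.coe_toLinearMap_mul, map_mul, det_dl, det_dl, a1, a1]; simp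
  have := hk.eigen (u := Pi.single i 1) (v := Pi.single j 1) (a := ζ) (b := (ζ⁻¹ : Fˣ))
    (by ext x; by_cases h : x = i <;> simp [dl_apply, hij.symm, h])
    (by ext x; by_cases h : x = j <;> simp [dl_apply, hij, h]) (by simp) (by simp)
  refine (Nat.coprime_two_right.2 hp).dvd_of_dvd_mul_left ?_
  rw [← hζ, orderOf_dvd_iff_pow_eq_one, two_mul, pow_add]
  refine Units.ext ?_
  rw [Units.val_mul, Units.val_pow_eq_pow_val]
  nth_rw 1 [this]
  simp

noncomputable def pslPhiL : GammaL ι F →* MulAut (Matrix.ProjectiveSpecialLinearGroup ι F) :=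
  pslPhi.comp gammaLIncl

theorem pslPhiL_inl (g : GL ι F) : pslPhiL (SemidirectProduct.inl g) = pslPsi g := rfl

variable [Finite F]

theorem pslPhiL_eq_one (h2 : 2 ≤ Fintype.card ι) (γ : GammaL ι F) : pslPhiL γ = 1 ↔
    ∃ c, MonoidHom.id _ γ = SemidirectProduct.inl (GeneralLinearGroup.scalar ι c) := by
  refine ⟨fun h => ?_, by rintro ⟨c, h⟩; rw [show γ = _ from h]; exact pslPsi_scalar c⟩
  obtain ⟨h3, c, h4⟩ := scalar_of_pslPhi_eq_one h2 h
  exact ⟨c, SemidirectProduct.ext h4 h3⟩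

theorem center_psl (h2 : 2 ≤ Fintype.card ι) : center (Matrix.ProjectiveSpecialLinearGroup ι F) = ⊥ := by
  refine eq_bot_iff.2 fun x hx => ?_
  induction x using QuotientGroup.induction_on with | H s =>
  have : pslPsi (Matrix.SpecialLinearGroup.toGL s) = 1 := by
    refine (pslPhi_slJ s).trans ?_
    ext y
    simp [← mem_center_iff.1 hx y]
  obtain ⟨c, hc⟩ := (pslPsi_eq_one h2).1 this
  refine mem_bot.2 ((QuotientGroup.eq_one_iff _).2 (mem_center_iff.2 fun g =>
    Matrix.SpecialLinearGroup.toGL_injective ?_))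
  rw [map_mul, map_mul, hc, scalar_comm]

theorem psl_right_pow (h3 : 3 ≤ Fintype.card ι) {γ : GammaGr ι F} {k : ℕ} (h : pslPhi γ ^ k = 1) :
    γ.right ^ k = 1 := by
  rw [← map_pow, pslPhi_eq_one_iff h3] at h
  obtain ⟨c, hc⟩ := h
  exact (map_pow (SemidirectProduct.rightHom (φ := graphAutGL)) γ k).symm.trans
    (congrArg SemidirectProduct.right hc)

theorem psl_cases (h2 : 2 ≤ Fintype.card ι) (α : MulAut (Matrix.ProjectiveSpecialLinearGroup ι F)) :
    α ∈ pslPhiL.range ∨ (3 ≤ Fintype.card ι ∧ ∃ M σ x, x ≠ 1 ∧ α = pslPhi ⟨M, (σ, x)⟩) := by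
  rcases h2.eq_or_lt with h | h
  · obtain ⟨M, σ, rfl⟩ := pslPhi_surj_two h.symm α
    exact Or.inl ⟨⟨M, σ⟩, rfl⟩
  obtain ⟨⟨M, σ, x⟩, rfl⟩ := pslPhi_surj h2 α
  rcases eq_or_ne x 1 with rfl | hx
  · exact Or.inl ⟨⟨M, σ⟩, rfl⟩
  · exact Or.inr ⟨h, M, σ, x, hx, rfl⟩

theorem even_of_pow {x : Multiplicative (ZMod 2)} (hx : x ≠ 1) {k : ℕ} (h : x ^ k = 1) : 2 ∣ k := by
  rwa [← orderOf_eq_prime (p := 2) (by clear h hx; revert x; decide) hx, orderOf_dvd_iff_pow_eq_one]

theorem psl_mem_range_odd (h2 : 2 ≤ Fintype.card ι) {α : MulAut (Matrix.ProjectiveSpecialLinearGroup ι F)}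
    {k : ℕ} (hk : k.Coprime 2) (h : α ^ k = 1) : α ∈ pslPhiL.range := by
  rcases psl_cases h2 α with h1 | ⟨h3, M, σ, x, hx, rfl⟩
  · exact h1
  exact absurd (even_of_pow hx (congrArg Prod.snd (psl_right_pow h3 h)))
    ((Nat.Prime.coprime_iff_not_dvd Nat.prime_two).1 hk.symm)

theorem psl_mem_range_tv (h2 : 2 ≤ Fintype.card ι) {α : MulAut (Matrix.ProjectiveSpecialLinearGroup ι F)}
    (h : ∀ i j (hij : i ≠ j), Commute α (pslPsi (Matrix.SpecialLinearGroup.toGL
      (Matrix.SpecialLinearGroup.transvection hij 1)))) : α ∈ pslPhiL.range := by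
  rcases psl_cases h2 α with h1 | ⟨h3, M, σ, x, hx, rfl⟩
  · exact h1
  exfalso
  obtain ⟨r, hr⟩ := CharP.exists F
  have : Fact r.Prime := ⟨CharP.char_is_prime F r⟩
  have : Nonempty ι := Fintype.card_pos_iff.1 (by omega)
  have key : ∀ i j : ι, i ≠ j → ∀ k, k ≠ i → (M : Matrix ι ι F) k j = 0 := by
    intro i j hij k hk
    have h1 := (h i j hij).eq
    set s := Matrix.SpecialLinearGroup.toGL (Matrix.SpecialLinearGroup.transvection hij (1 : F)) with hs
    have hu : s ^ r = 1 := by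
      have : ∀ n : ℕ, Matrix.SpecialLinearGroup.transvection hij (1 : F) ^ n =
          Matrix.SpecialLinearGroup.transvection hij (n : F) := fun n => by
        induction n with
        | zero => simp
        | succ n ih => rw [pow_succ, ih, ← Matrix.SpecialLinearGroup.transvection_add, Nat.cast_succ]
      rw [hs, ← map_pow, this]; simp
    rw [← mul_inv_eq_iff_eq_mul, ← mul_inv_eq_one, pslPsi_apply, ← map_inv, ← map_inv, ← map_mul, ← map_mul,
      ← map_mul, sdp_conj, ← map_inv, ← map_mul, ← pslPsi_apply, pslPsi_eq_one h2] at h1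
    obtain ⟨c, h1⟩ := h1
    rw [mul_inv_eq_iff_eq_mul] at h1
    have h4 := congrArg (· ^ r) h1
    simp only [conj_pow] at h4
    rw [← map_pow, hu, map_one, mul_one, mul_inv_cancel, (show Commute _ s from scalar_comm c s).mul_pow, hu,
      mul_one, ← map_pow, ← map_one (GeneralLinearGroup.scalar ι)] at h4
    have h5 : (c : F) ^ r = 1 := by simpa using congrArg Units.val (scalarGL_inj h4).symm
    have h6 : c = 1 := Units.ext (by
      rw [← sub_eq_zero, ← pow_eq_zero_iff (Fact.out : r.Prime).ne_zero, sub_pow_char, h5]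
      simp)
    rw [h6, map_one, one_mul, mul_inv_eq_iff_eq_mul] at h1
    have := congrArg Units.val h1
    simp only [hs, graphAutGL_ne _ hx, Units.val_mul, coe_fieldAutGL, MulAut.mul_apply, coe_invTrGL,
      ← map_inv, Matrix.SpecialLinearGroup.transvection_inv,
      Matrix.SpecialLinearGroup.coe_GL_coe_matrix, Matrix.SpecialLinearGroup.transvection_coe] at this
    have h1 : (1 + single i j (-1) : Matrix ι ι F)ᵀ.map σ = 1 + single j i (-1) := by
      ext k l
      simp [one_apply, single_apply, apply_ite σ, and_comm, eq_comm]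
    rw [h1, mul_add, add_mul, mul_one, one_mul, add_right_inj] at this
    have h2 := congrFun (congrFun this k) i
    simpa [hk] using h2
  have h0 : (M : Matrix ι ι F) = 0 := by
    ext k j
    obtain ⟨i, hi⟩ : ∃ i, i ∉ ({k, j} : Finset ι) := by
      by_contra hc
      push Not at hc
      have := Finset.card_le_card (fun i _ => hc i : Finset.univ ⊆ ({k, j} : Finset ι))
      have := Finset.card_le_two (a := k) (b := j)
      simp at *
      omega
    simp only [Finset.mem_insert, Finset.mem_singleton, not_or] at hi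
    exact key i j hi.2 k (Ne.symm hi.1)
  have := M.det_ne_zero
  rw [h0] at this
  simp at this

theorem dE_mem_Inn (h2 : 2 ≤ Fintype.card ι) {t : (ι → F₀) ≃ₗ[F₀] (ι → F₀)} (ht : t ∈ slSub F₀ _) :
    pslPhiL (dE φ P t) ∈ Cfsg.Inn _ := by
  refine (pslPsi_mem_Inn h2 (M := descG φ P (glRho.symm t))).2 ?_
  rw [show GeneralLinearGroup.det (descG φ P (glRho.symm t)) = 1 from Units.ext (by
    rw [GeneralLinearGroup.val_det_apply, det_descG, ← det_glRho, MulEquiv.apply_symm_apply, mem_slSub.1 ht,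
      map_one, Units.val_one])]
  exact one_mem _

theorem psl_lb_field (h2 : 2 ≤ Fintype.card ι) {γ : GammaL ι F} (hγ : γ.right ≠ 1) {p r : ℕ} [Fact p.Prime]
    [Fact r.Prime] [CharP F r] (hpr : p ≠ r) (hord : orderOf (pslPhiL γ) = p)
    {A : Subgroup (MulAut (Matrix.ProjectiveSpecialLinearGroup ι F))} (hinn : ∀ k, MulAut.conj k ∈ A)
    {Q : Prop} (hQ : Q) :
    Cfsg.pPrimeCore p ↥(A ⊓ centralizer {pslPhiL γ}) ≠ ⊥ ↔ Q ∧ Nat.Coprime p
      (Nat.card ↥(MonoidHom.eqLocus (pslPhiL γ).toMonoidHom (MonoidHom.id _))) := by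
  have : Nonempty ι := Fintype.card_pos_iff.1 (by omega)
  have hΦ := pslPhiL_eq_one (F := F) h2
  obtain ⟨c, hc⟩ := (hΦ (γ ^ p)).1 (by rw [map_pow, ← hord, pow_orderOf_eq_one])
  have ho : orderOf γ.right = p := orderOf_eq_prime ((map_pow (SemidirectProduct.rightHom (φ := fieldAutGL))
    γ p).symm.trans (congrArg SemidirectProduct.right hc)) hγ
  obtain ⟨d, P, -, hd⟩ := lang_GL (Fact.out : p.Prime).ne_zero ho (M := γ.left) hc
  have hφ := fixF_spec γ.right
  have hcard := card_fixF γ.right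
  rw [ho] at hcard
  generalize (fixF γ.right).subtype = φ at hφ
  have : CharP (fixF γ.right) r := (φ.charP_iff_charP r).2 inferInstance
  generalize hF₀ : fixF γ.right = F₀ at *
  let j : slSub F₀ (ι → F₀) →* GammaL ι F := (dE φ P).comp (Subgroup.subtype _)
  have hj : ∀ t, MonoidHom.id _ (j t) = dE φ P t := fun _ => rfl
  have h1 : ∀ t, pslPhiL (j t) ∈ Cfsg.Inn _ ∧ Commute (pslPhiL (j t)) (pslPhiL γ) := fun t =>
    ⟨dE_mem_Inn h2 t.2, (dE_commute hφ hd _).map _⟩
  have h3 : ∀ y ∈ Cfsg.Inn _, Commute y (pslPhiL γ) → ∃ γ' c m, pslPhiL γ' = y ∧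
      MonoidHom.id _ γ' = SemidirectProduct.inl (GeneralLinearGroup.scalar ι c * descG φ P m) := fun y a b => by
    obtain ⟨M, rfl⟩ := Inn_le_pslPsi a
    obtain ⟨c, hc⟩ := (commute_iff_model hΦ (a := SemidirectProduct.inl M)).1 b
    obtain ⟨c, m, h⟩ := exists_dE_of_commute hφ hd hc
    exact ⟨SemidirectProduct.inl M, c, m, rfl, congrArg SemidirectProduct.inl h⟩
  refine lb_iff (center_psl h2) hinn (fun ⟨y, a, b, c⟩ => ?_) fun _ => ⟨hQ, ?_⟩
  · refine lbal_model hΦ hj (goodP_sl Fact.out hpr (by simpa using h2) ?_)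
      (fun g hg => add_scalar_of_tr (by simpa using h2) g fun ψ v _ => hg _ (tr_mem_sl _ _) (unip_tr r _ _))
      (k := 1) (by rwa [pow_one]) h1 (fun y a b => ?_) fun α _ b _ _ _ => ?_
    · by_cases h : p ∣ Nat.card F₀ˣ
      · exact sl_h4 h2 (Or.inr h)
      obtain ⟨γ', c', m, rfl, h4⟩ := h3 y a b
      refine ⟨glRho (m ^ Nat.card F₀ˣ), mem_slSub.2 ?_,
        model_h4 hΦ h4 c ((Nat.Prime.coprime_iff_not_dvd Fact.out).2 h).symm⟩
      rw [det_glRho, ← GeneralLinearGroup.val_det_apply, map_pow, pow_card_eq_one', Units.val_one]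
    · obtain ⟨γ', c', m, h4, h5⟩ := h3 y a b
      exact ⟨γ', c', m, h4, h5, fun t ht => (MonoidHom.normal_ker _).conj_mem t ht _⟩
    have := psl_mem_range_tv h2 (α := (pslPsi P)⁻¹ * α * pslPsi P) fun i j' hij => by
      have h4 := (b ⟨glRho (Matrix.SpecialLinearGroup.toGL (Matrix.SpecialLinearGroup.transvection hij 1)),
        mem_slSub.2 (by rw [det_glRho]; simp)⟩).map (MulAut.conj (pslPsi P)⁻¹)
      rw [MulAut.conj_apply, MulAut.conj_apply, inv_inv] at h4
      convert h4 using 1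
      change _ = _ * pslPsi (descG φ P (glRho.symm (glRho _))) * _
      rw [MulEquiv.symm_apply_apply, descG_apply, map_mul, map_mul, map_inv]
      simp only [mul_assoc, inv_mul_cancel_left, inv_mul_cancel, mul_one]
      congr 1
      ext a b
      simp [Matrix.SpecialLinearGroup.transvection_coe, one_apply, single_apply, apply_ite φ]
    have h4 : pslPsi P ∈ pslPhiL.range := ⟨_, pslPhiL_inl P⟩
    rwa [mul_mem_cancel_right h4, mul_mem_cancel_left (inv_mem h4)] at this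
  · obtain ⟨t, ht, h⟩ := sl_even (F := F₀) (V := ι → F₀) (by simpa using h2)
    exact ⟨_, (h1 ⟨t, ht⟩).1, (h1 _).2, fun h' => by
      simpa using h 1 (by simpa using (model_eq_one hΦ hj).1 h')⟩

theorem psl_lb_form (h3 : 3 ≤ Fintype.card ι) {M : GL ι F} {σ : F ≃+* F} {x : Multiplicative (ZMod 2)}
    (hx : x ≠ 1) {T : FParam F} (hT : T.IsMax) (hσ : ∀ a, T.σ a = σ a) {S : Form T (ι → F)} {e : F} (he : e ≠ 0)
    (hB : ∀ u v, S.B u v = e * ((fun i => σ (v i)) ⬝ᵥ ((M⁻¹ : GL ι F) : Matrix ι ι F) *ᵥ u))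
    {r : ℕ} [Fact r.Prime] [CharP F r] (hG : S.Nondeg → (∃ e f, S.IsHyp e f) ∧ GoodP 2 r S.EG) :
    LBal 2 (Cfsg.Inn _) (pslPhi ⟨M, (σ, x)⟩) ∧
      ∃ y ∈ Cfsg.Inn _, Commute y (pslPhi ⟨M, (σ, x)⟩) ∧ orderOf y = 2 := by
  have : Nonempty ι := Fintype.card_pos_iff.1 (by omega)
  have h2 : 2 ≤ Fintype.card ι := by omega
  have hΦ := pslPhiL_eq_one (F := F) h2
  have hS : S.Nondeg := fun v hv => by
    ext i
    have := hv ((M : Matrix ι ι F) *ᵥ Pi.single i 1)
    rw [hB, mulVec_mulVec, ← Units.val_mul, inv_mul_cancel, Units.val_one, one_mulVec] at this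
    simpa [he] using this
  obtain ⟨⟨e₁, f₁, hef⟩, hG⟩ := hG hS
  have key : ∀ (g : GL ι F) (c : Fˣ), g * M = GeneralLinearGroup.scalar ι c * (M * graphAutGL (σ, x) g) ↔
      ∀ u v, S.B ((g : Matrix ι ι F) *ᵥ u) ((g : Matrix ι ι F) *ᵥ v) = c * S.B u v := fun g c => by
    have h1 : ∀ u v, S.B ((g : Matrix ι ι F) *ᵥ u) ((g : Matrix ι ι F) *ᵥ v) = e * ((fun i => σ (v i)) ⬝ᵥ
        (((graphAutGL (σ, x) g)⁻¹ * M⁻¹ * g : GL ι F) : Matrix ι ι F) *ᵥ u) := fun u v => by
      rw [hB, mulVec_map_comp, Units.val_mul, Units.val_mul, coe_graphAutGL_ne σ hx, ← mulVec_mulVec,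
        ← mulVec_mulVec, dotProduct_mulVec _ _ᵀ, vecMul_transpose]
    have h4 : g * M = GeneralLinearGroup.scalar ι c * (M * graphAutGL (σ, x) g) ↔
        (graphAutGL (σ, x) g)⁻¹ * M⁻¹ * g = GeneralLinearGroup.scalar ι c * M⁻¹ := by
      rw [scalar_comm c (M * _)]
      generalize graphAutGL (σ, x) g = g'
      rw [← eq_mul_inv_iff_mul_eq, ← _root_.mul_inv_rev, inv_mul_eq_iff_eq_mul, mul_assoc (M * g')]
    rw [h4]
    constructor
    · intro h u v
      rw [h1, h, hB, Units.val_mul, ← mulVec_mulVec, ← glRho_apply, glRho_scalar, dotProduct_smul]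
      simp [mul_left_comm]
    · intro h
      refine GL_ext_mulVec fun u => funext fun i => ?_
      have := h u (Pi.single i 1)
      rw [h1, hB, mul_left_comm, mul_right_inj' he] at this
      have h5 : (fun j => σ ((Pi.single i 1 : ι → F) j)) = Pi.single i 1 := by
        ext j; simp [Pi.single_apply, apply_ite σ]
      rw [h5, single_one_dotProduct, single_one_dotProduct] at this
      rw [this, Units.val_mul, ← mulVec_mulVec, ← glRho_apply (GeneralLinearGroup.scalar ι c), glRho_scalar]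
      rfl
  let j : S.EG →* GammaL ι F := (dE (RingHom.id F) 1).comp (Subgroup.subtype _)
  have hj : ∀ t, MonoidHom.id _ (j t) = dE (RingHom.id F) 1 t := fun _ => rfl
  have hd : ∀ g : GL ι F, descG (RingHom.id F) 1 g = g := fun g => by simp [descG_apply]
  have h1 : ∀ t, pslPhiL (j t) ∈ Cfsg.Inn _ ∧ Commute (pslPhiL (j t)) (pslPhi ⟨M, (σ, x)⟩) := fun t => by
    refine ⟨dE_mem_Inn h2 (EG_le_su t.2).2, Commute.map (f := pslPhi) (x := SemidirectProduct.inl _) ?_⟩
    have := (key (glRho.symm t) 1).2 fun u v => by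
      rw [← glRho_apply, ← glRho_apply, MulEquiv.apply_symm_apply, isom_B (EG_le_isom t.2)]; simp
    refine SemidirectProduct.ext ?_ (by simp)
    simpa [j, dE_apply, hd] using this
  refine ⟨lbal_model hΦ hj hG (addsc_EG hS hef h3) (k := 0) (by simp) h1 (fun y a b => ?_)
    fun α _ _ k a b => psl_mem_range_odd h2 a b, ?_⟩
  · obtain ⟨g, rfl⟩ := Inn_le_pslPsi a
    have h4 := b.eq
    rw [← mul_inv_eq_one, pslPsi_apply, ← map_mul, ← map_mul, ← map_inv, ← map_mul,
      pslPhi_eq_one_iff h3] at h4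
    obtain ⟨c, hc⟩ := h4
    rw [mul_inv_eq_iff_eq_mul] at hc
    have h5 := (key g c).1 (by simpa using congrArg SemidirectProduct.left hc)
    have h6 : T.σ c = c := by
      have := h5 f₁ e₁
      rw [S.herm, h5, S.herm e₁ f₁, hef.ef, map_mul, mul_left_comm] at this
      rcases T.hε with h | h <;> simpa [h] using this
    refine ⟨SemidirectProduct.inl g, 1, g, rfl, by simp [hd], sim_conj_EG ⟨c, c.ne_zero, h6, h5, fun v l hl =>
      hT.q_eq_π _ ?_⟩⟩
    rw [semiAct_inl, h5, S.self _ _ hl]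
    simp [h6, mul_add, mul_left_comm]
  · obtain ⟨t, ht, h⟩ := EG_even hS hef (Or.inr (by simp; omega))
    obtain ⟨k, hk⟩ := exists_orderOf_eq (p := 2) (y := pslPhiL (j ⟨t, ht⟩)) fun k hk => h k (by
      rw [← map_pow, ← map_pow] at hk
      exact (model_eq_one hΦ hj).1 hk)
    exact ⟨_, pow_mem (h1 _).1 k, (h1 _).2.pow_left k, hk⟩

theorem psl_lb_graph (h3 : 3 ≤ Fintype.card ι) {M : GL ι F} {σ : F ≃+* F} {x : Multiplicative (ZMod 2)}
    (hx : x ≠ 1) {r : ℕ} [Fact r.Prime] [CharP F r] (hr : 2 ≠ r) (h : pslPhi ⟨M, (σ, x)⟩ ^ 2 = 1) :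
    LBal 2 (Cfsg.Inn _) (pslPhi ⟨M, (σ, x)⟩) ∧
      ∃ y ∈ Cfsg.Inn _, Commute y (pslPhi ⟨M, (σ, x)⟩) ∧ orderOf y = 2 := by
  have : Nonempty ι := Fintype.card_pos_iff.1 (by omega)
  have hσ : σ ^ 2 = 1 := congrArg Prod.fst (psl_right_pow h3 h)
  have hσ' : ∀ a, σ (σ a) = a := RingEquiv.congr_fun hσ
  rw [← map_pow, pslPhi_eq_one_iff h3] at h
  obtain ⟨c, hc⟩ := h
  have h1 : M * graphAutGL (σ, x) M = GeneralLinearGroup.scalar ι c := by
    simpa [pow_two] using congrArg SemidirectProduct.left hc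
  have h2 : (((M⁻¹ : GL ι F) : Matrix ι ι F).map σ)ᵀ = (c : F) • ((M⁻¹ : GL ι F) : Matrix ι ι F) := by
    rw [← coe_graphAutGL_ne σ hx, map_inv, inv_inv, eq_inv_mul_of_mul_eq h1, ← scalar_comm]
    ext i j
    simp [diagonal_mul]
  let B : F → (ι → F) → (ι → F) → F := fun e u v =>
    e * ((fun i => σ (v i)) ⬝ᵥ ((M⁻¹ : GL ι F) : Matrix ι ι F) *ᵥ u)
  have a1 : ∀ e x y z, B e (x + y) z = B e x z + B e y z := fun e x y z => by
    simp only [B, mulVec_add, dotProduct_add, mul_add]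
  have a2 : ∀ e (c : F) x z, B e (c • x) z = c * B e x z := fun e c x z => by
    simp only [B, mulVec_smul, dotProduct_smul, smul_eq_mul, mul_left_comm]
  have a3 : ∀ u v, σ (B 1 u v) = c * B 1 v u := fun u v => by
    have : σ (B 1 u v) = v ⬝ᵥ fun i => σ ((((M⁻¹ : GL ι F) : Matrix ι ι F) *ᵥ u) i) := by
      simp only [B, one_mul, dotProduct, map_sum, map_mul, hσ']
    rw [this, mulVec_map_comp, dotProduct_mulVec, ← mulVec_transpose, h2, dotProduct_comm, smul_mulVec,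
      dotProduct_smul]
    simp [B]
  have a4 : (c : F) * σ c = 1 := by
    obtain ⟨i⟩ := this
    have h4 : B 1 ((M : Matrix ι ι F) *ᵥ Pi.single i 1) (Pi.single i 1) = 1 := by
      simp only [B]
      rw [mulVec_mulVec, ← Units.val_mul, inv_mul_cancel, Units.val_one, one_mulVec]
      simp
    have h5 := congrArg σ (a3 ((M : Matrix ι ι F) *ᵥ Pi.single i 1) (Pi.single i 1))
    rw [hσ', map_mul, a3, h4] at h5
    linear_combination -h5
  rcases eq_or_ne σ 1 with rfl | hne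
  · have a5 : (2 : F) ≠ 0 := fun h => hr ((Nat.prime_dvd_prime_iff_eq Fact.out Nat.prime_two).1
      ((CharP.cast_eq_zero_iff F r 2).1 (by exact_mod_cast h))).symm
    rcases mul_self_eq_one_iff.1 a4 with h4 | h4
    · exact psl_lb_form h3 hx (orthParam_isMax a5) (fun _ => rfl) (S := ofSym (B 1) (a1 1) (a2 1)
        (fun u v => (a3 v u).trans (by rw [h4, one_mul])) a5) one_ne_zero (fun _ _ => rfl)
        fun h => ⟨h.exists_isHyp (by simpa using h3), goodP_EG_two hr h (by simpa using h3)⟩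
    have a6 : ∀ u v, B 1 v u = -B 1 u v := fun u v => (a3 v u).trans (by rw [h4, neg_one_mul])
    refine psl_lb_form h3 hx spParam_isMax (fun _ => rfl) (S := ofAlt (B 1) (a1 1) (a2 1) a6
      fun v => mul_left_cancel₀ a5 (by linear_combination a6 v v)) one_ne_zero (fun _ _ => rfl) fun h => ?_
    obtain ⟨e₀, -, f₀, -, hef₀⟩ := h.top.sp_exists_hyp top_ne_bot
    exact ⟨⟨_, _, hef₀⟩, goodP_EG Nat.prime_two hr h hef₀ (Or.inl sp_Λ) (EG_even h hef₀ (Or.inl sp_Λ))⟩
  obtain ⟨d, hd⟩ := exists_cob_eq two_ne_zero (orderOf_eq_prime hσ hne) (c := c) (Units.ext (by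
    rw [coe_nrm, Finset.prod_range_succ, Finset.prod_range_one]; simpa using a4))
  have a5 : (d : F) = c * σ d := by rw [← hd, coe_cob, div_mul_cancel₀ _ (by simp)]
  have a6 : ∃ a, (σ : F →+* F) a ≠ a := by
    by_contra! h
    exact hne (RingEquiv.ext h)
  refine psl_lb_form h3 hx (unitParam_isMax (σ : F →+* F) hσ') (fun _ => rfl)
    (S := ofHerm _ hσ' a6 (B d) (a1 d) (a2 d) fun u v => ?_) d.ne_zero (fun _ _ => rfl) fun h => ?_
  · have := a3 u v
    simp only [B, one_mul, RingHom.coe_coe, map_mul] at this ⊢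
    rw [this]
    linear_combination ((fun i => σ (u i)) ⬝ᵥ ((M⁻¹ : GL ι F) : Matrix ι ι F) *ᵥ v) * a5
  obtain ⟨e₀, f₀, hef₀⟩ := h.unit_exists_hyp a6 (by simp; omega)
  exact ⟨⟨_, _, hef₀⟩, goodP_EG Nat.prime_two hr h hef₀ (Or.inl (unit_Λ a6))
    (EG_even h hef₀ (Or.inl (unit_Λ a6)))⟩

end CfsgH8
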