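import Cfsg.Agent.H8.LB5

/-!
Local balance: graph involutions of even-dimensional orthogonal groups.
-/

set_option autoImplicit false

namespace CfsgH8

open Subgroup Module Matrix CfsgH5 CfsgH5.Form

theorem two_ne_of_ne {F : Type*} [Field F] {r : ℕ} [Fact r.Prime] [CharP F r] (hr : 2 ≠ r) : (2 : F) ≠ 0 :=
  fun h => hr ((Nat.prime_dvd_prime_iff_eq Fact.out Nat.prime_two).1
    ((CharP.cast_eq_zero_iff F r 2).1 (by exact_mod_cast h))).symm

theorem eq_sq_pow {X : Type*} [Group X] {x : X} {k : ℕ} (hk : k.Coprime 2) (h : x ^ k = 1) :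
    ∃ j, x = (x ^ 2) ^ j := by
  obtain ⟨j, rfl⟩ := Nat.coprime_two_right.1 hk
  exact ⟨j + 1, by rw [← pow_mul, show 2 * (j + 1) = 2 * j + 1 + 1 by ring, pow_succ, h, one_mul]⟩

theorem orth_sim_conj {K W : Type*} [Field K] [AddCommGroup W] [Module K W] {β : Form (orthParam K) W}
    (h2 : (2 : K) ≠ 0) {m : W ≃ₗ[K] W} {κ : K} (hκ : κ ≠ 0) (h : ∀ x y, β.B (m x) (m y) = κ * β.B x y) :
    ∀ t ∈ β.EG, m * t * m⁻¹ ∈ β.EG := fun _ ht => by
  have hQ : ∀ x, β.Q (m x) = κ * β.Q x := fun x => mul_left_cancel₀ h2 (by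
    rw [← orth_self, h, orth_self]; ring)
  refine conj_mem_closure ?_ ht
  rintro _ ⟨u, w, l, hE, rfl⟩
  have h' : β.IsEich (m u) (κ⁻¹ • m w) (κ⁻¹ * l) := ⟨by
      rw [q_eq_zero_iff, hQ, (q_eq_zero_iff _).1 hE.sing, mul_zero], by simp [h, hE.perp], by
      rw [q_eq_π_iff, Q_smul, hQ, (q_eq_π_iff _).1 hE.rep]; field_simp⟩
  have : m * eich hE * m⁻¹ = eich h' := by
    rw [mul_inv_eq_iff_eq_mul]
    ext1 x
    simp only [LinearEquiv.mul_apply, eich_apply, smul_right, h, map_add, map_sub, map_smul, smul_smul,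
      orthParam_σ]
    congr 2
    · congr 1; field_simp
    · field_simp
  rw [this]
  exact eich_mem_EG h'

variable {ι : Type*} [Fintype ι] [DecidableEq ι] {F : Type*} [Field F] {S : Form (orthParam F) (ι → F)}

theorem det_skew (hS : S.Nondeg) (h2 : (2 : F) ≠ 0) {g : Matrix ι ι F} {c : F} (hg : g * g = c • 1)
    (h : ∀ u v, S.B (g *ᵥ u) v = -S.B u (g *ᵥ v)) {k : ℕ} (hk : Fintype.card ι = 2 * k) :
    g.det = (-c) ^ k := by
  have h0 := (nondeg_iff_det_gram (Pi.basisFun F ι)).1 hS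
  set G := S.gram (Pi.basisFun F ι) with hG
  have h3 : ∀ j, g *ᵥ Pi.basisFun F ι j = ∑ i, g i j • Pi.basisFun F ι i := fun j => by
    ext k; simp [Pi.single_apply, Finset.sum_apply]
  have h1 : gᵀ * G = G * -g := by
    ext i j
    have := h (Pi.basisFun F ι i) (Pi.basisFun F ι j)
    rw [h3, h3, sum_left, sum_right] at this
    simpa [mul_apply, hG, Form.gram_apply, mul_comm] using this
  have h4 : g.charpoly = (-g).charpoly := by
    have := charpoly_units_conj (Matrix.GeneralLinearGroup.mkOfDetNeZero G h0) (-g)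
    rw [← this, ← charpoly_transpose]
    congr 1
    change _ = G * -g * G⁻¹
    rw [← h1, mul_nonsing_inv_cancel_right _ _ (Ne.isUnit h0)]
  have h5 : g.charpoly ^ 2 = ((Polynomial.X ^ 2 - Polynomial.C c) ^ k) ^ 2 := by
    rw [pow_two]
    nth_rw 2 [h4]
    have : g.charmatrix * (-g).charmatrix = (Polynomial.X ^ 2 - Polynomial.C c) • (1 : Matrix ι ι _) := by
      rw [charmatrix, charmatrix, map_neg, sub_neg_eq_add, sub_mul, mul_add, mul_add, ← map_mul,
        ← map_mul (RingHom.mapMatrix _), hg, (scalar_commute _ (fun _ => Commute.all _ _) _).eq]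
      refine Matrix.ext fun i j => ?_
      by_cases h : i = j <;> simp [h, pow_two]
      ring
    rw [charpoly, charpoly, ← det_mul, ← pow_mul, mul_comm k, ← hk, this, det_smul, det_one, mul_one]
  have h6 : g.charpoly = (Polynomial.X ^ 2 - Polynomial.C c) ^ k := by
    refine (sq_eq_sq_iff_eq_or_eq_neg.1 h5).resolve_right fun h => h2 ?_
    have h7 := congrArg Polynomial.leadingCoeff h
    rw [Polynomial.leadingCoeff_neg, g.charpoly_monic, ((Polynomial.monic_X_pow_sub_C c two_ne_zero).pow k)] at h7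
    linear_combination h7
  rw [det_eq_sign_charpoly_coeff, h6, hk, Polynomial.coeff_zero_eq_eval_zero]
  simp

variable [Finite F]

theorem sq_mem_EG (hS : S.Nondeg) (h5 : 5 ≤ Fintype.card ι) {t : (ι → F) ≃ₗ[F] (ι → F)} (h : t ∈ S.isom) :
    t ^ 2 ∈ S.EG := by
  have hG : GenC F ι := genC_of h5
  have h3 : glRho.symm t ∈ OG S := mem_OG.2 (by simpa using h)
  rw [← hS.om_eq_EG_of_five (by simpa using h5), ← glRho.apply_symm_apply (t ^ 2), mem_om_iffG hS hG,
    map_pow, pow_two, dkG_mul hS hG h3 h3, spG_mul hS h3 h3]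
  exact ⟨mul_mem h3 h3, Int.units_mul_self _, Int.units_mul_self _⟩

/-- a good subgroup of the centraliser of `g` -/
structure Piece (S : Form (orthParam F) (ι → F)) (g : GL ι F) (r : ℕ) {E : Type*} [Group E]
    (J : E →* ((ι → F) ≃ₗ[F] (ι → F))) : Prop where
  good : GoodP 2 r E
  inj : Function.Injective J
  isom : ∀ t, J t ∈ S.isom
  comm : ∀ t, Commute (J t) (glRho g)
  norm : ∀ M ∈ Sim S, Commute M g → ∀ t, ∃ t', glRho M * J t * (glRho M)⁻¹ = J t'

variable {G : Type*} [Group G] {ρ : G →* ((ι → F) ≃ₗ[F] (ι → F))} {r : ℕ} [Fact r.Prime] [CharP F r]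
  {E : Type*} [Group E] {J : E →* ((ι → F) ≃ₗ[F] (ι → F))}

/-- the induced automorphisms -/
noncomputable def Piece.toSim {g : GL ι F} (h : Piece S g r J) : E →* Sim S :=
  (glRho.symm.toMonoidHom.comp J).codRestrict _ fun t => ⟨1, isSemiSim_isom (by simpa using h.isom t)⟩

theorem Piece.mem_Inn (H : FSetup S ρ) (h5 : 5 ≤ Fintype.card ι) (hr : 2 ≠ r) {g : GL ι F}
    (h : Piece S g r J) (t : E) : H.simPsi (h.toSim t) ∈ Cfsg.Inn _ := by
  have : (⊤ : Subgroup E) ≤ S.EG.comap J := by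
    rw [← h.good.gen, closure_le]
    rintro t ⟨k, hk⟩
    obtain ⟨j, hj⟩ := eq_sq_pow (((Nat.coprime_primes Fact.out Nat.prime_two).2 hr.symm).pow_left k) hk
    rw [SetLike.mem_coe, mem_comap, hj, map_pow, map_pow]
    exact pow_mem (sq_mem_EG H.nd h5 (h.isom t)) _
  obtain ⟨s, hs⟩ := H.exists_of_EG (this (mem_top t))
  exact H.mem_Inn_iff.2 ⟨s, congrArg H.simPsi (Subtype.ext (rhoGL_eq fun v => by
    rw [hs]; exact (glRho_apply _ v).symm.trans (by simp [Piece.toSim])))⟩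

theorem Piece.commute (H : FSetup S ρ) {g : Sim S} (h : Piece S g r J) (t : E) :
    Commute (H.simPsi (h.toSim t)) (H.simPsi g) := by
  refine Commute.map (Subtype.ext ?_) _
  simpa [Piece.toSim] using congrArg glRho.symm (h.comm t).eq

theorem FSetup.sim_commute (H : FSetup S ρ) (h5 : 5 ≤ Fintype.card ι) {g : Sim S} {γ : GammaS S}
    (h : Commute (H.simPhi γ) (H.simPsi g)) :
    ∃ z, conjG γ.1 g = GeneralLinearGroup.scalar ι z * (g : GL ι F) := by
  obtain ⟨e, f, hef⟩ := H.nd.exists_isHyp (by simp; omega)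
  obtain ⟨z, hz⟩ := (commute_iff_model (i := (GammaS S).subtype)
    (fun _ => H.simPhi_eq_one hef (by omega)) (b := simIncl S g)).1 h
  refine ⟨z, SemidirectProduct.inl_injective (φ := fieldAutGL) ?_⟩
  rw [inl_conjG, map_mul, ← hz]
  simp [coe_simIncl, mul_assoc]

omit [Finite F] in
theorem conjG_sq [Nonempty ι] {γ : GammaL ι F} {g : GL ι F} {c z : Fˣ} (hg : g * g = GeneralLinearGroup.scalar ι c)
    (h : conjG γ g = GeneralLinearGroup.scalar ι z * g) (hc : γ.right c = c) :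
    Commute (γ ^ 2) (SemidirectProduct.inl g) := by
  have h1 := congrArg (conjG γ) hg
  rw [map_mul, h, conjG_scalar, scalar_mul_mul, hg, ← map_mul] at h1
  have h2 : (z : F) * z = 1 := by
    have := congrArg Units.val (scalarGL_inj h1)
    simpa [hc] using this
  have h3 : Units.map (γ.right : F →* F) z * z = 1 := Units.ext (by
    rcases mul_self_eq_one_iff.1 h2 with h | h <;> simp [h])
  rw [Commute, SemiconjBy, ← mul_inv_eq_iff_eq_mul, show γ ^ 2 * SemidirectProduct.inl g * (γ ^ 2)⁻¹ =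
    γ * (γ * SemidirectProduct.inl g * γ⁻¹) * γ⁻¹ by rw [pow_two]; group, ← inl_conjG, ← inl_conjG, h,
    map_mul, h, conjG_scalar, ← mul_assoc, ← map_mul, h3, map_one, one_mul]

theorem Piece.isSc (H : FSetup S ρ) (h5 : 5 ≤ Fintype.card ι) {g : GL ι F} (p : Piece S g r J) {t : E}
    (h : H.simPsi (p.toSim t) = 1) : IsSc (J t) := by
  obtain ⟨e, f, hef⟩ := H.nd.exists_isHyp (by simp; omega)
  obtain ⟨c, hc⟩ := (H.simPsi_eq_one hef (by omega)).1 h
  exact ⟨c, fun v => by rw [← glRho_scalar, ← hc]; simp [Piece.toSim]⟩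

theorem Piece.comm_N (H : FSetup S ρ) (h5 : 5 ≤ Fintype.card ι) (hr : 2 ≠ r) {g : Sim S} {c : Fˣ}
    (hg : (g : GL ι F) * g = GeneralLinearGroup.scalar ι c) (p : Piece S g r J)
    {N : Subgroup (MulAut (G ⧸ center G))} (h1 : ∀ n ∈ N, n ∈ Cfsg.Inn _ ∧ Commute n (H.simPsi g))
    (h2 : ∀ y ∈ Cfsg.Inn _, Commute y (H.simPsi g) → ∀ n ∈ N, y * n * y⁻¹ ∈ N) (h3 : (Nat.card N).Coprime 2)
    {n : MulAut (G ⧸ center G)} (hn : n ∈ N) (t : E) : Commute n (H.simPsi (p.toSim t)) := by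
  have : Nonempty ι := Fintype.card_pos_iff.1 (by omega)
  refine p.good.comm (H.simPsi.comp p.toSim) (fun t h => mem_center_iff.2 fun s => p.inj ?_) h3
    (fun t => h2 _ (p.mem_Inn H h5 hr t) (p.commute H t)) hn (fun t => ?_) t
  · rw [map_mul, map_mul, (p.isSc H h5 h).comm]
  obtain ⟨M, rfl⟩ := H.Inn_le_simPsi (h1 n hn).1
  obtain ⟨z, hz⟩ := H.sim_commute h5 (γ := simIncl S M) (h1 _ hn).2
  have h4 := conjG_sq hg hz rfl
  rw [coe_simIncl, ← map_pow] at h4
  obtain ⟨j, hj⟩ := eq_sq_pow h3 (pow_card_of_mem hn)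
  obtain ⟨t', ht'⟩ := p.norm _ ((M ^ 2) ^ j).2
    (Commute.pow_left (h4.of_map SemidirectProduct.inl_injective) j) t
  refine ⟨t', ?_⟩
  rw [hj, ← map_pow, ← map_pow, MonoidHom.comp_apply, MonoidHom.comp_apply, ← map_inv, ← map_mul, ← map_mul]
  refine congrArg H.simPsi (Subtype.ext (glRho.injective ?_))
  simpa [Piece.toSim] using ht'

theorem Piece.commute_unip (H : FSetup S ρ) (h5 : 5 ≤ Fintype.card ι) {g : GL ι F} (p : Piece S g r J)
    {γ : GammaS S} {t : E} (h : Commute (H.simPhi γ) (H.simPsi (p.toSim t))) (ht : Unip r t) (v : ι → F) :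
    semiAct γ.1 (J t v) = J t (semiAct γ.1 v) := by
  obtain ⟨e, f, hef⟩ := H.nd.exists_isHyp (by simp; omega)
  obtain ⟨z, hz⟩ := (commute_iff_model (i := (GammaS S).subtype)
    (fun _ => H.simPhi_eq_one hef (by omega)) (b := simIncl S (p.toSim t))).1 h
  have := congrArg (fun x => semiAct x v) (commute_of_unip r ((ht.map J).map glRho.symm.toMonoidHom) hz).eq
  simpa [semiAct_mul, semiAct_inl, ← glRho_apply] using this

theorem FSetup.lbal_lin (H : FSetup S ρ) [Finite G] (h5 : 5 ≤ Fintype.card ι)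
    (hs : Function.Surjective H.simPhi) (hr : 2 ≠ r) {g : Sim S} {c : Fˣ}
    (hg : (g : GL ι F) * g = GeneralLinearGroup.scalar ι c) (p₁ : Piece S g r J) {E' : Type*} [Group E']
    {J' : E' →* ((ι → F) ≃ₗ[F] (ι → F))} (p₂ : Piece S g r J')
    (h3 : ∀ γ : GammaS S, (∃ z, conjG γ.1 g = GeneralLinearGroup.scalar ι z * (g : GL ι F)) →
      (∀ t, Unip r t → ∀ v, semiAct γ.1 (J t v) = J t (semiAct γ.1 v)) →
      (∀ t, Unip r t → ∀ v, semiAct γ.1 (J' t v) = J' t (semiAct γ.1 v)) →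
      ∃ c, γ.1 ^ 4 = SemidirectProduct.inl (GeneralLinearGroup.scalar ι c))
    (h4 : ∃ t, ∀ k, IsSc (J t ^ k) → 2 ∣ k) :
    LBal 2 (Cfsg.Inn _) (H.simPsi g) ∧ ∃ y ∈ Cfsg.Inn _, Commute y (H.simPsi g) ∧ orderOf y = 2 := by
  refine ⟨lbal_of (Set.range (fun t => H.simPsi (p₁.toSim t)) ∪ Set.range fun t => H.simPsi (p₂.toSim t))
    ?_ (fun N a b c n hn => ?_) fun α a b k d e => ?_, ?_⟩
  · rintro _ (⟨t, rfl⟩ | ⟨t, rfl⟩)
    · exact ⟨p₁.mem_Inn H h5 hr t, p₁.commute H t⟩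
    · exact ⟨p₂.mem_Inn H h5 hr t, p₂.commute H t⟩
  · rintro _ (⟨t, rfl⟩ | ⟨t, rfl⟩)
    · exact p₁.comm_N H h5 hr hg a b c hn t
    · exact p₂.comm_N H h5 hr hg a b c hn t
  · obtain ⟨γ, rfl⟩ := hs α
    obtain ⟨c, hc⟩ := h3 γ (H.sim_commute h5 a) (fun t => p₁.commute_unip H h5 (b _ (Or.inl ⟨t, rfl⟩)))
      fun t => p₂.commute_unip H h5 (b _ (Or.inr ⟨t, rfl⟩))
    exact eq_one_of_coprime (d.pow_right 2) e (by rw [← map_pow]; exact H.simPhi_scalar hc)
  obtain ⟨t, h⟩ := h4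
  obtain ⟨k, hk⟩ := exists_orderOf_eq (p := 2) (y := H.simPsi (p₁.toSim t)) fun k hk => h k (by
    rw [← map_pow, ← map_pow] at hk
    exact map_pow J t k ▸ p₁.isSc H h5 hk)
  exact ⟨_, pow_mem (p₁.mem_Inn H h5 hr t) k, (p₁.commute H t).pow_left k, hk⟩

section Block

variable {U U' : Submodule F (ι → F)} (hc : IsCompl U U') (ho : ∀ u ∈ U, ∀ u' ∈ U', S.B u u' = 0)

omit [Finite F] [DecidableEq ι] [Fintype ι] in
include hc ho in
theorem nondeg_of_compl (hS : S.Nondeg) : (S.res U).Nondeg := fun x hx => Subtype.ext (hS _ fun y => by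
  obtain ⟨u, hu, u', hu', rfl⟩ := Submodule.mem_sup.1 (hc.sup_eq_top ▸ Submodule.mem_top (x := y))
  rw [add_left, orth_symm _ _ u', ho _ x.2 _ hu', add_zero]
  exact hx ⟨u, hu⟩)

/-- the elementary group of a summand -/
noncomputable def blockJ (S : Form (orthParam F) (ι → F)) (hc : IsCompl U U') :
    (S.res U).EG →* ((ι → F) ≃ₗ[F] (ι → F)) :=
  ((blockHom hc).comp (MonoidHom.inl _ _)).comp (Subgroup.subtype _)

omit [Finite F] [DecidableEq ι] [Fintype ι] in
theorem blockJ_left (t : (S.res U).EG) (u : U) : blockJ S hc t u = t.1 u := blockHom_left hc _ u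

omit [Finite F] [DecidableEq ι] [Fintype ι] in
theorem blockJ_right (t : (S.res U).EG) (u : U') : blockJ S hc t u = u := blockHom_right hc _ u

include ho in
theorem piece_block (hS : S.Nondeg) (hr : 2 ≠ r) {g : GL ι F} {a b : F} (hU : ∀ v, v ∈ U ↔ glRho g v = a • v)
    (hU' : ∀ v, v ∈ U' ↔ glRho g v = b • v) (hd : finrank F U = 1 ∨ 3 ≤ finrank F U) :
    Piece S g r (blockJ S hc) := by
  have h1 := nondeg_of_compl hc ho hS
  have h2 := two_ne_of_ne (F := F) hr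
  refine ⟨?_, fun t t' h => Subtype.ext (congrArg Prod.fst (blockHom_inj hc h)),
    fun t => blockHom_mem_isom hc ho (EG_le_isom t.2) (one_mem _), fun t => ?_, fun M ⟨κ, hκ⟩ hM t => ?_⟩
  · rcases hd with hd | hd
    · have : (S.res U).EG = ⊥ := eq_bot_iff.2 (EG_le.2 fun u w l h => eich_of_eq_zero h (by
        by_contra h0
        refine h0 (h1 _ fun y => ?_)
        obtain ⟨c, rfl⟩ := (finrank_eq_one_iff_of_nonzero' u h0).1 hd y
        rw [smul_left, h.uu, mul_zero]))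
      have : Subsingleton (S.res U).EG := by rw [this]; infer_instance
      exact ⟨Subsingleton.elim _ _, fun z _ => ⟨1, by simp, Subsingleton.elim _ _⟩,
        fun _ _ _ => (Subsingleton.elim _ _).le⟩
    · exact goodP_EG_two hr h1 hd
  · refine LinearEquiv.toLinearMap_injective (isCompl_ext hc (fun u hu => ?_) fun u hu => ?_)
    · change blockJ S hc t (glRho g u) = glRho g (blockJ S hc t u)
      rw [(hU u).1 hu, map_smul, blockJ_left hc t ⟨u, hu⟩, (hU _).1 (t.1 _).2]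
    · change blockJ S hc t (glRho g u) = glRho g (blockJ S hc t u)
      rw [(hU' u).1 hu, map_smul, blockJ_right hc t ⟨u, hu⟩, (hU' _).1 hu]
  have h3 : ∀ v, glRho g (glRho M v) = glRho M (glRho g v) := fun v => by
    rw [← LinearEquiv.mul_apply, ← map_mul, ← hM.eq, map_mul, LinearEquiv.mul_apply]
  have h4 : glRho M ∈ stab F (U : Set (ι → F)) := mem_stab_of_le fun v hv => by
    rw [hU, h3, (hU v).1 hv, map_smul]
  have h5 : glRho M ∈ stab F (U' : Set (ι → F)) := mem_stab_of_le fun v hv => by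
    rw [hU', h3, (hU' v).1 hv, map_smul]
  refine ⟨⟨_, orth_sim_conj h2 (m := stabRes U ⟨_, h4⟩) hκ.ne (fun x y => hκ.B x y) t.1 t.2⟩, ?_⟩
  have h6 := blockHom_stabRes hc h4 h5
  change glRho M * blockHom hc (t.1, 1) * (glRho M)⁻¹ =
    blockHom hc (stabRes U ⟨_, h4⟩ * t.1 * (stabRes U ⟨_, h4⟩)⁻¹, 1)
  generalize stabRes U ⟨_, h4⟩ = m₁, stabRes U' ⟨_, h5⟩ = m₂ at h6 ⊢
  rw [← h6, ← map_inv, ← map_mul, ← map_mul]
  simp

include ho in
theorem scalar_on (hS : S.Nondeg) {δ : GammaL ι F} (h1 : ∀ u ∈ U, semiAct δ u ∈ U)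
    (hd : (finrank F U = 1 ∧ δ.right = 1) ∨ 3 ≤ finrank F U)
    (h2 : ∀ t, Unip r t → ∀ v, semiAct δ (blockJ S hc t v) = blockJ S hc t (semiAct δ v)) :
    ∃ c : F, ∀ u ∈ U, semiAct δ u = c • u := by
  rcases hd with ⟨hd, h3⟩ | hd
  · obtain ⟨v, -, hv⟩ := finrank_eq_one_iff'.1 hd
    obtain ⟨c, hc⟩ := hv ⟨_, h1 v v.2⟩
    refine ⟨c, fun u hu => ?_⟩
    obtain ⟨a, ha⟩ := hv ⟨u, hu⟩
    rw [show u = a • v from (congrArg Subtype.val ha).symm, semiAct_smul, h3, smul_comm,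
      ← show c • (v : ι → F) = semiAct δ v from congrArg Subtype.val hc]
    rfl
  have h3 := nondeg_of_compl hc ho hS
  obtain ⟨e, f, hef⟩ := h3.exists_isHyp hd
  obtain ⟨c, hc'⟩ := add_scalar_of_eich h3 hef hd
    (((semiAct δ : (ι → F) →+ (ι → F)).comp U.subtype.toAddMonoidHom).codRestrict U fun u => h1 u u.2)
    fun u w l hE x => Subtype.ext (by
      obtain ⟨k, hk⟩ := unip_eich (p := r) hE
      have := h2 ⟨_, eich_mem_EG hE⟩ ⟨k, Subtype.ext hk⟩ x
      rw [blockJ_left, blockJ_left hc _ ⟨_, h1 x x.2⟩] at this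
      exact this)
  exact ⟨c, fun u hu => congrArg Subtype.val (hc' ⟨u, hu⟩)⟩

omit [Finite F] in
include hc ho in
theorem sq_on (hS : S.Nondeg) {δ : GammaL ι F} {κ c : F} (h : IsSemiSim S δ κ) (h1 : δ.right = 1)
    (h2 : ∀ u ∈ U, semiAct δ u = c • u) : ∀ u ∈ U, semiAct δ (semiAct δ u) = κ • u := fun u hu => by
  rw [h2 u hu, h2 _ (U.smul_mem c hu), smul_smul]
  by_cases h0 : u = 0
  · simp [h0]
  obtain ⟨y, hy⟩ := (nondeg_of_compl hc ho hS).exists_ne (x := ⟨u, hu⟩) fun h => h0 (congrArg Subtype.val h)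
  have := h.B y u
  rw [h2 _ y.2, h2 u hu, smul_left, smul_right, h1, ← mul_assoc] at this
  rw [show c * c = κ from mul_right_cancel₀ hy this]

include ho in
theorem block_pow (hS : S.Nondeg) {g δ : GammaL ι F} {κ : F} (hκ : IsSemiSim S δ κ) (h6 : Commute δ g) {a b : F}
    (hU : ∀ v, v ∈ U ↔ semiAct g v = a • v) (hU' : ∀ v, v ∈ U' ↔ semiAct g v = b • v)
    (ha : a = 1 ∨ a = -1) (hb : b = 1 ∨ b = -1) (hd : 3 ≤ finrank F U)
    (hd' : finrank F U' = 1 ∨ 3 ≤ finrank F U')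
    (h3 : ∀ t, Unip r t → ∀ v, semiAct δ (blockJ S hc t v) = blockJ S hc t (semiAct δ v))
    (h4 : ∀ t, Unip r t → ∀ v, semiAct δ (blockJ S hc.symm t v) = blockJ S hc.symm t (semiAct δ v)) :
    ∃ c, δ * δ = SemidirectProduct.inl (GeneralLinearGroup.scalar ι c) := by
  have ho' : ∀ u ∈ U', ∀ u' ∈ U, S.B u u' = 0 := fun u hu u' hu' => by rw [orth_symm, ho _ hu' _ hu]
  have h7 : ∀ v, semiAct g (semiAct δ v) = semiAct δ (semiAct g v) :=
    fun v => by rw [← semiAct_mul, ← semiAct_mul, h6.eq]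
  have h8 : ∀ a : F, a = 1 ∨ a = -1 → δ.right a = a := by rintro _ (rfl | rfl) <;> simp
  obtain ⟨c₁, hc₁⟩ := scalar_on hc ho hS
    (fun u hu => by rw [hU, h7, (hU u).1 hu, semiAct_smul, h8 a ha]) (Or.inr hd) h3
  have h9 : δ.right = 1 := by
    obtain ⟨u, hu, hu0⟩ := Submodule.exists_mem_ne_zero_of_ne_bot (p := U) (by rintro rfl; simp at hd)
    ext x
    have := hc₁ _ (U.smul_mem x hu)
    rw [semiAct_smul, smul_comm, ← hc₁ u hu] at this
    exact smul_left_injective F (semiAct_ne_zero _ hu0) this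
  obtain ⟨c₂, hc₂⟩ := scalar_on hc.symm ho' hS
    (fun u hu => by rw [hU', h7, (hU' u).1 hu, semiAct_smul, h8 b hb]) (hd'.imp (⟨·, h9⟩) id) h4
  refine ⟨Units.mk0 κ hκ.ne, gammaL_ext (by simp [h9]) fun v => ?_⟩
  obtain ⟨u, hu, u', hu', rfl⟩ := Submodule.mem_sup.1 (hc.sup_eq_top ▸ Submodule.mem_top (x := v))
  rw [semiAct_mul, map_add, map_add, sq_on hc ho hS hκ h9 hc₁ u hu,
    sq_on hc.symm ho' hS hκ h9 hc₂ u' hu', semiAct_scalar, smul_add, Units.val_mk0]

omit [DecidableEq ι] in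
theorem block_even (h1 : (S.res U).Nondeg) (hd : 3 ≤ finrank F U) :
    ∃ t, ∀ k, IsSc (blockJ S hc t ^ k) → 2 ∣ k := by
  obtain ⟨e, f, hef⟩ := h1.exists_isHyp hd
  obtain ⟨t, ht, h⟩ := EG_even h1 hef (Or.inr (by omega))
  refine ⟨⟨t, ht⟩, fun k ⟨c, hk⟩ => h k ⟨c, fun v => Subtype.ext ?_⟩⟩
  rw [← map_pow] at hk
  have := hk v
  rw [blockJ_left] at this
  exact this

include hc ho in
theorem FSetup.lbal_block (H : FSetup S ρ) [Finite G] (h5 : 5 ≤ Fintype.card ι)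
    (hs : Function.Surjective H.simPhi) (hr : 2 ≠ r) {g : Sim S} (hg : (g : GL ι F) * g = 1) {a b : F}
    (hU : ∀ v, v ∈ U ↔ glRho (g : GL ι F) v = a • v) (hU' : ∀ v, v ∈ U' ↔ glRho (g : GL ι F) v = b • v)
    (ha : a = 1 ∨ a = -1) (hb : b = 1 ∨ b = -1) (hd : 3 ≤ finrank F U)
    (hd' : finrank F U' = 1 ∨ 3 ≤ finrank F U') :
    LBal 2 (Cfsg.Inn _) (H.simPsi g) ∧ ∃ y ∈ Cfsg.Inn _, Commute y (H.simPsi g) ∧ orderOf y = 2 := by
  have : Nonempty ι := Fintype.card_pos_iff.1 (by omega)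
  have ho' : ∀ u ∈ U', ∀ u' ∈ U, S.B u u' = 0 := fun u hu u' hu' => by rw [orth_symm, ho _ hu' _ hu]
  have hg' : (g : GL ι F) * (g : GL ι F) = GeneralLinearGroup.scalar ι 1 := by rw [hg, map_one]
  have h1 := nondeg_of_compl hc ho H.nd
  refine H.lbal_lin h5 hs hr hg' (piece_block hc ho H.nd hr hU hU' (Or.inr hd))
    (piece_block hc.symm ho' H.nd hr hU' hU hd') (fun γ ⟨z, hz⟩ h3 h4 => ?_) ?_
  · obtain ⟨κ, hκ⟩ := (γ ^ 2).2
    rw [Subgroup.coe_pow] at hκ
    rw [show 4 = 2 + 2 from rfl, pow_add]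
    exact block_pow hc ho (r := r) H.nd hκ (conjG_sq hg' hz (map_one _)) hU hU' ha hb hd hd'
      (fun t ht v => by rw [pow_two, semiAct_mul, semiAct_mul, h3 t ht, h3 t ht])
      fun t ht v => by rw [pow_two, semiAct_mul, semiAct_mul, h4 t ht, h4 t ht]
  exact block_even hc h1 hd

end Block

theorem FSetup.lbal_invol (H : FSetup S ρ) [Finite G] {k : ℕ} (hk : Fintype.card ι = 2 * k) (h3 : 3 ≤ k)
    (hs : Function.Surjective H.simPhi) (hr : 2 ≠ r) {g : Sim S} (hg : (g : GL ι F) * g = 1)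
    (hO : glRho (g : GL ι F) ∈ S.isom) (hd : ((g : GL ι F) : Matrix ι ι F).det = -1) :
    LBal 2 (Cfsg.Inn _) (H.simPsi g) ∧ ∃ y ∈ Cfsg.Inn _, Commute y (H.simPsi g) ∧ orderOf y = 2 := by
  have h2 := two_ne_of_ne (F := F) hr
  have h1 : ∀ v, glRho (g : GL ι F) (glRho (g : GL ι F) v) = v := fun v => by
    rw [← LinearEquiv.mul_apply, ← map_mul, hg, map_one]; rfl
  rw [← det_glRho] at hd
  let U := Module.End.eigenspace (glRho (g : GL ι F)).toLinearMap 1
  let U' := Module.End.eigenspace (glRho (g : GL ι F)).toLinearMap (-1)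
  have hU : ∀ v, v ∈ U ↔ glRho (g : GL ι F) v = (1 : F) • v := fun v => Module.End.mem_eigenspace_iff
  have hU' : ∀ v, v ∈ U' ↔ glRho (g : GL ι F) v = (-1 : F) • v := fun v => Module.End.mem_eigenspace_iff
  clear_value U U'
  have hc : IsCompl U U' := by
    refine ⟨Submodule.disjoint_def.2 fun v a b => smul_right_injective _ h2 ?_,
      codisjoint_iff.2 (eq_top_iff.2 fun v _ => Submodule.mem_sup.2
        ⟨(2 : F)⁻¹ • (v + glRho (g : GL ι F) v), ?_, (2 : F)⁻¹ • (v - glRho (g : GL ι F) v), ?_, ?_⟩)⟩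
    · rw [hU] at a
      rw [hU'] at b
      linear_combination (norm := module) b - a
    · rw [hU, map_smul, map_add, h1, one_smul, add_comm]
    · rw [hU', map_smul, map_sub, h1]; module
    · linear_combination (norm := module) inv_mul_cancel₀ h2 • v
  have ho : ∀ u ∈ U, ∀ u' ∈ U', S.B u u' = 0 := fun u hu u' hu' => mul_left_cancel₀ h2 (by
    have := isom_B hO u u'
    rw [(hU u).1 hu, (hU' u').1 hu', smul_left, smul_right] at this
    simp only [orthParam_σ] at this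
    linear_combination -this)
  have h4 : glRho (g : GL ι F) = blockHom hc (1, LinearEquiv.neg F) :=
    LinearEquiv.toLinearMap_injective (isCompl_ext hc (fun u hu => ((hU u).1 hu).trans
      ((one_smul _ _).trans (blockHom_left hc (1, LinearEquiv.neg F) ⟨u, hu⟩).symm)) fun u hu =>
      ((hU' u).1 hu).trans ((neg_one_smul _ _).trans (blockHom_right hc (1, LinearEquiv.neg F) ⟨u, hu⟩).symm))
  have h5 : Odd (finrank F U') := by
    rw [h4, det_blockHom, show ((LinearEquiv.neg F : U' ≃ₗ[F] U') : U' →ₗ[F] U') = (-1 : F) • LinearMap.id by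
      ext; simp, LinearMap.det_smul] at hd
    by_contra h
    rw [(Nat.not_odd_iff_even.1 h).neg_one_pow] at hd
    refine h2 ?_
    simp at hd
    linear_combination hd
  have h6 := Submodule.finrank_add_eq_of_isCompl hc
  rw [finrank_of_card hk] at h6
  obtain ⟨j, hj⟩ := h5
  by_cases h : 3 ≤ finrank F U
  · exact H.lbal_block hc ho (by omega) hs hr hg hU hU' (Or.inl rfl) (Or.inr rfl) h (by omega)
  · exact H.lbal_block hc.symm (fun u hu u' hu' => by rw [orth_symm, ho _ hu' _ hu]) (by omega) hs hr hg hU' hU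
      (Or.inr rfl) (Or.inl rfl) (by omega) (by omega)

theorem FSetup.lbal_quad_aux (H : FSetup S ρ) [Finite G] (h5 : 5 ≤ Fintype.card ι)
    (hs : Function.Surjective H.simPhi) (hr : 2 ≠ r) {g : Sim S} {c : Fˣ}
    (hg : (g : GL ι F) * g = GeneralLinearGroup.scalar ι c) [Fact (∀ x : F, x ^ 2 ≠ c + 0 * x)]
    [Module (QuadraticAlgebra F c 0) (ι → F)] [IsScalarTower F (QuadraticAlgebra F c 0) (ι → F)]
    (hz : ∀ (z : QuadraticAlgebra F (c : F) 0) (v : ι → F), z • v = z.re • v + z.im • glRho (g : GL ι F) v)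
    (hB : ∀ u v, S.B (glRho (g : GL ι F) u) v = S.B u (glRho (g : GL ι F) v)) :
    LBal 2 (Cfsg.Inn _) (H.simPsi g) ∧ ∃ y ∈ Cfsg.Inn _, Commute y (H.simPsi g) ∧ orderOf y = 2 := by
  have : Nonempty ι := Fintype.card_pos_iff.1 (by omega)
  have h1 : ∀ v, glRho (g : GL ι F) (glRho (g : GL ι F) v) = (c : F) • v := fun v => by
    rw [← LinearEquiv.mul_apply, ← map_mul, hg, glRho_scalar]
  have : CharP (QuadraticAlgebra F (c : F) 0) r :=
    charP_of_injective_algebraMap QuadraticAlgebra.algebraMap_injective r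
  have : Finite (QuadraticAlgebra F (c : F) 0) := Module.finite_of_finite F
  have : FiniteDimensional (QuadraticAlgebra F (c : F) 0) (ι → F) :=
    Module.Finite.of_restrictScalars_finite F _ _
  have hd : 3 ≤ finrank (QuadraticAlgebra F (c : F) 0) (ι → F) := by
    have := Module.finrank_mul_finrank F (QuadraticAlgebra F (c : F) 0) (ι → F)
    rw [QuadraticAlgebra.finrank_eq_two, finrank_of_card rfl] at this
    omega
  have h2 := two_ne_of_ne (F := QuadraticAlgebra F (c : F) 0) hr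
  let β : Form (orthParam (QuadraticAlgebra F (c : F) 0)) (ι → F) :=
    ofSym (fun u v => ⟨S.B (glRho (g : GL ι F) u) v, S.B u v⟩) (fun x y z => by ext <;> simp)
      (fun a x z => by ext <;> simp [hz, h1, mul_assoc, mul_left_comm])
      (fun x y => QuadraticAlgebra.ext ((hB y x).trans (S.orth_symm _ _)) (S.orth_symm _ _)) h2
  have hβ : ∀ u v, β.B u v = ⟨S.B (glRho (g : GL ι F) u) v, S.B u v⟩ := fun _ _ => rfl
  clear_value β
  have hn : β.Nondeg := fun x hx => H.nd x fun y => by simpa [hβ] using congrArg QuadraticAlgebra.im (hx y)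
  have hω : ∀ v, glRho (g : GL ι F) v = (QuadraticAlgebra.omega : QuadraticAlgebra F (c : F) 0) • v :=
    fun v => by simp [hz]
  let J : β.EG →* ((ι → F) ≃ₗ[F] (ι → F)) := MonoidHom.mk' (fun t => t.1.restrictScalars F) fun _ _ => rfl
  have hJ : ∀ t v, J t v = t.1 v := fun _ _ => rfl
  clear_value J
  obtain ⟨e, f, hef⟩ := hn.exists_isHyp hd
  have p : Piece S g r J := by
    refine ⟨goodP_EG_two hr hn hd, fun t t' h => Subtype.ext (LinearEquiv.ext fun v => by rw [← hJ, h, hJ]),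
      fun t => ((orthParam_isMax (two_ne_of_ne hr)).mem_isom S).2 fun x y => ?_,
      fun t => LinearEquiv.ext fun v => ?_, fun M ⟨κ, hκ⟩ hM t => ?_⟩
    · simpa [hβ, hJ] using congrArg QuadraticAlgebra.im (isom_B (EG_le_isom t.2) x y)
    · rw [LinearEquiv.mul_apply, LinearEquiv.mul_apply, hJ, hJ, hω, hω, map_smul]
    have h3 : ∀ v, glRho (g : GL ι F) (glRho M v) = glRho M (glRho (g : GL ι F) v) := fun v => by
      rw [← LinearEquiv.mul_apply, ← map_mul, ← hM.eq, map_mul, LinearEquiv.mul_apply]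
    have h4 : ∀ x y, S.B (glRho M x) (glRho M y) = κ * S.B x y := hκ.B
    let m : (ι → F) ≃ₗ[QuadraticAlgebra F (c : F) 0] (ι → F) :=
      { (glRho M).toAddEquiv with map_smul' := fun z v => by simp [hz, h3] }
    refine ⟨⟨_, orth_sim_conj h2 (m := m) (κ := algebraMap F _ κ) (by simpa using hκ.ne) (fun x y => ?_)
      t.1 t.2⟩, LinearEquiv.ext fun v => ?_⟩
    · change β.B (glRho M x) (glRho M y) = _
      ext <;> simp [hβ, h3, h4]
    · rw [LinearEquiv.mul_apply, LinearEquiv.mul_apply, hJ, hJ]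
      rfl
  refine H.lbal_lin h5 hs hr hg p p (fun γ _ h3 _ => ?_) ?_
  · obtain ⟨a, ha⟩ := add_scalar_of_eich hn hef hd (semiAct γ.1 : (ι → F) →+ (ι → F)) fun u w l hE x => by
      obtain ⟨k, hk⟩ := unip_eich (p := r) hE
      have := h3 ⟨_, eich_mem_EG hE⟩ ⟨k, Subtype.ext hk⟩ x
      rw [hJ, hJ] at this
      exact this
    replace ha : ∀ x, semiAct γ.1 x = a • x := ha
    obtain ⟨κ, hκ⟩ := γ.2
    have h4 : γ.1.right = 1 := by
      ext x
      have := ha (x • e)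
      rw [semiAct_smul, smul_comm, ← ha] at this
      exact smul_left_injective F (semiAct_ne_zero _ hef.ne_left) this
    have h6 : ∀ x y, S.B (a • x) (a • y) = κ * S.B x y := fun x y => by rw [← ha, ← ha, hκ.B, h4]; rfl
    have h7 : ∀ v, a • a • v = κ • v := fun v => sub_eq_zero.1 (H.nd _ fun y => by
      rw [sub_right, smul_right, orthParam_σ, ← h6, hz a y, hz a (a • v), add_left, add_right, smul_left,
        smul_left, smul_right, smul_right, hB]
      simp)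
    refine ⟨Units.mk0 κ hκ.ne ^ 2, gammaL_ext ?_ fun v => ?_⟩
    · exact (map_pow (SemidirectProduct.rightHom (φ := fieldAutGL)) γ.1 4).trans
        (by rw [SemidirectProduct.right_inl, SemidirectProduct.rightHom_eq_right, h4, one_pow])
    · rw [pow_succ, pow_three', semiAct_mul, semiAct_mul, semiAct_mul, ha, ha, ha, ha,
        h7, h7, semiAct_scalar, smul_smul]
      simp [pow_two]
  obtain ⟨t, ht, h⟩ := EG_even hn hef (Or.inr (by omega))
  refine ⟨⟨t, ht⟩, fun k ⟨a, hk⟩ => h k ⟨algebraMap F _ a, fun v => ?_⟩⟩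
  rw [← map_pow] at hk
  rw [algebraMap_smul, ← hk, hJ]
  rfl

theorem FSetup.lbal_graph (H : FSetup S ρ) [Finite G] [Nonempty ι] {k : ℕ} (hk : Fintype.card ι = 2 * k)
    (h3 : 3 ≤ k) (hs : Function.Surjective H.simPhi) (hr : 2 ≠ r) (hG : GenC F ι) {g : Sim S}
    (h1 : sdk H.nd hG hk g ≠ 1) (hg : H.simPsi g ^ 2 = 1) :
    LBal 2 (Cfsg.Inn _) (H.simPsi g) ∧ ∃ y ∈ Cfsg.Inn _, Commute y (H.simPsi g) ∧ orderOf y = 2 := by
  have h2 := two_ne_of_ne (F := F) hr
  obtain ⟨e, f, hef⟩ := H.nd.exists_isHyp (by simp; omega)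
  rw [← map_pow, H.simPsi_eq_one hef (by omega), pow_two, Subgroup.coe_mul] at hg
  obtain ⟨c, hg⟩ := hg
  have h4 : ∀ u v, S.B (glRho (g : GL ι F) u) (glRho (g : GL ι F) v) = simMult H.nd g * S.B u v :=
    (simMult_spec H.nd g).B
  have h5 : ∀ v, glRho (g : GL ι F) (glRho (g : GL ι F) v) = (c : F) • v := fun v => by
    rw [← LinearEquiv.mul_apply, ← map_mul, hg, glRho_scalar]
  have h6 : (simMult H.nd g : F) ^ 2 = c ^ 2 := by
    have := simMult_scalar_o H.nd c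
    rw [show (⟨_, scalar_mem_Sim c⟩ : Sim S) = g * g from Subtype.ext hg.symm, map_mul] at this
    simpa [pow_two] using congrArg Units.val this
  have h7 : ∀ u v, c * S.B u (glRho (g : GL ι F) v) = simMult H.nd g * S.B (glRho (g : GL ι F) u) v :=
    fun u v => by rw [← h4, h5, smul_left]
  have h8 := det_eq_sdk H.nd hG hk h2 g
  rw [(Int.units_eq_one_or _).resolve_left h1] at h8
  rcases sq_eq_sq_iff_eq_or_eq_neg.1 h6 with h | h
  swap
  · refine absurd (sdk_of_det H.nd hG hk h2 ?_) h1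
    rw [det_skew H.nd h2 (c := c) (by simpa [smul_one_eq_diagonal] using congrArg Units.val hg)
      (fun u v => mul_left_cancel₀ c.ne_zero (by
        have := h7 u v
        rw [h, glRho_apply, glRho_apply] at this
        linear_combination this)) hk, h]
    simp
  by_cases hc : ∀ x : F, x ^ 2 ≠ c + 0 * x
  · have := Fact.mk hc
    let ψ := QuadraticAlgebra.lift (R := F) (a := (c : F)) (b := 0)
      ⟨(glRho (g : GL ι F)).toLinearMap, LinearMap.ext fun v => by simp [h5]⟩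
    letI := Module.compHom (ι → F) ψ.toRingHom
    have hz : ∀ (z : QuadraticAlgebra F (c : F) 0) (v : ι → F),
        z • v = z.re • v + z.im • glRho (g : GL ι F) v := fun _ _ => rfl
    have : IsScalarTower F (QuadraticAlgebra F (c : F) 0) (ι → F) := ⟨fun a z v => by simp [hz, smul_smul]⟩
    exact H.lbal_quad_aux (by omega) hs hr hg hz fun u v => mul_left_cancel₀ c.ne_zero (by rw [h7, h])
  push Not at hc
  obtain ⟨d, hd⟩ := hc
  rw [zero_mul, add_zero] at hd
  have hd0 : d ≠ 0 := by rintro rfl; exact c.ne_zero (by simpa using hd.symm)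
  have h9 : H.simPsi g = H.simPsi (⟨_, scalar_mem_Sim (Units.mk0 d hd0)⟩⁻¹ * g) := by
    rw [map_mul, map_inv, H.simPsi_scalar, inv_one, one_mul]
  rw [h9]
  refine H.lbal_invol hk h3 hs hr ?_ ((isom_iff_simMult H.nd _).2 (Units.ext ?_)) ?_
  · rw [Subgroup.coe_mul, Subgroup.coe_inv, ← map_inv, scalar_mul_mul, hg, ← map_mul,
      ← map_one (GeneralLinearGroup.scalar ι)]
    refine congrArg _ (Units.ext ?_)
    simp [← hd, pow_two, hd0]
    field_simp
  · rw [map_mul, map_inv, simMult_scalar_o]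
    simp [h, ← hd, hd0]
  · rw [Subgroup.coe_mul, Subgroup.coe_inv, ← map_inv, Units.val_mul, det_mul, h8,
      ← GeneralLinearGroup.val_det_apply, det_scalarGL, hk, h, ← hd]
    simp [← pow_mul, hd0]

theorem FSetup.lb_graph (H : FSetup S ρ) [Finite G] [Nonempty ι] {k : ℕ} (hk : Fintype.card ι = 2 * k)
    (h3 : 3 ≤ k) (hs : Function.Surjective H.simPhi) (hG : GenC F ι) {g : Sim S}
    (h1 : sdk H.nd hG hk g ≠ 1) {p : ℕ} [Fact p.Prime] (hpr : p ≠ r)
    (hord : orderOf (H.simPhi (simIncl S g)) = p) {A : Subgroup (MulAut (G ⧸ center G))}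
    (hinn : ∀ k, MulAut.conj k ∈ A) {Q : Prop} :
    Cfsg.pPrimeCore p ↥(A ⊓ centralizer {H.simPhi (simIncl S g)}) ≠ ⊥ ↔ Q ∧ Nat.Coprime p
      (Nat.card ↥(MonoidHom.eqLocus (H.simPhi (simIncl S g)).toMonoidHom (MonoidHom.id _))) := by
  obtain ⟨e, f, hef⟩ := H.nd.exists_isHyp (by simp; omega)
  have h4 : H.simPsi g ^ p = 1 := hord ▸ pow_orderOf_eq_one _
  obtain rfl : 2 = p := by
    rw [← map_pow, H.simPsi_eq_one hef (by omega)] at h4
    obtain ⟨c, hc⟩ := h4
    have h4 := sdk_scalar H.nd hG hk c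
    rw [show (⟨_, scalar_mem_Sim c⟩ : Sim S) = g ^ p from Subtype.ext hc.symm, map_pow,
      (Int.units_eq_one_or _).resolve_left h1] at h4
    refine ((Fact.out : p.Prime).eq_two_or_odd'.resolve_right fun h => ?_).symm
    rw [h.neg_one_pow] at h4
    exact absurd h4 (by decide)
  obtain ⟨h4, y, a, b, c⟩ := H.lbal_graph hk h3 hs hpr _ h1 h4
  exact lb_iff (H.center_eq_bot hef (by omega)) hinn (fun _ => h4) fun h => absurd c (h y a b)

theorem aniso_map {F₀ : Type*} [Field F₀] {φ : F₀ →+* F} {σ : F ≃+* F} (hφ : ∀ a, σ a = a ↔ ∃ b, φ b = a)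
    (ho : Odd (orderOf σ)) {a b : F₀}
    (hab : ∀ z₁ z₂ : F₀, z₁ ^ 2 + a * z₁ * z₂ + b * z₂ ^ 2 = 0 → z₁ = 0 ∧ z₂ = 0) (z₁ z₂ : F)
    (h : z₁ ^ 2 + φ a * z₁ * z₂ + φ b * z₂ ^ 2 = 0) : z₁ = 0 ∧ z₂ = 0 := by
  by_cases h0 : z₂ = 0
  · simpa [h0] using h
  exfalso
  have h1 : (z₁ / z₂) ^ 2 + φ a * (z₁ / z₂) + φ b = 0 := by field_simp; linear_combination h
  generalize z₁ / z₂ = t at h1
  have ha := (hφ _).2 ⟨a, rfl⟩
  have h2 := congrArg σ h1
  rw [map_add, map_add, map_mul, map_pow, ha, (hφ _).2 ⟨b, rfl⟩, map_zero] at h2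
  have h3 : (σ ^ 2) t = t := by
    change σ (σ t) = t
    rcases mul_eq_zero.1 (show (σ t - t) * (σ t + t + φ a) = 0 by linear_combination h2 - h1) with h | h
    · rw [sub_eq_zero.1 h, sub_eq_zero.1 h]
    · have := congrArg σ h
      rw [map_add, map_add, ha, map_zero] at this
      linear_combination this - h
  obtain ⟨j, hj⟩ := eq_sq_pow (Nat.coprime_two_right.2 ho) (pow_orderOf_eq_one σ)
  obtain ⟨t₀, rfl⟩ := (hφ t).1 (by
    rw [hj]
    exact pow_mem (show σ ^ 2 ∈ MulAction.stabilizer (F ≃+* F) t from h3) j)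
  exact one_ne_zero (hab t₀ 1 (φ.injective (by simpa using h1))).2

theorem field_transport {ι : Type} [Fintype ι] [DecidableEq ι] {S S' : Form (orthParam F) (ι → F)}
    {Q Q' : (ι → F) → F} (hQ : ∀ v, S.Q v = Q v) (hS : S.Nondeg) (h5 : 5 ≤ Fintype.card ι)
    (hQ' : ∀ v, S'.Q v = Q' v) (hS' : S'.Nondeg) (he : Even (Fintype.card ι)) {γ : GammaS S}
    {F₀ : Type*} [Field F₀] {φ : F₀ →+* F} (hφ : ∀ a, γ.1.right a = a ↔ ∃ b, φ b = a)
    {S₀ : Form (orthParam F₀) (ι → F₀)} {P : GL ι F} (h : IsDesc φ S₀ S γ P) (h3 : IsExt φ S₀ S' 1 1)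
    (hi : SemidirectProduct.inr γ.1.right ∈ GammaS S') : ∃ ψ : Cfsg.POmega F Q ≃* Cfsg.POmega F Q',
      (ψ.symm.trans ((fsetup_o hQ hS h5).simPhi γ)).trans ψ = (fsetup_o hQ' hS' h5).simPhi ⟨_, hi⟩ := by
  have : Nonempty ι := Fintype.card_pos_iff.1 (by omega)
  obtain ⟨⟨d, hd⟩, c, hc⟩ := h
  obtain ⟨g, hg⟩ := smu_surj hS he (Units.mk0 c hc.ne)⁻¹
  have h2 := hc.left (simMult_spec hS g)
  rw [hg, Units.val_inv_eq_inv_val, Units.val_mk0, inv_mul_cancel₀ hc.ne] at h2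
  have hj : IsIsom S' S (glRho ((g : GL ι F) * P)) := by
    refine isIsom_of_span (glRho ((g : GL ι F) * P)).toLinearMap (span_vmap φ 1) ?_ ?_
    · rintro _ ⟨x, rfl⟩ _ ⟨y, rfl⟩
      rw [h3.B, ← h2.B]
      simp [glRho_apply]
    · rintro _ ⟨x, rfl⟩
      rw [q_eq_iff, h3.Q, ← h2.Q]
      simp [glRho_apply]
  obtain ⟨ψ, hψ⟩ := exists_transport hQ hS h5 hQ' hS' h5 hj.symm
  refine ⟨((fsetup_o hQ hS h5).simPsi g).trans ψ, ?_⟩
  have h4 := hψ (simIncl _ g * γ * (simIncl _ g)⁻¹) (simIncl _ ⟨_, scalar_mem_Sim d⟩ * ⟨_, hi⟩) fun v => by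
    obtain ⟨v, rfl⟩ := (glRho ((g : GL ι F) * P)).surjective v
    rw [LinearEquiv.symm_apply_apply, LinearEquiv.eq_symm_apply]
    have := gammaL_ext_desc (φ := φ) (P := 1)
      (a := SemidirectProduct.inl ((g : GL ι F) * P) * (SemidirectProduct.inl (GeneralLinearGroup.scalar ι d) *
        SemidirectProduct.inr γ.1.right))
      (b := SemidirectProduct.inl (g : GL ι F) * γ.1 * SemidirectProduct.inl P) (by simp) fun x => by
        have h6 : (fun i => γ.1.right (vmap φ x i)) = vmap φ x := funext fun i => (hφ _).2 ⟨_, rfl⟩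
        simp only [semiAct_mul, semiAct_scalar, semiAct_inr, Units.val_one, one_mulVec, h6]
        simp only [semiAct_inl, semiAct_fix hφ hd, mulVec_smul, Units.val_mul, mulVec_mulVec]
    have := congrArg (fun x => semiAct x v) this
    simp only [semiAct_mul] at this
    rw [Subgroup.coe_mul, Subgroup.coe_mul, Subgroup.coe_mul, Subgroup.coe_inv, coe_simIncl, coe_simIncl,
      glRho_apply, glRho_apply, ← semiAct_inl, ← semiAct_inl, semiAct_mul, this,
      semiAct_mul, semiAct_mul, map_mul SemidirectProduct.inl, semiAct_mul, semiAct_apply_inv]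
  rw [map_mul (FSetup.simPhi _) (simIncl _ _) ⟨_, hi⟩, 
    FSetup.simPhi_scalar _ (coe_simIncl ⟨_, scalar_mem_Sim d⟩), one_mul,
    map_mul (FSetup.simPhi _), map_mul (FSetup.simPhi _), map_inv (FSetup.simPhi _)] at h4
  rw [← h4]
  ext x
  rfl

theorem minus_field_class {m : ℕ} (hm : 2 ≤ m) {a b : F}
    (hab : ∀ z₁ z₂ : F, z₁ ^ 2 + a * z₁ * z₂ + b * z₂ ^ 2 = 0 → z₁ = 0 ∧ z₂ = 0)
    {γ : GammaS (minusForm m F a b)} (hγ : γ.1.right ≠ 1) {p : ℕ} (hp : p.Prime)
    (hord : orderOf ((fsM hm hab).simPhi γ) = p) :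
    Cfsg.IsFieldAutClassPOmegaMinus m ((fsM hm hab).simPhi γ) := by
  have H := fsM hm hab
  have h5 := five_minus hm
  have hk := card_minus m
  obtain ⟨e, f, hef⟩ := o_hyp H.nd h5
  have hn := minusForm_not_isPlus m hab
  have ho := H.orderOf_right hef (by omega) hp hord hγ
  have h1 : H.simPhi γ ^ p = 1 := hord ▸ pow_orderOf_eq_one _
  have hφ := fixF_spec γ.1.right
  have D := descP_orth hφ
  obtain ⟨S₀, P, hP⟩ := H.exists_desc' hef (by omega) D (ho ▸ h1)
  obtain ⟨b₀, hb₀⟩ := exists_aniso_pair (fixF γ.1.right)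
  obtain ⟨g₀, hg₀⟩ := o_class_even hk (minusForm_nondeg m hb₀) (hP.2.choose_spec.nondeg H.nd)
    (iff_of_false (minusForm_not_isPlus m hb₀) fun h => hn (hP.2.choose_spec.isPlus H.nd hk h))
  have hab' := aniso_map hφ (ho ▸ H.odd_of_minus hk hef h5 hn hp ho h1) hb₀
  have hi := minus_inr_mem m (D.fix 1) (D.fix b₀)
  obtain ⟨ψ, hψ⟩ := field_transport (minusForm_Q m a b) H.nd h5 (minusForm_Q m _ _) (minusForm_nondeg m hab')
    (by rw [hk]; simp) hφ (hP.comp D hg₀) (isExt_minus _ m 1 b₀) hi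
  exact ⟨_, _, ψ, _, hab', hγ, D.fix 1, D.fix b₀,
    (fieldPO_iff (minusForm_Q m _ _) (minusForm_nondeg m hab') h5 hi _).2 hψ⟩

end CfsgH8
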