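import Mathlib

/-! Weight spaces of families of endomorphisms; Heisenberg bound. -/

set_option autoImplicit false

namespace CfsgH8
open Module

variable {K V : Type*} [Field K] [AddCommGroup V] [Module K V] {α : Type*}

/-- simultaneous eigenspace -/
def wsp (f : α → End K V) (l : α → K) : Submodule K V := ⨅ a, End.eigenspace (f a) (l a)

theorem mem_wsp {f : α → End K V} {l : α → K} {v : V} : v ∈ wsp f l ↔ ∀ a, f a v = l a • v := by
  simp [wsp, Submodule.mem_iInf, End.mem_eigenspace_iff]

theorem wsp_sum_zero (f : α → End K V) (s : Finset (α → K)) : ∀ v : (α → K) → V, (∀ l ∈ s, v l ∈ wsp f l) →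
    ∑ l ∈ s, v l = 0 → ∀ l ∈ s, v l = 0 := by
  classical
  induction s using Finset.induction_on with
  | empty => simp
  | insert l0 s h0 ih =>
    intro v hv hs
    rw [Finset.sum_insert h0] at hs
    have key : ∀ l ∈ s, v l = 0 := fun l hl => by
      obtain ⟨a, ha⟩ : ∃ a, l a ≠ l0 a := Function.ne_iff.1 (fun e => h0 (e ▸ hl))
      have h1 := ih (fun l => (l a - l0 a) • v l)
        (fun l hl => Submodule.smul_mem _ _ (hv l (Finset.mem_insert_of_mem hl))) (by
          have h2 := congrArg (f a) hs
          rw [map_add, map_sum, map_zero, mem_wsp.1 (hv l0 (Finset.mem_insert_self _ _)),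
            Finset.sum_congr rfl fun l hl => mem_wsp.1 (hv l (Finset.mem_insert_of_mem hl)) a] at h2
          simp only [sub_smul, Finset.sum_sub_distrib, ← Finset.smul_sum]
          rw [eq_neg_of_add_eq_zero_right h2, eq_neg_of_add_eq_zero_right hs, smul_neg, sub_self]) l hl
      exact (smul_eq_zero.1 h1).resolve_left (sub_ne_zero.2 ha)
    intro l hl
    rcases Finset.mem_insert.1 hl with rfl | hl
    · rwa [Finset.sum_eq_zero key, add_zero] at hs
    · exact key l hl

theorem indep_wsp (f : α → End K V) : iSupIndep (wsp f) := by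
  classical
  exact (iSupIndep_iff_finset_sum_eq_zero_imp_eq_zero _).2 (wsp_sum_zero f)

theorem sum_wsp_le [FiniteDimensional K V] (f : α → End K V) (s : Finset (α → K)) :
    ∑ l ∈ s, finrank K (wsp f l) ≤ finrank K V := by
  classical
  have h : iSupIndep fun l : s => wsp f l := (indep_wsp f).comp Subtype.val_injective
  have e := LinearMap.finrank_le_finrank_of_injective h.dfinsupp_lsum_injective
  rw [← Finset.sum_coe_sort]
  refine le_of_eq_of_le ?_ e
  rw [(DFinsupp.linearEquivFunOnFintype).finrank_eq, Module.finrank_pi_fintype]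

theorem card_le_of_wsp [FiniteDimensional K V] {ι : Type*} [Fintype ι] (f : α → End K V) (l : ι → α → K)
    (hl : Function.Injective l) (h : ∀ i, wsp f (l i) ≠ ⊥) : Fintype.card ι ≤ finrank K V := by
  classical
  refine le_trans ?_ (sum_wsp_le f (Finset.univ.image l))
  rw [Finset.sum_image fun _ _ _ _ e => hl e, Fintype.card_eq_sum_ones]
  exact Finset.sum_le_sum fun i _ => Submodule.one_le_finrank_iff.2 (h i)

theorem exists_wsp [IsAlgClosed K] [FiniteDimensional K V] {E : Type*} [AddCommGroup E] (f : E → End K V)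
    (h0 : f 0 = 1) (hadd : ∀ a b, f (a + b) = f a * f b) {n : ℕ} (hn : (n : K) ≠ 0) (hE : ∀ a : E, n • a = 0)
    (hne : ∃ a, f a ≠ 1) : ∃ l : AddChar E K, l ≠ 1 ∧ wsp f l ≠ ⊥ := by
  have hp : ∀ (k : ℕ) a, f (k • a) = f a ^ k := fun k a => by
    induction k with
    | zero => simp [h0]
    | succ k ih => rw [succ_nsmul, hadd, ih, pow_succ]
  have hs : ∀ a, End.IsSemisimple (f a) := fun a =>
    End.isSemisimple_of_squarefree_aeval_eq_zero (Polynomial.X_pow_sub_one_separable_iff.mpr hn).squarefree (by
      rw [map_sub, map_pow, Polynomial.aeval_X, map_one, ← hp, hE, h0, sub_self])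
  have ht : ⨆ l, wsp f l = ⊤ := by
    rw [← End.iSup_iInf_maxGenEigenspace_eq_top_of_iSup_maxGenEigenspace_eq_top_of_commute f
      (fun i j _ => show f i * f j = f j * f i by rw [← hadd, ← hadd, add_comm])
      fun a => End.iSup_maxGenEigenspace_eq_top _]
    refine iSup_congr fun l => iInf_congr fun a => ?_
    rw [End.IsFinitelySemisimple.maxGenEigenspace_eq_eigenspace]
    exact (hs a).isFinitelySemisimple
  by_contra hc
  obtain ⟨a, ha⟩ := hne
  have h1 : (⊤ : Submodule K V) ≤ wsp f 1 := ht ▸ iSup_le fun l => by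
    by_cases hl : wsp f l = ⊥
    · rw [hl]; exact bot_le
    obtain ⟨v, hv, hv0⟩ := Submodule.exists_mem_ne_zero_of_ne_bot hl
    have hv' := mem_wsp.1 hv
    let χ : AddChar E K := ⟨l, smul_left_injective K hv0 (by simpa [h0] using (hv' 0).symm), fun a b =>
      smul_left_injective K hv0 (by
        simp only
        rw [← hv', hadd, End.mul_apply, hv', map_smul, hv', smul_smul, mul_comm])⟩
    by_cases h1 : χ = 1
    · exact le_of_eq (congrArg _ (congrArg DFunLike.coe h1))
    · exact absurd ⟨χ, h1, hl⟩ hc
  exact ha (LinearMap.ext fun v => by simpa using mem_wsp.1 (h1 Submodule.mem_top) a)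

theorem addChar_surj {E : Type*} [AddCommGroup E] [Finite E] (Θ : E → AddChar E K) (h : Function.Injective Θ) :
    Function.Surjective Θ := by
  have li : LinearIndependent K (fun χ : AddChar E K => (χ : E → K)) :=
    (linearIndependent_monoidHom (Multiplicative E) K).comp AddChar.toMonoidHom
      AddChar.toMonoidHomEquiv.injective
  haveI : Finite (AddChar E K) := li.finite
  haveI := Fintype.ofFinite E
  haveI := Fintype.ofFinite (AddChar E K)
  have h1 := li.fintype_card_le_finrank
  rw [Module.finrank_fintype_fun_eq_card] at h1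
  exact ((Fintype.bijective_iff_injective_and_card _).2 ⟨h, (Fintype.card_le_of_injective _ h).antisymm h1⟩).2

theorem finrank_wsp_le [FiniteDimensional K V] {f : α → End K V} {g : End K V} (hg : Function.Injective g)
    {φ : α → α} (h : ∀ a, f a * g = g * f (φ a)) (l : α → K) :
    finrank K (wsp f l) ≤ finrank K (wsp f (l ∘ φ)) := by
  refine LinearMap.finrank_le_finrank_of_injective (f := g.restrict (p := wsp f l) (q := wsp f (l ∘ φ))
    fun v hv => mem_wsp.2 fun a => ?_) fun a b e => Subtype.ext (hg (congrArg Subtype.val e))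
  rw [← End.mul_apply, h, End.mul_apply, mem_wsp.1 hv, map_smul]; rfl

theorem heis_bound [FiniteDimensional K V] {W : Submodule K V} (hW : W ≠ ⊥) {C : Type*} [Fintype C] (Y : C → End K V)
    (hY : ∀ c, Function.Injective (Y c)) (hm : ∀ c, ∀ v ∈ W, Y c v ∈ W) (β : C → C → K) (hβ : Function.Injective β)
    (h : ∀ c c', ∀ v ∈ W, Y c' (Y c v) = β c c' • Y c (Y c' v)) : Fintype.card C ≤ finrank K W ^ 2 := by
  let y : C → W ≃ₗ[K] W := fun c => LinearEquiv.ofInjectiveEndo ((Y c).restrict (hm c))
    fun a b e => Subtype.ext (hY c (congrArg Subtype.val e))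
  have hy : ∀ c v, (y c v : V) = Y c v := fun _ _ => rfl
  have := card_le_of_wsp (V := End K W) (fun c => ((y c).conj : End K W →ₗ[K] End K W)) β hβ fun c => by
    refine (Submodule.ne_bot_iff _).2 ⟨y c, mem_wsp.2 fun c' => LinearMap.ext fun v => ?_, fun e => hW ?_⟩
    · obtain ⟨v, rfl⟩ := (y c').surjective v
      apply Subtype.ext
      simp [hy, h c c' v v.2]
    · refine (Submodule.eq_bot_iff _).2 fun v hv => hY c ?_
      have := congrArg Subtype.val (LinearMap.congr_fun e ⟨v, hv⟩)
      simpa [hy] using this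
  rwa [Module.finrank_linearMap, ← sq] at this

end CfsgH8
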