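import Mathlib
import Cfsg.Agent.H5.FieldQ

/-! Orbits of nonzero hermitian (or symmetric) matrices under congruence are large. -/

set_option autoImplicit false

namespace CfsgH8
open Matrix

variable {F : Type*} [Field F] {ι : Type*} [Fintype ι] [DecidableEq ι]

theorem det_one_add_vmv (a b : ι → F) : (1 + vecMulVec a b).det = 1 + b ⬝ᵥ a := by
  rw [vecMulVec_eq Unit, det_one_add_replicateCol_mul_replicateRow]

theorem vmv_mulVec (a b x : ι → F) : vecMulVec a b *ᵥ x = (b ⬝ᵥ x) • a := by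
  ext i; simp [vecMulVec_mulVec, mul_comm]

theorem exists_dot_one {x z : ι → F} (h : ∀ c : F, x ≠ c • z) : ∃ b : ι → F, b ⬝ᵥ x = 1 ∧ b ⬝ᵥ z = 0 := by
  obtain ⟨f, h1, h2⟩ := Submodule.exists_le_ker_of_notMem (p := Submodule.span F {z}) (v := x) fun e => by
    obtain ⟨c, hc⟩ := Submodule.mem_span_singleton.1 e
    exact h c hc.symm
  have e : ∀ y, (fun i => f (Pi.single i 1)) ⬝ᵥ y = f y := fun y => by
    rw [LinearMap.pi_apply_eq_sum_univ f y]
    simp only [dotProduct, smul_eq_mul, mul_comm]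
    refine Finset.sum_congr rfl fun i _ => congrArg (fun v => y i * f v) ?_
    ext j; simp [Pi.single_apply, eq_comm]
  refine ⟨(f x)⁻¹ • fun i => f (Pi.single i 1), ?_, ?_⟩
  · rw [smul_dotProduct, e, smul_eq_mul, inv_mul_cancel₀ h1]
  · rw [smul_dotProduct, e, LinearMap.mem_ker.1 (h2 (Submodule.mem_span_singleton_self z)), smul_zero]

theorem exists_dot_one' {x : ι → F} (h : x ≠ 0) : ∃ b : ι → F, b ⬝ᵥ x = 1 :=
  (exists_dot_one (z := 0) fun c => by simpa using h).imp fun _ h => h.1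

theorem exists_dot_two {x y : ι → F} (hx : x ≠ 0) (h : ∀ c : F, y ≠ c • x) : ∃ b : ι → F, b ⬝ᵥ x = 1 ∧ b ⬝ᵥ y = 1 := by
  obtain ⟨b, h1, h2⟩ := exists_dot_one (x := x) (z := y - x) fun c e => by
    by_cases hc : c = 0
    · exact hx (by rw [e, hc, zero_smul])
    · refine h (1 + c⁻¹) ?_
      have : c⁻¹ • x = y - x := by conv_lhs => rw [e, smul_smul, inv_mul_cancel₀ hc, one_smul]
      rw [add_smul, this, one_smul, add_sub_cancel]
  rw [dotProduct_sub, h1, sub_eq_zero] at h2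
  exact ⟨b, h1, h2⟩

theorem mv_spec {x y b : ι → F} (h : b ⬝ᵥ x = 1) :
    (1 + vecMulVec (y - x) b) *ᵥ x = y ∧ (1 + vecMulVec (y - x) b).det = b ⬝ᵥ y := by
  rw [add_mulVec, one_mulVec, vmv_mulVec, h, one_smul, det_one_add_vmv, dotProduct_sub, h]
  simp

theorem trans_SL (h : 1 < Fintype.card ι) {x y : ι → F} (hx : x ≠ 0) (hy : y ≠ 0) :
    ∃ D : Matrix ι ι F, D.det = 1 ∧ D *ᵥ x = y := by
  have k : ∀ {x y : ι → F}, x ≠ 0 → (∀ c : F, y ≠ c • x) → ∃ D : Matrix ι ι F, D.det = 1 ∧ D *ᵥ x = y :=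
    fun hx h => by
      obtain ⟨b, h1, h2⟩ := exists_dot_two hx h
      exact ⟨_, (mv_spec h1).2.trans h2, (mv_spec h1).1⟩
  by_cases h1 : ∀ c : F, y ≠ c • x
  · exact k hx h1
  obtain ⟨c, rfl⟩ : ∃ c : F, y = c • x := by simpa using h1
  obtain ⟨z, hz⟩ : ∃ z : ι → F, ∀ c : F, z ≠ c • x := by
    by_contra hc
    have h2 : Submodule.span F {x} = ⊤ := eq_top_iff.2 fun z _ => by
      obtain ⟨c, hc⟩ : ∃ c : F, z = c • x := by simpa using not_exists.1 hc z
      exact Submodule.mem_span_singleton.2 ⟨c, hc.symm⟩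
    have h3 := finrank_span_singleton (K := F) hx
    rw [h2, finrank_top, Module.finrank_fintype_fun_eq_card] at h3
    omega
  obtain ⟨D, d1, d2⟩ := k hx hz
  have hz0 : z ≠ 0 := fun e => hz 0 (by rw [e, zero_smul])
  obtain ⟨D', d3, d4⟩ := k (y := c • x) hz0 fun d e => by
    have hd : d ≠ 0 := fun e' => hy (by rw [e, e', zero_smul])
    exact hz (d⁻¹ * c) (by rw [mul_smul, e, smul_smul, inv_mul_cancel₀ hd, one_smul])
  exact ⟨D' * D, by rw [det_mul, d1, d3, one_mul], by rw [← mulVec_mulVec, d2, d4]⟩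

theorem trans_GL {x y : ι → F} (hx : x ≠ 0) (hy : y ≠ 0) : ∃ D : Matrix ι ι F, D.det ≠ 0 ∧ D *ᵥ x = y := by
  by_cases h1 : ∀ c : F, y ≠ c • x
  · obtain ⟨b, h1, h2⟩ := exists_dot_two hx h1
    exact ⟨_, by rw [(mv_spec h1).2, h2]; exact one_ne_zero, (mv_spec h1).1⟩
  obtain ⟨c, rfl⟩ : ∃ c : F, y = c • x := by simpa using h1
  obtain ⟨b, h1⟩ := exists_dot_one' hx
  refine ⟨_, ?_, (mv_spec h1).1⟩
  rw [(mv_spec h1).2, dotProduct_smul, h1, smul_eq_mul, mul_one]
  exact fun e => hy (by rw [e, zero_smul])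

variable [StarRing F]

/-- the sesquilinear form of a matrix -/
def sf (T : Matrix ι ι F) (x y : ι → F) : F := star x ⬝ᵥ T *ᵥ y

omit [DecidableEq ι] in
theorem sf_star {T : Matrix ι ι F} (h : Tᴴ = T) (x y : ι → F) : star (sf T x y) = sf T y x := by
  rw [sf, sf, star_dotProduct, star_star, star_mulVec, h, dotProduct_mulVec]

omit [DecidableEq ι] in
theorem sf_lin (T : Matrix ι ι F) (a b c d : F) (x y z w : ι → F) : sf T (a • x + b • y) (c • z + d • w) =
    star a * c * sf T x z + star a * d * sf T x w + star b * c * sf T y z + star b * d * sf T y w := by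
  simp only [sf, star_add, star_smul, mulVec_add, mulVec_smul, add_dotProduct, dotProduct_add, smul_dotProduct,
    dotProduct_smul, smul_eq_mul]
  ring

theorem exists_aniso (hτ : ∃ a : F, a + star a ≠ 0) {T : Matrix ι ι F} (h : Tᴴ = T) (h0 : T ≠ 0) :
    ∃ v, sf T v v ≠ 0 := by
  by_contra hc
  simp only [not_exists, not_not] at hc
  obtain ⟨a, ha⟩ := hτ
  refine h0 (Matrix.ext fun i j => by_contra fun hij => ha ?_)
  have e : sf T (Pi.single i 1) (Pi.single j 1) = T i j := by simp [sf]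
  have h1 := hc ((1 : F) • Pi.single i 1 + (a * (T i j)⁻¹) • Pi.single j 1)
  rw [sf_lin, hc, hc, ← sf_star h (Pi.single i 1), e, star_one] at h1
  simp only [mul_one, one_mul, mul_zero, zero_add, add_zero] at h1
  rwa [← star_mul', inv_mul_cancel_right₀ hij] at h1

omit [DecidableEq ι] in
theorem sf_sub_vmv (T : Matrix ι ι F) (c : F) (u x y : ι → F) :
    sf (T - c • vecMulVec u (star u)) x y = sf T x y - c * ((star x ⬝ᵥ u) * (star u ⬝ᵥ y)) := by
  classical
  simp only [sf, sub_mulVec, smul_mulVec, vmv_mulVec, dotProduct_sub, dotProduct_smul, smul_eq_mul]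
  ring

theorem rank_cases (hτ : ∃ a : F, a + star a ≠ 0) {S : Matrix ι ι F} (h : Sᴴ = S) (h0 : S ≠ 0) :
    (∃ s : F, s ≠ 0 ∧ ∃ u : ι → F, u ≠ 0 ∧ S = s • vecMulVec u (star u)) ∨
      ∃ x w, sf S x x ≠ 0 ∧ sf S w w ≠ 0 ∧ sf S x w = 0 := by
  obtain ⟨x, hx⟩ := exists_aniso hτ h h0
  have hs := sf_star h x x
  by_cases h1 : S - (sf S x x)⁻¹ • vecMulVec (S *ᵥ x) (star (S *ᵥ x)) = 0
  · exact .inl ⟨_, inv_ne_zero hx, _, fun e => hx (by rw [sf, e, dotProduct_zero]), sub_eq_zero.1 h1⟩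
  obtain ⟨w, hw⟩ := exists_aniso hτ (by
    rw [conjTranspose_sub, conjTranspose_smul, h, conjTranspose_vecMulVec, star_star, star_inv₀, hs]) h1
  have e : star (S *ᵥ x) ⬝ᵥ w = sf S x w := by rw [star_mulVec, h, sf, dotProduct_mulVec]
  rw [sf_sub_vmv, e] at hw
  refine .inr ⟨x, (1 : F) • w + (-((sf S x x)⁻¹ * sf S x w)) • x, hx, fun e' => hw ?_, ?_⟩
  · rw [sf_lin, star_neg, star_mul', star_inv₀, hs, sf_star h, star_one] at e'
    change _ - _ * (sf S w x * _) = _
    rw [← e']; field_simp; ring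
  · have := sf_lin S 1 0 1 (-((sf S x x)⁻¹ * sf S x w)) x x w x
    rw [one_smul, zero_smul, add_zero] at this
    rw [this]; simp only [star_one, star_zero]; field_simp; ring

/-- a set of hermitian matrices closed under congruence by a large group -/
structure Cls (P : F → Prop) (Ω : Finset (Matrix ι ι F)) : Prop where
  herm : ∀ T ∈ Ω, Tᴴ = T
  cl : ∀ T ∈ Ω, ∀ D : Matrix ι ι F, P D.det → D * T * Dᴴ ∈ Ω
  sa : ∀ d, d ≠ 0 → star d = d → P d
  ne : ∀ d, P d → d ≠ 0
  st : ∀ d, P d → P (star d)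
  tr : (∀ d, d ≠ 0 → P d) ∨ 1 < Fintype.card ι

namespace Cls
variable {P : F → Prop} {Ω : Finset (Matrix ι ι F)} (h : Cls P Ω)
include h

theorem trans {x y : ι → F} (hx : x ≠ 0) (hy : y ≠ 0) : ∃ D : Matrix ι ι F, P D.det ∧ D *ᵥ x = y := by
  rcases h.tr with h1 | h1
  · exact (trans_GL hx hy).imp fun _ h2 => ⟨h1 _ h2.1, h2.2⟩
  · obtain ⟨D, h2, h3⟩ := trans_SL h1 hx hy
    exact ⟨D, h2 ▸ h.sa 1 one_ne_zero (star_one _), h3⟩

theorem rank_one [Fintype F] {ν : ℕ} (hν : Nat.card {c : F // c * star c = 1} ≤ ν) {s : F} (hs : s ≠ 0) {u : ι → F}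
    (hu : u ≠ 0) (hm : s • vecMulVec u (star u) ∈ Ω) : Fintype.card F ^ Fintype.card ι - 1 ≤ ν * Ω.card := by
  classical
  have := Finset.card_le_mul_card_image_of_maps_to (s := Finset.univ.erase (0 : ι → F)) (t := Ω)
    (f := fun v => s • vecMulVec v (star v)) (fun v hv => by
      obtain ⟨D, h1, rfl⟩ := h.trans hu (Finset.ne_of_mem_erase hv)
      have := h.cl _ hm D h1
      rwa [Matrix.mul_smul, Matrix.smul_mul, mul_vecMulVec, vecMulVec_mul, ← star_mulVec] at this) ν fun T hT => by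
    by_cases he : ((Finset.univ.erase (0 : ι → F)).filter fun v => s • vecMulVec v (star v) = T) = ∅
    · rw [he]; simp
    obtain ⟨v, hv⟩ := Finset.nonempty_iff_ne_empty.2 he
    obtain ⟨hv0, rfl⟩ := Finset.mem_filter.1 hv
    obtain ⟨i, hi⟩ := Function.ne_iff.1 (Finset.ne_of_mem_erase hv0)
    refine le_trans ?_ hν
    rw [Nat.card_eq_fintype_card, Fintype.card_subtype]
    refine le_trans (Finset.card_le_card fun w hw => ?_) (Finset.card_image_le (f := fun c : F => c • v))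
    have e := smul_right_injective _ hs (Finset.mem_filter.1 hw).2
    have e1 : ∀ j, w j * star (w i) = v j * star (v i) := fun j => congrFun (congrFun e j) i
    have hi' : star (v i) ≠ 0 := star_ne_zero.2 hi
    have hw' : w i ≠ 0 := fun e => mul_ne_zero hi hi' (by rw [← e1, e, zero_mul])
    have hw'' : star (w i) ≠ 0 := star_ne_zero.2 hw'
    refine Finset.mem_image.2 ⟨w i / v i, Finset.mem_filter.2 ⟨Finset.mem_univ _, ?_⟩, funext fun j => ?_⟩
    · rw [star_div₀, div_mul_div_comm, e1, div_self (mul_ne_zero hi hi')]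
    · have h1 := e1 j
      have h2 := e1 i
      simp only [Pi.smul_apply, smul_eq_mul]
      apply mul_right_cancel₀ hw''
      rw [h1, div_mul_eq_mul_div, div_mul_eq_mul_div, div_eq_iff hi, mul_right_comm, h2]; ring
  rwa [Finset.card_erase_of_mem (Finset.mem_univ _), Finset.card_univ, Fintype.card_fun] at this

theorem move {T : Matrix ι ι F} (hT : T ∈ Ω) (i : ι) {y b : ι → F} (h1 : y i = T i i) (h2 : b ⬝ᵥ T.col i = 1)
    (h3 : b ⬝ᵥ y ≠ 0) (h4 : star (b ⬝ᵥ y) = b ⬝ᵥ y) : ∃ T' ∈ Ω, T'.col i = y := by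
  have e := mv_spec (y := y) h2
  refine ⟨_, h.cl _ hT (1 + vecMulVec (y - T.col i) b) (e.2 ▸ h.sa _ h3 h4), ?_⟩
  have e1 : (1 + vecMulVec (y - T.col i) b)ᴴ *ᵥ Pi.single i 1 = Pi.single i 1 := by
    rw [conjTranspose_add, conjTranspose_one, conjTranspose_vecMulVec, add_mulVec, one_mulVec, vmv_mulVec]
    simp [h1]
  rw [← mulVec_single_one, ← mulVec_mulVec, e1, ← mulVec_mulVec, mulVec_single_one, e.1]

theorem exists_col {S : Matrix ι ι F} (hS : S ∈ Ω) (i : ι) {x : ι → F} (hx : S *ᵥ x ≠ 0) :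
    ∃ T ∈ Ω, T i i = sf S x x ∧ T.col i ≠ 0 := by
  obtain ⟨D, h1, h2⟩ := h.trans (x := Pi.single i 1) (y := x) (by simp) fun e => hx (by rw [e, mulVec_zero])
  have h3 : P Dᴴ.det := by rw [det_conjTranspose]; exact h.st _ h1
  have e : (Dᴴ * S * Dᴴᴴ).col i = Dᴴ *ᵥ (S *ᵥ x) := by
    rw [← mulVec_single_one, conjTranspose_conjTranspose, ← mulVec_mulVec, h2, ← mulVec_mulVec]
  refine ⟨_, h.cl _ hS Dᴴ h3, ?_, fun e' => hx ?_⟩
  · refine (congrFun e i).trans ?_
    rw [sf, ← h2, star_mulVec, ← dotProduct_mulVec]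
    simp
  · rw [e] at e'
    exact eq_zero_of_mulVec_eq_zero (h.ne _ h3) e'

theorem col_aniso {S : Matrix ι ι F} (hS : S ∈ Ω) (i : ι) {x y : ι → F} (hx : sf S x x ≠ 0) (hy : y i = sf S x x) :
    ∃ T ∈ Ω, T.col i = y := by
  obtain ⟨T, h1, h2, -⟩ := h.exists_col hS i (x := x) fun e => hx (by rw [sf, e, dotProduct_zero])
  have e : ((sf S x x)⁻¹ • Pi.single i (1 : F) : ι → F) ⬝ᵥ y = 1 := by simp [hy, hx]
  exact h.move h1 i (b := (sf S x x)⁻¹ • Pi.single i 1) (hy.trans h2.symm) (by simp [h2, hx])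
    (by rw [e]; exact one_ne_zero) (by rw [e, star_one])

theorem col_iso {T : Matrix ι ι F} (hT : T ∈ Ω) (i : ι) (h1 : T i i = 0) (h2 : T.col i ≠ 0) {y : ι → F} (hy : y ≠ 0)
    (hi : y i = 0) : ∃ c : F, c ≠ 0 ∧ ∀ a : F, a ≠ 0 → star a = a → ∃ T' ∈ Ω, T'.col i = (a * c) • y := by
  by_cases h3 : ∀ c : F, y ≠ c • T.col i
  · refine ⟨1, one_ne_zero, fun a ha _ => ?_⟩
    obtain ⟨b, h4, h5⟩ := exists_dot_two h2 (y := (a * 1) • y) fun c e => h3 (a⁻¹ * c) (by
      rw [mul_smul, ← e, smul_smul, mul_one, inv_mul_cancel₀ ha, one_smul])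
    exact h.move hT i (by simp [hi, h1]) h4 (by rw [h5]; exact one_ne_zero) (by rw [h5, star_one])
  obtain ⟨c, rfl⟩ : ∃ c : F, y = c • T.col i := by simpa using h3
  have hc : c ≠ 0 := fun e => hy (by rw [e, zero_smul])
  refine ⟨c⁻¹, inv_ne_zero hc, fun a ha ha' => ?_⟩
  obtain ⟨b, h4⟩ := exists_dot_one' h2
  have e : b ⬝ᵥ (a * c⁻¹) • c • T.col i = a := by
    rw [smul_smul, dotProduct_smul, h4, inv_mul_cancel_right₀ hc, smul_eq_mul, mul_one]
  exact h.move hT i (by simp [h1]) h4 (by rwa [e]) (by rwa [e])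

theorem orb_sym [Fintype F] (ht : ∀ a : F, star a = a) (h2 : (2 : F) ≠ 0) {S : Matrix ι ι F} (hS : S ∈ Ω) (h0 : S ≠ 0) :
    Fintype.card F ^ Fintype.card ι - 1 ≤ 2 * Ω.card := by
  classical
  rcases rank_cases ⟨1, by rw [star_one, one_add_one_eq_two]; exact h2⟩ (h.herm S hS) h0 with
    ⟨s, hs, u, hu, rfl⟩ | ⟨x, w, hx, hw, hxw⟩
  · refine h.rank_one ?_ hs hu hS
    simp only [ht, ← sq]
    rw [CfsgH5.card_pow_eq_one_field two_ne_zero]
    exact Nat.gcd_le_left _ two_pos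
  obtain ⟨i⟩ : Nonempty ι := by
    by_contra hc
    rw [not_nonempty_iff] at hc
    exact h0 (Subsingleton.elim _ _)
  have h1 : (Finset.univ.filter fun y : ι → F => y i ≠ 0) ⊆ Ω.image fun T => T.col i := fun y hy => by
    obtain ⟨a, b, e⟩ := CfsgH5.exists_sq_add_sq h2 hx hw (y i)
    have e1 : sf S (a • x + b • w) (a • x + b • w) = y i := by
      rw [sf_lin, ← sf_star (h.herm S hS) x w, hxw, ht, ht, ht, ← e]; ring
    obtain ⟨T, h3, h4⟩ := h.col_aniso hS i (x := a • x + b • w) (y := y) (e1 ▸ (Finset.mem_filter.1 hy).2) e1.symm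
    exact Finset.mem_image.2 ⟨T, h3, h4⟩
  have h3 := (Finset.card_le_card h1).trans Finset.card_image_le
  have h4 := Finset.card_filter_add_card_filter_not (s := Finset.univ) fun y : ι → F => y i ≠ 0
  have h5 : (Finset.univ.filter fun y : ι → F => ¬ y i ≠ 0).card ≤ (Finset.univ.filter fun y : ι → F => y i ≠ 0).card :=
    Finset.card_le_card_of_injOn (fun y => y + Pi.single i 1) (fun y hy => by
      simp only [Finset.coe_filter, Finset.mem_univ, true_and, Set.mem_ofPred_eq, not_not] at hy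
      simp [hy]) fun _ _ _ _ e => add_right_cancel e
  rw [Finset.card_univ, Fintype.card_fun] at h4
  omega

theorem orb_herm [Fintype F] {q : ℕ} (hF : Fintype.card F = q ^ 2) (ht : ∀ a : F, star a = CfsgH5.frobQ hF a)
    (hτ : ∃ a : F, a + star a ≠ 0) {S : Matrix ι ι F} (hS : S ∈ Ω) (h0 : S ≠ 0) :
    Fintype.card F ^ Fintype.card ι - 1 ≤ (q + 1) * Ω.card := by
  classical
  rcases rank_cases hτ (h.herm S hS) h0 with ⟨s, hs, u, hu, rfl⟩ | ⟨x, w, hx, hw, hxw⟩
  · refine h.rank_one ?_ hs hu hS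
    simp only [ht]
    exact (CfsgH5.card_norm_fiber hF one_ne_zero (map_one _)).le
  obtain ⟨i⟩ : Nonempty ι := by
    by_contra hc
    rw [not_nonempty_iff] at hc
    exact h0 (Subsingleton.elim _ _)
  have hs := sf_star (h.herm S hS)
  have nm : ∀ a : F, star a = a → ∃ c : F, star c * c = a := fun a ha =>
    (CfsgH5.exists_norm hF (ht a ▸ ha)).imp fun c hc => by rw [ht, mul_comm, hc]
  have key : ∀ y : ι → F, y ≠ 0 → ∃ c : F, c ≠ 0 ∧ ∀ a : F, a ≠ 0 → star a = a → ∃ T' ∈ Ω, T'.col i = (a * c) • y := by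
    intro y hy
    by_cases hi : y i = 0
    · obtain ⟨b, hb⟩ := nm (-(sf S x x / sf S w w)) (by rw [star_neg, star_div₀, hs, hs])
      obtain ⟨T, h1, h2, h3⟩ := h.exists_col hS i (x := (1 : F) • x + b • w) fun e => hx (by
        have := sf_lin S 1 0 1 b x x x w
        rw [sf, e, dotProduct_zero, hxw] at this
        simpa using this.symm)
      refine h.col_iso h1 i (h2.trans ?_) h3 hy hi
      rw [sf_lin, ← hs x w, hxw, hb]; simp [hw]
    · refine ⟨(y i)⁻¹, inv_ne_zero hi, fun a ha ha' => ?_⟩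
      obtain ⟨b, hb⟩ := nm (a / sf S x x) (by rw [star_div₀, hs, ha'])
      have e : sf S (b • x + (0 : F) • x) (b • x + (0 : F) • x) = a := by rw [sf_lin, hb]; simp [hx]
      exact h.col_aniso hS i (e ▸ ha) (by rw [e]; simp [hi])
  choose! c hc0 hc using key
  have h1 := Finset.card_le_card_of_injOn
    (s := Finset.univ.erase (0 : ι → F) ×ˢ Finset.univ.filter fun a : F => a ≠ 0 ∧ CfsgH5.frobQ hF a = a)
    (t := (Ω.image fun T => T.col i) ×ˢ Finset.univ.erase (0 : F))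
    (fun p => ((p.2 * c p.1) • p.1, p.2 * c p.1)) (fun p hp => by
      simp only [Finset.coe_product, Set.mem_prod, Finset.mem_coe, Finset.mem_erase, Finset.mem_univ, and_true,
        Finset.mem_filter, true_and, Finset.mem_image] at hp ⊢
      exact ⟨hc _ hp.1 _ hp.2.1 (ht _ ▸ hp.2.2), mul_ne_zero hp.2.1 (hc0 _ hp.1)⟩) fun p hp p' _ e => by
      simp only [Finset.coe_product, Set.mem_prod, Finset.mem_coe, Finset.mem_erase, Finset.mem_univ, and_true,
        Finset.mem_filter, true_and] at hp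
      obtain ⟨e1, e2⟩ := Prod.ext_iff.1 e
      simp only at e1 e2
      rw [← e2] at e1
      have e3 := smul_right_injective _ (mul_ne_zero hp.2.1 (hc0 _ hp.1)) e1
      rw [← e3] at e2
      exact Prod.ext e3 (mul_right_cancel₀ (hc0 _ hp.1) e2)
  have h2 := CfsgH5.card_fixed_ne hF
  rw [Nat.card_eq_fintype_card, Fintype.card_subtype] at h2
  rw [Finset.card_product, Finset.card_product, h2, Finset.card_erase_of_mem (Finset.mem_univ _),
    Finset.card_erase_of_mem (Finset.mem_univ _), Finset.card_univ, Finset.card_univ, Fintype.card_fun,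
    ← CfsgH5.card_sub_one_sq hF] at h1
  have h3 := CfsgH5.two_le_of_card_sq hF
  refine Nat.le_of_mul_le_mul_right (h1.trans ?_) (show 0 < q - 1 by omega)
  rw [← mul_assoc, mul_comm _ (q + 1)]
  gcongr
  exact Finset.card_image_le

end Cls

end CfsgH8
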