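import Cfsg.Agent.H8.LS1
import Cfsg.Agent.H8.LS2

/-! Weights of the group of hermitian matrices in a representation. -/

set_option autoImplicit false

namespace CfsgH8
open Matrix Module

variable {F : Type*} [Field F] [StarRing F] {ι : Type*} [Fintype ι] [DecidableEq ι]

/-- hermitian matrices -/
abbrev HM (ι F : Type*) [Field F] [StarRing F] := selfAdjoint (Matrix ι ι F)

omit [Fintype ι] [DecidableEq ι] in
theorem HM.h (X : HM ι F) : X.1ᴴ = X.1 := X.2

/-- trace pairing -/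
def trS (T X : HM ι F) : selfAdjoint F := ⟨trace (T.1 * X.1), by
  rw [selfAdjoint.mem_iff, ← trace_conjTranspose, conjTranspose_mul, HM.h T, HM.h X, trace_mul_comm]⟩

/-- congruence -/
def cgr (D : Matrix ι ι F) (X : HM ι F) : HM ι F := ⟨D * X.1 * Dᴴ, by
  rw [selfAdjoint.mem_iff, star_eq_conjTranspose, conjTranspose_mul, conjTranspose_mul, HM.h X,
    conjTranspose_conjTranspose, Matrix.mul_assoc]⟩

/-- rank one matrices -/
def rk1 (a : selfAdjoint F) (v : ι → F) : HM ι F := ⟨a.1 • vecMulVec v (star v), by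
  rw [selfAdjoint.mem_iff, star_eq_conjTranspose, conjTranspose_smul, conjTranspose_vecMulVec, star_star, a.2.star_eq]⟩

omit [DecidableEq ι] in
theorem trS_cgr (D : Matrix ι ι F) (T X : HM ι F) : trS T (cgr Dᴴ X) = trS (cgr D T) X := Subtype.ext (by
  simp only [trS, cgr, conjTranspose_conjTranspose]
  rw [← Matrix.mul_assoc, trace_mul_comm]; simp only [Matrix.mul_assoc])

omit [DecidableEq ι] in
theorem trace_vmv (T : Matrix ι ι F) (v w : ι → F) : trace (T * vecMulVec v (star w)) = sf T w v := by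
  rw [mul_vecMulVec, trace_vecMulVec, dotProduct_comm, sf]

variable {K V : Type*} [Field K] [AddCommGroup V] [Module K V]

/-- the character attached to a hermitian matrix -/
def chS (ψ : AddChar (selfAdjoint F) K) (T : HM ι F) : AddChar (HM ι F) K where
  toFun X := ψ (trS T X)
  map_zero_eq_one' := by rw [← ψ.map_zero_eq_one]; congr 1; exact Subtype.ext (by simp [trS])
  map_add_eq_mul' X Y := by rw [← ψ.map_add_eq_mul]; congr 1; exact Subtype.ext (by simp [trS, Matrix.mul_add])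

theorem chS_inj (hτ : ∃ a : F, a + star a ≠ 0) {ψ : AddChar (selfAdjoint F) K} (h : ψ 1 ≠ 1) :
    Function.Injective (chS (ι := ι) ψ) := fun S T e => by
  by_contra hc
  obtain ⟨v, hv⟩ := exists_aniso hτ (HM.h (S - T)) fun e => hc (sub_eq_zero.1 (Subtype.ext e))
  let X := rk1 ⟨(sf (S - T).1 v v)⁻¹, by rw [selfAdjoint.mem_iff, star_inv₀, sf_star (HM.h (S - T))]⟩ v
  have e1 : trS S X = 1 + trS T X := Subtype.ext (by
    have : trace ((S - T).1 * X.1) = 1 := by
      simp only [X, rk1, Matrix.mul_smul, trace_smul, trace_vmv, smul_eq_mul, inv_mul_cancel₀ hv]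
    rw [AddSubgroup.coe_add, selfAdjoint.val_one, ← this]
    simp [trS, Matrix.sub_mul])
  have e2 : ψ (trS S X) = ψ (trS T X) := DFunLike.congr_fun e X
  rw [e1, ψ.map_add_eq_mul] at e2
  exact h (mul_right_cancel₀ (ψ.val_isUnit _).ne_zero (e2.trans (one_mul _).symm))

theorem siegel [Fintype F] [IsAlgClosed K] [FiniteDimensional K V] (hK : (Fintype.card F : K) ≠ 0)
    (hτ : ∃ a : F, a + star a ≠ 0) {P : F → Prop} (sa : ∀ d, d ≠ 0 → star d = d → P d) (ne : ∀ d, P d → d ≠ 0)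
    (st : ∀ d, P d → P (star d)) (tr : (∀ d, d ≠ 0 → P d) ∨ 1 < Fintype.card ι) (f : HM ι F → End K V) (h0 : f 0 = 1)
    (hadd : ∀ a b, f (a + b) = f a * f b)
    (hm : ∀ D : Matrix ι ι F, P D.det → ∃ g : End K V, Function.Injective g ∧ ∀ X, f X * g = g * f (cgr Dᴴ X))
    (hne : ∃ a, f a ≠ 1) {μ : ℕ} (hμ : ∀ (ψ : AddChar (selfAdjoint F) K) (T : HM ι F), ψ 1 ≠ 1 → T ≠ 0 →
      wsp f (chS ψ T) ≠ ⊥ → μ ≤ finrank K (wsp f (chS ψ T))) :
    ∃ Ω : Finset (Matrix ι ι F), Cls P Ω ∧ (∃ S ∈ Ω, S ≠ 0) ∧ μ * Ω.card + finrank K (wsp f 1) ≤ finrank K V := by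
  classical
  obtain ⟨l, hl, hw⟩ := exists_wsp f h0 hadd hK (fun a => Subtype.ext (by
    rw [AddSubgroup.coe_nsmul, ← Nat.cast_smul_eq_nsmul F, FiniteField.cast_card_eq_zero, zero_smul]; rfl)) hne
  obtain ⟨X0, hX⟩ := AddChar.ne_one_iff.1 hl
  let ψ : AddChar (selfAdjoint F) K :=
    { toFun t := l ⟨t.1 • X0.1, by
        rw [selfAdjoint.mem_iff, star_eq_conjTranspose, conjTranspose_smul, HM.h X0, t.2.star_eq]⟩
      map_zero_eq_one' := by rw [← l.map_zero_eq_one]; congr 1; exact Subtype.ext (by simp)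
      map_add_eq_mul' s t := by rw [← l.map_add_eq_mul]; congr 1; exact Subtype.ext (by simp [add_smul]) }
  have h1 : ψ 1 ≠ 1 := fun e => hX (e ▸ congrArg l (Subtype.ext (by simp)))
  have hi := chS_inj (ι := ι) hτ h1
  have h2 : chS ψ (0 : HM ι F) = 1 := AddChar.ext _ _ fun X => by
    rw [AddChar.one_apply, ← ψ.map_zero_eq_one]; exact congrArg ψ (Subtype.ext (by simp [trS]))
  obtain ⟨S, eS⟩ := addChar_surj _ hi l
  rw [← eS] at hl hw
  haveI : Fintype (HM ι F) := Fintype.ofFinite _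
  let Ω : Finset (HM ι F) := Finset.univ.filter fun T => T ≠ 0 ∧ wsp f (chS ψ T) ≠ ⊥
  have hS : S ≠ 0 := fun e => hl (e ▸ h2)
  refine ⟨Ω.image Subtype.val, ⟨fun T hT => ?_, fun T hT D hD => ?_, sa, ne, st, tr⟩,
    ⟨S.1, Finset.mem_image_of_mem _ (Finset.mem_filter.2 ⟨Finset.mem_univ _, hS, hw⟩), fun e => hS (Subtype.ext e)⟩, ?_⟩
  · obtain ⟨T, -, rfl⟩ := Finset.mem_image.1 hT
    exact HM.h T
  · obtain ⟨T, hT', rfl⟩ := Finset.mem_image.1 hT
    obtain ⟨-, h3, h4⟩ := Finset.mem_filter.1 hT'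
    refine Finset.mem_image.2 ⟨cgr D T, Finset.mem_filter.2 ⟨Finset.mem_univ _, fun e => h3 (Subtype.ext ?_), ?_⟩, rfl⟩
    · have e1 : D * T.1 * Dᴴ = 0 := congrArg Subtype.val e
      have u1 : IsUnit D := (isUnit_iff_isUnit_det _).2 (ne _ hD).isUnit
      have u2 : IsUnit Dᴴ := (isUnit_iff_isUnit_det _).2 (by rw [det_conjTranspose]; exact (ne _ (st _ hD)).isUnit)
      rwa [u2.mul_left_eq_zero, u1.mul_right_eq_zero] at e1
    · obtain ⟨g, hg, h5⟩ := hm D hD
      have h6 := finrank_wsp_le hg h5 (chS ψ T)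
      have e : (chS ψ T : HM ι F → K) ∘ cgr Dᴴ = chS ψ (cgr D T) := funext fun X => congrArg ψ (trS_cgr D T X)
      rw [e] at h6
      exact Submodule.one_le_finrank_iff.1 ((Submodule.one_le_finrank_iff.2 h4).trans h6)
  · have hi' : Function.Injective fun T : HM ι F => (chS ψ T : HM ι F → K) := DFunLike.coe_injective.comp hi
    have := sum_wsp_le f ((insert 0 Ω).image fun T => (chS ψ T : HM ι F → K))
    rw [Finset.sum_image fun _ _ _ _ e => hi' e, Finset.sum_insert (by simp [Ω]), h2] at this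
    rw [Finset.card_image_of_injective _ Subtype.val_injective, add_comm]
    refine le_trans (Nat.add_le_add_left ?_ _) this
    rw [mul_comm, ← smul_eq_mul]
    exact Finset.card_nsmul_le_sum _ _ _ fun T hT =>
      hμ ψ T h1 (Finset.mem_filter.1 hT).2.1 (Finset.mem_filter.1 hT).2.2

end CfsgH8
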