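import Cfsg.Agent.H8.LS3
import Cfsg.Agent.H5.SpMat
import Cfsg.Agent.H5.UnitMat
import Cfsg.Agent.H8.Herm

/-! Lower bounds for the degrees of representations of symplectic and unitary groups. -/

set_option autoImplicit false

namespace CfsgH8
open Matrix Module
open scoped commutatorElement

theorem qs_normal {G : Type*} [Group G] (hp : commutator G = ⊤) (hs : IsSimpleGroup (G ⧸ Subgroup.center G))
    (N : Subgroup G) [hN : N.Normal] : N ≤ Subgroup.center G ∨ N = ⊤ := by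
  rcases hs.eq_bot_or_eq_top_of_normal _ (hN.map _ (QuotientGroup.mk'_surjective (Subgroup.center G))) with h | h
  · exact .inl ((Subgroup.map_eq_bot_iff _).1 h |>.trans (QuotientGroup.ker_mk' _).le)
  · refine .inr (eq_top_iff.2 (hp ▸ Subgroup.commutator_le.2 fun a _ b _ => ?_))
    obtain ⟨n, hn, e⟩ : QuotientGroup.mk' _ a ∈ N.map (QuotientGroup.mk' (Subgroup.center G)) := h ▸ trivial
    obtain ⟨z, hz, rfl⟩ := (QuotientGroup.mk'_eq_mk' _).1 e
    have : ⁅n * z, b⁆ = n * (b * n⁻¹ * b⁻¹) := by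
      rw [commutatorElement_def, mul_assoc n z, ← Subgroup.mem_center_iff.1 hz b]; group
    rw [this]
    exact N.mul_mem hn (hN.conj_mem _ (N.inv_mem hn) _)

theorem ker_le_center {G K V : Type*} [Group G] [Field K] [AddCommGroup V] [Module K V] (hp : commutator G = ⊤)
    (hs : IsSimpleGroup (G ⧸ Subgroup.center G)) (ρ : Representation K G V) (h : ρ.IsIrreducible)
    (hk : 2 ≤ finrank K V) : MonoidHom.ker ρ ≤ Subgroup.center G := by
  refine (qs_normal hp hs _).resolve_right fun e => ?_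
  haveI := Module.nontrivial_of_finrank_pos (R := K) (M := V) (by omega)
  obtain ⟨v, hv⟩ := exists_ne (0 : V)
  let W : Subrepresentation ρ := ⟨Submodule.span K {v}, fun g w hw => by
    rwa [show ρ g = 1 from MonoidHom.mem_ker.1 (e ▸ trivial)]⟩
  have h1 := finrank_span_singleton (K := K) hv
  rcases h.eq_bot_or_eq_top W with h2 | h2
  · rw [show Submodule.span K {v} = ⊥ from congrArg Subrepresentation.toSubmodule h2, finrank_bot] at h1
    omega
  · rw [show Submodule.span K {v} = ⊤ from congrArg Subrepresentation.toSubmodule h2, finrank_top] at h1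
    omega

variable {F : Type*} [Field F] [StarRing F] {K V : Type*} [Field K] [AddCommGroup V] [Module K V]

section Sp
variable {ι : Type*} [Fintype ι] [DecidableEq ι] (ht : ∀ a : F, star a = a)
include ht

omit [Fintype ι] [DecidableEq ι] in
theorem ct_eq (X : Matrix ι ι F) : Xᴴ = Xᵀ := Matrix.ext fun _ _ => ht _

/-- Siegel unipotent elements -/
def xSp (X : HM ι F) : symplecticGroup ι F :=
  ⟨fromBlocks 1 X.1 0 1, SymplecticGroup.fromBlocks_mem_iff.2 (by simp [← ct_eq ht X.1, HM.h X])⟩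

theorem xSp_add (X Y : HM ι F) : xSp ht (X + Y) = xSp ht X * xSp ht Y :=
  Subtype.ext (by simp [xSp, fromBlocks_multiply, add_comm])

theorem xSp_zero : xSp ht (0 : HM ι F) = 1 := Subtype.ext (by simp [xSp])

theorem sp_bound [Fintype F] [IsAlgClosed K] [FiniteDimensional K V] (hK : (Fintype.card F : K) ≠ 0) (h2 : (2 : F) ≠ 0)
    (ρ : Representation K (symplecticGroup ι F) V) (hne : ∃ X, ρ (xSp ht X) ≠ 1) :
    Fintype.card F ^ Fintype.card ι - 1 + 2 * finrank K (wsp (fun X => ρ (xSp ht X)) 1) ≤ 2 * finrank K V := by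
  obtain ⟨Ω, h1, ⟨S, hS, h0⟩, h3⟩ := siegel (P := fun d => d ≠ 0) hK
    ⟨1, by rw [star_one, one_add_one_eq_two]; exact h2⟩ (fun _ h _ => h) (fun _ h => h)
    (fun _ h => star_ne_zero.2 h) (.inl fun _ h => h) (fun X => ρ (xSp ht X)) (by simp [xSp_zero])
    (fun X Y => by rw [xSp_add, map_mul]) (fun D hD => by
      have u : IsUnit Dᵀ.det := by rw [det_transpose]; exact hD.isUnit
      let m : symplecticGroup ι F := ⟨fromBlocks (Dᵀ)⁻¹ 0 0 D, SymplecticGroup.fromBlocks_mem_iff.2 (by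
        simp [transpose_nonsing_inv, nonsing_inv_mul _ hD.isUnit])⟩
      refine ⟨ρ m, ((Module.End.isUnit_iff _).1 ((Group.isUnit m).map ρ)).1, fun X => ?_⟩
      rw [← map_mul, ← map_mul]
      refine congrArg ρ (Subtype.ext ?_)
      simp [m, xSp, cgr, fromBlocks_multiply, ct_eq ht, ← Matrix.mul_assoc, nonsing_inv_mul _ u]) hne (μ := 1)
    fun _ _ _ _ h => Submodule.one_le_finrank_iff.2 h
  have := h1.orb_sym ht h2 hS h0
  omega

theorem xSp_not_mem {m : ℕ} (hm : 1 ≤ m) : ∃ X : HM (Fin m) F, xSp ht X ∉ Subgroup.center _ := by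
  refine ⟨1, fun h => ?_⟩
  obtain ⟨c, hc⟩ := (CfsgH5.mem_center_sp hm).1 h
  simpa [xSp] using congrFun (congrFun hc (.inl ⟨0, hm⟩)) (.inr ⟨0, hm⟩)

end Sp

section SU
variable {n : Type*} [Fintype n] [DecidableEq n]

/-- special unitary matrices -/
def IsSU (A : Matrix n n F) : Prop := Aᴴ * A = 1 ∧ A.det = 1

theorem IsSU.mul {A B : Matrix n n F} (hA : IsSU A) (hB : IsSU B) : IsSU (A * B) :=
  ⟨by rw [conjTranspose_mul, Matrix.mul_assoc, ← Matrix.mul_assoc Aᴴ, hA.1, Matrix.one_mul, hB.1],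
    by rw [det_mul, hA.2, hB.2, one_mul]⟩

variable {ι : Type*} [Fintype ι] [DecidableEq ι] {U U' : Matrix n ι F} {δ : F}

theorem isSU_x (hδ : star δ = -δ) (h : Uᴴ * U = 0) (X : HM ι F) : IsSU (1 + δ • (U * X.1 * Uᴴ)) := by
  constructor
  · have : U * X.1 * Uᴴ * (U * X.1 * Uᴴ) = 0 := by
      rw [Matrix.mul_assoc, ← Matrix.mul_assoc Uᴴ, ← Matrix.mul_assoc Uᴴ, h]; simp
    rw [conjTranspose_add, conjTranspose_smul, conjTranspose_mul, conjTranspose_mul, HM.h X, hδ, conjTranspose_one,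
      conjTranspose_conjTranspose, ← Matrix.mul_assoc]
    simp [add_mul, mul_add, this]
  · rw [← Matrix.smul_mul, det_one_add_mul_comm, Matrix.mul_smul, ← Matrix.mul_assoc, h]; simp

theorem levi (h : Uᴴ * U = 0) (h' : U'ᴴ * U' = 0) (h1 : U'ᴴ * U = 1) {D : Matrix ι ι F} (hD : D.det ≠ 0) :
    ∃ m : Matrix n n F, mᴴ * m = 1 ∧ m.det * star D.det = D.det ∧ mᴴ * U = U * Dᴴ ∧
      ∀ w : n → F, Uᴴ *ᵥ w = 0 → U'ᴴ *ᵥ w = 0 → m *ᵥ w = w := by
  have h2 : Uᴴ * U' = 1 := by simpa using congrArg conjTranspose h1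
  have u : IsUnit D.det := hD.isUnit
  have u' : IsUnit Dᴴ.det := by rw [det_conjTranspose]; exact (star_ne_zero.2 hD).isUnit
  have a1 : ∀ Y : Matrix ι n F, Uᴴ * (U * Y) = 0 := fun Y => by rw [← Matrix.mul_assoc, h, Matrix.zero_mul]
  have a2 : ∀ Y : Matrix ι n F, U'ᴴ * (U' * Y) = 0 := fun Y => by
    rw [← Matrix.mul_assoc, h', Matrix.zero_mul]
  have a3 : ∀ Y : Matrix ι n F, U'ᴴ * (U * Y) = Y := fun Y => by rw [← Matrix.mul_assoc, h1, Matrix.one_mul]
  have a4 : ∀ Y : Matrix ι n F, Uᴴ * (U' * Y) = Y := fun Y => by rw [← Matrix.mul_assoc, h2, Matrix.one_mul]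
  have a5 : ∀ Y : Matrix ι n F, D⁻¹ * (D * Y) = Y := fun Y => nonsing_inv_mul_cancel_left _ _ u
  have a6 : ∀ Y : Matrix ι n F, Dᴴ * (Dᴴ⁻¹ * Y) = Y := fun Y => mul_nonsing_inv_cancel_left _ _ u'
  refine ⟨(1 + U * ((Dᴴ⁻¹ - 1) * U'ᴴ)) * (1 + U' * ((D - 1) * Uᴴ)), ?_, ?_, ?_, fun w h3 h4 => ?_⟩
  · simp only [conjTranspose_mul, conjTranspose_add, conjTranspose_one, conjTranspose_sub, conjTranspose_nonsing_inv,
      conjTranspose_conjTranspose, Matrix.mul_add, Matrix.add_mul, Matrix.mul_sub, Matrix.sub_mul, Matrix.mul_assoc,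
      Matrix.one_mul, Matrix.mul_one, a1, a2, a3, a4, a5, a6, Matrix.mul_zero]
    abel
  · rw [det_mul, det_one_add_mul_comm, det_one_add_mul_comm U', Matrix.mul_assoc, Matrix.mul_assoc, h1, h2]
    simp only [Matrix.mul_one, add_sub_cancel, det_nonsing_inv, det_conjTranspose, Ring.inverse_eq_inv']
    field_simp [star_ne_zero.2 hD]
  · simp only [conjTranspose_mul, conjTranspose_add, conjTranspose_one, conjTranspose_sub,
      conjTranspose_conjTranspose, Matrix.mul_add, Matrix.add_mul, Matrix.mul_sub, Matrix.sub_mul, Matrix.mul_assoc,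
      Matrix.one_mul, Matrix.mul_one, h, h1, Matrix.mul_zero]
    abel
  · rw [← mulVec_mulVec, add_mulVec, add_mulVec, one_mulVec, one_mulVec, ← mulVec_mulVec, ← mulVec_mulVec,
      ← mulVec_mulVec, ← mulVec_mulVec, h3]
    simp [h4]

end SU

end CfsgH8
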