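import Cfsg.Agent.H8.LS4

/-! Lower bounds for the degrees of representations of unitary groups. -/

set_option autoImplicit false

namespace CfsgH8
open Matrix Module Cfsg

variable {F : Type*} [Field F] [StarRing F]

section heis
variable {n : Type*} [Fintype n] [DecidableEq n]

theorem vmv_mul (a b c d : n → F) : vecMulVec a b * vecMulVec c d = (b ⬝ᵥ c) • vecMulVec a d := by
  rw [vecMulVec_mul_vecMulVec, vecMulVec_smul]

/-- Heisenberg elements -/
def yH (τ : F) (w u : n → F) : Matrix n n F :=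
  1 + vecMulVec u (star w) - vecMulVec w (star u) + τ • vecMulVec u (star u)

variable {τ : F} {w u u' : n → F} (hw : star w ⬝ᵥ w = 1)
include hw

theorem yH_mul (h1 : star w ⬝ᵥ u' = 0) (h2 : star u ⬝ᵥ w = 0) (h3 : star u ⬝ᵥ u' = 0) : yH τ w u * yH τ w u' =
    yH τ w u + yH τ w u' - 1 - vecMulVec u (star u') := by
  simp only [yH, mul_add, add_mul, mul_sub, sub_mul, Matrix.mul_smul, Matrix.smul_mul, vmv_mul, hw, h1, h2, h3,
    mul_one, one_mul, zero_smul, one_smul, smul_zero]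
  abel

theorem isSU_yH (hτ : τ + star τ = -1) (h1 : star w ⬝ᵥ u = 0) (h3 : star u ⬝ᵥ u = 0) : IsSU (yH τ w u) := by
  have h2 : star u ⬝ᵥ w = 0 := by rw [star_dotProduct, h1, star_zero]
  constructor
  · have e : star τ = -1 - τ := by rw [← hτ]; ring
    simp only [yH, conjTranspose_add, conjTranspose_sub, conjTranspose_one, conjTranspose_smul, conjTranspose_vecMulVec,
      star_star, mul_add, add_mul, mul_sub, sub_mul, Matrix.mul_smul, Matrix.smul_mul, vmv_mul, hw, h1, h2, h3,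
      mul_one, one_mul, zero_smul, one_smul, smul_zero, e, sub_smul, neg_smul, neg_mul, neg_zero]
    abel
  · have e : yH τ w u = (1 + vecMulVec u (star w)) * (1 + vecMulVec (-w) (star u)) *
        (1 + vecMulVec ((τ + 1) • u) (star u)) := by
      rw [smul_vecMulVec]
      simp only [yH, mul_add, add_mul, neg_vecMulVec, smul_vecMulVec, mul_neg, neg_mul, Matrix.mul_smul, vmv_mul, hw,
        h1, h3, mul_one, one_mul, zero_smul, one_smul, smul_zero, add_smul, neg_zero, Matrix.smul_mul]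
      abel
    rw [e, det_mul, det_mul, det_one_add_vmv, det_one_add_vmv, det_one_add_vmv]
    simp [h1, h2, h3]

theorem refl_w {c : F} (hc : c * star c = 1) :
    (1 + (c - 1) • vecMulVec w (star w))ᴴ * (1 + (c - 1) • vecMulVec w (star w)) = 1 ∧
      (1 + (c - 1) • vecMulVec w (star w)).det = c := by
  constructor
  · simp only [conjTranspose_add, conjTranspose_one, conjTranspose_smul, conjTranspose_vecMulVec, star_star, mul_add,
      add_mul, Matrix.mul_smul, Matrix.smul_mul, vmv_mul, hw, one_smul, mul_one, one_mul, smul_add, smul_smul, star_sub,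
      star_one, add_assoc, ← add_smul]
    rw [show star c - 1 + (c - 1 + (c - 1) * (star c - 1)) = 0 by linear_combination hc, zero_smul, add_zero]
  · rw [← smul_vecMulVec, det_one_add_vmv]; simp [hw]

end heis

variable [Fintype F] {q : ℕ} (hF : Fintype.card F = q ^ 2) (ht : ∀ a : F, star a = CfsgH5.frobQ hF a) {n : ℕ}

/-- special unitary matrices as elements of `SU` -/
def toSU (A : Matrix (Fin n) (Fin n) F) (h : IsSU A) : SU n F q := ⟨⟨A, h.2⟩, fun u v => by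
  have h1 : ∀ u v : Fin n → F, hermForm n F q u v = star v ⬝ᵥ u := fun u v => by
    simp [hermForm, dotProduct, ht, CfsgH5.frobQ_apply, mul_comm]
  change hermForm n F q (A *ᵥ u) (A *ᵥ v) = _
  rw [h1, h1, star_mulVec, ← dotProduct_mulVec, mulVec_mulVec, h.1, one_mulVec]⟩

theorem toSU_mul {A B : Matrix (Fin n) (Fin n) F} (hA : IsSU A) (hB : IsSU B) :
    toSU hF ht A hA * toSU hF ht B hB = toSU hF ht (A * B) (hA.mul hB) := rfl

theorem toSU_congr {A B : Matrix (Fin n) (Fin n) F} (hA : IsSU A) (hB : IsSU B) (h : A = B) :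
    toSU hF ht A hA = toSU hF ht B hB := by subst h; rfl

variable {ι : Type*} [Fintype ι] [DecidableEq ι] {U U' : Matrix (Fin n) ι F} {V : Type*} [AddCommGroup V] [Module ℂ V]
  [FiniteDimensional ℂ V]

include ht in
theorem exists_tr : ∃ a : F, a + star a ≠ 0 := by
  by_contra hc
  simp only [not_exists, not_not] at hc
  obtain ⟨a, ha⟩ := CfsgH5.frobQ_ne hF
  have h1 := hc 1
  rw [star_one] at h1
  exact ha (by rw [← ht]; linear_combination hc a - a * h1)

theorem rho_inj {G K V : Type*} [Group G] [Field K] [AddCommGroup V] [Module K V] (ρ : Representation K G V) (g : G) :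
    Function.Injective (ρ g) := ((Module.End.isUnit_iff _).1 ((Group.isUnit g).map ρ)).1

theorem su_core [Nonempty ι] (hn : 2 ≤ n) (h : Uᴴ * U = 0) (h' : U'ᴴ * U' = 0) (h1 : U'ᴴ * U = 1) {δ : F} (h0 : δ ≠ 0)
    (hδ : star δ = -δ) {P : F → Prop} (sa : ∀ d, d ≠ 0 → star d = d → P d) (ne : ∀ d, P d → d ≠ 0)
    (st : ∀ d, P d → P (star d)) (tr : (∀ d, d ≠ 0 → P d) ∨ 1 < Fintype.card ι)
    (hL : ∀ D : Matrix ι ι F, P D.det → ∃ m : Matrix (Fin n) (Fin n) F, IsSU m ∧ mᴴ * U = U * Dᴴ) (ρ : Representation ℂ (SU n F q) V)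
    (hk : MonoidHom.ker ρ ≤ Subgroup.center _) {μ : ℕ}
    (hμ : ∀ (ψ : AddChar (selfAdjoint F) ℂ) (T : HM ι F), ψ 1 ≠ 1 → T ≠ 0 →
      wsp (fun X => ρ (toSU hF ht _ (isSU_x hδ h X))) (chS ψ T) ≠ ⊥ →
        μ ≤ finrank ℂ (wsp (fun X => ρ (toSU hF ht _ (isSU_x hδ h X))) (chS ψ T))) :
    μ * (q ^ (2 * Fintype.card ι) - 1) ≤ (q + 1) * finrank ℂ V := by
  obtain ⟨Ω, h2, ⟨S, hS, h3⟩, h4⟩ := siegel (P := P) (Nat.cast_ne_zero.2 Fintype.card_ne_zero) (exists_tr hF ht) sa ne st tr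
    (fun X => ρ (toSU hF ht _ (isSU_x hδ h X)))
    (by rw [← map_one ρ]; exact congrArg ρ (Subtype.ext (Subtype.ext (by simp [toSU]))))
    (fun X Y => by
      rw [← map_mul, toSU_mul]
      refine congrArg ρ (toSU_congr _ _ _ _ ?_)
      have : U * X.1 * Uᴴ * (U * Y.1 * Uᴴ) = 0 := by
        rw [Matrix.mul_assoc, ← Matrix.mul_assoc Uᴴ, ← Matrix.mul_assoc Uᴴ, h]; simp
      simp only [mul_add, add_mul, Matrix.mul_add, Matrix.add_mul, Matrix.smul_mul, Matrix.mul_smul, this, smul_zero,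
        AddSubgroup.coe_add, smul_add, mul_one, one_mul]
      abel)
    (fun D hD => by
      obtain ⟨m, h2, h3⟩ := hL D hD
      refine ⟨ρ (toSU hF ht m h2), rho_inj _ _, fun X => ?_⟩
      rw [← map_mul, ← map_mul, toSU_mul, toSU_mul]
      refine congrArg ρ (toSU_congr _ _ _ _ ?_)
      have h4 : m * mᴴ = 1 := mul_eq_one_comm.1 h2.1
      have h5 : Uᴴ * m = Dᴴᴴ * Uᴴ := by simpa using congrArg conjTranspose h3
      have h6 : m * (U * Dᴴ) = U := by rw [← h3, ← Matrix.mul_assoc, h4, Matrix.one_mul]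
      simp only [cgr, add_mul, mul_add, one_mul, mul_one, Matrix.smul_mul, Matrix.mul_smul, Matrix.mul_assoc, h5]
      rw [← Matrix.mul_assoc U Dᴴ, ← Matrix.mul_assoc m, h6])
    ⟨1, fun e => by
      obtain ⟨c, hc⟩ := (CfsgH5.mem_center_SU hF hn).1 (hk (MonoidHom.mem_ker.2 e))
      have h2 : Uᴴ * U' = 1 := by simpa using congrArg conjTranspose h1
      have h3 := congrArg (fun A : Matrix (Fin n) (Fin n) F => U'ᴴ * A * U')
        (show 1 + δ • (U * (1 : Matrix ι ι F) * Uᴴ) = c • (1 : Matrix (Fin n) (Fin n) F) from hc)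
      simp only [Matrix.mul_add, Matrix.add_mul, Matrix.mul_one, Matrix.mul_smul, Matrix.smul_mul, h', smul_zero,
        zero_add, ← Matrix.mul_assoc, h1, Matrix.one_mul, h2] at h3
      exact h0 ((smul_eq_zero.1 h3).resolve_right one_ne_zero)⟩ hμ
  have h5 := h2.orb_herm hF ht (exists_tr hF ht) hS h3
  rw [hF, ← pow_mul] at h5
  calc _ ≤ μ * ((q + 1) * Ω.card) := Nat.mul_le_mul_left _ h5
    _ = (q + 1) * (μ * Ω.card) := by ring
    _ ≤ _ := Nat.mul_le_mul_left _ (by omega)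

include ht in
theorem su_even (hn : 2 ≤ n) (hι : 1 < Fintype.card ι) (h : Uᴴ * U = 0) (h' : U'ᴴ * U' = 0) (h1 : U'ᴴ * U = 1)
    (ρ : Representation ℂ (SU n F q) V) (hk : MonoidHom.ker ρ ≤ Subgroup.center _) :
    q ^ (2 * Fintype.card ι) - 1 ≤ (q + 1) * finrank ℂ V := by
  haveI : Nonempty ι := Fintype.card_pos_iff.1 (by omega)
  obtain ⟨δ, h0, hδ⟩ := CfsgH5.exists_trace_zero _ (CfsgH5.frobQ_invol hF) (CfsgH5.frobQ_ne hF)
  simpa using su_core hF ht hn h h' h1 h0 ((ht δ).trans hδ) (P := fun d => d ≠ 0 ∧ star d = d) (fun _ a b => ⟨a, b⟩)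
    (fun _ a => a.1) (fun _ a => a.2.symm ▸ a) (.inr hι) (fun D hD => by
      obtain ⟨m, h2, h3, h4, -⟩ := levi h h' h1 hD.1
      rw [hD.2] at h3
      exact ⟨m, ⟨h2, mul_right_cancel₀ hD.1 (h3.trans (one_mul _).symm)⟩, h4⟩) ρ hk (μ := 1)
    fun _ _ _ _ h => Submodule.one_le_finrank_iff.2 h

include ht in
theorem su_odd [Nonempty ι] (hn : 2 ≤ n) (h : Uᴴ * U = 0) (h' : U'ᴴ * U' = 0) (h1 : U'ᴴ * U = 1) {w : Fin n → F}
    (hw : star w ⬝ᵥ w = 1) (hU : star w ᵥ* U = 0)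
    (ρ : Representation ℂ (SU n F q) V) (hk : MonoidHom.ker ρ ≤ Subgroup.center _) :
    q * (q ^ (2 * Fintype.card ι) - 1) ≤ (q + 1) * finrank ℂ V := by
  obtain ⟨θ, hθ⟩ := CfsgH5.frobQ_ne hF
  rw [← ht] at hθ
  have h0 : θ - star θ ≠ 0 := sub_ne_zero.2 hθ.symm
  have hδ : star (θ - star θ) = -(θ - star θ) := by rw [star_sub, star_star, neg_sub]
  refine su_core hF ht hn h h' h1 h0 hδ (P := fun d => d ≠ 0) (fun _ a _ => a) (fun _ a => a)
    (fun _ a => star_ne_zero.2 a) (.inl fun _ a => a) (fun D hD => ?_) ρ hk fun ψ T hψ hT hW => ?_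
  · obtain ⟨m, h2, h3, h4, -⟩ := levi h h' h1 hD
    have hD' := star_ne_zero.2 hD
    obtain ⟨h5, h6⟩ := refl_w hw (c := star D.det / D.det) (by rw [star_div₀, star_star]; field_simp)
    refine ⟨m * (1 + (star D.det / D.det - 1) • vecMulVec w (star w)), ⟨?_, ?_⟩, ?_⟩
    · rw [conjTranspose_mul, Matrix.mul_assoc, ← Matrix.mul_assoc mᴴ, h2, Matrix.one_mul, h5]
    · rw [det_mul, h6, mul_div_assoc', h3, div_self hD]
    · rw [conjTranspose_mul, Matrix.mul_assoc, h4, ← Matrix.mul_assoc, conjTranspose_add, conjTranspose_smul,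
        conjTranspose_vecMulVec, Matrix.add_mul, Matrix.smul_mul, vecMulVec_mul, hU,
        show vecMulVec (star (star w)) (0 : ι → F) = 0 from Matrix.ext fun _ _ => mul_zero _]
      simp
  obtain ⟨e, he⟩ := exists_aniso (exists_tr hF ht) (HM.h T) fun e => hT (Subtype.ext e)
  have hs := sf_star (HM.h T) e e
  obtain ⟨a, ha⟩ := exists_tr hF ht
  have hτ : -(a / (a + star a)) + star (-(a / (a + star a))) = -1 := by
    rw [star_neg, star_div₀, star_add, star_star, add_comm (star a)]; field_simp; ring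
  have d1 : ∀ c : F, star w ⬝ᵥ c • U *ᵥ e = 0 := fun c => by rw [dotProduct_smul, dotProduct_mulVec, hU]; simp
  have d2 : ∀ c : F, star (c • U *ᵥ e) ⬝ᵥ w = 0 := fun c => by rw [star_dotProduct, d1, star_zero]
  have d4 : star (U *ᵥ e) ᵥ* U = 0 := by rw [star_mulVec, vecMul_vecMul, h, vecMul_zero]
  have d3 : ∀ c c' : F, star (c • U *ᵥ e) ⬝ᵥ c' • U *ᵥ e = 0 := fun c c' => by
    rw [dotProduct_smul, star_smul, smul_dotProduct, dotProduct_mulVec, d4]; simp
  have d5 : Uᴴ *ᵥ w = 0 := by simpa [star_vecMul] using congrArg star hU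
  have d6 : Uᴴ *ᵥ (U *ᵥ e) = 0 := by rw [mulVec_mulVec, h, zero_mulVec]
  let κ : F → F → selfAdjoint F := fun c c' => ⟨(θ - star θ)⁻¹ * (c * star c' - c' * star c), by
    rw [selfAdjoint.mem_iff, star_mul', star_inv₀, hδ, star_sub, star_mul', star_mul', star_star, star_star, inv_neg]
    ring⟩
  have c1 : ∀ (c : F) (X : HM ι F), yH (-(a / (a + star a))) w (c • U *ᵥ e) * ((θ - star θ) • (U * X.1 * Uᴴ)) =
      (θ - star θ) • (U * X.1 * Uᴴ) := fun c X => by
    simp [yH, add_mul, sub_mul, Matrix.mul_assoc, vecMulVec_mul, ← vecMul_vecMul, hU, d4, star_smul, smul_vecMul]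
  have c2 : ∀ (c : F) (X : HM ι F), ((θ - star θ) • (U * X.1 * Uᴴ)) * yH (-(a / (a + star a))) w (c • U *ᵥ e) =
      (θ - star θ) • (U * X.1 * Uᴴ) := fun c X => by
    simp [yH, mul_add, mul_sub, mul_vecMulVec, ← mulVec_mulVec, d5, d6, mulVec_smul]
  have := heis_bound hW (fun c : F => ρ (toSU hF ht _ (isSU_yH hw hτ (d1 c) (d3 c c)))) (fun _ => rho_inj _ _)
    (fun c v hv => mem_wsp.2 fun X => ?_) (fun c c' => chS ψ T (rk1 (κ c c') e)) (fun c d hcd => ?_) fun c c' v hv => ?_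
  · rw [hF] at this
    exact (pow_le_pow_iff_left₀ (Nat.zero_le _) (Nat.zero_le _) two_ne_zero).1 this
  · rw [← map_smul, ← mem_wsp.1 hv X, ← End.mul_apply, ← End.mul_apply, ← map_mul, ← map_mul, toSU_mul, toSU_mul]
    refine congrArg (fun g => ρ g v) (toSU_congr hF ht _ _ ?_)
    rw [add_mul, mul_add, c1, c2, one_mul, mul_one]
  · by_contra hc
    have hc' := sub_ne_zero.2 hc
    have e1 := congrFun hcd (star (θ / (sf T.1 e e * (c - d))))
    have e2 : trS T (rk1 (κ c (star (θ / (sf T.1 e e * (c - d))))) e) =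
        1 + trS T (rk1 (κ d (star (θ / (sf T.1 e e * (c - d))))) e) := Subtype.ext (by
      have hc'' : star c - star d ≠ 0 := by rw [← star_sub]; exact star_ne_zero.2 hc'
      simp only [trS, rk1, κ, Matrix.mul_smul, trace_smul, trace_vmv, smul_eq_mul, AddSubgroup.coe_add,
        selfAdjoint.val_one, star_star, star_div₀, star_mul', hs, star_sub]
      field_simp; ring)
    change ψ _ = ψ _ at e1
    rw [e2, ψ.map_add_eq_mul] at e1
    exact hψ (mul_right_cancel₀ (ψ.val_isUnit _).ne_zero (e1.trans (one_mul _).symm))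
  · have k := mem_wsp.1 hv (rk1 (κ c c') e)
    rw [← map_smul, ← map_smul, ← k, ← End.mul_apply, ← End.mul_apply, ← End.mul_apply, ← map_mul, ← map_mul, ← map_mul,
      toSU_mul, toSU_mul, toSU_mul]
    refine congrArg (fun g => ρ g v) (toSU_congr hF ht _ _ ?_)
    rw [mul_add, mul_one, mul_assoc, c1, c1, yH_mul hw (d1 c) (d2 c') (d3 c' c), yH_mul hw (d1 c') (d2 c) (d3 c c')]
    have : (θ - star θ) • (U * (rk1 (κ c c') e).1 * Uᴴ) = vecMulVec (c • U *ᵥ e) (star (c' • U *ᵥ e)) -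
        vecMulVec (c' • U *ᵥ e) (star (c • U *ᵥ e)) := by
      simp only [rk1, κ, Matrix.mul_smul, Matrix.smul_mul, smul_smul, mul_inv_cancel_left₀ h0, mul_vecMulVec,
        vecMulVec_mul, ← star_mulVec, star_smul, smul_vecMulVec, vecMulVec_smul, sub_smul]
      rw [mul_comm c, mul_comm c']
    rw [this]; abel

omit [Fintype F] in
theorem frame_of {κ : Type*} [Fintype κ] [DecidableEq κ] (Q : Matrix ((ι ⊕ ι) ⊕ κ) ((ι ⊕ ι) ⊕ κ) F)
    (hQ : Qᴴ * Q = fromBlocks (fromBlocks 0 1 1 0) 0 0 1) (e : Fin n ≃ (ι ⊕ ι) ⊕ κ) :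
    ∃ U U' : Matrix (Fin n) ι F, Uᴴ * U = 0 ∧ U'ᴴ * U' = 0 ∧ U'ᴴ * U = 1 ∧
      ∀ k : κ, ∃ w : Fin n → F, star w ⬝ᵥ w = 1 ∧ star w ᵥ* U = 0 := by
  have k : ∀ {α β : Type _} (f : α → _) (g : β → _), (Q.submatrix e f)ᴴ * Q.submatrix e g =
      (fromBlocks (fromBlocks 0 1 1 0) 0 0 1 : Matrix ((ι ⊕ ι) ⊕ κ) _ F).submatrix f g := fun f g => by
    rw [conjTranspose_submatrix, submatrix_mul_equiv, hQ]
  have k' : ∀ a b, ∑ i, star (Q (e i) a) * Q (e i) b =
      (fromBlocks (fromBlocks 0 1 1 0) 0 0 1 : Matrix ((ι ⊕ ι) ⊕ κ) _ F) a b := fun a b => by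
    rw [← hQ, mul_apply, ← e.sum_comp]; rfl
  refine ⟨Q.submatrix e (Sum.inl ∘ Sum.inl), Q.submatrix e (Sum.inl ∘ Sum.inr), ?_, ?_, ?_, fun k =>
    ⟨fun i => Q (e i) (.inr k), ?_, funext fun j => ?_⟩⟩
  · rw [k]; rfl
  · rw [k]; rfl
  · rw [k]; rfl
  · exact (k' _ _).trans (by simp)
  · exact (k' (.inr k) (.inl (.inl j))).trans rfl

include ht in
theorem exists_frame {κ : Type*} [Fintype κ] [DecidableEq κ] (e : Fin n ≃ (ι ⊕ ι) ⊕ κ) :
    ∃ U U' : Matrix (Fin n) ι F, Uᴴ * U = 0 ∧ U'ᴴ * U' = 0 ∧ U'ᴴ * U = 1 ∧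
      ∀ k : κ, ∃ w : Fin n → F, star w ⬝ᵥ w = 1 ∧ star w ᵥ* U = 0 := by
  let σ : F ≃+* F := starRingAut
  let M : Matrix ((ι ⊕ ι) ⊕ κ) ((ι ⊕ ι) ⊕ κ) F := fromBlocks (fromBlocks 0 1 1 0) 0 0 1
  have hM : M * M = 1 := by simp [M, fromBlocks_multiply]
  obtain ⟨P, hP⟩ := herm_congr (σ := σ) (RingEquiv.ext fun a => star_star a) (fun e => by
    obtain ⟨a, ha⟩ := CfsgH5.frobQ_ne hF
    exact ha ((ht a).symm.trans (DFunLike.congr_fun e a))) ⟨M, M, hM, hM⟩ (show Mᴴ = M by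
      simp [M, fromBlocks_conjTranspose])
  exact frame_of P.1ᴴ (by rw [conjTranspose_conjTranspose]; exact hP.symm) e

omit [StarRing F] in
/-- the star structure given by the involution -/
@[reducible] def stQ : StarRing F where
  star := CfsgH5.frobQ hF
  star_involutive := CfsgH5.frobQ_invol hF
  star_mul a b := (map_mul _ _ _).trans (mul_comm _ _)
  star_add := map_add _

end CfsgH8
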