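import Cfsg.Agent.H8.LS5
import Cfsg.Agent.H3.Rep

/-! The Weil representation of the symplectic group. -/

set_option autoImplicit false

namespace CfsgH8
open Matrix Module Cfsg

variable {F : Type*} [Field F] {m : ℕ} (ψ : AddChar F ℂ)

/-- Heisenberg operators -/
def hOp (v : Fin m ⊕ Fin m → F) : End ℂ ((Fin m → F) → ℂ) where
  toFun f x := ψ (v ∘ .inl ⬝ᵥ x + 2⁻¹ * (v ∘ .inl ⬝ᵥ v ∘ .inr)) * f (x + v ∘ .inr)
  map_add' f g := by ext; simp [mul_add]
  map_smul' c f := by ext; simp [mul_left_comm]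

theorem hOp_apply (v : Fin m ⊕ Fin m → F) (f : (Fin m → F) → ℂ) (x : Fin m → F) :
    hOp ψ v f x = ψ (v ∘ .inl ⬝ᵥ x + 2⁻¹ * (v ∘ .inl ⬝ᵥ v ∘ .inr)) * f (x + v ∘ .inr) := rfl

theorem symp_eq (v w : Fin m ⊕ Fin m → F) : sympForm m F v w = v ∘ .inr ⬝ᵥ w ∘ .inl - v ∘ .inl ⬝ᵥ w ∘ .inr := by
  simp [CfsgH5.sympForm_eq, dotProduct]

theorem hOp_zero : hOp ψ (0 : Fin m ⊕ Fin m → F) = 1 := by
  ext f x; simp [hOp_apply]

/-- parity operator -/
def pOp (F : Type*) [Field F] (m : ℕ) : End ℂ ((Fin m → F) → ℂ) := LinearMap.funLeft ℂ ℂ Neg.neg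

theorem pOp_apply (f : (Fin m → F) → ℂ) (x : Fin m → F) : pOp F m f x = f (-x) := rfl

theorem pOp_sq : pOp F m * pOp F m = 1 := by ext f x; simp [pOp_apply]

theorem pOp_hOp (v : Fin m ⊕ Fin m → F) : pOp F m * hOp ψ v = hOp ψ (-v) * pOp F m := by
  refine LinearMap.ext fun f => funext fun x => ?_
  simp only [End.mul_apply, pOp_apply, hOp_apply, show (-v) ∘ Sum.inl = -(v ∘ Sum.inl) from rfl,
    show (-v) ∘ Sum.inr = -(v ∘ Sum.inr) from rfl]
  simp [add_comm]

/-- multiplication operators -/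
def mOp (X : Matrix (Fin m) (Fin m) F) : End ℂ ((Fin m → F) → ℂ) where
  toFun f x := ψ (-(2⁻¹ * (x ⬝ᵥ X *ᵥ x))) * f x
  map_add' f g := by ext; simp [mul_add]
  map_smul' c f := by ext; simp [mul_left_comm]

theorem mOp_apply (X : Matrix (Fin m) (Fin m) F) (f : (Fin m → F) → ℂ) (x : Fin m → F) :
    mOp ψ X f x = ψ (-(2⁻¹ * (x ⬝ᵥ X *ᵥ x))) * f x := rfl

theorem mOp_neg (X : Matrix (Fin m) (Fin m) F) : mOp ψ X * mOp ψ (-X) = 1 := by
  refine LinearMap.ext fun f => funext fun x => ?_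
  simp [mOp_apply, ← mul_assoc, ← AddChar.map_add_eq_mul, neg_mulVec]

variable (h2 : (2 : F) ≠ 0)
include h2

theorem hOp_mul (v w : Fin m ⊕ Fin m → F) : hOp ψ v * hOp ψ w = ψ (2⁻¹ * sympForm m F v w) • hOp ψ (v + w) := by
  refine LinearMap.ext fun f => funext fun x => ?_
  simp only [End.mul_apply, hOp_apply, LinearMap.smul_apply, Pi.smul_apply, smul_eq_mul, ← mul_assoc,
    ← AddChar.map_add_eq_mul, symp_eq, show (v + w) ∘ Sum.inl = v ∘ Sum.inl + w ∘ Sum.inl from rfl,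
    show (v + w) ∘ Sum.inr = v ∘ Sum.inr + w ∘ Sum.inr from rfl, add_assoc, add_dotProduct, dotProduct_add,
    dotProduct_comm (v ∘ Sum.inr)]
  congr 2
  field_simp; ring

theorem mOp_hOp {X : Matrix (Fin m) (Fin m) F} (hX : Xᵀ = X) (v : Fin m ⊕ Fin m → F) :
    mOp ψ X * hOp ψ v = hOp ψ (fromBlocks 1 X 0 1 *ᵥ v) * mOp ψ X := by
  refine LinearMap.ext fun f => funext fun x => ?_
  have e : ∀ a b : Fin m → F, X *ᵥ a ⬝ᵥ b = a ⬝ᵥ X *ᵥ b := fun a b => by
    rw [dotProduct_mulVec, ← mulVec_transpose, hX]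
  simp only [End.mul_apply, hOp_apply, mOp_apply, ← mul_assoc, ← AddChar.map_add_eq_mul, fromBlocks_mulVec,
    Sum.elim_comp_inl, Sum.elim_comp_inr, one_mulVec, zero_mulVec, zero_add, add_dotProduct, dotProduct_add,
    mulVec_add, e]
  rw [← e x (v ∘ Sum.inr), dotProduct_comm (X *ᵥ x)]
  congr 2
  field_simp; ring

variable [Fintype F] (hψ : ψ 1 ≠ 1)
include hψ

theorem exists_hB : ∃ b : Basis (Fin m ⊕ Fin m → F) ℂ (End ℂ ((Fin m → F) → ℂ)), ∀ v, b v = hOp ψ v := by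
  classical
  have s1 : ∀ v w : Fin m ⊕ Fin m → F, sympForm m F (w + v) (-w) = sympForm m F w v := fun v w => by
    simp only [CfsgH5.sympForm_eq, Pi.add_apply, Pi.neg_apply]
    exact Finset.sum_congr rfl fun _ _ => by ring
  have hi : Function.Injective fun (v w : Fin m ⊕ Fin m → F) => ψ (sympForm m F w v) := fun v v' e => by
    have k : ∀ w, sympForm m F w (v - v') ≠ 1 := fun w h => hψ (by
      have e1 : sympForm m F w v = 1 + sympForm m F w v' := by
        rw [← h]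
        simp only [CfsgH5.sympForm_eq, Pi.sub_apply, ← Finset.sum_add_distrib]
        exact Finset.sum_congr rfl fun _ _ => by ring
      have e2 : ψ (sympForm m F w v) = ψ (sympForm m F w v') := congrFun e w
      rw [e1, ψ.map_add_eq_mul] at e2
      exact mul_right_cancel₀ (ψ.val_isUnit _).ne_zero (e2.trans (one_mul _).symm))
    refine sub_eq_zero.1 (funext fun i => by_contra fun h => ?_)
    rcases i with i | i
    · exact k (Pi.single (.inr i) ((v - v') (.inl i))⁻¹) (by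
        simp only [CfsgH5.sympForm_eq, Pi.single_apply]; simpa using inv_mul_cancel₀ h)
    · exact k (Pi.single (.inl i) (-((v - v') (.inr i))⁻¹)) (by
        simp only [CfsgH5.sympForm_eq, Pi.single_apply]; simpa using inv_mul_cancel₀ h)
  have li : LinearIndependent ℂ (hOp ψ : (Fin m ⊕ Fin m → F) → _) :=
    ((indep_wsp fun w => LinearMap.mulLeftRight ℂ (hOp ψ w, hOp ψ (-w))).comp hi).linearIndependent _
      (fun v => mem_wsp.2 fun w => by
        rw [LinearMap.mulLeftRight_apply, hOp_mul ψ h2, smul_mul_assoc, hOp_mul ψ h2, s1, smul_smul,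
          ← ψ.map_add_eq_mul, add_neg_cancel_comm]
        congr 2; field_simp; ring)
      fun v e => by
        have := hOp_mul ψ h2 v (-v)
        rw [e, zero_mul, add_neg_cancel, hOp_zero] at this
        exact smul_ne_zero (ψ.val_isUnit _).ne_zero one_ne_zero this.symm
  exact ⟨basisOfLinearIndependentOfCardEqFinrank li (by simp [Module.finrank_linearMap, pow_add]), fun v => by simp⟩

theorem scalar_of {S : End ℂ ((Fin m → F) → ℂ)} (h : ∀ v, S * hOp ψ v = hOp ψ v * S) : ∃ c : ℂ, S = c • 1 := by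
  obtain ⟨b, hb⟩ := exists_hB (m := m) ψ h2 hψ
  have : S ∈ Subalgebra.center ℂ (End ℂ ((Fin m → F) → ℂ)) := Subalgebra.mem_center_iff.2 fun A =>
    LinearMap.congr_fun (b.ext (f₁ := LinearMap.mulRight ℂ S) (f₂ := LinearMap.mulLeft ℂ S) fun v => by
      simp [hb, h]) A
  rw [Algebra.IsCentral.center_eq_bot, Algebra.mem_bot] at this
  obtain ⟨c, hc⟩ := this
  exact ⟨c, by rw [← hc, Algebra.algebraMap_eq_smul_one]⟩

theorem exists_intw (g : symplecticGroup (Fin m) F) :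
    ∃ T : (End ℂ ((Fin m → F) → ℂ))ˣ, ∀ v, T.1 * hOp ψ v = hOp ψ (g.1 *ᵥ v) * T.1 := by
  obtain ⟨b, hb⟩ := exists_hB (m := m) ψ h2 hψ
  let l := b.equiv b (CfsgH5.spHom m F g).toEquiv
  have hl : ∀ v, l (hOp ψ v) = hOp ψ (g.1 *ᵥ v) := fun v => by rw [← hb, Basis.equiv_apply, hb]; rfl
  obtain ⟨T, hT⟩ := (AlgEquiv.ofLinearEquiv l (by rw [← hOp_zero ψ, hl, mulVec_zero]) fun A B =>
    LinearMap.congr_fun₂ (LinearMap.ext_basis b b (B := (LinearMap.mul ℂ _).compr₂ l.toLinearMap)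
      (B' := (LinearMap.mul ℂ _).compl₁₂ l.toLinearMap l.toLinearMap) fun v w => by
        simp [hb, hl, hOp_mul ψ h2, CfsgH5.mem_symplecticGroup_iff.1 g.2, mulVec_add]) A B).eq_linearEquivConjAlgEquiv
  refine ⟨LinearMap.GeneralLinearGroup.ofLinearEquiv T, fun v => LinearMap.ext fun f => ?_⟩
  have := LinearMap.congr_fun (DFunLike.congr_fun hT (hOp ψ v)) (T f)
  change l (hOp ψ v) (T f) = _ at this
  rw [hl] at this
  simpa using this.symm

omit h2 hψ [Fintype F] in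
/-- the group of intertwiners -/
def wG (m : ℕ) : Subgroup (symplecticGroup (Fin m) F × (End ℂ ((Fin m → F) → ℂ))ˣ) where
  carrier := {p | ∀ v, p.2.1 * hOp ψ v = hOp ψ (p.1.1 *ᵥ v) * p.2.1}
  one_mem' v := by simp
  mul_mem' {a b} ha hb v := by
    simp only [Prod.snd_mul, Units.val_mul, Prod.fst_mul, Submonoid.coe_mul, ← mulVec_mulVec]
    rw [mul_assoc, hb, ← mul_assoc, ha, mul_assoc]
  inv_mem' {a} ha v := by
    have := ha (a⁻¹.1.1 *ᵥ v)
    rw [mulVec_mulVec, ← Submonoid.coe_mul, Prod.fst_inv, mul_inv_cancel, Submonoid.coe_one, one_mulVec] at this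
    rw [Prod.snd_inv, Prod.fst_inv, Units.inv_mul_eq_iff_eq_mul, ← mul_assoc, this, Units.mul_inv_cancel_right]

omit hψ in
theorem trace_pOp : LinearMap.trace ℂ _ (pOp F m) = 1 := by
  classical
  rw [LinearMap.trace_eq_matrix_trace ℂ (Pi.basisFun ℂ _), trace, Finset.sum_eq_single 0]
  · simp [LinearMap.toMatrix_apply, pOp_apply]
  · intro x _ hx
    have : -x ≠ x := fun e => hx (smul_right_injective _ h2 (by simpa [two_smul] using (neg_eq_iff_add_eq_zero.1 e)))
    simp [LinearMap.toMatrix_apply, pOp_apply, this]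
  · simp

theorem wG_comm (γ : wG ψ m) : γ.1.2.1 * pOp F m = pOp F m * γ.1.2.1 := by
  obtain ⟨⟨g, T⟩, h⟩ := γ
  obtain ⟨c, hc⟩ := scalar_of ψ h2 hψ (S := pOp F m * (T⁻¹.1 * pOp F m * T.1)) fun v => by
    have h1 := (wG ψ m).inv_mem h (-(g.1 *ᵥ v))
    rw [mulVec_neg, mulVec_mulVec, ← Submonoid.coe_mul, Prod.fst_inv, inv_mul_cancel, Submonoid.coe_one,
      one_mulVec] at h1
    have h3 : T.1 * hOp ψ v = hOp ψ (g.1 *ᵥ v) * T.1 := h v
    have h4 : T⁻¹.1 * hOp ψ (-(g.1 *ᵥ v)) = hOp ψ (-v) * T⁻¹.1 := h1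
    simp only [mul_assoc]
    rw [h3, ← mul_assoc (pOp F m) (hOp _ _), pOp_hOp, mul_assoc, ← mul_assoc T⁻¹.1, h4, mul_assoc,
      ← mul_assoc (pOp F m), pOp_hOp, neg_neg, mul_assoc]
  have h1 : T⁻¹.1 * pOp F m * T.1 = c • pOp F m := by
    rw [← one_mul (_ * T.1), ← pOp_sq, mul_assoc, hc, mul_smul_comm, mul_one]
  have h3 := congrArg (LinearMap.trace ℂ _) h1
  rw [LinearMap.trace_mul_comm, Units.mul_inv_cancel_left, map_smul, trace_pOp h2, smul_eq_mul, mul_one] at h3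
  rw [← h3, one_smul, mul_assoc, Units.inv_mul_eq_iff_eq_mul] at h1
  exact h1.symm

omit hψ in
theorem finrank_eig (ε : ℂ) (hε : ε * ε = 1) :
    (2 * finrank ℂ (End.eigenspace (pOp F m) ε) : ℂ) = Fintype.card F ^ m + ε := by
  have h : LinearMap.IsProj (End.eigenspace (pOp F m) ε) ((2⁻¹ : ℂ) • (1 + ε • pOp F m)) :=
    ⟨fun f => End.mem_eigenspace_iff.2 (funext fun x => by
      simp only [pOp_apply, LinearMap.smul_apply, LinearMap.add_apply, Pi.smul_apply, Pi.add_apply, End.one_apply,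
        neg_neg, smul_eq_mul]
      linear_combination (-(2⁻¹ : ℂ) * f (-x)) * hε), fun f hf => by
      rw [LinearMap.smul_apply, LinearMap.add_apply, LinearMap.smul_apply, End.mem_eigenspace_iff.1 hf, smul_smul, hε,
        one_smul, End.one_apply, ← two_smul ℂ, smul_smul]; simp⟩
  rw [← h.trace, map_smul, map_add, map_smul, trace_pOp h2, LinearMap.trace_one]
  simp

omit h2 hψ [Fintype F] in
/-- action of the group of intertwiners -/
def wR (m : ℕ) : Representation ℂ (wG ψ m) ((Fin m → F) → ℂ) :=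
  (Units.coeHom _).comp ((MonoidHom.snd _ _).comp (wG ψ m).subtype)

/-- action on the eigenspaces of the parity operator -/
def wE (ε : ℂ) : Representation ℂ (wG ψ m) (End.eigenspace (pOp F m) ε) :=
  (wR ψ m).subrepresentation _ fun γ f hf => End.mem_eigenspace_iff.2 (by
    change pOp F m (γ.1.2.1 f) = ε • γ.1.2.1 f
    rw [← End.mul_apply, ← wG_comm ψ h2 hψ, End.mul_apply, End.mem_eigenspace_iff.1 hf, map_smul])

theorem exists_weil : ∃ ρ : Representation ℂ (symplecticGroup (Fin m) F) (End.eigenspace (pOp F m) (-1)),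
    ∀ g, ∃ γ : wG ψ m, γ.1.1 = g ∧ ∀ f, (ρ g f).1 = γ.1.2.1 f := by
  have hd : finrank ℂ (End.eigenspace (pOp F m) 1) = finrank ℂ (End.eigenspace (pOp F m) (-1)) + 1 := by
    have h1 := finrank_eig (m := m) h2 1 (by simp)
    have h3 := finrank_eig (m := m) h2 (-1) (by simp)
    exact Nat.cast_injective (R := ℂ) (by push_cast; linear_combination 2⁻¹ * h1 - 2⁻¹ * h3)
  let D : ∀ ε : ℂ, wG ψ m →* ℂ := fun ε => LinearMap.det.comp (wE ψ h2 hψ ε)
  have hD : ∀ ε γ, D ε γ ≠ 0 := fun ε γ => ((Group.isUnit γ).map (D ε)).ne_zero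
  have hs : ∀ (γ : wG ψ m) (c : ℂ), γ.1.2.1 = c • 1 → ∀ ε, D ε γ = c ^ finrank ℂ (End.eigenspace (pOp F m) ε) :=
    fun γ c h ε => by
      have : wE ψ h2 hψ ε γ = c • 1 := LinearMap.ext fun f => Subtype.ext (LinearMap.congr_fun h f)
      change LinearMap.det (wE ψ h2 hψ ε γ) = _
      rw [this, LinearMap.det_smul, map_one, mul_one]
  let φ : (D 1).eqLocus (D (-1)) →* symplecticGroup (Fin m) F :=
    ((MonoidHom.fst _ _).comp (wG ψ m).subtype).comp (Subgroup.subtype _)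
  have hφ : Function.Bijective φ := by
    refine ⟨(injective_iff_map_eq_one φ).2 fun γ h => ?_, fun g => ?_⟩
    · have h1 : γ.1.1.1 = 1 := h
      obtain ⟨c, hc⟩ := scalar_of ψ h2 hψ (S := γ.1.1.2.1) fun v => by
        simpa [h1] using γ.1.2 v
      have h3 : D 1 γ.1 = D (-1) γ.1 := γ.2
      have h4 := hD (-1) γ.1
      rw [hs _ c hc] at h4
      rw [hs _ c hc, hs _ c hc, hd, pow_succ, mul_eq_left₀ h4] at h3
      exact Subtype.ext (Subtype.ext (Prod.ext h1 (Units.ext (by rw [hc, h3, one_smul]; rfl))))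
    · obtain ⟨T, hT⟩ := exists_intw ψ h2 hψ g
      let γ : wG ψ m := ⟨(g, T), hT⟩
      let c : ℂˣ := Units.mk0 (D (-1) γ / D 1 γ) (div_ne_zero (hD _ _) (hD _ _))
      let s : wG ψ m := ⟨(1, Units.map (algebraMap ℂ _).toMonoidHom c), fun v => by
        simp [Algebra.algebraMap_eq_smul_one]⟩
      have h1 := hs s c (Algebra.algebraMap_eq_smul_one _)
      refine ⟨⟨γ * s, ?_⟩, mul_one g⟩
      change D 1 (γ * s) = D (-1) (γ * s)
      rw [map_mul, map_mul, h1, h1, hd, pow_succ', ← mul_assoc, Units.val_mk0, mul_div_cancel₀ _ (hD _ _)]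
  refine ⟨((wE ψ h2 hψ (-1)).comp (Subgroup.subtype _)).comp (MulEquiv.ofBijective φ hφ).symm.toMonoidHom, fun g =>
    ⟨((MulEquiv.ofBijective φ hφ).symm g).1, (MulEquiv.ofBijective φ hφ).apply_symm_apply g, fun _ => rfl⟩⟩

omit hψ ψ in
theorem weil_irr (hm : 2 ≤ m) : ∃ ρ : Representation ℂ (symplecticGroup (Fin m) F)
    (Fin ((Fintype.card F ^ m - 1) / 2) → ℂ), ρ.IsIrreducible := by
  classical
  letI : StarRing F := starRingOfComm
  have ht : ∀ a : F, star a = a := fun _ => rfl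
  obtain ⟨ψ, hψ⟩ := AddChar.exists_apply_ne_zero.2 (one_ne_zero (α := F))
  obtain ⟨ρ, hρ⟩ := exists_weil (m := m) ψ h2 hψ
  have hK : (Fintype.card F : ℂ) ≠ 0 := Nat.cast_ne_zero.2 Fintype.card_ne_zero
  have h1 : 2 * finrank ℂ (End.eigenspace (pOp F m) (-1)) = Fintype.card F ^ m - 1 := by
    have h3 := finrank_eig (m := m) h2 (-1) (by simp)
    exact Nat.eq_sub_of_add_eq (Nat.cast_injective (R := ℂ) (by push_cast; linear_combination h3))
  have h3 : ∃ X, ρ (xSp ht X) ≠ 1 := by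
    let X : HM (Fin m) F := ⟨diagonal (Pi.single ⟨0, by omega⟩ (-2)), (ct_eq ht _).trans (diagonal_transpose _)⟩
    refine ⟨X, fun e => ?_⟩
    obtain ⟨γ, h4, h5⟩ := hρ (xSp ht X)
    obtain ⟨c, hc⟩ := scalar_of ψ h2 hψ (S := mOp ψ (-X.1) * γ.1.2.1) fun v => by
      have h6 := mOp_hOp ψ h2 (X := -X.1) (by rw [transpose_neg, ← ct_eq ht, HM.h X]) (fromBlocks 1 X.1 0 1 *ᵥ v)
      rw [mulVec_mulVec, fromBlocks_multiply] at h6
      rw [mul_assoc, γ.2 v, h4, ← mul_assoc]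
      exact (congrArg (· * _) h6).trans (by simp [mul_assoc])
    have k : ∀ x : Fin m → F, x ≠ 0 → ψ (2⁻¹ * (x ⬝ᵥ X.1 *ᵥ x)) = c := fun x hx => by
      have hx' : x ≠ -x := fun e => hx (smul_right_injective _ h2 (by simpa [two_smul] using (eq_neg_iff_add_eq_zero.1 e)))
      let f : End.eigenspace (pOp F m) (-1) := ⟨Pi.single x 1 - Pi.single (-x) 1, End.mem_eigenspace_iff.2 (funext fun y => by
        simp [pOp_apply, Pi.single_apply, neg_eq_iff_eq_neg])⟩
      have h6 := congrFun (LinearMap.congr_fun hc f.1) x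
      rw [End.mul_apply, ← h5, e] at h6
      simpa [mOp_apply, f, hx', neg_mulVec] using h6
    have k1 := k (Pi.single ⟨0, by omega⟩ 1) (by simp)
    have k2 := k (Pi.single ⟨1, by omega⟩ 1) (by simp)
    simp [X, h2] at k1 k2
    exact hψ (by simpa [← k2, AddChar.map_neg_eq_inv] using k1)
  have h4 := sp_bound ht hK h2 ρ h3
  have h5 : wsp (fun X => ρ (xSp ht X)) 1 = ⊥ := Submodule.finrank_eq_zero.1 (by rw [Fintype.card_fin] at h4; omega)
  haveI : Nontrivial (End.eigenspace (pOp F m) (-1)) := by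
    by_contra hc
    rw [not_nontrivial_iff_subsingleton] at hc
    exact h3.choose_spec (Subsingleton.elim _ _)
  haveI := CfsgH3.irreducible_of_forall ρ fun W hW => by
    by_cases h6 : ∃ X, ρ.subrepresentation W hW (xSp ht X) ≠ 1
    · have h7 := sp_bound (V := W) ht hK h2 (ρ.subrepresentation W hW) h6
      rw [Fintype.card_fin] at h7
      exact .inr (Submodule.eq_top_of_finrank_eq ((Submodule.finrank_le W).antisymm (by omega)))
    · refine .inl (eq_bot_iff.2 (h5 ▸ fun v hv => mem_wsp.2 fun X => ?_))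
      simpa using congrArg Subtype.val (LinearMap.congr_fun (not_not.1 (not_exists.1 h6 X)) ⟨v, hv⟩)
  exact ⟨_, CfsgH3.irreducible_of_equiv (CfsgH3.repTransportEquiv ρ (LinearEquiv.ofFinrankEq _ _ (by simp; omega)))⟩

end CfsgH8
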