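import Cfsg.Agent.H8.LS5

/-! Orbits of quadratic forms in characteristic two; representations of `Sp` in even characteristic. -/

set_option autoImplicit false

namespace CfsgH8
open Matrix Module QuadraticMap Finset

section count
variable {F V : Type*} [Field F] [Fintype F] [AddCommGroup V] [Module F V] [Fintype V] (h2 : (2 : F) = 0)
include h2

omit [Fintype F] [Fintype V] in
theorem polar_self_two (ω : QuadraticForm F V) (x : V) : polar ω x x = 0 := by
  rw [polar_self, two_nsmul, ← two_mul, h2, zero_mul]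

omit [Fintype F] [Fintype V] in
theorem qf_dec (ω : QuadraticForm F V) {x y w : V} (h : polar ω x y = 1) (h1 : polar ω x w = 0) (h3 : polar ω y w = 0)
    (s t : F) : ω (s • x + t • y + w) = s ^ 2 * ω x + s * t + t ^ 2 * ω y + ω w ∧
      polar ω x (s • x + t • y + w) = t ∧ polar ω y (s • x + t • y + w) = s := by
  refine ⟨?_, ?_, ?_⟩
  · rw [QuadraticMap.map_add ω, QuadraticMap.map_add ω, QuadraticMap.map_smul, QuadraticMap.map_smul]
    simp only [polar_add_left, polar_smul_left, polar_smul_right, h, h1, h3, smul_eq_mul]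
    ring
  · simp [polar_self_two h2, h, h1]
  · simp [polar_self_two h2, polar_comm ω y x, h, h3]

open Classical in
theorem card_proj (ω : QuadraticForm F V) {x y : V} (h : polar ω x y = 1) (T : Finset V) {κ : ℕ}
    (hκ : ∀ w, polar ω x w = 0 → polar ω y w = 0 → #{p : F × F | p.1 • x + p.2 • y + w ∈ T} ≤ κ) :
    #T * Fintype.card F ^ 2 ≤ κ * Fintype.card V := by
  let W : Finset V := {w | polar ω x w = 0 ∧ polar ω y w = 0}
  have h1 : #T ≤ κ * #W := card_le_mul_card_image_of_maps_to (f := fun v => v - polar ω y v • x - polar ω x v • y)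
    (fun v _ => mem_filter.2 ⟨mem_univ _, by simp [polar_self_two h2, h], by
      simp [polar_self_two h2, polar_comm ω y x, h]⟩) κ fun w hw => by
    refine le_trans (card_le_card fun v hv => ?_) ((card_image_le (f := fun p : F × F => p.1 • x + p.2 • y + w)).trans
      (hκ w (mem_filter.1 hw).2.1 (mem_filter.1 hw).2.2))
    have e : polar ω y v • x + polar ω x v • y + w = v := by rw [← (mem_filter.1 hv).2]; abel
    exact mem_image.2 ⟨(polar ω y v, polar ω x v), mem_filter.2 ⟨mem_univ _, e.symm ▸ (mem_filter.1 hv).1⟩, e⟩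
  have h3 : #(W ×ˢ (univ : Finset (F × F))) ≤ #(univ : Finset V) :=
    card_le_card_of_injOn (fun p => p.2.1 • x + p.2.2 • y + p.1) (fun _ _ => mem_univ _) fun p hp p' hp' e => by
      have a := (mem_filter.1 (mem_product.1 hp).1).2
      have a' := (mem_filter.1 (mem_product.1 hp').1).2
      have b := qf_dec h2 ω h a.1 a.2 p.2.1 p.2.2
      have b' := qf_dec h2 ω h a'.1 a'.2 p'.2.1 p'.2.2
      simp only at e
      rw [e] at b
      have e1 := b.2.1.symm.trans b'.2.1
      have e2 := b.2.2.symm.trans b'.2.2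
      rw [e1, e2] at e
      exact Prod.ext (add_left_cancel e) (Prod.ext e2 e1)
  rw [card_product, card_univ, card_univ, Fintype.card_prod, ← pow_two] at h3
  exact (Nat.mul_le_mul_right _ h1).trans (by rw [mul_assoc]; exact Nat.mul_le_mul_left _ h3)

open Classical in
theorem card_frames (ω : QuadraticForm F V) {a b : F} {κ κ' : ℕ}
    (h1 : ∀ c : F, #{p : F × F | p.1 ^ 2 * a + p.1 * p.2 + p.2 ^ 2 * b = c} ≤ κ)
    (h3 : #{s : F | s ^ 2 * a + s = 0} * 1 ≤ κ') :
    #{p : V × V | ω p.1 = a ∧ ω p.2 = b ∧ polar ω p.1 p.2 = 1} * Fintype.card F ^ 4 ≤ κ * κ' * Fintype.card V ^ 2 := by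
  by_cases h0 : ∀ p : V × V, ¬ (ω p.1 = a ∧ ω p.2 = b ∧ polar ω p.1 p.2 = 1)
  · rw [filter_false_of_mem fun p _ => h0 p]; simp
  obtain ⟨⟨x, y⟩, hx, hy, h⟩ : ∃ p : V × V, ω p.1 = a ∧ ω p.2 = b ∧ polar ω p.1 p.2 = 1 := by simpa using h0
  have k1 := card_proj h2 ω h {v | ω v = a} (κ := κ) fun w a1 a2 => by
    refine le_of_eq_of_le (congrArg _ (filter_congr fun p _ => ?_)) (h1 (a - ω w))
    rw [mem_filter, (qf_dec h2 ω h a1 a2 _ _).1, hx, hy, eq_sub_iff_add_eq]; simp
  have k2 : ∀ x', ω x' = a → #{v | ω v = b ∧ polar ω x' v = 1} * Fintype.card F ^ 2 ≤ κ' * Fintype.card V := by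
    intro x' hx'
    by_cases h0 : ∀ v, ¬ (ω v = b ∧ polar ω x' v = 1)
    · rw [filter_false_of_mem fun p _ => h0 p]; simp
    obtain ⟨y', hy', h'⟩ : ∃ v, ω v = b ∧ polar ω x' v = 1 := by simpa using h0
    refine card_proj h2 ω h' _ fun w a1 a2 => ?_
    by_cases h4 : ∀ p : F × F, p.1 • x' + p.2 • y' + w ∉ ({v | ω v = b ∧ polar ω x' v = 1} : Finset V)
    · rw [filter_false_of_mem fun p _ => h4 p]; simp
    obtain ⟨p0, h4⟩ := not_forall.1 h4
    have h5 := (mem_filter.1 (not_not.1 h4)).2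
    rw [(qf_dec h2 ω h' a1 a2 _ _).1, (qf_dec h2 ω h' a1 a2 _ _).2.1] at h5
    refine le_trans (card_le_card_of_injOn (fun p => p.1 + p0.1) (fun p hp => ?_) fun p hp p' hp' e => ?_)
      ((mul_one _).ge.trans h3)
    · have h6 := (mem_filter.1 (mem_filter.1 hp).2).2
      rw [(qf_dec h2 ω h' a1 a2 _ _).1, (qf_dec h2 ω h' a1 a2 _ _).2.1] at h6
      refine mem_filter.2 ⟨mem_univ _, ?_⟩
      have h7 := h5.1
      have h8 := h6.1
      rw [h5.2, hx'] at h7
      rw [h6.2, hx'] at h8
      linear_combination h7 + h8 + (p.1 * p0.1 * a + b - ω y' - ω w) * h2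
    · have h6 := (mem_filter.1 (mem_filter.1 hp).2).2.2
      have h7 := (mem_filter.1 (mem_filter.1 hp').2).2.2
      rw [(qf_dec h2 ω h' a1 a2 _ _).2.1] at h6 h7
      exact Prod.ext (add_right_cancel e) (h6.trans h7.symm)
  have k3 : #{p : V × V | ω p.1 = a ∧ ω p.2 = b ∧ polar ω p.1 p.2 = 1} =
      ∑ x' ∈ {v | ω v = a}, #{v | ω v = b ∧ polar ω x' v = 1} := by
    rw [← card_sigma]
    exact card_bij (fun p _ => ⟨p.1, p.2⟩) (fun p hp => by simpa using hp) (fun p _ p' _ e => by
      simpa [Prod.ext_iff] using e) fun p hp => ⟨(p.1, p.2), by simpa using hp, rfl⟩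
  calc _ = (∑ x' ∈ {v | ω v = a}, #{v | ω v = b ∧ polar ω x' v = 1} * Fintype.card F ^ 2) * Fintype.card F ^ 2 := by
        rw [k3, ← sum_mul]; ring
    _ ≤ (#{v | ω v = a} * (κ' * Fintype.card V)) * Fintype.card F ^ 2 :=
        Nat.mul_le_mul_right _ (sum_le_card_nsmul _ _ _ fun x' h => k2 x' (mem_filter.1 h).2)
    _ = #{v | ω v = a} * Fintype.card F ^ 2 * (κ' * Fintype.card V) := by ring
    _ ≤ κ * Fintype.card V * (κ' * Fintype.card V) := Nat.mul_le_mul_right _ k1
    _ = _ := by ring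

open Classical in
theorem card_ann (x y : V) : Fintype.card V ≤ Nat.card {φ : Dual F V // φ x = 0 ∧ φ y = 0} * Fintype.card F ^ 2 := by
  haveI : Finite (Dual F V) := Finite.of_injective _ DFunLike.coe_injective
  let θ : Dual F V →ₗ[F] F × F := (Dual.eval F V x).prod (Dual.eval F V y)
  have h1 : Nat.card (Dual F V) = Fintype.card V := by
    rw [← Nat.card_eq_fintype_card]
    exact Nat.card_congr (LinearEquiv.ofFinrankEq _ _ (Subspace.dual_finrank_eq (K := F) (V := V))).toEquiv
  rw [← h1, Submodule.card_eq_card_quotient_mul_card (LinearMap.ker θ), Nat.card_congr θ.quotKerEquivRange.toEquiv]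
  refine Nat.mul_le_mul (le_of_eq (Nat.card_congr (Equiv.subtypeEquivRight fun φ => by simp [θ]))) ?_
  simpa [pow_two] using Nat.card_le_card_of_injective (Subtype.val : LinearMap.range θ → _) Subtype.val_injective

theorem card_qf_aux (hn : 2 ≤ finrank F V) (Ω : Finset (QuadraticForm F V))
    (hΩ : ∀ ω ∈ Ω, ∀ g : V ≃ₗ[F] V, ω.comp g.toLinearMap ∈ Ω) {ω : QuadraticForm F V} (hω : ω ∈ Ω) {x y : V}
    (h : polar ω x y = 1) {κ : ℕ} (hκ : ∀ ω' : QuadraticForm F V, Nat.card {p : V × V // ω' p.1 = ω x ∧ ω' p.2 = ω y ∧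
      polar ω' p.1 p.2 = 1} * Fintype.card F ^ 4 ≤ κ * Fintype.card V ^ 2) :
    (Fintype.card V - 1) * (Fintype.card V - Fintype.card F) ≤ κ * #Ω := by
  classical
  have li : LinearIndependent F ![x, y] := LinearIndependent.pair_iff.2 fun s t e => by
    have := qf_dec h2 ω h (w := 0) (by simp) (by simp) s t
    rw [e, add_zero] at this
    exact ⟨by simpa using this.2.2.symm, by simpa using this.2.1.symm⟩
  have hV : Fintype.card V = Fintype.card F ^ finrank F V := Module.card_eq_pow_finrank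
  obtain ⟨k, hk⟩ : ∃ k, finrank F V = k + 2 := ⟨_, (Nat.sub_add_cancel hn).symm⟩
  have hq : 0 < Fintype.card F ^ 2 := by positivity
  have := card_mul_le_card_mul (s := (univ : Finset {s : Fin 2 → V // LinearIndependent F s})) (t := Ω)
    (fun p (ω' : QuadraticForm F V) => ω' (p.1 0) = ω x ∧ ω' (p.1 1) = ω y ∧ polar ω' (p.1 0) (p.1 1) = 1)
    (m := Fintype.card F ^ k * Fintype.card F ^ k) (n := κ * (Fintype.card F ^ k * Fintype.card F ^ k))
    (fun p _ => ?_) fun ω' _ => ?_
  · rw [card_univ, ← Nat.card_eq_fintype_card, card_linearIndependent hn, ← hV, Fin.prod_univ_two, ← mul_assoc #Ω] at this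
    simpa [mul_comm] using Nat.le_of_mul_le_mul_right this (by positivity)
  · obtain ⟨g, hg⟩ := Submodule.exists_linearEquiv_restrict_eq
      (p.2.linearCombinationEquiv.symm.trans li.linearCombinationEquiv)
    have hg' : ∀ i, g (p.1 i) = ![x, y] i := fun i => by
      rw [← hg ⟨p.1 i, Submodule.subset_span ⟨i, rfl⟩⟩, LinearEquiv.trans_apply,
        show p.2.linearCombinationEquiv.symm ⟨p.1 i, Submodule.subset_span ⟨i, rfl⟩⟩ = Finsupp.single i 1 from
          p.2.linearCombinationEquiv.symm_apply_eq.2 (Subtype.ext (by simp))]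
      simp
    have g0 : g (p.1 0) = x := hg' 0
    have g1 : g (p.1 1) = y := hg' 1
    let A := {φ : Dual F V // φ x = 0 ∧ φ y = 0}
    haveI : Finite (Dual F V) := Finite.of_injective _ DFunLike.coe_injective
    haveI := Fintype.ofFinite A
    let u : A × A → V ≃ₗ[F] V := fun φ => LinearEquiv.ofInjectiveEndo (1 + φ.1.1.smulRight x + φ.2.1.smulRight y)
      ((injective_iff_map_eq_zero _).2 fun v hv => by
        have a1 := congrArg φ.1.1 hv
        have a2 := congrArg φ.2.1 hv
        simp [φ.1.2.1, φ.1.2.2, φ.2.2.1, φ.2.2.2] at a1 a2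
        simpa [a1, a2] using hv)
    have hu : ∀ φ v, u φ v = v + φ.1.1 v • x + φ.2.1 v • y := fun _ _ => rfl
    have pc : ∀ (e : V ≃ₗ[F] V) a b, polar (ω.comp e.toLinearMap) a b = polar ω (e a) (e b) := fun e a b => by
      simp [polar]
    have hA : Fintype.card F ^ k ≤ Fintype.card A := by
      have := card_ann h2 x y
      rw [hV, hk, pow_add, Nat.card_eq_fintype_card] at this
      exact Nat.le_of_mul_le_mul_right this hq
    refine (Nat.mul_le_mul hA hA).trans ?_
    rw [← Fintype.card_prod, ← card_univ]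
    refine card_le_card_of_injOn (fun φ => ω.comp (g.trans (u φ)).toLinearMap) (fun φ _ => ?_) fun φ _ φ' _ e => ?_
    · refine (mem_bipartiteAbove _).2 ⟨hΩ _ hω _, ?_⟩
      rw [pc]
      simp [g0, g1, hu, φ.1.2.1, φ.1.2.2, φ.2.2.1, φ.2.2.2, h]
    · have k : ∀ (φ : A × A) v, polar (ω.comp (g.trans (u φ)).toLinearMap) (p.1 0) (g.symm v) = polar ω x v + φ.2.1 v ∧
          polar (ω.comp (g.trans (u φ)).toLinearMap) (p.1 1) (g.symm v) = polar ω y v + φ.1.1 v := fun φ v => by
        rw [pc, pc]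
        simp [g0, g1, hu, φ.1.2.1, φ.1.2.2, φ.2.2.1, φ.2.2.2, h, polar_self_two h2, polar_comm ω y x]
      simp only at e
      refine Prod.ext (Subtype.ext (LinearMap.ext fun v => ?_)) (Subtype.ext (LinearMap.ext fun v => ?_))
      · exact add_left_cancel ((k φ v).2.symm.trans (e ▸ (k φ' v).2))
      · exact add_left_cancel ((k φ v).1.symm.trans (e ▸ (k φ' v).1))
  · have := hκ ω'
    rw [hV, hk, show κ * (Fintype.card F ^ (k + 2)) ^ 2 = κ * (Fintype.card F ^ k * Fintype.card F ^ k) *
      Fintype.card F ^ 4 by ring, Nat.card_eq_fintype_card, Fintype.card_subtype] at this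
    refine le_trans ?_ (Nat.le_of_mul_le_mul_right this (by positivity))
    refine card_le_card_of_injOn (fun p => (p.1 0, p.1 1)) (fun p hp => mem_filter.2 ⟨mem_univ _,
      ((mem_bipartiteBelow _).1 hp).2⟩) fun p _ p' _ e => Subtype.ext (funext fun i => ?_)
    fin_cases i
    exacts [congrArg Prod.fst e, congrArg Prod.snd e]

theorem card_qf (hn : 2 ≤ finrank F V) (Ω : Finset (QuadraticForm F V))
    (hΩ : ∀ ω ∈ Ω, ∀ g : V ≃ₗ[F] V, ω.comp g.toLinearMap ∈ Ω) {ω : QuadraticForm F V} (hω : ω ∈ Ω) {x y : V}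
    (h : polar ω x y ≠ 0) :
    (Fintype.card V - 1) * (Fintype.card V - Fintype.card F) ≤ 2 * (Fintype.card F + 1) * #Ω := by
  classical
  have sq2 : ∀ {s t : F}, s ^ 2 = t ^ 2 → s = t := fun {s t} e =>
    sub_eq_zero.1 (pow_eq_zero_iff two_ne_zero |>.1 (by linear_combination e + (t ^ 2 - s * t) * h2))
  have nm : ∀ {x y : V}, polar ω x y ≠ 0 → polar ω x ((polar ω x y)⁻¹ • y) = 1 := fun h => by simp [h]
  by_cases hs : ∃ x y, ω x = 0 ∧ polar ω x y ≠ 0
  · obtain ⟨x, y, hx, h⟩ := hs
    refine card_qf_aux h2 hn Ω hΩ hω (nm h) fun ω' => ?_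
    rw [Nat.card_eq_fintype_card, Fintype.card_subtype, ← mul_one (2 * _)]
    refine card_frames h2 ω' (fun c => ?_) (by
      rw [mul_one]
      exact card_le_one.2 fun a ha b hb => by simp only [hx, mul_zero, zero_add, mem_filter] at ha hb; rw [ha.2, hb.2])
    rw [hx]
    refine le_trans (card_le_card_of_injOn (t := (univ : Finset (Bool × F)))
      (fun p => if p.2 = 0 then (true, p.1) else (false, p.2)) (fun _ _ => mem_univ _) fun p hp p' hp' e => ?_)
      (by simp)
    have a := (mem_filter.1 hp).2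
    have a' := (mem_filter.1 hp').2
    simp only at e
    split_ifs at e with h3 h4 h4
    · exact Prod.ext (Prod.ext_iff.1 e).2 (h3.trans h4.symm)
    · simp at e
    · simp at e
    · have e2 : p.2 = p'.2 := (Prod.ext_iff.1 e).2
      rw [← e2] at a'
      exact Prod.ext (mul_right_cancel₀ h3 (by linear_combination a - a')) e2
  have h' := nm h
  set y' := (polar ω x y)⁻¹ • y
  have an : ∀ s t : F, s ^ 2 * ω x + s * t + t ^ 2 * ω y' = 0 → s = 0 ∧ t = 0 := fun s t e => by
    have := qf_dec h2 ω h' (w := 0) (by simp) (by simp) s t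
    rw [map_zero, add_zero _ , add_zero, e] at this
    by_contra hc
    rcases not_and_or.1 hc with h3 | h3
    · exact hs ⟨_, y', this.1, by rw [polar_comm, this.2.2]; exact h3⟩
    · exact hs ⟨_, x, this.1, by rw [polar_comm, this.2.1]; exact h3⟩
  have hx : ω x ≠ 0 := fun e => one_ne_zero (an 1 0 (by simp [e])).1
  refine card_qf_aux h2 hn Ω hΩ hω h' fun ω' => ?_
  rw [Nat.card_eq_fintype_card, Fintype.card_subtype, mul_comm 2]
  refine card_frames h2 ω' (fun c => ?_) ?_
  · refine le_trans (card_le_card_of_injOn (t := (univ : Finset (Option F)))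
      (fun p => if p.2 = 0 then none else some (p.1 / p.2)) (fun _ _ => mem_univ _) fun p hp p' hp' e => ?_) (by simp)
    have a := (mem_filter.1 hp).2
    have a' := (mem_filter.1 hp').2
    simp only at e
    split_ifs at e with h3 h4 h4
    · rw [h3] at a
      rw [h4] at a'
      exact Prod.ext (sq2 (mul_right_cancel₀ hx (by linear_combination a - a'))) (h3.trans h4.symm)
    · obtain ⟨r, h5, h6⟩ : ∃ r, p.1 = r * p.2 ∧ p'.1 = r * p'.2 :=
        ⟨p.1 / p.2, by field_simp, by rw [Option.some.inj e]; field_simp⟩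
      rw [h5] at a
      rw [h6] at a'
      have e2 : p.2 = p'.2 := sq2 (mul_right_cancel₀ (b := r ^ 2 * ω x + r * 1 + 1 ^ 2 * ω y')
        (fun e => one_ne_zero (an _ _ e).2) (by linear_combination a - a'))
      exact Prod.ext (by rw [h5, h6, e2]) e2
  · rw [mul_one]
    refine le_trans (card_le_card (t := {0, -(ω x)⁻¹}) fun s hs => ?_) card_le_two
    have a := (mem_filter.1 hs).2
    by_cases h3 : s = 0
    · simp [h3]
    · exact mem_insert_of_mem (mem_singleton.2 (by
        field_simp; exact mul_left_cancel₀ h3 (by linear_combination a)))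

end count

theorem exists_wsp' {K V : Type*} [Field K] [AddCommGroup V] [Module K V] [IsAlgClosed K] [FiniteDimensional K V]
    {E : Type*} [AddCommGroup E] (f : E → End K V) (h0 : f 0 = 1) (hadd : ∀ a b, f (a + b) = f a * f b) {n : ℕ}
    (hn : (n : K) ≠ 0) (hE : ∀ a : E, n • a = 0) {a : E} (ha : f a ≠ 1) : ∃ l : AddChar E K, l a ≠ 1 ∧ wsp f l ≠ ⊥ := by
  have hp : ∀ (k : ℕ) a, f (k • a) = f a ^ k := fun k a => by
    induction k with
    | zero => simp [h0]
    | succ k ih => rw [succ_nsmul, hadd, ih, pow_succ]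
  have hs : ∀ a, End.IsSemisimple (f a) := fun a =>
    End.isSemisimple_of_squarefree_aeval_eq_zero (Polynomial.X_pow_sub_one_separable_iff.mpr hn).squarefree (by
      rw [map_sub, map_pow, Polynomial.aeval_X, map_one, ← hp, hE, h0, sub_self])
  have ht : ⨆ l, wsp f l = ⊤ := by
    rw [← End.iSup_iInf_maxGenEigenspace_eq_top_of_iSup_maxGenEigenspace_eq_top_of_commute f
      (fun i j _ => show f i * f j = f j * f i by rw [← hadd, ← hadd, add_comm])
      fun a => End.iSup_maxGenEigenspace_eq_top _]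
    refine iSup_congr fun l => iInf_congr fun a => ?_
    rw [End.IsFinitelySemisimple.maxGenEigenspace_eq_eigenspace]
    exact (hs a).isFinitelySemisimple
  by_contra hc
  have h1 : (⊤ : Submodule K V) ≤ End.eigenspace (f a) 1 := ht ▸ iSup_le fun l => by
    by_cases hl : wsp f l = ⊥
    · rw [hl]; exact bot_le
    obtain ⟨v, hv, hv0⟩ := Submodule.exists_mem_ne_zero_of_ne_bot hl
    have hv' := mem_wsp.1 hv
    let χ : AddChar E K := ⟨l, smul_left_injective K hv0 (by simpa [h0] using (hv' 0).symm), fun a b =>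
      smul_left_injective K hv0 (by
        simp only
        rw [← hv', hadd, End.mul_apply, hv', map_smul, hv', smul_smul, mul_comm])⟩
    by_cases h1 : l a = 1
    · exact iInf_le_of_le a (le_of_eq (by rw [h1]))
    · exact absurd ⟨χ, h1, hl⟩ hc
  exact ha (LinearMap.ext fun v => by simpa using End.mem_eigenspace_iff.1 (h1 Submodule.mem_top))

theorem psi_inj {F K E : Type*} [Field F] [Field K] [AddCommGroup E] [Module F E] {ψ : AddChar F K} (h : ψ 1 ≠ 1)
    {L L' : Dual F E} (e : ∀ a, ψ (L a) = ψ (L' a)) : L = L' := LinearMap.ext fun a => by_contra fun hc => by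
  have h1 := sub_ne_zero.2 hc
  have := e ((L a - L' a)⁻¹ • a)
  rw [show L ((L a - L' a)⁻¹ • a) = 1 + L' ((L a - L' a)⁻¹ • a) by
    rw [map_smul, map_smul, smul_eq_mul, smul_eq_mul]; field_simp; ring, ψ.map_add_eq_mul] at this
  exact h (mul_right_cancel₀ (ψ.val_isUnit _).ne_zero (this.trans (one_mul _).symm))

theorem exists_dual {F K E : Type*} [Field F] [Field K] [AddCommGroup E] [Module F E] [Finite E] {ψ : AddChar F K}
    (h : ψ 1 ≠ 1) (l : AddChar E K) : ∃ L : Dual F E, ∀ a, l a = ψ (L a) := by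
  let e : E ≃ₗ[F] Dual F E := LinearEquiv.ofFinrankEq _ _ Subspace.dual_finrank_eq.symm
  obtain ⟨a, rfl⟩ := addChar_surj (fun a => ψ.compAddMonoidHom (e a).toAddMonoidHom)
    (fun a b h1 => e.injective (psi_inj h (DFunLike.congr_fun h1))) l
  exact ⟨e a, fun _ => rfl⟩

variable {F : Type*} [Field F] [StarRing F] [TrivialStar F] {ι : Type*} [Fintype ι] [DecidableEq ι]

/-- symmetrised rank one matrices -/
def symV (u v : ι → F) : HM ι F := ⟨vecMulVec u v + vecMulVec v u, by
  rw [selfAdjoint.mem_iff, star_eq_conjTranspose]; simp [add_comm]⟩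

/-- the quadratic form attached to a functional on symmetric matrices -/
def qfL (L : Dual F (HM ι F)) : QuadraticForm F (ι → F) where
  toFun v := L (rk1 1 v)
  toFun_smul a v := by
    rw [← map_smul]; exact congrArg L (Subtype.ext (by simp [rk1, smul_smul]))
  exists_companion' := ⟨LinearMap.mk₂ F (fun u v => L (symV u v))
    (fun _ _ _ => by rw [← map_add]; exact congrArg L (Subtype.ext (by simp [symV, add_vecMulVec, vecMulVec_add]; abel)))
    (fun _ _ _ => by rw [← map_smul]; exact congrArg L (Subtype.ext (by simp [symV])))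
    (fun _ _ _ => by rw [← map_add]; exact congrArg L (Subtype.ext (by simp [symV, add_vecMulVec, vecMulVec_add]; abel)))
    (fun _ _ _ => by rw [← map_smul]; exact congrArg L (Subtype.ext (by simp [symV]))), fun u v => by
      rw [LinearMap.mk₂_apply, ← map_add, ← map_add]
      exact congrArg L (Subtype.ext (by simp [symV, rk1, add_vecMulVec, vecMulVec_add]; abel))⟩

omit [Fintype ι] [DecidableEq ι] in
theorem polar_qfL (L : Dual F (HM ι F)) (u v : ι → F) : polar (qfL L) u v = L (symV u v) := by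
  change L _ - L _ - L _ = _
  rw [← map_sub, ← map_sub]
  exact congrArg L (Subtype.ext (by simp [symV, rk1, add_vecMulVec, vecMulVec_add]; abel))

theorem sp_bound_two [Fintype F] (h2 : (2 : F) = 0) {V : Type*} [AddCommGroup V] [Module ℂ V] [FiniteDimensional ℂ V]
    (hι : 2 ≤ Fintype.card ι) (ρ : Representation ℂ (symplecticGroup ι F) V) {x y : ι → F}
    (hne : ρ (xSp star_trivial (symV x y)) ≠ 1) :
    (Fintype.card F ^ Fintype.card ι - 1) * (Fintype.card F ^ Fintype.card ι - Fintype.card F) ≤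
      2 * (Fintype.card F + 1) * finrank ℂ V := by
  classical
  have ht : ∀ a : F, star a = a := star_trivial
  let f : HM ι F → End ℂ V := fun X => ρ (xSp ht X)
  obtain ⟨l, hl, hw⟩ := exists_wsp' f (by simp [f, xSp_zero]) (fun X Y => by simp only [f]; rw [xSp_add, map_mul])
    (n := Fintype.card F) (Nat.cast_ne_zero.2 Fintype.card_ne_zero) (fun a => by
      rw [← Nat.cast_smul_eq_nsmul F, FiniteField.cast_card_eq_zero, zero_smul]) hne
  let ψ : AddChar F ℂ := l.compAddMonoidHom (LinearMap.toSpanSingleton F _ (symV x y)).toAddMonoidHom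
  have h1 : ψ 1 ≠ 1 := by simpa [ψ] using hl
  obtain ⟨L, hL⟩ := exists_dual h1 l
  haveI : Finite (QuadraticForm F (ι → F)) := Finite.of_injective _ DFunLike.coe_injective
  let Ω := (Set.toFinite {ω : QuadraticForm F (ι → F) | ∃ L, qfL L = ω ∧ wsp f (fun X => ψ (L X)) ≠ ⊥}).toFinset
  have h3 := card_qf h2 (by simpa using hι) Ω (fun ω hω g => ?_) (ω := qfL L) (x := x) (y := y)
    ((Set.Finite.mem_toFinset _).2 ⟨L, rfl, funext hL ▸ hw⟩) (by
      rw [polar_qfL]; exact fun e => hl (by rw [hL, e, ψ.map_zero_eq_one]))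
  · rw [Fintype.card_fun] at h3
    refine h3.trans (Nat.mul_le_mul_left _ ?_)
    have k : ∀ ω : Ω, ∃ L, qfL L = ω.1 ∧ wsp f (fun X => ψ (L X)) ≠ ⊥ := fun ω =>
      (Set.Finite.mem_toFinset (Set.toFinite {ω : QuadraticForm F (ι → F) |
        ∃ L, qfL L = ω ∧ wsp f (fun X => ψ (L X)) ≠ ⊥})).1 ω.2
    choose M hM hM' using k
    rw [← Fintype.card_coe]
    exact card_le_of_wsp f (fun ω X => ψ (M ω X)) (fun ω ω' e => Subtype.ext (by
      rw [← hM, ← hM, psi_inj h1 (congrFun e)])) hM'
  obtain ⟨L, rfl, h4⟩ := (Set.Finite.mem_toFinset _).1 hω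
  let D := LinearMap.toMatrix' g.toLinearMap
  have u : IsUnit D.det := by rw [LinearMap.det_toMatrix']; exact g.isUnit_det'
  let c : HM ι F →ₗ[F] HM ι F :=
    ⟨⟨cgr D, fun a b => Subtype.ext (by simp [cgr, Matrix.mul_add, Matrix.add_mul])⟩, fun a b => Subtype.ext (by simp [cgr])⟩
  refine (Set.Finite.mem_toFinset _).2 ⟨L ∘ₗ c, QuadraticMap.ext fun v => congrArg L (Subtype.ext ?_), ?_⟩
  · change D * (rk1 1 v).1 * Dᴴ = (rk1 1 (g v)).1
    simp only [rk1, selfAdjoint.val_one, one_smul, mul_vecMulVec, vecMulVec_mul, ← star_mulVec, D,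
      LinearMap.toMatrix'_mulVec, LinearEquiv.coe_coe]
  · let m : symplecticGroup ι F := ⟨fromBlocks D⁻¹ 0 0 Dᵀ, SymplecticGroup.fromBlocks_mem_iff.2 (by
      simp [← transpose_mul, mul_nonsing_inv _ u])⟩
    have h5 := finrank_wsp_le (f := f) (rho_inj ρ m) (φ := cgr D) (fun X => by
      simp only [f]
      rw [← map_mul, ← map_mul]
      refine congrArg ρ (Subtype.ext ?_)
      simp [m, xSp, cgr, fromBlocks_multiply, ct_eq ht, ← Matrix.mul_assoc, nonsing_inv_mul _ u]) fun X => ψ (L X)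
    exact Submodule.one_le_finrank_iff.1 ((Submodule.one_le_finrank_iff.2 h4).trans h5)

end CfsgH8
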