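import Cfsg.Agent.H8.LS7

/-! Cross characteristic degree bound for `SL`. -/

set_option autoImplicit false

namespace CfsgH8
open Matrix Module

variable {F : Type*} [Field F] {ι κ : Type*} [Fintype ι] [DecidableEq ι] [Fintype κ] [DecidableEq κ]

/-- reindexing of special linear groups -/
def reSL (e : ι ≃ κ) : SpecialLinearGroup ι F →* SpecialLinearGroup κ F where
  toFun g := ⟨reindex e e g.1, by rw [det_reindex_self]; exact g.2⟩
  map_one' := Subtype.ext (by simp)
  map_mul' a b := Subtype.ext (submatrix_mul_equiv a.1 b.1 _ e.symm _).symm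

/-- transvections with a common axis -/
def xSL (a : ι → F) : SpecialLinearGroup (ι ⊕ Unit) F :=
  ⟨fromBlocks 1 (replicateCol Unit a) 0 1, by simp [det_fromBlocks_zero₂₁]⟩

theorem sl_bound [Fintype F] {K V : Type*} [Field K] [AddCommGroup V] [Module K V] [IsAlgClosed K]
    [FiniteDimensional K V] (hK : (Fintype.card F : K) ≠ 0) (hι : 1 < Fintype.card ι)
    (ρ : Representation K (SpecialLinearGroup (ι ⊕ Unit) F) V) {a : ι → F} (hne : ρ (xSL a) ≠ 1) :
    Fintype.card F ^ Fintype.card ι - 1 ≤ finrank K V := by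
  classical
  let f : (ι → F) → End K V := fun a => ρ (xSL a)
  obtain ⟨l, hl, hw⟩ := exists_wsp' f (by
      simp only [f]; rw [show xSL (0 : ι → F) = 1 from Subtype.ext (by simp [xSL]), map_one])
    (fun X Y => by
      simp only [f]; rw [← map_mul]
      exact congrArg ρ (Subtype.ext (by
        change (xSL _).1 = (xSL X).1 * (xSL Y).1; simp [xSL, fromBlocks_multiply, replicateCol_add, add_comm])))
    (n := Fintype.card F) hK (fun a => by
      rw [← Nat.cast_smul_eq_nsmul F, FiniteField.cast_card_eq_zero, zero_smul]) hne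
  let ψ : AddChar F K := l.compAddMonoidHom (LinearMap.toSpanSingleton F _ a).toAddMonoidHom
  have h1 : ψ 1 ≠ 1 := by simpa [ψ] using hl
  obtain ⟨L, hL⟩ := exists_dual h1 l
  obtain ⟨b, rfl⟩ := (dotProductEquiv F ι).surjective L
  have hb : b ≠ 0 := fun e => hl (by rw [hL, e]; simp)
  have := card_le_of_wsp (ι := {c : ι → F // c ≠ 0}) f (fun c x => ψ (dotProductEquiv F ι c.1 x))
    (fun c c' e => Subtype.ext ((dotProductEquiv F ι).injective (psi_inj h1 (congrFun e)))) fun c => by
      obtain ⟨D, hD, hc⟩ := trans_SL hι hb c.2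
      have u : IsUnit D.det := by simp [hD]
      let g : SpecialLinearGroup (ι ⊕ Unit) F := ⟨fromBlocks Dᵀ⁻¹ 0 0 1, by simp [det_fromBlocks_zero₂₁, hD]⟩
      have h5 := finrank_wsp_le (f := f) (rho_inj ρ g) (φ := fun x => Dᵀ *ᵥ x) (fun X => by
        simp only [f]; rw [← map_mul, ← map_mul]
        refine congrArg ρ (Subtype.ext ?_)
        change (xSL X).1 * g.1 = g.1 * (xSL _).1
        simp [xSL, g, fromBlocks_multiply, ← replicateCol_mulVec, nonsing_inv_mul _ (det_transpose D ▸ u)]) l
      intro e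
      have h6 : (l ∘ fun x => Dᵀ *ᵥ x) = fun x => ψ (dotProductEquiv F ι c.1 x) := funext fun x => by
        simp [hL, ← hc, dotProduct_mulVec, vecMul_transpose]
      rw [h6, e, finrank_bot, Nat.le_zero, Submodule.finrank_eq_zero] at h5
      exact hw h5
  simpa using this

end CfsgH8
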