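import Mathlib
import Cfsg.Agent.H8.Lin3
import Cfsg.Agent.H2.MaxClass
import Cfsg.Agent.H2.Cls
import Cfsg.Agent.H4.DC
import Cfsg.Agent.S4476
import Cfsg.Agent.S4494
import Cfsg.Agent.S4717

/-! Landau's theorem and the Brauer–Fong bounds. -/

set_option autoImplicit false
set_option linter.unusedSectionVars false

namespace CfsgH8
open Subgroup CfsgH4 Cfsg CfsgH3 CfsgH2

universe u

theorem landau_num (k : ℕ) (r : ℚ) : ∃ N : ℕ, ∀ s : Multiset ℕ, s.card ≤ k → (∀ n ∈ s, 0 < n) →
    (s.map fun n : ℕ => (n : ℚ)⁻¹).sum = r → ∀ n ∈ s, n ≤ N := by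
  induction k generalizing r with
  | zero => exact ⟨0, fun s h => by simp [Multiset.card_eq_zero.1 (Nat.le_zero.1 h)]⟩
  | succ k ih =>
    choose f hf using ih
    refine ⟨⌊(k + 1 : ℕ) / r⌋₊ + ∑ m ∈ Finset.range (⌊(k + 1 : ℕ) / r⌋₊ + 1), f (r - (m : ℚ)⁻¹),
      fun s h1 h2 h3 n hn => ?_⟩
    obtain ⟨m, hm, mn⟩ := s.toFinset.exists_min_image id ⟨n, Multiset.mem_toFinset.2 hn⟩
    rw [Multiset.mem_toFinset] at hm
    have m0 : (0 : ℚ) < m := Nat.cast_pos.2 (h2 m hm)
    have l1 : r ≤ s.card * (m : ℚ)⁻¹ := by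
      rw [← h3, ← nsmul_eq_mul, ← Multiset.card_map (fun n : ℕ => (n : ℚ)⁻¹)]
      refine Multiset.sum_le_card_nsmul _ _ fun x hx => ?_
      obtain ⟨y, hy, rfl⟩ := Multiset.mem_map.1 hx
      exact inv_anti₀ m0 (Nat.cast_le.2 (mn y (Multiset.mem_toFinset.2 hy)))
    obtain ⟨t, rfl⟩ := Multiset.exists_cons_of_mem hm
    rw [Multiset.map_cons, Multiset.sum_cons] at h3
    have r0 : 0 < r := h3 ▸ add_pos_of_pos_of_nonneg (inv_pos.2 m0) (Multiset.sum_nonneg fun x hx => by
      obtain ⟨y, -, rfl⟩ := Multiset.mem_map.1 hx; positivity)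
    have l2 : m ≤ ⌊(k + 1 : ℕ) / r⌋₊ := Nat.le_floor (by
      rw [le_div_iff₀ r0, mul_comm, ← le_mul_inv_iff₀ m0]
      exact l1.trans (mul_le_mul_of_nonneg_right (Nat.cast_le.2 h1) (inv_pos.2 m0).le))
    rcases Multiset.mem_cons.1 hn with rfl | hn
    · exact l2.trans (Nat.le_add_right _ _)
    · exact ((hf _ t (by simpa using h1) (fun x hx => h2 x (Multiset.mem_cons_of_mem hx)) (eq_sub_of_add_eq' h3)
        n hn).trans (Finset.single_le_sum (f := fun m : ℕ => f (r - (m : ℚ)⁻¹)) (fun _ _ => Nat.zero_le _)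
          (Finset.mem_range.2 (Nat.lt_succ_of_le l2)))).trans (Nat.le_add_left _ _)

/-- Landau's theorem. -/
theorem landau (k : ℕ) : ∃ N : ℕ, ∀ (G : Type u) [Group G] [Finite G], Nat.card (ConjClasses G) ≤ k → Nat.card G ≤ N := by
  obtain ⟨N, hN⟩ := landau_num k 1
  refine ⟨N, fun G _ _ h => ?_⟩
  have := Fintype.ofFinite (ConjClasses G)
  choose x hx using ConjClasses.mk_surjective (α := G)
  refine hN (Finset.univ.val.map fun C => Nat.card (centralizer {x C})) (by simpa using h) (fun n hn => ?_) ?_ _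
    (Multiset.mem_map.2 ⟨ConjClasses.mk 1, Finset.mem_univ_val _, ?_⟩)
  · obtain ⟨C, -, rfl⟩ := Multiset.mem_map.1 hn
    exact Nat.card_pos
  · have c0 : (Nat.card G : ℚ) ≠ 0 := Nat.cast_ne_zero.2 Nat.card_pos.ne'
    rw [Multiset.map_map, ← Finset.sum_eq_multiset_sum, ← mul_left_inj' c0, one_mul, Finset.sum_mul]
    conv_rhs => rw [← Group.sum_card_conj_classes_eq_card, finsum_eq_sum_of_fintype, Nat.cast_sum]
    refine Finset.sum_congr rfl fun C _ => ?_
    rw [← CfsgH2.card_cls (x C), Function.comp, Nat.cast_mul, mul_comm, mul_inv_cancel_right₀ (Nat.cast_ne_zero.2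
      Nat.card_pos.ne'), ← Nat.card_coe_set_eq]
    exact congrArg _ (Nat.card_congr (Equiv.subtypeEquivRight fun y => by
      rw [ConjClasses.mem_carrier_iff_mk_eq, ← ConjClasses.mk_eq_mk_iff_isConj, hx, eq_comm]))
  · rw [isConj_one_left.1 (ConjClasses.mk_eq_mk_iff_isConj.1 (hx _)), centralizer_eq_top_iff_subset.2 (by simp),
      card_top]

theorem one_block (p : ℕ) [hp : Fact p.Prime] (a : ℕ) : ∃ N : ℕ, ∀ (G : Type u) [Group G] [Finite G] (M : Ideal AlgInt),
    IsPModular p M → (Nat.card G).factorization p ≤ a →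
    (∀ B : Set (IrrCharacter G), IsPBlock M B → B = principalBlock M G) → Nat.card G ≤ N := by
  obtain ⟨N, hN⟩ := landau.{u} (p ^ (2 * a) + 4)
  refine ⟨N, fun G _ _ M hM ha h => hN G ?_⟩
  have := hM.2.1
  have := charP_of_isPModular hM
  have e : principalBlock M G = Set.univ := Set.eq_univ_of_forall fun χ =>
    h _ (isPBlock_blockOf χ) ▸ mem_blockOf_self χ
  have := Cfsg.Agent.S4494.result p M hM (principalBlock M G) (isPBlock_blockOf' isIrr_one)
  rw [blockDefect_principal, e, Nat.card_univ, card_irr_eq_card_conjClasses] at this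
  have := Nat.pow_le_pow_right hp.out.pos (Nat.mul_le_mul_left 2 ha)
  omega

theorem card_odd_le {G : Type*} [Group G] [Finite G] (K : Subgroup G) [hK : K.Normal] (ho : Odd (Nat.card K)) {s t : G}
    (hs : s * s = 1) (ht : t * t = 1) (c : s * t = t * s) : Nat.card K ≤
      Nat.card (centralizer {s}) * (Nat.card (centralizer {t}) * Nat.card (centralizer {s * t})) := by
  classical
  have := Fintype.ofFinite G
  let m := Nat.card K
  have st : s * t * (s * t) = 1 := by rw [mul_assoc, ← mul_assoc t, ← c, mul_assoc s, ht, mul_one, hs]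
  have fib : ∀ {A B : Finset G} {f : G → G} {n : ℕ}, (∀ a ∈ A, f a ∈ B) →
      (∀ b ∈ B, (A.filter (f · = b)).card ≤ n) → A.card ≤ n * B.card := fun h1 h2 =>
    Finset.card_le_mul_card_image_of_maps_to h1 _ h2
  have cd : ∀ H : Subgroup G, Nat.card H = (Finset.univ.filter (· ∈ H)).card := fun H => by
    rw [Nat.card_eq_fintype_card, Fintype.card_subtype]
  let X := (Finset.univ.filter (· ∈ K)).image fun k => k * s * k⁻¹
  refine (cd K).trans_le ((fib (B := X) (f := fun k => k * s * k⁻¹) (fun a ha => Finset.mem_image_of_mem _ ha)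
    fun b hb => ?_).trans (Nat.mul_le_mul_left _ ?_))
  · obtain ⟨k, -, rfl⟩ := Finset.mem_image.1 hb
    rw [cd]
    refine Finset.card_le_card_of_injOn (k⁻¹ * ·) (fun a ha => ?_) (mul_right_injective _).injOn
    have := (Finset.mem_filter.1 ha).2
    simp only [Finset.coe_filter, Finset.mem_univ, true_and, Set.mem_ofPred_eq, mem_centralizer_singleton_iff]
    rw [mul_assoc, mul_inv_eq_iff_eq_mul.1 this]; group
  have k : ∀ x ∈ X, x * x = 1 ∧ (x : G ⧸ K) = s := fun x hx => by
    obtain ⟨k, hk, rfl⟩ := Finset.mem_image.1 hx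
    exact ⟨by rw [conj_mul, hs]; simp, by simp [(QuotientGroup.eq_one_iff k).2 (Finset.mem_filter.1 hk).2]⟩
  have sq : ∀ x ∈ X, (x * t) ^ m * (x * t) ^ m = 1 := fun x hx => by
    have : x * t * (x * t) ∈ K := (QuotientGroup.eq_one_iff _).1 (by
      simpa [(k x hx).2] using congrArg (QuotientGroup.mk (s := K)) st)
    rw [← (Commute.refl _).mul_pow]
    exact congrArg Subtype.val (pow_card_eq_one' (x := (⟨_, this⟩ : K)))
  have cm : ∀ x ∈ X, (x * t) ^ m * t = t * (x * t) ^ m := fun x hx => by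
    have : t * (x * t) * t⁻¹ = (x * t)⁻¹ := by
      rw [mul_inv_rev, inv_eq_of_mul_eq_one_right ht, inv_eq_of_mul_eq_one_right (k x hx).1, mul_assoc, mul_assoc, ht,
        mul_one]
    have := congrArg (· ^ m) this
    simp only [conj_pow, inv_pow, inv_eq_of_mul_eq_one_right (sq x hx)] at this
    exact (mul_inv_eq_iff_eq_mul.1 this).symm
  rw [mul_comm, cd (centralizer {t})]
  refine fib (f := fun x => (x * t) ^ m) (fun x hx => by simpa [mem_centralizer_singleton_iff] using cm x hx)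
    fun z _ => ?_
  rcases (X.filter fun x => (x * t) ^ m = z).eq_empty_or_nonempty with e | ⟨x, hx'⟩
  · simp [e]
  obtain ⟨hx, rfl⟩ := Finset.mem_filter.1 hx'
  have : (x * t) ^ m * (s * t) ∈ K := (QuotientGroup.eq_one_iff _).1 (by
    obtain ⟨j, hj⟩ := ho
    have := congrArg (QuotientGroup.mk (s := K)) st
    simp only [QuotientGroup.mk_mul, QuotientGroup.mk_pow, (k x hx).2, QuotientGroup.mk_one] at this ⊢
    rw [show m = 2 * j + 1 from hj, ← pow_succ, add_assoc, ← mul_add_one 2 j, pow_mul, pow_two, this, one_pow])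
  rw [← card_cent1_conj (isConj_of_odd (sq x hx) st (ho.of_dvd_nat (K.orderOf_dvd_natCard this))), cd]
  refine Finset.card_le_card fun y hy => ?_
  obtain ⟨hy, e⟩ := Finset.mem_filter.1 hy
  simp only [Finset.mem_filter, Finset.mem_univ, true_and, mem_centralizer_singleton_iff, ← e]
  have : Commute (y * t * t) ((y * t) ^ m) := ((Commute.refl _).pow_right m).mul_left (cm y hy).symm
  rwa [mul_assoc, ht, mul_one] at this

theorem bound_of_four (N a : ℕ) : ∃ B : ℕ, ∀ (G : Type u) [Group G] [Finite G], ¬ 2 ^ a ∣ Nat.card G → ∀ s t : G,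
    s * s = 1 → t * t = 1 → s * t = t * s → Nat.card (centralizer {s}) ≤ N → Nat.card (centralizer {t}) ≤ N →
    Nat.card (centralizer {s * t}) ≤ N → Nat.card G ≤ B := by
  induction a with
  | zero => exact ⟨0, fun G _ _ h => by simp at h⟩
  | succ a ih =>
  obtain ⟨B, hB⟩ := ih
  suffices H : ∃ B : ℕ, ∀ (G : Type u) [Group G] [Finite G], pPrimeCore 2 G = ⊥ → ¬ 2 ^ (a + 1) ∣ Nat.card G →
      ∀ s t : G, s * s = 1 → t * t = 1 → s * t = t * s → Nat.card (centralizer {s}) ≤ N →
      Nat.card (centralizer {t}) ≤ N → Nat.card (centralizer {s * t}) ≤ N → Nat.card G ≤ B by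
    obtain ⟨B, hB⟩ := H
    refine ⟨B * (N * (N * N)), fun G _ _ h s t hs ht c h1 h2 h3 => ?_⟩
    rw [card_eq_card_quotient_mul_card_subgroup (pPrimeCore 2 G)]
    exact Nat.mul_le_mul (hB _ (CfsgH1.pPrimeCore_quotient_pPrimeCore 2 G) (mt (·.trans (card_quotient_dvd_card _)) h)
      s t (congrArg _ hs) (congrArg _ ht) (congrArg _ c) ((card_centralizer_quot_le _ _).trans h1)
      ((card_centralizer_quot_le _ _).trans h2) ((card_centralizer_quot_le _ _).trans h3))
      ((card_odd_le _ (Nat.coprime_two_right.1 (CfsgH1.coprime_card_pPrimeCore 2 G)) hs ht c).trans (by gcongr))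
  refine ⟨N + B * (2 ^ a * (N ^ 2).factorial), fun G _ _ h0 h s t hs ht c h1 h2 h3 => ?_⟩
  by_cases s1 : s = 1
  · rw [s1, centralizer_eq_top_iff_subset.2 (by simp), card_top] at h1
    exact h1.trans (Nat.le_add_right _ _)
  have := Fintype.ofFinite G
  have os : orderOf s = 2 := orderOf_eq_prime (by rw [pow_two, hs]) s1
  obtain ⟨x, x1, hx⟩ := (Cfsg.Agent.S4476.result (even_iff_two_dvd.2 (os ▸ orderOf_dvd_natCard s)) _ rfl).1
  have l : (centralizer {x}).index ≤ N ^ 2 := by
    have a1 : Nat.card {y // IsConj s y} ≤ Nat.card {x : G // orderOf x = 2} := Nat.card_le_card_of_injective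
      (Subtype.map id fun y hy => by obtain ⟨g, rfl⟩ := isConj_iff.1 hy; exact (orderOf_conj' g s).trans os)
      (Subtype.map_injective _ Function.injective_id)
    have a2 := (CfsgH2.card_cls s).ge.trans (Nat.mul_le_mul a1 h1)
    have a3 : (0 : ℚ) < Nat.card {x : G // orderOf x = 2} := Nat.cast_pos.2 (have := Nonempty.intro (⟨s, os⟩ :
      {x : G // orderOf x = 2}); Nat.card_pos)
    have a4 : (1 : ℚ) ≤ Nat.card G := Nat.one_le_cast.2 Nat.card_pos
    have a5 : (Nat.card G : ℚ) ≤ Nat.card {x : G // orderOf x = 2} * N := by exact_mod_cast a2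
    exact_mod_cast hx.trans (pow_le_pow_left₀ (b := (N : ℚ)) (div_nonneg (by linarith) a3.le) ((div_le_iff₀' a3).2 (by linarith)) 2)
  let M := normalClosure {x}
  let K := (centralizer {x}).normalCore
  have kM : M ≤ centralizer K := normalClosure_le_normal (Set.singleton_subset_iff.2 fun y hy =>
    mem_centralizer_singleton_iff.1 (normalCore_le _ hy))
  have : IsMulCommutative (K ⊓ M : Subgroup G) := ⟨⟨fun y z => Subtype.ext (kM z.2.2 y y.2.1)⟩⟩
  have : Group.IsNilpotent (K ⊓ M : Subgroup G) := by open scoped IsMulCommutative in exact CommGroup.isNilpotent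
  obtain ⟨k, hk⟩ := index_pPrimeCore_of_nilpotent 2 (K ⊓ M : Subgroup G)
  rw [(map_eq_bot_iff_of_injective _ (subtype_injective _)).1 (eq_bot_iff.2
    ((CfsgH1.map_pPrimeCore_le_of_normal _).trans h0.le)), index_bot] at hk
  have ka : k ≤ a := by
    by_contra hn
    exact h ((pow_dvd_pow 2 (by omega)).trans (hk ▸ card_subgroup_dvd_card _))
  have e2 : 2 ∣ Nat.card M := by
    by_contra hn
    exact x1 ((CfsgH1.le_pPrimeCore ((Nat.prime_two.coprime_iff_not_dvd.2 hn).symm)).trans h0.le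
      (subset_normalClosure rfl))
  rw [card_eq_card_quotient_mul_card_subgroup M] at h ⊢
  refine (Nat.mul_le_mul (hB _ (fun d => h (pow_succ 2 a ▸ mul_dvd_mul d e2)) s t (congrArg _ hs) (congrArg _ ht)
    (congrArg _ c) ((card_centralizer_quot_le _ _).trans h1) ((card_centralizer_quot_le _ _).trans h2)
    ((card_centralizer_quot_le _ _).trans h3)) ?_).trans (Nat.le_add_left _ _)
  rw [← CfsgH2.card_mul_relIndex (inf_le_right (a := K)), hk, inf_relIndex_right]
  refine Nat.mul_le_mul (Nat.pow_le_pow_right two_pos ka) ((Nat.le_of_dvd (Nat.factorial_pos _)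
    ((relIndex_dvd_index_of_normal K M).trans ?_)).trans (Nat.factorial_le l))
  rw [show K = _ from normalCore_eq_ker _, index_ker, index_eq_card, ← Nat.card_perm]; exact card_subgroup_dvd_card _

theorem defic_bound (a j : ℕ) : ∃ N : ℕ, ∀ (G : Type u) [Group G] [Finite G] (M : Ideal AlgInt) (r : ℕ),
    IsPModular 2 M → (Nat.card G).factorization 2 ≤ a →
    (∀ B : Set (IrrCharacter G), IsPBlock M B → B ≠ principalBlock M G → blockDefect 2 B < r) →
    ∀ E Q : Subgroup G, (∀ x ∈ E, x * x = 1) → Nat.card E = 2 ^ (r + 1) → Q ≤ E → Q ≤ center G →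
      2 ^ r ≤ Nat.card Q * 2 ^ j → Nat.card G ≤ N := by
  induction j with
  | zero =>
    obtain ⟨N, hN⟩ := one_block.{u} 2 a
    refine ⟨N, fun G _ _ M r hM ha h E Q _ cE QE QZ l => hN G M hM ha fun B hB => by_contra fun hn => ?_⟩
    have := hM.2.1
    have := charP_of_isPModular hM
    obtain ⟨D, hD⟩ := exists_isDef_blk 2 hB
    have : Q.Normal := ⟨fun n hn g => by rwa [mem_center_iff.1 (QZ hn) g, mul_inv_cancel_right]⟩
    have := card_le_of_le (hD.le_of_normal_blk hB ((IsPGroup.of_card cE).to_le QE))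
    rw [card_isDef hB hD] at this
    exact absurd (Nat.pow_lt_pow_right one_lt_two (h B hB hn)) (by omega)
  | succ j ih =>
    obtain ⟨N, hN⟩ := ih
    obtain ⟨B, hB⟩ := bound_of_four.{u} N (a + 1)
    refine ⟨N + B, fun G _ _ M r hM ha h E Q sq cE QE QZ l => ?_⟩
    by_cases l' : 2 ^ r ≤ Nat.card Q * 2 ^ j
    · exact (hN G M r hM ha h E Q sq cE QE QZ l').trans (Nat.le_add_right _ _)
    have cm : ∀ x ∈ E, ∀ y ∈ E, x * y = y * x := fun x hx y hy => by
      rw [← inv_eq_of_mul_eq_one_right (sq _ (mul_mem hx hy)), mul_inv_rev, inv_eq_of_mul_eq_one_right (sq x hx),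
        inv_eq_of_mul_eq_one_right (sq y hy)]
    have : Q.Normal := ⟨fun n hn g => by rwa [mem_center_iff.1 (QZ hn) g, mul_inv_cancel_right]⟩
    have cs : ∀ t ∈ E, t ∉ Q → Nat.card (Q ⊔ zpowers t : Subgroup G) = Nat.card Q * 2 := fun t ht tQ => by
      rw [card_sup_zpowers (p := 2) (le_normalizer_of_normal (mem_top t)) tQ (by rw [pow_two, sq t ht]; exact one_mem _)]
    have k : ∀ t ∈ E, t ∉ Q → Nat.card (centralizer {t}) ≤ N := fun t ht tQ => by
      have hE : E ≤ centralizer {t} := fun x hx => mem_centralizer_singleton_iff.2 (cm x hx t ht)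
      have hQ : Q ⊔ zpowers t ≤ E := sup_le QE (zpowers_le.2 ht)
      refine hN _ M r hM (((Nat.factorization_le_iff_dvd Nat.card_pos.ne' Nat.card_pos.ne').2
        (card_subgroup_dvd_card _) 2).trans ha) ((Cfsg.Agent.S4717.result 2 M hM r).1 h t
        (exists_orderOf_eq_pow (IsPGroup.of_card cE) ht)) (E.subgroupOf _) ((Q ⊔ zpowers t).subgroupOf _)
        (fun x hx => Subtype.ext (sq x hx)) ((CfsgH1.card_subgroupOf_of_le hE).trans cE) (comap_mono hQ)
        (fun x hx => mem_center_iff.2 fun y => Subtype.ext (mem_centralizer_singleton_iff.1 ((sup_le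
          (fun z hz => mem_centralizer_singleton_iff.2 (mem_center_iff.1 (QZ hz) y).symm) (zpowers_le.2
            (mem_centralizer_singleton_iff.2 (mem_centralizer_singleton_iff.1 y.2).symm)) :
              Q ⊔ zpowers t ≤ centralizer {(y : G)}) hx)).symm) ?_
      rw [CfsgH1.card_subgroupOf_of_le (hQ.trans hE), cs t ht tQ, mul_assoc, ← pow_succ']; exact l
    have := Nat.one_le_two_pow (n := j)
    obtain ⟨s, hs, sQ⟩ := SetLike.not_le_iff_exists.1 (show ¬ E ≤ Q from fun e => by
      have := card_le_of_le e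
      rw [cE, pow_succ] at this; nlinarith)
    obtain ⟨t, ht, tQ⟩ := SetLike.not_le_iff_exists.1 (show ¬ E ≤ Q ⊔ zpowers s from fun e => by
      have := card_le_of_le e
      rw [cE, cs s hs sQ, pow_succ] at this; nlinarith)
    refine (hB G (fun d => ?_) s t (sq s hs) (sq t ht) (cm s hs t ht) (k s hs sQ) (k t ht fun e => tQ (mem_sup_left e))
      (k _ (mul_mem hs ht) fun e => tQ ?_)).trans (Nat.le_add_left _ _)
    · have := (Nat.prime_two.pow_dvd_iff_le_factorization Nat.card_pos.ne').1 d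
      omega
    · exact (mul_mem_cancel_left (mem_sup_right (mem_zpowers s))).1 (mem_sup_left e)

end CfsgH8
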