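import Cfsg.Agent.H8.AutSp

/-!
Galois descent for forms; Lang's theorem and centralizers of field automorphisms for the classical groups.
-/

set_option autoImplicit false

namespace CfsgH8

open Subgroup Module Matrix CfsgH5 CfsgH5.Form

variable {ι : Type*} [Fintype ι] [DecidableEq ι] {F : Type*} [Field F] {T : FParam F}
  {S : Form T (ι → F)} {F₀ : Type*} [Field F₀] {T₀ : FParam F₀} {S₀ : Form T₀ (ι → F₀)}
  {φ : F₀ →+* F}

/-- the form parameter is stable under fixed scalars -/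
def Scal (T : FParam F) : Prop := ∀ κ a, T.σ κ = κ → a ∈ T.Λ → κ * a ∈ T.Λ

theorem Scal.π_mul (hT : Scal T) {κ a b : F} (hκ : T.σ κ = κ) (h : T.π a = T.π b) :
    T.π (κ * a) = T.π (κ * b) := by
  rw [T.π_eq_iff] at h ⊢
  rw [← mul_sub]
  exact hT _ _ hκ h

theorem Scal.π_cancel (hT : Scal T) {κ a b : F} (hκ : T.σ κ = κ) (h0 : κ ≠ 0)
    (h : T.π (κ * a) = T.π (κ * b)) : T.π a = T.π b := by
  simpa [h0] using hT.π_mul (κ := κ⁻¹) (by rw [map_inv₀, hκ]) h

theorem scal_sp : Scal (spParam F) := fun _ _ _ _ => trivial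

theorem scal_orth : Scal (orthParam F) := fun _ a _ h => by
  rw [show a = 0 from h, mul_zero]; exact zero_mem _

theorem scal_unit {σ : F →+* F} {hσ : ∀ a, σ (σ a) = a} : Scal (unitParam σ hσ) := fun κ a h1 h => by
  rw [unitParam_mem] at h ⊢
  rw [map_mul, show σ κ = κ from h1, ← mul_add, h, mul_zero]

theorem isSemiSim_of_span (hT : Scal T) {M : GL ι F} {κ : F} (h0 : κ ≠ 0) (h1 : T.σ κ = κ)
    {s : Set (ι → F)} (hs : Submodule.span F s = ⊤)
    (hB : ∀ x ∈ s, ∀ y ∈ s, S.B ((M : Matrix ι ι F) *ᵥ x) ((M : Matrix ι ι F) *ᵥ y) = κ * S.B x y)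
    (hq : ∀ x ∈ s, ∃ l, S.q x = T.π l ∧ S.q ((M : Matrix ι ι F) *ᵥ x) = T.π (κ * l)) :
    IsSemiSim S (SemidirectProduct.inl M) κ := by
  have hB1 : ∀ x, ∀ y ∈ s, S.B ((M : Matrix ι ι F) *ᵥ x) ((M : Matrix ι ι F) *ᵥ y) = κ * S.B x y := by
    intro x y hy
    have hx : x ∈ Submodule.span F s := hs ▸ trivial
    induction hx using Submodule.span_induction with
    | mem x hx => exact hB x hx y hy
    | zero => simp
    | add x z _ _ h h' => rw [mulVec_add, add_left, add_left, h, h', mul_add]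
    | smul c x _ h => rw [mulVec_smul, smul_left, smul_left, h]; ring
  have hB2 : ∀ x y, S.B ((M : Matrix ι ι F) *ᵥ x) ((M : Matrix ι ι F) *ᵥ y) = κ * S.B x y := by
    intro x y
    have hy : y ∈ Submodule.span F s := hs ▸ trivial
    induction hy using Submodule.span_induction with
    | mem y hy => exact hB1 x y hy
    | zero => simp
    | add y z _ _ h h' => rw [mulVec_add, add_right, add_right, h, h', mul_add]
    | smul c y _ h => rw [mulVec_smul, smul_right, smul_right, h]; ring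
  have hq2 : ∀ x, ∃ l, S.q x = T.π l ∧ S.q ((M : Matrix ι ι F) *ᵥ x) = T.π (κ * l) := by
    intro x
    have hx : x ∈ Submodule.span F s := hs ▸ trivial
    induction hx using Submodule.span_induction with
    | mem x hx => exact hq x hx
    | zero => exact ⟨0, by simp, by simp⟩
    | add x z _ _ h h' =>
      obtain ⟨l, h1, h2⟩ := h
      obtain ⟨l', h1', h2'⟩ := h'
      exact ⟨l + l' + S.B x z, by rw [q_add, h1, h1', map_add, map_add],
        by rw [mulVec_add, q_add, h2, h2', hB2, mul_add, mul_add, map_add, map_add]⟩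
    | smul c x _ h =>
      obtain ⟨l, h1, h2⟩ := h
      exact ⟨_, S.q_smul c x l h1, by rw [mulVec_smul, S.q_smul c _ _ h2]; congr 1; ring⟩
  refine ⟨h0, h1, hB2, fun x l hl => ?_⟩
  obtain ⟨l', h2, h3⟩ := hq2 x
  exact h3.trans (hT.π_mul h1 (h2.symm.trans hl))

/-- extension of scalars of a vector -/
def vmap (φ : F₀ →+* F) (x : ι → F₀) : ι → F := fun i => φ (x i)

omit [Fintype ι] [DecidableEq ι] in
theorem vmap_add (x y : ι → F₀) : vmap φ (x + y) = vmap φ x + vmap φ y := by ext; simp [vmap]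

omit [Fintype ι] [DecidableEq ι] in
theorem vmap_smul (c : F₀) (x : ι → F₀) : vmap φ (c • x) = φ c • vmap φ x := by ext; simp [vmap]

omit [Fintype ι] [DecidableEq ι] in
theorem vmap_zero : vmap φ (0 : ι → F₀) = 0 := by ext; simp [vmap]

omit [Fintype ι] [DecidableEq ι] in
theorem vmap_inj : Function.Injective (vmap φ : (ι → F₀) → ι → F) := fun _ _ h =>
  funext fun i => φ.injective (congrFun h i)

omit [Fintype ι] [DecidableEq ι] in
theorem vmap_id (x : ι → F) : vmap (RingHom.id F) x = x := rfl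

theorem vmap_mulVec (g : GL ι F₀) (x : ι → F₀) : vmap φ ((g : Matrix ι ι F₀) *ᵥ x) =
    (GeneralLinearGroup.map φ g : Matrix ι ι F) *ᵥ vmap φ x := by
  ext i
  simp [vmap, mulVec, dotProduct]

theorem span_vmap (φ : F₀ →+* F) (P : GL ι F) :
    Submodule.span F (Set.range fun x : ι → F₀ => (P : Matrix ι ι F) *ᵥ vmap φ x) = ⊤ := by
  rw [eq_top_iff]
  intro v _
  have h : v = ∑ i, (((P⁻¹ : GL ι F) : Matrix ι ι F) *ᵥ v) i •
      (P : Matrix ι ι F) *ᵥ vmap φ (Pi.single i 1) := by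
    simp only [← mulVec_smul, ← mulVec_sum]
    have : ∑ i, (((P⁻¹ : GL ι F) : Matrix ι ι F) *ᵥ v) i • vmap φ (Pi.single i (1 : F₀)) =
        ((P⁻¹ : GL ι F) : Matrix ι ι F) *ᵥ v := by
      ext j
      simp [vmap, Pi.single_apply, apply_ite φ]
    rw [this, mulVec_mulVec, ← Units.val_mul, mul_inv_cancel, Units.val_one, one_mulVec]
  rw [h]
  exact Submodule.sum_mem _ fun i _ => Submodule.smul_mem _ _ (Submodule.subset_span ⟨_, rfl⟩)

/-- `S`, read in the basis `P` and divided by `e`, is the scalar extension of `S₀`. -/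
structure IsExt (φ : F₀ →+* F) (S₀ : Form T₀ (ι → F₀)) (S : Form T (ι → F)) (P : GL ι F) (e : F) :
    Prop where
  ne : e ≠ 0
  fix : T.σ e = e
  B : ∀ x y, S.B ((P : Matrix ι ι F) *ᵥ vmap φ x) ((P : Matrix ι ι F) *ᵥ vmap φ y) = e * φ (S₀.B x y)
  q : ∀ x l, S₀.q x = T₀.π l → S.q ((P : Matrix ι ι F) *ᵥ vmap φ x) = T.π (e * φ l)

theorem isExt_of_isom {S₁ : Form T (ι → F)} {j : (ι → F) ≃ₗ[F] (ι → F)} (h : IsIsom S₁ S j) :
    IsExt (RingHom.id F) S₁ S (glRho.symm j) 1 :=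
  have h' : ∀ v, ((glRho.symm j : GL ι F) : Matrix ι ι F) *ᵥ v = j v := fun v => by
    rw [← glRho_apply, MulEquiv.apply_symm_apply]
  ⟨one_ne_zero, map_one _, fun x y => by simp [h', vmap_id, h.B], fun x l hl => by
    simp [h', vmap_id, h.q, hl]⟩

theorem isExt_of_sim {g : GL ι F} {κ : F} (h : IsSemiSim S (SemidirectProduct.inl g) κ) :
    IsExt (RingHom.id F) S S g κ := ⟨h.ne, h.fix, h.B, h.q⟩

theorem IsExt.comp (hσ : ∀ a, T.σ (φ a) = φ (T₀.σ a)) {S₁ : Form T₀ (ι → F₀)} {P : GL ι F} {e : F}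
    (h : IsExt φ S₁ S P e) {g : GL ι F₀} {κ : F₀} (h' : IsExt (RingHom.id F₀) S₀ S₁ g κ) :
    IsExt φ S₀ S (P * GeneralLinearGroup.map φ g) (e * φ κ) :=
  ⟨mul_ne_zero h.ne (by simpa using h'.ne), by rw [map_mul, h.fix, hσ, h'.fix], fun x y => by
    rw [Units.val_mul, ← mulVec_mulVec, ← mulVec_mulVec, ← vmap_mulVec, ← vmap_mulVec, h.B,
      mul_assoc, ← map_mul]
    exact congrArg (fun t => e * φ t) (h'.B x y), fun x l hl => by
    rw [Units.val_mul, ← mulVec_mulVec, ← vmap_mulVec, mul_assoc, ← map_mul]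
    exact h.q _ _ (h'.q x l hl)⟩

theorem IsExt.left {P : GL ι F} {e : F} (h : IsExt φ S₀ S P e) {M : GL ι F} {κ : F}
    (hM : IsSemiSim S (SemidirectProduct.inl M) κ) : IsExt φ S₀ S (M * P) (κ * e) :=
  ⟨mul_ne_zero hM.ne h.ne, by rw [map_mul, hM.fix, h.fix], fun x y => by
    rw [Units.val_mul, ← mulVec_mulVec, ← mulVec_mulVec, mul_assoc, ← h.B]
    exact hM.B _ _, fun x l hl => by
    rw [Units.val_mul, ← mulVec_mulVec, mul_assoc]
    exact hM.q _ _ (h.q x l hl)⟩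

theorem IsExt.sim (hT : Scal T) {P P' : GL ι F} {e e' : F} (h : IsExt φ S₀ S P e)
    (h' : IsExt φ S₀ S P' e') : IsSemiSim S (SemidirectProduct.inl (P' * P⁻¹)) (e' / e) := by
  have hv : ∀ v, ((P' * P⁻¹ : GL ι F) : Matrix ι ι F) *ᵥ ((P : Matrix ι ι F) *ᵥ v) =
      (P' : Matrix ι ι F) *ᵥ v := fun v => by
    rw [mulVec_mulVec, ← Units.val_mul, inv_mul_cancel_right]
  have := h.ne
  refine isSemiSim_of_span hT (div_ne_zero h'.ne h.ne) (by rw [map_div₀, h.fix, h'.fix])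
    (span_vmap φ P) ?_ ?_
  · rintro _ ⟨x, rfl⟩ _ ⟨y, rfl⟩
    simp only [hv, h.B, h'.B]
    field_simp
  · rintro _ ⟨x, rfl⟩
    obtain ⟨l, hl⟩ := S₀.exists_rep x
    refine ⟨_, h.q x l hl, ?_⟩
    rw [hv, h'.q x l hl]
    congr 1
    field_simp

theorem IsExt.nondeg (hS : S.Nondeg) {P : GL ι F} {e : F} (h : IsExt φ S₀ S P e) : S₀.Nondeg := by
  intro x hx
  have h1 : (P : Matrix ι ι F) *ᵥ vmap φ x = 0 := hS _ fun y => by
    have hy := (span_vmap φ P).ge (Submodule.mem_top (x := y))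
    induction hy using Submodule.span_induction with
    | mem y hy => obtain ⟨z, rfl⟩ := hy; simp [h.B, hx]
    | zero => simp
    | add y z _ _ h h' => rw [add_left, h, h', add_zero]
    | smul c y _ h => rw [smul_left, h, mul_zero]
  have h2 := congrArg (((P⁻¹ : GL ι F) : Matrix ι ι F) *ᵥ ·) h1
  simp only [mulVec_mulVec, ← Units.val_mul, inv_mul_cancel, Units.val_one, one_mulVec,
    mulVec_zero] at h2
  exact vmap_inj (h2.trans vmap_zero.symm)

/-- compatibility of form parameters with a fixed field -/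
structure DescP (σ : F ≃+* F) (φ : F₀ →+* F) (T₀ : FParam F₀) (T : FParam F) : Prop where
  fixed : ∀ a, σ a = a ↔ ∃ b, φ b = a
  scal : Scal T
  scal₀ : Scal T₀
  comm : ∀ a, T.σ (φ a) = φ (T₀.σ a)
  eps : T.ε = φ T₀.ε
  mem : ∀ a, φ a ∈ T.Λ ↔ a ∈ T₀.Λ
  lift : ∀ l, l - σ l ∈ T.Λ → ∃ l₀, l - φ l₀ ∈ T.Λ
  triv : (∀ a, T.σ a = a) ∨ ∃ c, T₀.σ c ≠ c

theorem DescP.fix {σ : F ≃+* F} (D : DescP σ φ T₀ T) (b : F₀) : σ (φ b) = φ b := (D.fixed _).2 ⟨b, rfl⟩

theorem DescP.π_iff {σ : F ≃+* F} (D : DescP σ φ T₀ T) {a b : F₀} :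
    T.π (φ a) = T.π (φ b) ↔ T₀.π a = T₀.π b := by
  rw [T.π_eq_iff, T₀.π_eq_iff, ← map_sub, D.mem]

theorem descP_sp {σ : F ≃+* F} (h : ∀ a, σ a = a ↔ ∃ b, φ b = a) :
    DescP σ φ (spParam F₀) (spParam F) :=
  ⟨h, scal_sp, scal_sp, fun _ => rfl, by simp, fun _ => Iff.rfl, fun _ _ => ⟨0, trivial⟩,
    Or.inl fun _ => rfl⟩

theorem descP_orth {σ : F ≃+* F} (h : ∀ a, σ a = a ↔ ∃ b, φ b = a) :
    DescP σ φ (orthParam F₀) (orthParam F) :=
  ⟨h, scal_orth, scal_orth, fun _ => rfl, by simp, fun a => by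
    change φ a = 0 ↔ a = 0
    simp, fun l hl => by
    obtain ⟨b, rfl⟩ := (h l).1 (sub_eq_zero.1 hl).symm
    exact ⟨b, sub_self _⟩, Or.inl fun _ => rfl⟩

theorem descP_unit [Finite F] {σ : F ≃+* F} (h : ∀ a, σ a = a ↔ ∃ b, φ b = a) {τ : F →+* F}
    {hτ : ∀ a, τ (τ a) = a} {τ₀ : F₀ →+* F₀} {hτ₀ : ∀ a, τ₀ (τ₀ a) = a} (hc : ∀ a, τ (φ a) = φ (τ₀ a))
    (hne : ∃ c, τ₀ c ≠ c) : DescP σ φ (unitParam τ₀ hτ₀) (unitParam τ hτ) :=
  ⟨h, scal_unit, scal_unit, hc, by simp, fun a => by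
    rw [unitParam_mem, unitParam_mem, hc, ← map_add, map_eq_zero], fun l hl => by
    rw [unitParam_mem] at hl
    obtain ⟨t, ht⟩ := (h (l + τ l)).1 (by
      have := ringHom_comm τ (σ : F →+* F) l
      rw [map_sub] at hl
      rw [map_add]
      change τ (σ l) = σ (τ l) at this
      linear_combination -hl - this)
    obtain ⟨θ, hθ⟩ := exists_trace_eq τ₀ hτ₀ hne (c := t) (φ.injective (by
      rw [← hc, ht, map_add, hτ, add_comm]))
    refine ⟨θ, (unitParam_mem _ _).2 ?_⟩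
    rw [map_sub, hc]
    rw [← hθ, map_add] at ht
    linear_combination -ht, Or.inr hne⟩

theorem IsExt.of_left {σ : F ≃+* F} (D : DescP σ φ T₀ T) [Nonempty ι] (hS : S.Nondeg) {P : GL ι F}
    {e e' : F} (h : IsExt φ S₀ S P e) {g : GL ι F₀}
    (h' : IsExt φ S₀ S (P * GeneralLinearGroup.map φ g) e') :
    ∃ κ, φ κ * e = e' ∧ IsSemiSim S₀ (SemidirectProduct.inl g) κ := by
  have hB : ∀ x y, e * φ (S₀.B ((g : Matrix ι ι F₀) *ᵥ x) ((g : Matrix ι ι F₀) *ᵥ y)) =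
      e' * φ (S₀.B x y) := fun x y => by
    rw [← h.B, ← h'.B, vmap_mulVec, vmap_mulVec, mulVec_mulVec, mulVec_mulVec]; rfl
  obtain ⟨x, hx⟩ := exists_ne (0 : ι → F₀)
  obtain ⟨y, hy⟩ := (h.nondeg hS).exists_ne hx
  have hy' : φ (S₀.B y x) ≠ 0 := by simpa using hy
  have he := h.ne
  set κ := S₀.B ((g : Matrix ι ι F₀) *ᵥ y) ((g : Matrix ι ι F₀) *ᵥ x) / S₀.B y x
  have hκ : φ κ * e = e' := by
    rw [map_div₀]
    field_simp
    linear_combination hB y x
  refine ⟨κ, hκ, fun h0 => h'.ne (by rw [← hκ, h0]; simp), φ.injective ?_, fun x y => φ.injective ?_,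
    fun x l hl => ?_⟩
  · rw [← D.comm]
    refine mul_right_cancel₀ he ?_
    rw [hκ, ← h'.fix, ← hκ, map_mul, h.fix]
  · refine mul_left_cancel₀ he ?_
    refine (hB x y).trans ?_
    rw [← hκ, map_mul]
    change _ = e * (φ κ * φ (S₀.B x y))
    ring
  · obtain ⟨l', hl'⟩ := S₀.exists_rep ((g : Matrix ι ι F₀) *ᵥ x)
    have h1 := h.q _ _ hl'
    rw [vmap_mulVec, mulVec_mulVec, ← Units.val_mul, h'.q x l hl, ← hκ] at h1
    refine hl'.trans (D.π_iff.1 (D.scal.π_cancel h.fix he ?_))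
    rw [← h1, map_mul φ]
    congr 1
    change _ = e * (φ κ * φ l)
    ring

theorem exists_ext {σ : F ≃+* F} (D : DescP σ φ T₀ T) {P : GL ι F} {e : F} (h0 : e ≠ 0)
    (h1 : T.σ e = e)
    (hB : ∀ x y, σ (S.B ((P : Matrix ι ι F) *ᵥ vmap φ x) ((P : Matrix ι ι F) *ᵥ vmap φ y) / e) =
      S.B ((P : Matrix ι ι F) *ᵥ vmap φ x) ((P : Matrix ι ι F) *ᵥ vmap φ y) / e)
    (hq : ∀ x l, S.q ((P : Matrix ι ι F) *ᵥ vmap φ x) = T.π (e * l) → l - σ l ∈ T.Λ) :
    ∃ S₀ : Form T₀ (ι → F₀), IsExt φ S₀ S P e := by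
  choose B₀ hB₀ using fun x y => (D.fixed _).1 (hB x y)
  have hB₁ : ∀ x y, S.B ((P : Matrix ι ι F) *ᵥ vmap φ x) ((P : Matrix ι ι F) *ᵥ vmap φ y) =
      e * φ (B₀ x y) := fun x y => by rw [hB₀]; field_simp
  have hex : ∀ x, ∃ l₀, S.q ((P : Matrix ι ι F) *ᵥ vmap φ x) = T.π (e * φ l₀) := fun x => by
    obtain ⟨l, hl⟩ := S.exists_rep ((P : Matrix ι ι F) *ᵥ vmap φ x)
    rw [show l = e * (l / e) by field_simp] at hl
    obtain ⟨l₀, h⟩ := D.lift _ (hq x _ hl)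
    exact ⟨l₀, hl.trans (D.scal.π_mul h1 (T.π_eq_iff.2 h))⟩
  choose q₀ hq₀ using hex
  have key : ∀ x l, T₀.π (q₀ x) = T₀.π l ↔ S.q ((P : Matrix ι ι F) *ᵥ vmap φ x) = T.π (e * φ l) :=
    fun x l => ⟨fun h => (hq₀ x).trans (D.scal.π_mul h1 (D.π_iff.2 h)),
      fun h => D.π_iff.1 (D.scal.π_cancel h1 h0 ((hq₀ x).symm.trans h))⟩
  have inj : ∀ {a b : F₀}, e * φ a = e * φ b → a = b := fun h => φ.injective (mul_left_cancel₀ h0 h)
  refine ⟨⟨B₀, fun x => T₀.π (q₀ x), fun x y z => inj ?_, fun c x z => inj ?_, fun x y => inj ?_,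
    fun x y => ?_, fun c x l hl => ?_, fun x l hl => inj ?_⟩, h0, h1, hB₁, fun x l hl => (key x l).1 hl⟩
  · rw [← hB₁, vmap_add, mulVec_add, add_left, hB₁, hB₁, map_add, mul_add]
  · rw [← hB₁, vmap_smul, mulVec_smul, smul_left, hB₁, map_mul]; ring
  · rw [← hB₁, S.herm, hB₁, map_mul, map_mul, h1, D.comm, D.eps]; ring
  · rw [← map_add, ← map_add, key, vmap_add, mulVec_add, q_add, hq₀, hq₀, hB₁, ← map_add, ← map_add,
      map_add φ, map_add φ, mul_add, mul_add]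
  · rw [key] at hl ⊢
    rw [vmap_smul, mulVec_smul, S.q_smul _ _ _ hl, D.comm, map_mul φ, map_mul φ]
    congr 1; ring
  · rw [key] at hl
    rw [← hB₁, S.self _ _ hl, map_mul, h1, D.comm, D.eps, map_add, map_mul]; ring

theorem DescP.exists_cob [Finite F] {σ : F ≃+* F} (D : DescP σ φ T₀ T) {κ : Fˣ} (h1 : T.σ κ = κ)
    (h2 : nrm σ (orderOf σ) κ = 1) : ∃ e : F, e ≠ 0 ∧ T.σ e = e ∧ e = κ * σ e := by
  haveI := finite_ringAut (F := F)
  obtain ⟨d, hd⟩ := exists_cob_eq (orderOf_pos σ).ne' rfl h2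
  have hd1 : (d : F) = κ * σ d := by
    rw [← hd, coe_cob]
    have : σ d ≠ 0 := by simp
    field_simp
  have hd2 : T.σ d = κ * σ (T.σ d) := by
    conv_lhs => rw [hd1, map_mul, h1]
    exact congrArg _ (ringHom_comm T.σ (σ : F →+* F) d)
  rcases D.triv with h | ⟨c, hc⟩
  · exact ⟨d, d.ne_zero, h _, hd1⟩
  · have key : ∀ c : F₀, T.σ (φ c * d + T.σ (φ c * d)) = φ c * d + T.σ (φ c * d) ∧
        φ c * d + T.σ (φ c * d) = κ * σ (φ c * d + T.σ (φ c * d)) := fun c =>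
      ⟨by rw [map_add, T.σσ, add_comm], by
        rw [map_mul, D.comm, map_add, map_mul, map_mul, D.fix, D.fix]
        linear_combination φ c * hd1 + φ (T₀.σ c) * hd2⟩
    by_cases h0 : φ 1 * d + T.σ (φ 1 * d) = 0
    · refine ⟨_, fun h => hc (φ.injective (mul_right_cancel₀ d.ne_zero ?_)), key c⟩
      rw [map_mul, D.comm] at h
      rw [map_one, one_mul] at h0
      linear_combination φ (T₀.σ c) * h0 - h
    · exact ⟨_, h0, key 1⟩

variable [Finite F]

theorem IsSemiSim.pow {γ : GammaL ι F} {κ : Fˣ} (h : IsSemiSim S γ κ) (k : ℕ) :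
    IsSemiSim S (γ ^ k) (nrm γ.right k κ) := by
  induction k with
  | zero => simpa [coe_nrm] using isSemiSim_one
  | succ k ih =>
    rw [pow_succ, coe_nrm, Finset.prod_range_succ, ← coe_nrm]
    have := ih.mul h
    rwa [show (γ ^ k).right = γ.right ^ k from map_pow SemidirectProduct.rightHom γ k] at this

/-- `S₀` is the form induced on the points fixed by (a scalar multiple of) `γ`, in the basis `P` -/
def IsDesc (φ : F₀ →+* F) (S₀ : Form T₀ (ι → F₀)) (S : Form T (ι → F)) (γ : GammaL ι F) (P : GL ι F) :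
    Prop :=
  (∃ d : Fˣ, γ.left * fieldAutGL γ.right P = GeneralLinearGroup.scalar ι d * P) ∧ ∃ e, IsExt φ S₀ S P e

omit [Finite F] in
theorem semiAct_fix {γ : GammaL ι F} (hφ : ∀ a, γ.right a = a ↔ ∃ b, φ b = a) {P : GL ι F} {d : Fˣ}
    (h : γ.left * fieldAutGL γ.right P = GeneralLinearGroup.scalar ι d * P) (x : ι → F₀) :
    semiAct γ ((P : Matrix ι ι F) *ᵥ vmap φ x) = (d : F) • (P : Matrix ι ι F) *ᵥ vmap φ x := by
  rw [semiAct_apply, mulVec_map_comp, mulVec_mulVec, ← coe_fieldAutGL, ← Units.val_mul, h,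
    Units.val_mul, ← mulVec_mulVec]
  have : (fun i => γ.right (vmap φ x i)) = vmap φ x := funext fun i => (hφ _).2 ⟨_, rfl⟩
  rw [this]
  ext i
  simp [mulVec_diagonal]

theorem exists_desc [Nonempty ι] (hS : S.Nondeg) {γ : GammaL ι F} (D : DescP γ.right φ T₀ T)
    (hγ : γ ∈ GammaS S) {c : Fˣ}
    (h : γ ^ orderOf γ.right = SemidirectProduct.inl (GeneralLinearGroup.scalar ι c)) :
    ∃ (S₀ : Form T₀ (ι → F₀)) (P : GL ι F), IsDesc φ S₀ S γ P := by
  haveI := finite_ringAut (F := F)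
  obtain ⟨d, P, hd, hP⟩ := lang_GL (orderOf_pos γ.right).ne' rfl (M := γ.left) h
  obtain ⟨κ, hκ⟩ := hγ
  have h1 := (isSemiSim_scalar (S := S) d⁻¹).mul hκ
  set γ' := SemidirectProduct.inl (GeneralLinearGroup.scalar ι d⁻¹) * γ with hγ'
  have hγ'' : γ' = ⟨GeneralLinearGroup.scalar ι d⁻¹ * γ.left, γ.right⟩ := by
    rw [hγ']; ext1 <;> simp
  have hr : γ'.right = γ.right := by rw [hγ'']
  have h2 := IsSemiSim.pow (κ := Units.mk0 _ h1.ne) h1 (orderOf γ.right)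
  have h3 : γ' ^ orderOf γ.right = 1 := by
    rw [hγ'', gammaL_scalar_pow, map_inv, hd, h, ← map_mul, ← map_mul, inv_mul_cancel, map_one,
      map_one]
  rw [h3, hr] at h2
  obtain ⟨e, he0, he1, he⟩ := D.exists_cob (κ := Units.mk0 _ h1.ne) h1.fix
    (Units.ext (h2.unique hS isSemiSim_one))
  have hfix : ∀ x : ι → F₀, semiAct γ' ((P : Matrix ι ι F) *ᵥ vmap φ x) =
      (P : Matrix ι ι F) *ᵥ vmap φ x := fun x => by
    rw [semiAct_fix (d := 1) (by rw [hr]; exact D.fixed) (by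
      rw [hγ'']
      change _ * γ.left * fieldAutGL γ.right P = _
      rw [mul_assoc, hP, ← mul_assoc, ← map_mul, inv_mul_cancel])]
    simp
  rw [Units.val_mk0] at he
  generalize (((d⁻¹ : Fˣ) : F) * T.σ ((d⁻¹ : Fˣ) : F) * _) = κ' at h1 he
  have hσe : γ.right e ≠ 0 := by simpa using he0
  obtain ⟨S₀, hS₀⟩ := exists_ext (S := S) (P := P) D he0 he1 (fun x y => by
    have := h1.B ((P : Matrix ι ι F) *ᵥ vmap φ x) ((P : Matrix ι ι F) *ᵥ vmap φ y)
    rw [hfix, hfix, hr] at this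
    rw [map_div₀, div_eq_div_iff hσe he0]
    conv_rhs => rw [this]
    conv_lhs => rw [he]
    ring) (fun x l hl => by
    have := h1.q _ _ hl
    rw [hfix, hl, hr, map_mul γ.right, ← mul_assoc, ← he] at this
    exact T.π_eq_iff.1 (D.scal.π_cancel he1 he0 this))
  exact ⟨S₀, P, ⟨d, hP⟩, e, hS₀⟩

omit [Finite F] in
theorem IsDesc.comp {γ : GammaL ι F} (D : DescP γ.right φ T₀ T) {S₁ : Form T₀ (ι → F₀)} {P : GL ι F}
    (h : IsDesc φ S₁ S γ P) {g : GL ι F₀} {κ : F₀} (h' : IsExt (RingHom.id F₀) S₀ S₁ g κ) :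
    IsDesc φ S₀ S γ (P * GeneralLinearGroup.map φ g) := by
  obtain ⟨⟨d, hd⟩, e, he⟩ := h
  exact ⟨⟨d, by rw [map_mul, fieldAutGL_map D.fixed, ← mul_assoc, hd, mul_assoc]⟩, _, he.comp D.comm h'⟩

omit [Finite F] in
theorem isDesc_inr {σ : F ≃+* F} {e : F} (h : IsExt φ S₀ S 1 e) :
    IsDesc φ S₀ S (SemidirectProduct.inr σ) 1 := ⟨⟨1, by simp⟩, e, h⟩

theorem IsDesc.mem_Sim (hT : Scal T) {γ γ' : GammaL ι F} {P P' : GL ι F} (h : IsDesc φ S₀ S γ P)
    (h' : IsDesc φ S₀ S γ' P') : P' * P⁻¹ ∈ Sim S := by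
  obtain ⟨-, e, he⟩ := h
  obtain ⟨-, e', he'⟩ := h'
  exact ⟨_, he.sim hT he'⟩

omit [Finite F] in
theorem IsDesc.conj_eq {γ γ' : GammaL ι F} (hr : γ'.right = γ.right) {P P' : GL ι F}
    (h : IsDesc φ S₀ S γ P) (h' : IsDesc φ S₀ S γ' P') : ∃ c : Fˣ, γ' =
      SemidirectProduct.inl (GeneralLinearGroup.scalar ι c) * (SemidirectProduct.inl (P' * P⁻¹) * γ *
        (SemidirectProduct.inl (P' * P⁻¹))⁻¹) := by
  obtain ⟨⟨d, hd⟩, -⟩ := h
  obtain ⟨⟨d', hd'⟩, -⟩ := h'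
  refine ⟨d' * d⁻¹, SemidirectProduct.ext ?_ (by simp [hr])⟩
  rw [← eq_mul_inv_iff_mul_eq] at hd hd'
  simp only [← map_inv, SemidirectProduct.mul_left, SemidirectProduct.left_inl,
    SemidirectProduct.right_inl, map_one, MulAut.one_apply, SemidirectProduct.mul_right, one_mul]
  rw [hd, hd', hr, map_mul, map_inv, map_inv, map_mul, map_inv, scalar_comm d P, mul_assoc P',
    mul_assoc P, inv_mul_cancel_left, ← mul_assoc P', ← scalar_comm d P']
  group

/-- the similarities defined over the subfield -/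
noncomputable def descHom {σ : F ≃+* F} (D : DescP σ φ T₀ T) [Finite F₀] {P : GL ι F} {e : F}
    (h : IsExt φ S₀ S P e) : Sim S₀ →* Sim S :=
  (((MulAut.conj P).toMonoidHom.comp (GeneralLinearGroup.map φ)).comp (Sim S₀).subtype).codRestrict _
    fun g => by
      obtain ⟨g, κ, hκ⟩ := g
      exact ⟨_, h.sim D.scal (h.comp D.comm (isExt_of_sim hκ))⟩

theorem coe_descHom {σ : F ≃+* F} (D : DescP σ φ T₀ T) [Finite F₀] {P : GL ι F} {e : F}
    (h : IsExt φ S₀ S P e) (g : Sim S₀) :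
    (descHom D h g : GL ι F) = P * GeneralLinearGroup.map φ (g : GL ι F₀) * P⁻¹ := rfl

theorem simMult_descHom {σ : F ≃+* F} (D : DescP σ φ T₀ T) [Finite F₀] [Nonempty ι] (hS : S.Nondeg)
    {P : GL ι F} {e : F} (h : IsExt φ S₀ S P e) (g : Sim S₀) :
    simMult hS (descHom D h g) = Units.map (φ : F₀ →* F) (simMult (h.nondeg hS) g) := by
  refine Units.ext ((simMult_eq hS (h.sim D.scal (h.comp D.comm
    (isExt_of_sim (simMult_spec (h.nondeg hS) g))))).trans ?_)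
  have := h.ne
  simp only [Units.coe_map, MonoidHom.coe_coe]
  field_simp

theorem descHom_scalar_iff {σ : F ≃+* F} (D : DescP σ φ T₀ T) [Finite F₀] [Nonempty ι] {P : GL ι F}
    {e : F} (h : IsExt φ S₀ S P e) (g : Sim S₀) :
    (∃ c : Fˣ, (descHom D h g : GL ι F) = GeneralLinearGroup.scalar ι c) ↔
      ∃ c : F₀ˣ, (g : GL ι F₀) = GeneralLinearGroup.scalar ι c := by
  rw [← map_eq_scalar_iff φ, coe_descHom]
  refine exists_congr fun c => ?_
  rw [mul_inv_eq_iff_eq_mul, scalar_comm, mul_right_inj]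

theorem det_descHom {σ : F ≃+* F} (D : DescP σ φ T₀ T) [Finite F₀] {P : GL ι F} {e : F}
    (h : IsExt φ S₀ S P e) (g : Sim S₀) : GeneralLinearGroup.det (descHom D h g : GL ι F) =
      Units.map (φ : F₀ →* F) (GeneralLinearGroup.det (g : GL ι F₀)) := by
  rw [coe_descHom, map_mul, map_mul, map_inv, mul_inv_cancel_comm]
  exact Units.ext (φ.map_det _).symm

theorem exists_GL_of_twist [Nonempty ι] {σ : F ≃+* F} (hφ : ∀ a, σ a = a ↔ ∃ b, φ b = a) {M : GL ι F}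
    {c : Fˣ} (hc : M = GeneralLinearGroup.scalar ι c * fieldAutGL σ M) :
    ∃ (c : Fˣ) (m : GL ι F₀), M = GeneralLinearGroup.scalar ι c * GeneralLinearGroup.map φ m := by
  haveI := finite_ringAut (F := F)
  have h1 : (⟨GeneralLinearGroup.scalar ι c * 1, σ⟩ : GammaL ι F) =
      SemidirectProduct.inl M * SemidirectProduct.inr σ * (SemidirectProduct.inl M)⁻¹ := by
    ext1
    · simp only [SemidirectProduct.mul_left, SemidirectProduct.left_inl,
        SemidirectProduct.right_inl, map_one, MulAut.one_apply, SemidirectProduct.left_inr, mul_one,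
        SemidirectProduct.mul_right, SemidirectProduct.right_inr, one_mul, ← map_inv]
      rw [map_inv, eq_mul_inv_iff_mul_eq, ← hc]
    · simp
  have h3 := gammaL_scalar_pow σ c (1 : GL ι F) (orderOf σ)
  have h4 : (⟨1, σ⟩ : GammaL ι F) = SemidirectProduct.inr σ := rfl
  rw [h1, conj_pow, h4, ← map_pow, pow_orderOf_eq_one, map_one, mul_one, mul_one, mul_inv_cancel,
    eq_comm, map_eq_one_iff _ SemidirectProduct.inl_injective, map_eq_one_iff _ scalarGL_inj] at h3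
  obtain ⟨d, rfl⟩ := exists_cob_eq (orderOf_pos σ).ne' rfl h3
  obtain ⟨m, hm⟩ := exists_GL_of_fixed hφ (M := GeneralLinearGroup.scalar ι d⁻¹ * M) (by
    rw [map_mul, fieldAutGL_scalar]
    conv_rhs => rw [hc, ← mul_assoc, ← map_mul]
    congr 2
    simp [cob, div_eq_mul_inv])
  exact ⟨d, m, by rw [hm, ← mul_assoc, ← map_mul]; simp⟩

variable {G : Type*} [Group G] {ρ : G →* ((ι → F) ≃ₗ[F] (ι → F))}

namespace FSetup

variable (H : FSetup S ρ)
include H

theorem simPhi_eq_of {γ γ' : GammaS S} {c : Fˣ}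
    (h : γ'.1 = SemidirectProduct.inl (GeneralLinearGroup.scalar ι c) * γ.1) :
    H.simPhi γ' = H.simPhi γ := by
  rw [← mul_inv_eq_one, ← map_inv, ← map_mul]
  exact H.simPhi_scalar (c := c) (by simp [h])

theorem conj_of_desc (hT : Scal T) {γ γ' : GammaS S} (hr : γ'.1.right = γ.1.right) {P P' : GL ι F}
    (h : IsDesc φ S₀ S γ P) (h' : IsDesc φ S₀ S γ' P') :
    H.simPhi γ' = H.simPsi ⟨_, h.mem_Sim hT h'⟩ * H.simPhi γ * (H.simPsi ⟨_, h.mem_Sim hT h'⟩)⁻¹ := by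
  obtain ⟨c, hc⟩ := h.conj_eq hr h'
  rw [simPsi, MonoidHom.comp_apply, ← map_inv, ← map_mul, ← map_mul]
  exact H.simPhi_eq_of hc

theorem pow_scalar {e f : ι → F} (hef : S.IsHyp e f) (h3 : 3 ≤ Fintype.card ι) {γ : GammaS S} {r : ℕ}
    (h : H.simPhi γ ^ r = 1) :
    ∃ c : Fˣ, γ.1 ^ r = SemidirectProduct.inl (GeneralLinearGroup.scalar ι c) := by
  rwa [← map_pow, H.simPhi_eq_one hef h3] at h

theorem right_pow {e f : ι → F} (hef : S.IsHyp e f) (h3 : 3 ≤ Fintype.card ι) {γ : GammaS S} {r : ℕ}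
    (h : H.simPhi γ ^ r = 1) : γ.1.right ^ r = 1 := by
  obtain ⟨c, hc⟩ := H.pow_scalar hef h3 h
  rw [← show (γ.1 ^ r).right = γ.1.right ^ r from map_pow SemidirectProduct.rightHom _ r, hc]
  rfl

theorem commute_desc [Finite F₀] {e₁ f₁ : ι → F} (hef : S.IsHyp e₁ f₁) (h3 : 3 ≤ Fintype.card ι)
    {γ : GammaS S} (D : DescP γ.1.right φ T₀ T) {P : GL ι F} {d : Fˣ}
    (hd : γ.1.left * fieldAutGL γ.1.right P = GeneralLinearGroup.scalar ι d * P) {e : F}
    (he : IsExt φ S₀ S P e) (M : Sim S) :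
    H.simPsi M * H.simPhi γ = H.simPhi γ * H.simPsi M ↔
      ∃ (c : Fˣ) (m : Sim S₀), M = ⟨_, scalar_mem_Sim c⟩ * descHom D he m := by
  haveI : Nonempty ι := Fintype.card_pos_iff.1 (by omega)
  rw [← eq_mul_inv_iff_mul_eq] at hd
  have key : H.simPsi M * H.simPhi γ = H.simPhi γ * H.simPsi M ↔ ∃ c : Fˣ, P⁻¹ * M.1 * P =
      GeneralLinearGroup.scalar ι c * fieldAutGL γ.1.right (P⁻¹ * M.1 * P) := by
    rw [simPsi, MonoidHom.comp_apply, ← map_mul, ← map_mul, ← mul_inv_eq_one, ← map_inv, ← map_mul,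
      H.simPhi_eq_one hef h3]
    refine exists_congr fun c => ?_
    rw [Subgroup.coe_mul, Subgroup.coe_inv, mul_inv_eq_iff_eq_mul, SemidirectProduct.ext_iff]
    simp only [Subgroup.coe_mul, coe_simIncl, SemidirectProduct.mul_left, SemidirectProduct.left_inl,
      SemidirectProduct.right_inl, map_one, MulAut.one_apply, SemidirectProduct.mul_right, one_mul,
      mul_one, and_true]
    rw [hd, map_mul, map_mul, map_inv]
    generalize fieldAutGL γ.1.right P = P'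
    generalize fieldAutGL γ.1.right M.1 = M'
    have h1 : ∀ X : GL ι F, X * GeneralLinearGroup.scalar ι d = GeneralLinearGroup.scalar ι d * X :=
      fun X => (scalar_comm d X).symm
    rw [← mul_assoc M.1, ← mul_assoc M.1, h1, mul_assoc, mul_assoc, mul_assoc, mul_assoc,
      ← mul_assoc (GeneralLinearGroup.scalar ι c), h1, mul_assoc, mul_right_inj,
      ← mul_assoc (GeneralLinearGroup.scalar ι c), scalar_comm c P]
    constructor
    · intro h
      rw [← mul_assoc, mul_inv_eq_iff_eq_mul] at h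
      rw [mul_assoc, h]
      group
    · intro h
      rw [mul_assoc, inv_mul_eq_iff_eq_mul] at h
      rw [← mul_assoc, h]
      group
  rw [key]
  constructor
  · rintro ⟨c, hc⟩
    obtain ⟨c, m, hm⟩ := exists_GL_of_twist D.fixed hc
    obtain ⟨κ, hκ⟩ := (⟨_, scalar_mem_Sim c⟩⁻¹ * M : Sim S).2
    have h1 := he.left hκ
    have h2 : ((⟨_, scalar_mem_Sim c⟩⁻¹ * M : Sim S) : GL ι F) * P = P * GeneralLinearGroup.map φ m := by
      rw [mul_assoc, inv_mul_eq_iff_eq_mul, ← mul_assoc, ← scalar_comm] at hm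
      simp [mul_assoc, hm]
    rw [h2] at h1
    obtain ⟨κ₀, -, h⟩ := he.of_left D H.nd h1
    refine ⟨c, ⟨m, κ₀, h⟩, ?_⟩
    rw [← inv_mul_eq_iff_eq_mul]
    exact Subtype.ext (eq_mul_inv_iff_mul_eq.2 h2)
  · rintro ⟨c, m, rfl⟩
    refine ⟨cob γ.1.right c, ?_⟩
    have : P⁻¹ * ((⟨_, scalar_mem_Sim c⟩ * descHom D he m : Sim S) : GL ι F) * P =
        GeneralLinearGroup.scalar ι c * GeneralLinearGroup.map φ (m : GL ι F₀) := by
      rw [Subgroup.coe_mul, coe_descHom, ← mul_assoc, ← scalar_comm]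
      group
    rw [this, map_mul, fieldAutGL_map D.fixed, fieldAutGL_scalar, ← mul_assoc, ← map_mul]
    simp [cob]

end FSetup

end CfsgH8
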