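import Mathlib
import Cfsg.Prelude.Def_LieTypeChar
import Cfsg.Agent.S0243
import Cfsg.Agent.S0245
import Cfsg.Agent.S0246
import Cfsg.Agent.S0280
import Cfsg.Agent.S0292
import Cfsg.Agent.S0293
import Cfsg.Agent.S0294
import Cfsg.Agent.S1059
import Cfsg.Agent.S1062
import Cfsg.Agent.S1063
import Cfsg.Agent.S1064
import Cfsg.Agent.S1065
import Cfsg.Agent.S1066
import Cfsg.Agent.S1067
import Cfsg.Agent.S1068
import Cfsg.Agent.S1069
import Cfsg.Agent.S1163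

/-! Orders of the simple groups of Lie type in a uniform shape. -/

set_option autoImplicit false

namespace CfsgH8

open Cfsg

/-- `M` is prime to `p` and below `q ^ e`. -/
structure OrdB (p q M e : ℕ) : Prop where
  nd : ¬ p ∣ M
  lt : M < q ^ e

theorem OrdB.mul {p q M M' e e' : ℕ} (hp : p.Prime) (h : OrdB p q M e) (h' : OrdB p q M' e') :
    OrdB p q (M * M') (e + e') :=
  ⟨fun hd => ((Nat.Prime.dvd_mul hp).1 hd).elim h.nd h'.nd, by
    rw [pow_add]; exact Nat.mul_lt_mul'' h.lt h'.lt⟩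

theorem OrdB.mono {p q M e e' : ℕ} (hq : 2 ≤ q) (h : OrdB p q M e) (he : e ≤ e') : OrdB p q M e' :=
  ⟨h.nd, h.lt.trans_le (Nat.pow_le_pow_right (by omega) he)⟩

theorem nd_sub {p q i : ℕ} (hp : p.Prime) (hq : 2 ≤ q) (hpq : p ∣ q) (hi : i ≠ 0) : ¬ p ∣ q ^ i - 1 := by
  intro h
  have h1 : p ∣ q ^ i := dvd_pow hpq hi
  have h2 : 1 ≤ q ^ i := Nat.one_le_pow _ _ (by omega)
  have : p ∣ q ^ i - (q ^ i - 1) := Nat.dvd_sub h1 h
  rw [show q ^ i - (q ^ i - 1) = 1 by omega] at this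
  exact hp.one_lt.ne' (Nat.dvd_one.1 this)

theorem nd_add {p q i : ℕ} (hp : p.Prime) (hpq : p ∣ q) (hi : i ≠ 0) : ¬ p ∣ q ^ i + 1 := by
  intro h
  have h1 : p ∣ q ^ i := dvd_pow hpq hi
  exact hp.one_lt.ne' (Nat.dvd_one.1 ((Nat.dvd_add_right h1).1 h))

theorem ordB_sub {p q : ℕ} (hp : p.Prime) (hq : 2 ≤ q) (hpq : p ∣ q) (i : ℕ) (hi : i ≠ 0) :
    OrdB p q (q ^ i - 1) i :=
  ⟨nd_sub hp hq hpq hi, by
    have h2 : 1 ≤ q ^ i := Nat.one_le_pow _ _ (by omega)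
    omega⟩

theorem ordB_add {p q : ℕ} (hp : p.Prime) (hq : 2 ≤ q) (hpq : p ∣ q) (i : ℕ) (hi : i ≠ 0) :
    OrdB p q (q ^ i + 1) (i + 1) :=
  ⟨nd_add hp hpq hi, by
    have h2 : 2 ≤ q ^ i := le_trans hq (Nat.le_self_pow hi q)
    rw [pow_succ]; nlinarith⟩

theorem ordB_prod {p q : ℕ} (hp : p.Prime) (hq : 2 ≤ q) (hpq : p ∣ q) (m : ℕ) :
    OrdB p q (∏ i ∈ Finset.range (m + 1), (q ^ (2 * (i + 1)) - 1)) ((m + 1) * (m + 2)) := by
  induction m with
  | zero => simpa using ordB_sub hp hq hpq 2 (by norm_num)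
  | succ m ih =>
    rw [Finset.prod_range_succ]
    have := ih.mul hp (ordB_sub hp hq hpq (2 * (m + 1 + 1)) (by omega))
    exact this.mono hq (by nlinarith)

/-- The uniform shape of an order formula. -/
def OrdF (p n a N e : ℕ) : Prop :=
  ∃ d M : ℕ, ¬ p ∣ d ∧ d * n = (p ^ a) ^ N * M ∧ OrdB p (p ^ a) M e

theorem OrdF.fact {p n a N e : ℕ} (hp : p.Prime) (h : OrdF p n a N e) : n.factorization p = a * N := by
  obtain ⟨d, M, hd, h, hM⟩ := h
  have hd0 : d ≠ 0 := by rintro rfl; exact hd (dvd_zero _)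
  have hM0 : M ≠ 0 := by rintro rfl; exact hM.nd (dvd_zero _)
  have hn : n ≠ 0 := by
    rintro rfl
    rw [mul_zero] at h
    exact (mul_ne_zero (pow_ne_zero _ (pow_ne_zero _ hp.ne_zero)) hM0) h.symm
  have := congrArg (fun x => x.factorization p) h
  rw [Nat.factorization_mul hd0 hn, Nat.factorization_mul (pow_ne_zero _ (pow_ne_zero _ hp.ne_zero)) hM0,
    ← pow_mul, Nat.factorization_pow] at this
  simp only [Finsupp.coe_add, Pi.add_apply, Finsupp.coe_smul, Pi.smul_apply, hp.factorization_self,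
    smul_eq_mul, mul_one] at this
  rw [Nat.factorization_eq_zero_of_not_dvd hd, Nat.factorization_eq_zero_of_not_dvd hM.nd] at this
  omega

theorem OrdF.lt {p n a N e : ℕ} (hp : p.Prime) (h : OrdF p n a N e) : n < p ^ (a * (N + e)) := by
  obtain ⟨d, M, hd, h, hM⟩ := h
  have hd0 : d ≠ 0 := by rintro rfl; exact hd (dvd_zero _)
  have h1 : n ≤ d * n := Nat.le_mul_of_pos_left _ (Nat.pos_of_ne_zero hd0)
  rw [pow_mul, pow_add]
  refine lt_of_le_of_lt (h1.trans h.le) ?_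
  exact Nat.mul_lt_mul_of_pos_left hM.lt (pow_pos (pow_pos hp.pos _) _)

theorem field_card {F : Type*} [Field F] [Fintype F] {p : ℕ} (hp : p.Prime) [CharP F p] :
    ∃ a, 1 ≤ a ∧ Fintype.card F = p ^ a := by
  haveI := Fact.mk hp
  obtain ⟨n, -, hn⟩ := FiniteField.card F p
  exact ⟨n, n.2, hn⟩

theorem pow_root {p q a k : ℕ} (hp : p.Prime) (ha : 1 ≤ a) (hk : k ≠ 0) (h : q ^ k = p ^ a) :
    ∃ b, 1 ≤ b ∧ q = p ^ b := by
  have : q ∣ p ^ a := h ▸ dvd_pow_self q hk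
  obtain ⟨b, -, hb⟩ := (Nat.dvd_prime_pow hp).1 this
  refine ⟨b, ?_, hb⟩
  rcases Nat.eq_zero_or_pos b with rfl | hb0
  · rw [hb, pow_zero, one_pow] at h
    have := Nat.one_lt_pow (by omega : a ≠ 0) hp.one_lt
    omega
  · exact hb0

theorem two_le_pow {p a : ℕ} (hp : p.Prime) (ha : 1 ≤ a) : 2 ≤ p ^ a :=
  le_trans hp.two_le (Nat.le_self_pow (by omega) p)

theorem nd_gcd_sub {p q : ℕ} (hp : p.Prime) (hq : 2 ≤ q) (hpq : p ∣ q) (n : ℕ) : ¬ p ∣ Nat.gcd n (q - 1) := by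
  intro h
  have := nd_sub hp hq hpq (i := 1) one_ne_zero
  rw [pow_one] at this
  exact this (h.trans (Nat.gcd_dvd_right _ _))

theorem gl_prod (q n : ℕ) :
    ∏ i : Fin n, (q ^ n - q ^ (i : ℕ)) = q ^ (n * (n - 1) / 2) * ∏ i ∈ Finset.range n, (q ^ (i + 1) - 1) := by
  rw [Fin.prod_univ_eq_prod_range (fun i => q ^ n - q ^ i) n, ← Finset.sum_range_id, ← Finset.prod_pow_eq_pow_sum,
    ← Finset.prod_range_reflect (fun i => q ^ (i + 1) - 1) n, ← Finset.prod_mul_distrib]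
  refine Finset.prod_congr rfl fun i hi => ?_
  have hi := Finset.mem_range.1 hi
  rw [Nat.mul_sub, ← pow_add, mul_one]
  congr 2
  omega

theorem ordB_lin {p q : ℕ} (hp : p.Prime) (hq : 2 ≤ q) (hpq : p ∣ q) (m : ℕ) :
    ∃ e, OrdB p q (∏ i ∈ Finset.range (m + 1), (q ^ (i + 1 + 1) - 1)) e ∧ 2 * e = (m + 1) * (m + 4) := by
  induction m with
  | zero => exact ⟨2, by simpa using ordB_sub hp hq hpq 2 (by norm_num), by norm_num⟩
  | succ m ih =>
    obtain ⟨e, h, he⟩ := ih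
    rw [Finset.prod_range_succ]
    exact ⟨_, h.mul hp (ordB_sub hp hq hpq (m + 1 + 1 + 1) (by omega)), by nlinarith⟩

theorem ordB_uni {p q : ℕ} (hp : p.Prime) (hq : 2 ≤ q) (hpq : p ∣ q) (j : ℕ) :
    ∃ e, OrdB p q (∏ i ∈ Finset.range (2 * j + 2),
      (if Even (i + 1) then q ^ (i + 1 + 1) + 1 else q ^ (i + 1 + 1) - 1)) e ∧ e = (j + 1) * (2 * j + 5) := by
  have pair : ∀ i, i ≠ 0 → OrdB p q ((q ^ i - 1) * (q ^ (i + 1) + 1)) (2 * i + 1) := by
    intro i hi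
    refine ⟨((ordB_sub hp hq hpq i hi).mul hp (ordB_add hp hq hpq (i + 1) (by omega))).nd, ?_⟩
    have h2 : 1 ≤ q ^ i := Nat.one_le_pow _ _ (by omega)
    obtain ⟨x, hx⟩ : ∃ x, q ^ i = x + 1 := ⟨q ^ i - 1, by omega⟩
    rw [show 2 * i + 1 = i + (i + 1) by ring, pow_add q i (i + 1), pow_succ, hx, Nat.add_sub_cancel]
    nlinarith
  induction j with
  | zero =>
    refine ⟨5, ?_, rfl⟩
    have := pair 2 (by norm_num)
    simpa [Finset.prod_range_succ] using this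
  | succ j ih =>
    obtain ⟨e, h, he⟩ := ih
    rw [show 2 * (j + 1) + 2 = (2 * j + 2) + 1 + 1 by ring, Finset.prod_range_succ, Finset.prod_range_succ,
      if_neg (by simp [Nat.even_add_one, parity_simps]), if_pos (by simp [parity_simps]), mul_assoc]
    refine ⟨_, h.mul hp (pair (2 * j + 2 + 1 + 1) (by omega)), by rw [he]; ring⟩

/-- Uniform order formula for the simple groups of Lie type. -/
theorem lie_order {G : Type*} [Group G] {p : ℕ} (hp : p.Prime) (hG : IsLieTypeChar p G) :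
    ∃ a N e, 1 ≤ a ∧ OrdF p (Nat.card G) a N e ∧ (3 * e ≤ 5 * N ∨ (N = 1 ∧ e = 2 ∧
      ∃ (F : Type) (_ : Field F) (_ : Fintype F), Fintype.card F = p ^ a ∧
        Nonempty (G ≃* Matrix.ProjectiveSpecialLinearGroup (Fin 2) F))) := by
  rcases hG with ⟨F, _, _, _, n, hn, -, ⟨φ⟩⟩ | ⟨F, _, _, _, m, hm, -, ⟨φ⟩⟩ | ⟨F, _, _, _, n, q, hF, hn, -, ⟨φ⟩⟩ |
    ⟨F, _, _, _, m, hm, hodd, ⟨φ⟩⟩ | ⟨F, _, _, _, m, hm, ⟨φ⟩⟩ | ⟨F, _, _, _, m, a, b, hm, hab, ⟨φ⟩⟩ |
    ⟨F, _, _, _, h⟩ | ⟨F, _, _, _, q, hqq, h⟩ | ⟨rfl, F, _, _, m, hm, hF, ⟨φ⟩⟩ | ⟨rfl, F, _, _, m, hm, hF, ⟨φ⟩⟩ |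
    ⟨rfl, F, _, _, m, hm, hF, ⟨φ⟩⟩
  · obtain ⟨a, ha, hF⟩ := field_card (F := F) hp
    have hq := two_le_pow hp ha
    have hpq : p ∣ p ^ a := dvd_pow_self p (by omega)
    obtain ⟨m, rfl⟩ : ∃ m, n = m + 1 + 1 := ⟨n - 2, by omega⟩
    have h := Cfsg.Agent.S0243.result hF (m + 1 + 1) hn
    rw [gl_prod, Finset.prod_range_succ', ← Nat.card_congr φ.toEquiv] at h
    obtain ⟨e, he, he2⟩ := ordB_lin hp hq hpq m
    refine ⟨a, (m + 1 + 1) * (m + 1 + 1 - 1) / 2, e, ha, ⟨_, _, nd_gcd_sub hp hq hpq (m + 1 + 1), ?_, he⟩, ?_⟩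
    · apply Nat.eq_of_mul_eq_mul_left (show 0 < p ^ a - 1 by omega)
      rw [zero_add, pow_one] at h
      linarith
    · rcases Nat.eq_zero_or_pos m with rfl | hm
      · right
        exact ⟨by norm_num, by omega, F, inferInstance, inferInstance, hF, ⟨φ⟩⟩
      · left
        have h3 : (m + 1 + 1) * (m + 1 + 1 - 1) / 2 * 2 = (m + 1 + 1) * (m + 1 + 1 - 1) :=
          Nat.div_mul_cancel (Nat.even_mul_pred_self _).two_dvd
        rw [show m + 1 + 1 - 1 = m + 1 by omega] at h3 ⊢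
        nlinarith
  · obtain ⟨a, ha, hF⟩ := field_card (F := F) hp
    have hq := two_le_pow hp ha
    have hpq : p ∣ p ^ a := dvd_pow_self p (by omega)
    obtain ⟨m, rfl⟩ : ∃ k, m = k + 1 := ⟨m - 1, by omega⟩
    have h := Cfsg.Agent.S0245.result hF (m + 1)
    have h2 := Cfsg.Agent.S0246.result hF (m + 1) (by omega)
    rw [Subgroup.card_eq_card_quotient_mul_card_subgroup (Subgroup.center _), h2, mul_comm,
      ← Nat.card_congr φ.toEquiv] at h
    exact ⟨a, _, _, ha, ⟨_, _, nd_gcd_sub hp hq hpq 2, h, ordB_prod hp hq hpq m⟩, Or.inl (by nlinarith)⟩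
  · obtain ⟨a, ha, hF'⟩ := field_card (F := F) hp
    obtain ⟨a, ha, rfl⟩ := pow_root hp ha two_ne_zero (hF.symm.trans hF')
    have hq := two_le_pow hp ha
    have hpq : p ∣ p ^ a := dvd_pow_self p (by omega)
    have h := Cfsg.Agent.S0280.result hF n (by omega)
    obtain ⟨m, rfl⟩ : ∃ m, n = m + 1 := ⟨n - 1, by omega⟩
    rw [Finset.prod_range_succ', ← Nat.card_congr φ.toEquiv, if_pos (by simp), zero_add, pow_one] at h
    have hd : ¬ p ∣ Nat.gcd (m + 1) (p ^ a + 1) := fun hd => by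
      have := nd_add hp hpq (i := 1) one_ne_zero
      rw [pow_one] at this
      exact this (hd.trans (Nat.gcd_dvd_right _ _))
    have h3 : (m + 1) * (m + 1 - 1) / 2 * 2 = (m + 1) * (m + 1 - 1) :=
      Nat.div_mul_cancel (Nat.even_mul_pred_self _).two_dvd
    have h' : Nat.gcd (m + 1) (p ^ a + 1) * Nat.card G = (p ^ a) ^ ((m + 1) * (m + 1 - 1) / 2) *
        ∏ i ∈ Finset.range m, (if Even (i + 1) then (p ^ a) ^ (i + 1 + 1) + 1 else (p ^ a) ^ (i + 1 + 1) - 1) := by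
      apply Nat.eq_of_mul_eq_mul_left (show 0 < p ^ a + 1 by omega)
      linarith
    rcases Nat.even_or_odd' m with ⟨j, rfl | rfl⟩
    · obtain ⟨j, rfl⟩ : ∃ k, j = k + 1 := ⟨j - 1, by omega⟩
      obtain ⟨e, he, he2⟩ := ordB_uni hp hq hpq j
      refine ⟨a, _, e, ha, ⟨_, _, hd, h', he⟩, Or.inl ?_⟩
      rw [show 2 * (j + 1) + 1 - 1 = 2 * (j + 1) by omega] at h3 ⊢
      nlinarith
    · obtain ⟨j, rfl⟩ : ∃ k, j = k + 1 := ⟨j - 1, by omega⟩
      obtain ⟨e, he, he2⟩ := ordB_uni hp hq hpq j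
      rw [Finset.prod_range_succ, if_neg (by simp [Nat.even_add_one, parity_simps])] at h'
      refine ⟨a, _, _, ha, ⟨_, _, hd, h', he.mul hp (ordB_sub hp hq hpq _ (by omega))⟩, Or.inl ?_⟩
      rw [show 2 * (j + 1) + 1 + 1 - 1 = 2 * (j + 1) + 1 by omega] at h3 ⊢
      nlinarith
  · obtain ⟨a, ha, hF⟩ := field_card (F := F) hp
    have hq := two_le_pow hp ha
    have hpq : p ∣ p ^ a := dvd_pow_self p (by omega)
    obtain ⟨m, rfl⟩ : ∃ k, m = k + 1 := ⟨m - 1, by omega⟩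
    have h := Cfsg.Agent.S0292.result hF (hF ▸ hodd) (m + 1) hm
    rw [← Nat.card_congr φ.toEquiv] at h
    have hd : ¬ p ∣ 2 := fun hd => by
      have := (Nat.prime_dvd_prime_iff_eq hp Nat.prime_two).1 hd
      subst this
      rw [hF] at hodd
      exact (Nat.not_even_iff_odd.2 hodd) (even_iff_two_dvd.2 hpq)
    exact ⟨a, _, _, ha, ⟨_, _, hd, h, ordB_prod hp hq hpq m⟩, Or.inl (by nlinarith)⟩
  · obtain ⟨a, ha, hF⟩ := field_card (F := F) hp
    have hq := two_le_pow hp ha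
    have hpq : p ∣ p ^ a := dvd_pow_self p (by omega)
    obtain ⟨m, rfl⟩ : ∃ k, m = k + 1 + 1 := ⟨m - 2, by omega⟩
    have h := Cfsg.Agent.S0293.result hF (m + 1 + 1) hm
    rw [← Nat.card_congr φ.toEquiv, mul_assoc, Nat.add_sub_cancel] at h
    have h1 := ordB_sub hp hq hpq (m + 1 + 1) (by omega)
    refine ⟨a, _, _, ha, ⟨_, _, fun hd => h1.nd (hd.trans (Nat.gcd_dvd_right _ _)), h,
      h1.mul hp (ordB_prod hp hq hpq m)⟩, Or.inl (by nlinarith)⟩
  · obtain ⟨c, ha, hF⟩ := field_card (F := F) hp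
    have hq := two_le_pow hp ha
    have hpq : p ∣ p ^ c := dvd_pow_self p (by omega)
    obtain ⟨m, rfl⟩ : ∃ k, m = k + 1 + 1 := ⟨m - 2, by omega⟩
    have h := Cfsg.Agent.S0294.result hF (m + 1 + 1) hm a b hab
    rw [← Nat.card_congr φ.toEquiv, mul_assoc, Nat.add_sub_cancel] at h
    have h1 := ordB_add hp hq hpq (m + 1 + 1) (by omega)
    refine ⟨c, _, _, ha, ⟨_, _, fun hd => h1.nd (hd.trans (Nat.gcd_dvd_right _ _)), h,
      h1.mul hp (ordB_prod hp hq hpq m)⟩, Or.inl (by nlinarith)⟩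
  · obtain ⟨a, ha, hF⟩ := field_card (F := F) hp
    have hq := two_le_pow hp ha
    have hpq : p ∣ p ^ a := dvd_pow_self p (by omega)
    have s := fun i hi => ordB_sub hp hq hpq i hi
    have h1 : ¬ p ∣ 1 := fun h => hp.one_lt.ne' (Nat.dvd_one.1 h)
    rcases h with ⟨-, ⟨φ⟩⟩ | ⟨⟨φ⟩⟩ | ⟨⟨φ⟩⟩ | ⟨⟨φ⟩⟩ | ⟨⟨φ⟩⟩
    · have h := Cfsg.Agent.S1059.result hF
      rw [← Nat.card_congr φ.toEquiv] at h
      refine ⟨a, 6, _, ha, ⟨1, _, h1, ?_, (s 2 (by norm_num)).mul hp (s 6 (by norm_num))⟩, Or.inl (by norm_num)⟩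
      rw [h]; ring
    · have h := Cfsg.Agent.S1062.result hF
      rw [← Nat.card_congr φ.toEquiv] at h
      refine ⟨a, 24, _, ha, ⟨1, _, h1, ?_, (((s 2 (by norm_num)).mul hp (s 6 (by norm_num))).mul hp
        (s 8 (by norm_num))).mul hp (s 12 (by norm_num))⟩, Or.inl (by norm_num)⟩
      rw [h]; simp only [mul_assoc, one_mul]
    · have h := Cfsg.Agent.S1063.result hF
      rw [← Nat.card_congr φ.toEquiv] at h
      refine ⟨a, 36, _, ha, ⟨_, _, nd_gcd_sub hp hq hpq 3, ?_, (((((s 2 (by norm_num)).mul hp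
        (s 5 (by norm_num))).mul hp (s 6 (by norm_num))).mul hp
        (s 8 (by norm_num))).mul hp (s 9 (by norm_num))).mul hp (s 12 (by norm_num))⟩, Or.inl (by norm_num)⟩
      rw [h]; simp only [mul_assoc]
    · have h := Cfsg.Agent.S1064.result hF
      rw [← Nat.card_congr φ.toEquiv] at h
      refine ⟨a, 63, _, ha, ⟨_, _, nd_gcd_sub hp hq hpq 2, ?_, ((((((s 2 (by norm_num)).mul hp
        (s 6 (by norm_num))).mul hp (s 8 (by norm_num))).mul hp
        (s 10 (by norm_num))).mul hp (s 12 (by norm_num))).mul hp (s 14 (by norm_num))).mul hp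
        (s 18 (by norm_num))⟩, Or.inl (by norm_num)⟩
      rw [h]; simp only [mul_assoc]
    · have h := Cfsg.Agent.S1065.result hF
      rw [← Nat.card_congr φ.toEquiv] at h
      refine ⟨a, 120, _, ha, ⟨1, _, h1, ?_, (((((((s 2 (by norm_num)).mul hp
        (s 8 (by norm_num))).mul hp (s 12 (by norm_num))).mul hp
        (s 14 (by norm_num))).mul hp (s 18 (by norm_num))).mul hp (s 20 (by norm_num))).mul hp
        (s 24 (by norm_num))).mul hp (s 30 (by norm_num))⟩, Or.inl (by norm_num)⟩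
      rw [h]; simp only [mul_assoc, one_mul]
  · obtain ⟨a, ha, hF'⟩ := field_card (F := F) hp
    have h1 : ¬ p ∣ 1 := fun h => hp.one_lt.ne' (Nat.dvd_one.1 h)
    rcases h with ⟨hF, ⟨φ⟩⟩ | ⟨hF, ⟨φ⟩⟩
    · obtain ⟨a, ha, rfl⟩ := pow_root hp ha two_ne_zero (hF.symm.trans hF')
      have hq := two_le_pow hp ha
      have hpq : p ∣ p ^ a := dvd_pow_self p (by omega)
      have s := fun i hi => ordB_sub hp hq hpq i hi
      have t := fun i hi => ordB_add hp hq hpq i hi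
      have h := Cfsg.Agent.S1066.result hqq hF
      rw [← Nat.card_congr φ.toEquiv] at h
      have hd : ¬ p ∣ Nat.gcd 3 (p ^ a + 1) := fun hd => by
        have := nd_add hp hpq (i := 1) one_ne_zero
        rw [pow_one] at this
        exact this (hd.trans (Nat.gcd_dvd_right _ _))
      refine ⟨a, 36, _, ha, ⟨_, _, hd, ?_, (((((s 2 (by norm_num)).mul hp
        (t 5 (by norm_num))).mul hp (s 6 (by norm_num))).mul hp
        (s 8 (by norm_num))).mul hp (t 9 (by norm_num))).mul hp (s 12 (by norm_num))⟩, Or.inl (by norm_num)⟩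
      rw [h]; simp only [mul_assoc]
    · obtain ⟨a, ha, rfl⟩ := pow_root hp ha three_ne_zero (hF.symm.trans hF')
      have hq := two_le_pow hp ha
      have hpq : p ∣ p ^ a := dvd_pow_self p (by omega)
      have s := fun i hi => ordB_sub hp hq hpq i hi
      have h := Cfsg.Agent.S1067.result hqq hF
      rw [← Nat.card_congr φ.toEquiv] at h
      have t : OrdB p (p ^ a) ((p ^ a) ^ 8 + (p ^ a) ^ 4 + 1) 9 := by
        refine ⟨fun hd => h1 ((Nat.dvd_add_right (dvd_add (dvd_pow hpq (by norm_num))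
          (dvd_pow hpq (by norm_num)))).1 hd), ?_⟩
        generalize p ^ a = q at hq
        have h4 : 2 ≤ q ^ 4 := le_trans hq (Nat.le_self_pow (by norm_num) q)
        have : q ^ 9 = q ^ 4 * q ^ 4 * q := by ring
        have h8 : q ^ 8 = q ^ 4 * q ^ 4 := by ring
        rw [this, h8]
        generalize q ^ 4 = x at h4
        nlinarith [Nat.mul_le_mul_left (x * x) hq]
      refine ⟨a, 12, _, ha, ⟨1, _, h1, ?_, ((s 2 (by norm_num)).mul hp
        (s 6 (by norm_num))).mul hp t⟩, Or.inl (by norm_num)⟩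
      rw [h]; simp only [mul_assoc, one_mul]
  · have hq := two_le_pow hp (show 1 ≤ 2 * m + 1 by omega)
    have hpq : 2 ∣ 2 ^ (2 * m + 1) := dvd_pow_self 2 (by omega)
    have h := (Cfsg.Agent.S1163.result hm hF).1
    rw [← Nat.card_congr φ.toEquiv] at h
    have t : OrdB 2 (2 ^ (2 * m + 1)) ((2 ^ (2 * m + 1) - 1) * ((2 ^ (2 * m + 1)) ^ 2 + 1)) 3 := by
      have h1 := ordB_sub hp hq hpq 1 one_ne_zero
      rw [pow_one] at h1
      refine ⟨(h1.mul hp (ordB_add hp hq hpq 2 two_ne_zero)).nd, ?_⟩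
      generalize 2 ^ (2 * m + 1) = q at hq
      obtain ⟨x, rfl⟩ : ∃ x, q = x + 1 := ⟨q - 1, by omega⟩
      rw [Nat.add_sub_cancel]
      nlinarith
    refine ⟨2 * m + 1, 2, _, by omega, ⟨1, _, by norm_num, ?_, t⟩, Or.inl (by norm_num)⟩
    rw [h]; simp only [mul_assoc, one_mul]
  · have hq := two_le_pow hp (show 1 ≤ 2 * m + 1 by omega)
    have hpq : 2 ∣ 2 ^ (2 * m + 1) := dvd_pow_self 2 (by omega)
    have h := Cfsg.Agent.S1068.result hF
    rw [← Nat.card_congr φ.toEquiv] at h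
    have h1 := ordB_sub hp hq hpq 1 one_ne_zero
    rw [pow_one] at h1
    refine ⟨2 * m + 1, 12, _, by omega, ⟨1, _, by norm_num, ?_, ((h1.mul hp (ordB_add hp hq hpq 3 (by norm_num))).mul hp
      (ordB_sub hp hq hpq 4 (by norm_num))).mul hp (ordB_add hp hq hpq 6 (by norm_num))⟩, Or.inl (by norm_num)⟩
    rw [h]; simp only [mul_assoc, one_mul]
  · have hq := two_le_pow hp (show 1 ≤ 2 * m + 1 by omega)
    have hpq : 3 ∣ 3 ^ (2 * m + 1) := dvd_pow_self 3 (by omega)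
    have h := Cfsg.Agent.S1069.result hF
    rw [← Nat.card_congr φ.toEquiv] at h
    have h1 := ordB_sub hp hq hpq 1 one_ne_zero
    rw [pow_one] at h1
    refine ⟨2 * m + 1, 3, _, by omega, ⟨1, _, by norm_num, ?_, h1.mul hp (ordB_add hp hq hpq 3 (by norm_num))⟩,
      Or.inl (by norm_num)⟩
    rw [h]; simp only [mul_assoc, one_mul]

end CfsgH8
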