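import Mathlib
import Cfsg.Agent.H8.Def3e

/-! Characters of small degree of groups with a Sylow subgroup of prime order, I. -/

set_option autoImplicit false
set_option linter.unusedSectionVars false

namespace CfsgH8
open Subgroup CfsgH4 Cfsg CfsgH3 CfsgH3.IP CfsgH2 FinSub O1
open scoped ComplexConjugate commutatorElement

variable {G : Type*} [Group G] [Fintype G]

theorem isChar_sub_fin {f : G → ℂ} (hf : IsCharacter G f) (T : Finset (IrrCharacter G))
    (h : ∀ χ ∈ T, ⟪f, χ.1⟫ ≠ 0) : IsCharacter G (f - ∑ χ ∈ T, χ.1) := by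
  have := isChar_sub_sum hf (ζ := fun χ : T => χ.1) Subtype.val_injective fun i => h _ i.2
  rwa [Finset.sum_coe_sort T fun χ => χ.1] at this

theorem conv_irr {F : G → ℂ} (hF : IsClassFunction G F) (χ : IrrCharacter G) (g : G) :
    ∑ h, F h * χ.1 (h⁻¹ * g) = Nat.card G * ⟪F, χ.1⟫ / χ.1 1 * χ.1 g := by
  have h := χ.2.sum_mul_apply_mul (f := fun h => F h⁻¹) (fun a b => by
    simp only [show (b * a * b⁻¹)⁻¹ = b * a⁻¹ * b⁻¹ by group, hF _ _]) g
  rw [← Equiv.sum_comp (Equiv.inv G), ← Equiv.sum_comp (Equiv.inv G) fun h => F h⁻¹ * χ.1 h] at h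
  simp only [Equiv.inv_apply, inv_inv, χ.2.isChar.apply_inv] at h
  rw [h, classInner, mul_inv_cancel_left₀ (card_ne_zero_complex G)]

theorem ip_of_sing {p : ℕ} {Γ f : G → ℂ} (hΓ : ∀ g, ¬ p ∣ orderOf g → Γ g = 0) {v : ℤ}
    (hf : ∀ z, p ∣ orderOf z → f z = v) : ⟪Γ, f⟫ = v * ⟪Γ, (i1 G).1⟫ := by
  rw [classInner, classInner, mul_left_comm, Finset.mul_sum _ _ (v : ℂ)]
  refine congrArg _ (Finset.sum_congr rfl fun g _ => ?_)
  by_cases hg : p ∣ orderOf g
  · simp [hf g hg, mul_comm]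
  · simp [hΓ g hg]

variable {p : ℕ} [hp : Fact p.Prime] {P : Sylow p G} [h : O1 P]

omit h in
theorem reg_one : ¬ p ∣ orderOf (1 : G) := by simpa using hp.out.one_lt.ne'

variable (P) in
theorem exists_conj_sing {z : G} (hz : p ∣ orderOf z) :
    ∃ (c : G) (w : CP P), p ∣ orderOf (w : G) ∧ c * z * c⁻¹ = w := by
  obtain ⟨c, y, hy, h7, h8⟩ := exists_conj_ppart P hz
  exact ⟨c, ⟨_, cent hy h7 ▸ mem_centralizer_ppart h8⟩, (isPPart_ne_one_iff h8).mp h7, rfl⟩

omit h in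
theorem orbS_smul (n : NP P) (ψ : P.1 →* ℂˣ) : orbS (n • ψ) = orbS ψ := funext fun y => by
  simp only [orbS, ← mul_smul]
  rw [← Equiv.sum_comp (Equiv.mulRight n) fun m : NP P => ((m • ψ) y : ℂ)]; rfl

omit h in
theorem orbS_mk {ψ : P.1 →* ℂˣ} (h0 : ψ ≠ 1) {i : I0 P} (e : mkT _ ψ h0 = i) : orbS ψ = orbS i.1.out := by
  obtain ⟨n, hn⟩ := (mk0_eq_iff (outT_ne_one i) h0).1 ((mkT_out i).trans e.symm)
  rw [← hn]; exact orbS_smul n _

theorem sum_orbS_I0 {y : P.1} (h1 : y ≠ 1) : ∑ i : I0 P, orbS i.1.out y = -1 := by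
  classical
  set s : P.1 → ℂ := fun y => 1 + ∑ i : I0 P, orbS i.1.out y
  have c : ((Fintype.card (I0 P) * fN P : ℕ) : ℂ) = (p - 1 : ℕ) := by rw [card_I0]
  rw [Nat.cast_pred hp.out.pos, Nat.cast_mul] at c
  have k0 : ∑ y, ∑ i : I0 P, orbS i.1.out y = 0 :=
    Finset.sum_comm.trans (Finset.sum_eq_zero fun i _ => sum_orbS (outT_ne_one i))
  have k1 : ∑ y, s y * conj (s y) = p * p := by
    have : ∀ y, s y * conj (s y) = 1 + ∑ i : I0 P, orbS i.1.out y + conj (∑ i : I0 P, orbS i.1.out y) +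
        ∑ i : I0 P, ∑ j : I0 P, orbS i.1.out y * conj (orbS j.1.out y) := fun y => by
      rw [← Finset.sum_mul_sum, ← map_sum]; simp only [s, map_add, map_one]; ring
    simp only [this, Finset.sum_add_distrib]
    rw [← map_sum, k0, Finset.sum_comm (s := Finset.univ (α := P.1)),
      Finset.sum_congr rfl fun i _ => Finset.sum_comm.trans (Finset.sum_congr rfl fun j _ =>
        sum_orbS_mul (outT_ne_one i) j.1.out)]
    simp only [← mk0_eq_iff (outT_ne_one _) (outT_ne_one _), mkT_out, Finset.sum_ite_eq, Finset.mem_univ, if_true,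
      Finset.sum_const, Finset.card_univ, ← Nat.card_eq_fintype_card (α := P.1), h.card, nsmul_eq_mul, map_zero]
    linear_combination p * c
  have k2 : s 1 = p := by
    simp only [s, orbS_one, Finset.sum_const, Finset.card_univ, nsmul_eq_mul]; linear_combination c
  rw [← Finset.add_sum_erase _ _ (Finset.mem_univ 1), k2, map_natCast, add_eq_left] at k1
  simp only [Complex.mul_conj, ← Complex.ofReal_sum, Complex.ofReal_eq_zero] at k1
  have := (Finset.sum_eq_zero_iff_of_nonneg fun _ _ => Complex.normSq_nonneg _).1 k1 y (by simpa using h1)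
  rw [Complex.normSq_eq_zero] at this
  exact eq_neg_of_add_eq_zero_right this

theorem const_deg {f : G → ℂ} (hf : IsCharacter G f) {v : ℤ} (hv : ∀ y ∈ P.1, y ≠ 1 → f y = v) {d : ℕ}
    (hd : f 1 = d) : P.1 ≤ hf.ker ∨ p ≤ d + 1 := by
  obtain ⟨m, hm⟩ := exists_fix_nat (P := P) hf
  rw [LP_const hv, hd] at hm
  have h1 : (d : ℤ) + (p - 1) * v = p * m := by exact_mod_cast hm
  obtain ⟨y, hy, y1⟩ := exists_gen P
  have h2 := hf.norm_le y
  rw [hv y hy y1, hd, Complex.norm_intCast, Complex.norm_natCast] at h2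
  have h3 : v ≤ d := le_of_abs_le (by exact_mod_cast h2)
  rcases h3.lt_or_eq with h3 | h3
  · right
    have h4 : (p : ℤ) ∣ d - v := ⟨m - v, by linear_combination h1⟩
    have h5 := Int.le_of_dvd (by omega) h4
    have := hp.out.two_le
    by_contra h6
    nlinarith
  · left
    intro x hx
    by_cases e : x = 1
    · rw [e]; exact one_mem _
    · rw [hf.mem_ker, hv x hx e, hd, h3]; simp

theorem irr_cases (χ : IrrCharacter G) (hd : ¬ p ∣ deg χ) : (∃ v : ℤ, ∀ y ∈ P.1, y ≠ 1 → χ.1 y = v) ∨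
    ∃ (θ : IrrCharacter (CP P)) (δ : ℤ) (ξ : (P.1 →* ℂˣ) → IrrCharacter G) (ψ : P.1 →* ℂˣ), ψ ≠ 1 ∧ ξ ψ = χ ∧
      (δ = 1 ∨ δ = -1) ∧ (∀ ψ ≠ 1, ∀ y : P.1, y ≠ 1 → (ξ ψ).1 y = δ * deg θ * orbS ψ y) ∧
      (∀ ψ ψ' g, ¬ p ∣ orderOf g → (ξ ψ).1 g = (ξ ψ').1 g) ∧
      (fN P = 1 → ∃ (A : IrrCharacter G) (v : ℤ), (∀ y ∈ P.1, y ≠ 1 → A.1 y = v) ∧
        ∀ g, ¬ p ∣ orderOf g → χ.1 g = A.1 g) := by
  classical
  obtain ⟨M, hM⟩ := exists_isPModular p hp.out
  have := hM.2.1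
  have := charP_of_isPModular hM
  obtain ⟨θ, hθ, ψ, h0⟩ : ∃ θ ∈ KTF P, ∃ ψ, ⟪al ψ θ, χ⟫ ≠ 0 := by
    by_contra hn
    push Not at hn
    obtain ⟨m, hm⟩ := exists_fix_nat (P := P) χ.2.isChar
    rw [LP_const (v := 0) fun y hy y1 => by
      have := apply_sing0 χ (z := ⟨y, le_C P hy⟩) (sing_of_ne hy y1)
      rwa [Finset.sum_eq_zero fun θ hθ => Finset.sum_eq_zero fun ψ _ => by rw [hn θ hθ, zero_mul], neg_zero] at this,
      mul_zero, add_zero, deg_spec] at hm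
    exact hd ⟨m, by exact_mod_cast hm⟩
  have hk := mem_KTF.1 hθ
  obtain ⟨B, hi⟩ := exists_indBlock θ M
  have hB : χ ∈ B := by_contra fun hn => h0 (ip_al_eq_zero hk hi hn)
  obtain ⟨X, ζ, a, δ, S, h1, h2, -⟩ := exists_excT hk hi hB
  rcases (S.mem χ).1 hB with hX | ⟨i, rfl⟩
  · exact Or.inl ⟨_, fun y hy y1 => valXP hk hi S hX hy y1⟩
  have k : ∀ ψ, ∃ j, (if h : ψ = 1 then ζ i else ζ (mkT _ ψ h)) = ζ j := fun ψ => by split_ifs <;> exact ⟨_, rfl⟩
  refine Or.inr ⟨θ, δ, fun ψ => if h : ψ = 1 then ζ i else ζ (mkT _ ψ h), i.1.out, outT_ne_one i,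
    by simp only [dif_neg (outT_ne_one i), mkT_out], S.sign, fun ψ h0 y y1 => ?_, fun ψ ψ' g hg => ?_, fun he => ?_⟩
  · simp only [dif_neg h0]
    rw [valYP hk hi S h0 y1, charDegree_eq (deg_spec θ)]; rfl
  · obtain ⟨j, e⟩ := k ψ
    obtain ⟨j', e'⟩ := k ψ'
    simp only [e, e']; exact (excT hk hi).agree S j j' hg
  · obtain ⟨A, rfl⟩ := Finset.card_eq_one.1 (h1.trans (Nat.eq_one_of_mul_eq_one_left ((index_TT (θ := θ)).trans he)))
    have r := fun g hg => relT hk hi S i (g := g) hg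
    simp only [Finset.sum_singleton] at r
    have r1 := r 1 reg_one
    rw [deg_spec, deg_spec] at r1
    have r2 : δ * deg (ζ i) = a A * deg A := by exact_mod_cast r1
    have := deg_pos (ζ i)
    have := deg_pos A
    have e : a A = δ := by
      rcases S.sign with e | e <;> rcases h2 A (Finset.mem_singleton_self _) with e' | e' <;> rw [e, e'] at r2 ⊢ <;> omega
    refine ⟨A, _, fun y hy y1 => valXP hk hi S (Finset.mem_singleton_self _) hy y1, fun g hg => ?_⟩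
    have := r g hg
    rw [e] at this
    exact mul_left_cancel₀ (by rcases S.sign with e | e <;> simp [e]) this

/-- the case of a normal `p`-complement -/
theorem ker_of_fN_one (he : fN P = 1) {f : G → ℂ} (hf : IsCharacter G f) {d : ℕ} (hd : f 1 = d) (hl : d + 1 < p)
    {g : G} (hg : ¬ p ∣ orderOf g) (hn : g ∈ normalClosure (P.1 : Set G)) : f g = f 1 := by
  obtain ⟨m, h1, h2⟩ := hf.exists_coeff
  rw [h2]
  simp only [Finset.sum_apply, Pi.smul_apply]
  refine Finset.sum_congr rfl fun χ _ => ?_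
  by_cases e : m χ = 0
  · simp [e]
  have l : deg χ ≤ d := hf.deg_le_of_constituent χ.2 (by rw [h1]; exact_mod_cast e) hd (deg_spec χ)
  have k : ∀ (A : IrrCharacter G) (v : ℤ), (∀ y ∈ P.1, y ≠ 1 → A.1 y = v) → deg A = deg χ → A.1 g = A.1 1 :=
    fun A v hv e => normalClosure_le_normal
      ((const_deg A.2.isChar hv (deg_spec A)).resolve_right (by omega)) hn
  congr 1
  rcases irr_cases (P := P) χ (Nat.not_dvd_of_pos_of_lt (deg_pos χ) (by omega)) with
    ⟨v, hv⟩ | ⟨-, -, -, -, -, -, -, -, -, h3⟩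
  · exact k χ v hv rfl
  · obtain ⟨A, v, hv, hA⟩ := h3 he
    rw [hA g hg, hA 1 reg_one]
    refine k A v hv ?_
    have := hA 1 reg_one
    rw [deg_spec, deg_spec] at this
    exact_mod_cast this.symm

theorem cent_of_small {f : G → ℂ} (hf : IsCharacter G f) (hk : ∀ g, f g = f 1 → g = 1) {d : ℕ} (hd : f 1 = d)
    (hl' : d + 1 < p) {L : Subgroup G} [hL : L.Normal] (hpL : ¬ p ∣ Nat.card L) : L ≤ CP P := by
  classical
  set H := L ⊔ P.1
  have hQ : O1 (P.subtype (le_sup_right : P.1 ≤ H)) :=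
    ⟨by rw [Sylow.coe_subtype, CfsgH1.card_subgroupOf_of_le le_sup_right, h.card]⟩
  have r : ∀ l ∈ L, ¬ p ∣ orderOf l := fun l hl hd => hpL (hd.trans (orderOf_dvd_natCard L hl))
  have he : fN (P.subtype (le_sup_right : P.1 ≤ H)) = 1 := relIndex_eq_one.2 fun n hn => by
    obtain ⟨l, hl, y, hy, e⟩ := (mem_sup_of_normal_left (t := P.1)).1 n.2
    intro x hx
    have h1 : (n * x * n⁻¹ : H) ∈ _ := (mem_normalizer_iff.1 hn x).1 hx
    have h2 : y * x * y⁻¹ = x := by rw [mul_inv_eq_iff_eq_mul]; exact (le_C P hy _ hx).symm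
    have h3 : l * x * l⁻¹ * (x : G)⁻¹ ∈ P.1 := by
      refine mul_mem ?_ (inv_mem hx)
      have : ((n * x * n⁻¹ : H) : G) ∈ P.1 := h1
      rwa [coe_mul, coe_mul, coe_inv, ← e, show l * y * x * (l * y)⁻¹ = l * (y * x * y⁻¹) * l⁻¹ by group, h2] at this
    have h4 : l * x * l⁻¹ * (x : G)⁻¹ = 1 := by_contra fun h4 => r _ (by
      rw [mul_assoc, mul_assoc, ← mul_assoc (x : G)]; exact mul_mem hl (hL.conj_mem _ (inv_mem hl) x))
        (sing_of_ne h3 h4)
    refine Subtype.ext ?_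
    rw [mul_inv_eq_one, mul_inv_eq_iff_eq_mul] at h4
    rw [mul_inv_eq_iff_eq_mul] at h2
    rw [coe_mul, coe_mul, ← e, mul_assoc l, h2, ← mul_assoc, ← mul_assoc, h4]
  intro l hl x hx
  have m : l * x * l⁻¹ * x⁻¹ ∈ L := by
    rw [mul_assoc, mul_assoc, ← mul_assoc x]; exact mul_mem hl (hL.conj_mem _ (inv_mem hl) x)
  let l' : H := ⟨l, mem_sup_left hl⟩
  let x' : H := ⟨x, mem_sup_right hx⟩
  have m' : x' ∈ normalClosure ((P.subtype (le_sup_right : P.1 ≤ H)).1 : Set H) := subset_normalClosure hx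
  have := hk _ (ker_of_fN_one he (hf.restrict H) hd hl' (g := l' * x' * l'⁻¹ * x'⁻¹)
    (by rw [← orderOf_coe]; exact r _ m) (mul_mem (normalClosure_normal.conj_mem _ m' l') (inv_mem m')))
  rw [show ((l' * x' * l'⁻¹ * x'⁻¹ : H) : G) = l * x * l⁻¹ * x⁻¹ from rfl, mul_inv_eq_one,
    mul_inv_eq_iff_eq_mul] at this
  exact this.symm

theorem ker_of_fix {χ : IrrCharacter G} (h1 : χ.1 1 + LP P χ.1 = 0)
    (h2 : ∀ z : CP P, p ∣ orderOf (z : G) → χ.1 z = χ.1 (rt P z)) :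
    ¬ p ∣ Nat.card χ.2.isChar.ker ∧ ∀ d : CP P, rt P d = 1 → (d : G) ∈ χ.2.isChar.ker := by
  obtain ⟨f, f1, f2, f3⟩ := exists_fixdim χ.2.isChar
  have h3 : ∑ y : P.1, χ.1 y = 0 := by rw [← h1, LP]; ring
  have h4 : f P.1 = 0 := by simpa [h3, h.card, hp.out.ne_zero] using f1 P.1
  refine ⟨fun hd => ?_, fun d h6 => ?_⟩
  · rw [Finset.sum_congr rfl fun y _ => χ.2.isChar.mem_ker.mp (le_of_dvd_card hd y.2)] at h3
    simp [irr_one_ne] at h3
  have h7 : LP P χ.1 = ∑ y : P.1, χ.1 (d * y) - χ.1 (d * (1 : P.1)) := LP_congr fun x hx => by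
    have h8 : rt P (d * ⟨x, le_C P x.2⟩) = x := by rw [map_mul, h6, one_mul, rt_coe x.2]
    rw [← h8, ← h2 _ (by_contra fun h => hx (h8 ▸ rt_eq_one.mpr h)), h8]; rfl
  rw [f3 _ ⊤ le_top (h4 ▸ Nat.zero_le _) _ (mem_top _), h3] at h7
  rw [χ.2.isChar.mem_ker]; simp only [OneMemClass.coe_one, mul_one] at h7; linear_combination h7 - h1

/-- a pair of conjugate exceptional characters of small degree -/
structure SmD (P : Sylow p G) [O1 P] (χ χ' : IrrCharacter G) (i j : I0 P) (θ : IrrCharacter (CP P)) : Prop where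
  ne : i ≠ j
  val : ∀ y : P.1, χ.1 y = deg θ * orbS i.1.out y
  val' : ∀ y : P.1, χ'.1 y = deg θ * orbS j.1.out y
  agree : ∀ g, ¬ p ∣ orderOf g → χ.1 g = χ'.1 g

theorem exists_SmD {χ : IrrCharacter G} (hk : ¬ P.1 ≤ χ.2.isChar.ker) (hd : 2 * deg χ + 1 ≤ p) :
    ∃ χ' i j θ, SmD P χ χ' i j θ := by
  classical
  have d0 := deg_pos χ
  have nc : ∀ v : ℤ, ¬ ∀ y ∈ P.1, y ≠ 1 → χ.1 y = v := fun v hv =>
    (const_deg χ.2.isChar hv (deg_spec χ)).elim hk fun h => by omega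
  obtain ⟨θ, δ, ξ, ψ, h0, rfl, hδ, hv, ha, -⟩ := (irr_cases (P := P) χ
    (Nat.not_dvd_of_pos_of_lt d0 (by omega))).resolve_left fun ⟨v, hv⟩ => nc v hv
  obtain ⟨j, hj⟩ : ∃ j : I0 P, j ≠ mkT _ ψ h0 := by
    by_contra hn
    push Not at hn
    refine nc (-δ * deg θ) fun y hy y1 => ?_
    have y1' : (⟨y, hy⟩ : P.1) ≠ 1 := fun e => y1 (congrArg Subtype.val e)
    have := sum_orbS_I0 y1'
    rw [Finset.sum_eq_single (mkT _ ψ h0) (fun j _ e => absurd (hn j) e) (by simp), ← orbS_mk h0 rfl] at this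
    rw [hv ψ h0 ⟨y, hy⟩ y1', this]; push_cast; ring
  have t2 : 2 * fN P ≤ p - 1 := by
    rw [← card_I0 (P := P)]
    exact Nat.mul_le_mul_right _ (Fintype.one_lt_card_iff_nontrivial.2 ⟨_, _, hj⟩)
  obtain ⟨m, hm⟩ := exists_fix_nat (P := P) (ξ ψ).2.isChar
  rw [LP_congr (g := fun y => δ * deg θ * orbS ψ y) (hv ψ h0), ← Finset.mul_sum, sum_orbS h0, orbS_one,
    deg_spec] at hm
  have h1 : (deg (ξ ψ) : ℤ) - δ * deg θ * fN P = p * m := by
    exact_mod_cast (by linear_combination hm : (deg (ξ ψ) : ℂ) - δ * deg θ * fN P = p * m)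
  have θ0 := deg_pos θ
  obtain rfl : δ = 1 := hδ.resolve_right fun e => by
    subst e
    have k1 : ∑ y : P.1, (ξ ψ).1 y * conj (orbS ψ y) = deg (ξ ψ) * fN P - deg θ * (p * fN P - fN P * fN P) := by
      have := sum_orbS_mul h0 ψ
      rw [if_pos (MulAction.mem_orbit_self _), ← Finset.add_sum_erase _ _ (Finset.mem_univ 1), orbS_one] at this
      rw [← Finset.add_sum_erase _ _ (Finset.mem_univ 1), Finset.sum_congr rfl fun y hy => by
        rw [hv ψ h0 y (Finset.ne_of_mem_erase hy), mul_assoc], ← Finset.mul_sum, orbS_one, OneMemClass.coe_one,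
        deg_spec, ← this]
      simp; ring
    have k2 : ∀ n : NP P, ∃ k : ℕ, ∑ y : P.1, (ξ ψ).1 y * conj ((n • ψ) y : ℂ) = k := fun n => by
      obtain ⟨k, hk⟩ := ((ξ ψ).2.isChar.restrict P.1).inner_nat (isIrr_unitsHom (n • ψ)).isChar
      rw [classInner, inv_mul_eq_iff_eq_mul₀ (card_ne_zero_complex _)] at hk
      exact ⟨Nat.card P.1 * k, by rw [hk, Nat.cast_mul]⟩
    choose k hk using k2
    simp only [orbS, map_mul, map_sum, map_inv₀, map_natCast, mul_left_comm _ (Nat.card (CP P) : ℂ)⁻¹,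
      Finset.mul_sum] at k1
    rw [Finset.sum_comm] at k1
    simp only [← Finset.mul_sum, hk] at k1
    rw [inv_mul_eq_iff_eq_mul₀ (card_ne_zero_complex _)] at k1
    have k3 : (∑ n, k n : ℕ) = (Nat.card (CP P) : ℤ) * (deg (ξ ψ) * fN P - deg θ * (p * fN P - fN P * fN P)) := by
      exact_mod_cast k1
    have k4 : (0 : ℤ) < Nat.card (CP P) := by exact_mod_cast Nat.card_pos
    have k5 := nonneg_of_mul_nonneg_right (k3 ▸ Int.natCast_nonneg _) k4
    have e0 : 0 < fN P := Nat.pos_of_ne_zero index_ne_zero_of_finite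
    have k6 : (0 : ℤ) ≤ deg (ξ ψ) - deg θ * (p - fN P) := nonneg_of_mul_nonneg_left (b := fN P)
      (by linarith) (by exact_mod_cast e0)
    have : (p : ℤ) - fN P ≤ deg θ * (p - fN P) := le_mul_of_one_le_left (by omega) (by exact_mod_cast θ0)
    omega
  obtain rfl : m = 0 := by
    by_contra h2
    have : (p : ℤ) ≤ p * m := le_mul_of_one_le_right (by omega) (by omega)
    have : (0 : ℤ) ≤ 1 * deg θ * fN P := by positivity
    omega
  have h2 : (ξ ψ).1 1 = deg θ * fN P := by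
    rw [deg_spec]; exact_mod_cast (by push_cast at h1; linarith : (deg (ξ ψ) : ℤ) = deg θ * fN P)
  have k : ∀ ψ' ≠ 1, ∀ y : P.1, (ξ ψ').1 y = deg θ * orbS ψ' y := fun ψ' h' y => by
    by_cases e : y = 1
    · rw [e, orbS_one, OneMemClass.coe_one, ha ψ' ψ 1 reg_one, h2]
    · rw [hv ψ' h' y e]; simp
  exact ⟨ξ j.1.out, mkT _ ψ h0, j, θ, hj.symm, fun y => by rw [k ψ h0, orbS_mk h0 rfl], k _ (outT_ne_one j),
    ha _ _⟩

end CfsgH8
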