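import Cfsg.Agent.H8.Lin1
import Cfsg.Agent.H8.TI2

/-! Characters of small degree of groups with a Sylow subgroup of prime order, II (Brauer 1942). -/

set_option autoImplicit false
set_option linter.unusedSectionVars false

namespace CfsgH8
open Subgroup CfsgH4 Cfsg CfsgH3 CfsgH3.IP CfsgH2 FinSub O1
open scoped ComplexConjugate commutatorElement

variable {G : Type*} [Group G] [Fintype G] {p : ℕ} [hp : Fact p.Prime] {P : Sylow p G} [h : O1 P]
  {X : Finset (IrrCharacter G)} {ζ : I0 P → IrrCharacter G} {a : IrrCharacter G → ℤ} {δ : ℤ}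

/-- product of a character with a conjugate character -/
noncomputable def cc (χ χ' : IrrCharacter G) : G → ℂ := fun g => χ.1 g * conj (χ'.1 g)

theorem cc_char (χ χ' : IrrCharacter G) : IsCharacter G (cc χ χ') := χ.2.isChar.mul χ'.2.isChar.conj_char

theorem ip_cc (χ χ' : IrrCharacter G) : ⟪cc χ χ', (i1 G).1⟫ = ⟪χ.1, χ'.1⟫ := by simp [classInner, cc]

theorem fN_pos : 0 < fN P := Nat.pos_of_ne_zero index_ne_zero_of_finite

namespace PBl
variable (B : PBl P X ζ a δ)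
include B

theorem sumY {z : G} (hz : p ∣ orderOf z) : ∑ k, (ζ k).1 z = (-δ : ℤ) := by
  obtain ⟨c, w, hw, e⟩ := exists_conj_sing P hz
  rw [Finset.sum_congr rfl (g := fun k => δ * orbS k.1.out (rt P w)) fun k _ => by
    rw [← (ζ k).2.classFun z c, e, ← B.valY _ (outT_ne_one k) w hw, mkT_out], ← Finset.mul_sum,
    sum_orbS_I0 (mt rt_eq_one.mp (not_not.mpr hw))]
  simp

theorem con {f f' : G → ℂ} (hf : IsCharacter G f) (hf' : IsCharacter G f') (h1 : ∀ g, ¬ p ∣ orderOf g → f g = f' g)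
    (h2 : ⟪f, (i1 G).1⟫ = 1) (h3 : ⟪f', (i1 G).1⟫ = 0) :
    (∀ A ∈ X, a A = 1 → ⟪f, A.1⟫ ≠ 0) ∧ (∀ A ∈ X, a A = -1 → ⟪f', A.1⟫ ≠ 0) ∧
      (δ = 1 → ∃ k, ⟪f', (ζ k).1⟫ ≠ 0) ∧ (δ = -1 → ∃ k, ⟪f, (ζ k).1⟫ ≠ 0) := by
  have k : ∀ (F : G → ℂ) (v : ℤ), (∀ z, p ∣ orderOf z → F z = v) → ⟪f, F⟫ - ⟪f', F⟫ = v := fun F v hv => by
    rw [← CfsgH3.inner_sub_left, ip_of_sing (fun g hg => by simp [h1 g hg]) hv, CfsgH3.inner_sub_left, h2, h3]; simp
  have k2 := k (∑ k, (ζ k).1) (-δ) fun z hz => by rw [Finset.sum_apply, B.sumY hz]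
  have c : IsCharacter G (∑ k, (ζ k).1) := .sum _ fun k _ => (ζ k).2.isChar
  refine ⟨fun A hA e h0 => ?_, fun A hA e h0 => ?_, fun e => by_contra fun hn => ?_, fun e => by_contra fun hn => ?_⟩
  · obtain ⟨n, hn⟩ := hf'.inner_nat A.2.isChar
    have := k _ _ (B.valX A hA)
    rw [h0, hn, e] at this
    exact Nat.cast_add_one_ne_zero n (by push_cast at this; linear_combination -this)
  · obtain ⟨n, hn⟩ := hf.inner_nat A.2.isChar
    have := k _ _ (B.valX A hA)
    rw [h0, hn, e] at this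
    exact Nat.cast_add_one_ne_zero n (by push_cast at this; linear_combination this)
  · push Not at hn
    obtain ⟨n, e'⟩ := hf.inner_nat c
    rw [e', CfsgH3.inner_sum_right, Finset.sum_eq_zero fun k _ => hn k, e] at k2
    exact Nat.cast_add_one_ne_zero n (by push_cast at k2; linear_combination k2)
  · push Not at hn
    obtain ⟨n, e'⟩ := hf'.inner_nat c
    rw [e', CfsgH3.inner_sum_right, Finset.sum_eq_zero fun k _ => hn k, e] at k2
    exact Nat.cast_add_one_ne_zero n (by push_cast at k2; linear_combination -k2)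

theorem degX_ge (hG : ∀ N : Subgroup G, N.Normal → P.1 ≤ N → N = ⊤) {A : IrrCharacter G} (hA : A ∈ X) :
    (A ≠ i1 G → a A = 1 → p + 1 ≤ deg A) ∧ (a A = -1 → p ≤ deg A + 1) := by
  obtain ⟨m, hm⟩ := exists_fix_nat (P := P) A.2.isChar
  rw [B.LP_X hA, deg_spec] at hm
  have h1 : (deg A : ℤ) + (p - 1) * a A = p * m := by exact_mod_cast hm
  have := deg_pos A
  have := hp.out.two_le
  refine ⟨fun n e => ?_, fun e => ?_⟩ <;> rw [e] at h1
  · obtain ⟨k, rfl⟩ : ∃ k, m = k + 1 := ⟨m - 1, by rcases m with _ | m <;> simp at h1 ⊢; omega⟩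
    rcases k with _ | k
    · refine absurd (eq_i1_of_ker (hG _ inferInstance fun y hy => ?_)) n
      by_cases y1 : y = 1
      · rw [y1]; exact one_mem _
      rw [A.2.isChar.mem_ker, B.valX A hA y (sing_of_ne hy y1), e, deg_spec, show deg A = 1 by omega]; simp
    · push_cast at h1; nlinarith
  · have : (0 : ℤ) ≤ p * m := by positivity
    omega

theorem degY_ge (k : I0 P) : (δ = 1 → fN P ≤ deg (ζ k)) ∧ (δ = -1 → p ≤ deg (ζ k) + fN P) := by
  obtain ⟨m, hm⟩ := exists_fix_nat (P := P) (ζ k).2.isChar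
  rw [B.LP_Y, deg_spec] at hm
  have h1 : (deg (ζ k) : ℤ) + -δ * fN P = p * m := by exact_mod_cast hm
  have := deg_pos (ζ k)
  refine ⟨fun e => ?_, fun e => ?_⟩ <;> rw [e] at h1
  · have : (0 : ℤ) ≤ p * m := by positivity
    omega
  · have : (p : ℤ) ≤ p * m := le_mul_of_one_le_right (by omega) (by rcases m with _ | m <;> simp at h1 ⊢; omega)
    omega

/-- combinations of the characters of the principal block -/
noncomputable def cmb (_ : PBl P X ζ a δ) (c : IrrCharacter G → ℂ) (d : ℂ) : G → ℂ :=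
  ∑ A ∈ X, c A • A.1 + d • ∑ k, (ζ k).1

theorem cmb_apply (c : IrrCharacter G → ℂ) (d : ℂ) (g : G) :
    B.cmb c d g = ∑ A ∈ X, c A * A.1 g + d * ∑ k, (ζ k).1 g := by simp [cmb]

theorem cmb_class (c : IrrCharacter G → ℂ) (d : ℂ) : IsClassFunction G (B.cmb c d) := fun x y => by
  simp only [cmb_apply, fun A : IrrCharacter G => A.2.classFun x y]

theorem ip_cmb_X (c : IrrCharacter G → ℂ) (d : ℂ) {A : IrrCharacter G} (hA : A ∈ X) : ⟪B.cmb c d, A.1⟫ = c A := by
  classical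
  simp only [cmb, CfsgH3.inner_add_left, CfsgH3.inner_smul_left, CfsgH3.inner_sum_left, inner_irr]
  rw [Finset.sum_eq_zero (s := Finset.univ) fun k _ => if_neg fun e : ζ k = A => B.disj k (e ▸ hA)]
  simp [hA]

theorem ip_cmb_Y (c : IrrCharacter G → ℂ) (d : ℂ) (k : I0 P) : ⟪B.cmb c d, (ζ k).1⟫ = d := by
  classical
  simp only [cmb, CfsgH3.inner_add_left, CfsgH3.inner_smul_left, CfsgH3.inner_sum_left, inner_irr, B.inj.eq_iff]
  rw [Finset.sum_eq_zero (s := X) fun A hA => by rw [if_neg fun e : A = ζ k => B.disj k (e ▸ hA), mul_zero]]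
  simp

theorem conv_cmb (c : IrrCharacter G → ℂ) (d : ℂ) (g : G) : ∑ x, B.cmb c d x * B.cmb c d (x⁻¹ * g) =
    Nat.card G * (∑ A ∈ X, c A * c A / A.1 1 * A.1 g + ∑ k, d * d / (ζ k).1 1 * (ζ k).1 g) := by
  simp only [B.cmb_apply c d (_ * g), mul_add, Finset.mul_sum, Finset.sum_add_distrib, mul_left_comm (B.cmb c d _)]
  rw [Finset.sum_comm, Finset.sum_comm (s := Finset.univ (α := G))]
  simp only [← Finset.mul_sum, conv_irr (B.cmb_class c d), B.ip_cmb_Y]
  simp only [Finset.mul_sum]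
  congr 1
  · exact Finset.sum_congr rfl fun A hA => by rw [B.ip_cmb_X c d hA]; ring
  · exact Finset.sum_congr rfl fun A _ => by ring

end PBl

namespace SmD
variable {χ χ' : IrrCharacter G} {i j : I0 P} {θ : IrrCharacter (CP P)} (S : SmD P χ χ' i j θ)
include S

theorem deg_eq : deg χ = deg θ * fN P := by
  have := S.val 1
  rw [orbS_one, OneMemClass.coe_one, deg_spec] at this
  exact_mod_cast this

theorem fix12 : cc χ χ' 1 + LP P (cc χ χ') = 0 := by
  classical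
  have := sum_orbS_mul (outT_ne_one i) j.1.out
  rw [if_neg fun e => S.ne (by simpa only [mkT_out] using (mk0_eq_iff (outT_ne_one i) (outT_ne_one j)).2 e)] at this
  simp only [LP, add_sub_cancel, cc, S.val, S.val', map_mul, mul_mul_mul_comm _ (orbS _ _), ← Finset.mul_sum, this,
    mul_zero]

theorem ne_char : χ ≠ χ' := fun e => by
  have := S.fix12
  simp only [LP, add_sub_cancel, cc, ← e, Complex.mul_conj, ← Complex.ofReal_sum, Complex.ofReal_eq_zero] at this
  exact irr_one_ne χ (Complex.normSq_eq_zero.1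
    ((Finset.sum_eq_zero_iff_of_nonneg fun _ _ => Complex.normSq_nonneg _).1 this 1 (Finset.mem_univ _)))

theorem con (B : PBl P X ζ a δ) : (∀ A ∈ X, a A = 1 → ⟪cc χ χ, A.1⟫ ≠ 0) ∧ (∀ A ∈ X, a A = -1 → ⟪cc χ χ', A.1⟫ ≠ 0) ∧
      (δ = 1 → ∃ k, ⟪cc χ χ', (ζ k).1⟫ ≠ 0) ∧ (δ = -1 → ∃ k, ⟪cc χ χ, (ζ k).1⟫ ≠ 0) :=
  B.con (cc_char _ _) (cc_char _ _) (fun g hg => by simp only [cc, S.agree g hg]) (by rw [ip_cc, χ.2.inner_self])
    (by rw [ip_cc, χ.2.inner_of_ne χ'.2 fun e => S.ne_char (Subtype.ext e)])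

theorem cent (hk : ∀ g, χ.1 g = χ.1 1 → g = 1) (hd : deg χ + 1 < p) (d : CP P) (h1 : rt P d = 1) :
    (d : G) ∈ centralizer (normalClosure (P.1 : Set G) : Set G) := by
  obtain ⟨X, ζ, a, δ, B⟩ := exists_PBl P
  obtain ⟨-, c2, c3, -⟩ := S.con B
  obtain ⟨Y, y1, y2⟩ : ∃ Y : IrrCharacter G, ⟪cc χ χ', Y.1⟫ ≠ 0 ∧
      ∀ z : CP P, p ∣ orderOf (z : G) → Y.1 z = Y.1 (rt P z) := by
    rcases B.sign with e | e
    · obtain ⟨k, hk⟩ := c3 e
      exact ⟨_, hk, B.rt_Y k⟩
    · obtain ⟨A, hA, e'⟩ : ∃ A ∈ X, a A = -1 := by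
        by_contra hn
        push Not at hn
        have := B.rel i 1 reg_one
        rw [Finset.sum_congr rfl fun A hA => by rw [(B.sg A hA).resolve_right (hn A hA), deg_spec], e, deg_spec] at this
        have k : -(deg (ζ i) : ℤ) = ∑ A ∈ X, (deg A : ℤ) := by exact_mod_cast (by simpa using this :
          -(deg (ζ i) : ℂ) = ∑ A ∈ X, (deg A : ℂ))
        have : (0 : ℤ) ≤ ∑ A ∈ X, (deg A : ℤ) := by positivity
        have := deg_pos (ζ i)
        omega
      exact ⟨A, c2 A hA e', B.rt_X hA⟩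
  obtain ⟨m, hm⟩ := exists_fix_nat (P := P) Y.2.isChar
  obtain ⟨m', hm'⟩ := exists_fix_nat (P := P) ((cc_char χ χ').sub_constituent Y.2 y1)
  have e := S.fix12
  have e2 : ((p * m + p * m' : ℕ) : ℂ) = 0 := by
    simp only [LP, Pi.sub_apply, Finset.sum_sub_distrib] at hm hm' e
    push_cast; linear_combination e - hm - hm'
  have e3 : (p : ℂ) * m = 0 := by
    have : p * m = 0 := by have : p * m + p * m' = 0 := by exact_mod_cast e2
                           omega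
    exact_mod_cast this
  obtain ⟨k1, k2⟩ := ker_of_fix (hm.trans e3) y2
  have k3 := cent_of_small (P := P) χ.2.isChar hk (deg_spec χ) hd k1
  exact le_centralizer_iff.1 (normalClosure_le_normal (le_centralizer_iff.1 k3)) (k2 d h1)

end SmD

end CfsgH8
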