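import Mathlib
import Cfsg.Agent.H8.Lin3

/-! Trivial intersection Sylow subgroups and small characters in `p`-solvable groups. -/

set_option autoImplicit false
set_option linter.unusedSectionVars false

namespace CfsgH8
open Subgroup CfsgH4 Cfsg CfsgH3 CfsgH3.IP CfsgH2 FinSub
open scoped ComplexConjugate commutatorElement

variable {G : Type*} [Group G] [Fintype G] {p : ℕ} [hp : Fact p.Prime]

theorem ind_one_ti (P : Sylow p G) (hTI : ∀ g u, u ∈ P.1 → u ≠ 1 → g * u * g⁻¹ ∈ P.1 → g ∈ NP P) {g : G}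
    (hg : p ∣ orderOf g) : indFun (NP P) (fun _ => 1) g = 1 := by
  obtain ⟨c, y, hy, y1, h⟩ := exists_conj_ppart P hg
  rw [← indFun_classFun _ _ g c, indFun_one_apply]
  have k : c * g * c⁻¹ ∈ NP P := hTI _ y hy y1 (by
    rwa [← (isPPart_commute h).eq, mul_inv_cancel_right])
  rw [Nat.card_congr (Equiv.subtypeEquivRight (q := (· ∈ NP P)) fun x => ⟨fun hx => ?_, fun hx =>
    mul_mem (mul_mem (inv_mem hx) k) hx⟩), inv_mul_cancel₀ (card_ne_zero_complex _)]
  have h2 := isPPart_conj h x⁻¹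
  refine inv_mem_iff.1 (hTI _ y hy y1 ?_)
  have := (isPPart_isPGroup h2).inf_normalizer_sylow P
  exact (this.le ⟨mem_zpowers _, isPPart_mem h2 (by rwa [inv_inv])⟩).2

theorem ti_cent (P : Sylow p G) (N : Subgroup G) [N.Normal] (hN : ¬ p ∣ Nat.card N) (hs : P.1 ⊔ N = ⊤)
    (hTI : ∀ g u, u ∈ P.1 → u ≠ 1 → g * u * g⁻¹ ∈ P.1 → g ∈ NP P) {ψ : G → ℂ} (hψ : IsIrrCharacter G ψ) {d : ℕ}
    (h1 : ψ 1 = d) (hd : d ^ 2 ≤ Nat.card P) {z : G} (hz : z ∈ P.1) (hc : ∀ y ∈ P.1, y * z = z * y) :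
    z ∈ hψ.isChar.cent := by
  classical
  obtain ⟨k, hk⟩ := IsPGroup.iff_card.1 P.2
  have cp : (Nat.card P.1).Coprime (Nat.card N) := hk ▸ ((Nat.Prime.coprime_iff_not_dvd hp.out).2 hN).pow_left k
  have dj : P.1 ⊓ N = ⊥ := disjoint_iff.1 (disjoint_of_coprime_natCard cp)
  have ix : N.index = Nat.card P.1 := by
    have := CfsgH1.card_sup_mul_card_inf P.1 N
    rw [hs, dj, card_bot, mul_one, card_top, ← N.index_mul_card] at this
    exact Nat.eq_of_mul_eq_mul_right Nat.card_pos this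
  have sg : ∀ g, g ∉ N → p ∣ orderOf g := fun g hg => by
    by_contra h
    refine hg ((QuotientGroup.eq_one_iff g).1 (orderOf_eq_one_iff.1 (Nat.eq_one_of_dvd_coprimes
      (((Nat.Prime.coprime_iff_not_dvd hp.out).2 h).pow_left k) ?_ (orderOf_map_dvd (QuotientGroup.mk' N) g))))
    rw [← hk, ← ix]; exact orderOf_dvd_natCard _
  let f : G → ℂ := fun g => if g ∈ N then 0 else ψ g
  have cf : IsClassFunction G f := fun a b => by
    simp only [f, hψ.classFun a b, Normal.mem_comm_iff inferInstance (a := b * a), inv_mul_cancel_left]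
  have e1 : indFun (NP P) (fun x => f x) = f := by
    rw [indFun_res _ cf]
    funext g
    by_cases hg : g ∈ N
    · simp [f, hg]
    · rw [Pi.mul_apply, ind_one_ti P hTI (sg g hg), one_mul]
  have e2 := inner_indFun_left (NP P) (fun x => f x) cf
  rw [e1, inner_self_eq, inner_self_eq, Complex.ofReal_inj] at e2
  have e3 := hψ.inner_self
  rw [inner_self_eq, Complex.ofReal_eq_one] at e3
  obtain ⟨m, hm⟩ := (hψ.isChar.restrict (NP P)).inner_nat (hψ.isChar.restrict _)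
  have m0 : m ≠ 0 := fun e => hψ.one_ne_zero (congrFun (inner_self_eq_zero.1 (hm.trans (by rw [e]; simp))) 1)
  have l1 : ∑ g, ‖f g‖ ^ 2 < ∑ g, ‖ψ g‖ ^ 2 := Finset.sum_lt_sum (fun g _ => by
    simp only [f]; split_ifs <;> simp) ⟨1, Finset.mem_univ _, by simpa [f, one_mem] using pow_pos (norm_pos_iff.2 hψ.one_ne_zero) 2⟩
  have l2 : ∑ g : NP P, ‖ψ g‖ ^ 2 ≤ ∑ g : NP P, ‖f g‖ ^ 2 + Nat.card (N.subgroupOf (NP P)) * (d : ℝ) ^ 2 := by
    rw [Nat.card_eq_fintype_card, Fintype.card_subtype, Finset.card_filter, Nat.cast_sum, Finset.sum_mul,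
      ← Finset.sum_add_distrib]
    refine Finset.sum_le_sum fun g _ => ?_
    have := hψ.isChar.norm_le g
    rw [h1, Complex.norm_natCast] at this
    simp only [f, mem_subgroupOf]; split_ifs
    · simpa using pow_le_pow_left₀ (norm_nonneg _) this 2
    · simp
  have l3 : (Nat.card (N.subgroupOf (NP P)) * d ^ 2 : ℝ) ≤ Nat.card (NP P) := by
    have : N.relIndex (NP P) = Nat.card P.1 := by
      rw [← relIndex_sup_right, eq_top_iff.2 (hs.ge.trans (sup_le_sup_right le_normalizer _)), relIndex_top_right, ix]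
    rw [← (N.subgroupOf (NP P)).card_mul_index]
    exact_mod_cast Nat.mul_le_mul_left _ (hd.trans this.ge)
  have m1 : m = 1 := by
    rw [inner_self_eq, ← Complex.ofReal_natCast, Complex.ofReal_inj] at hm
    have c1 : (0 : ℝ) < Nat.card G := Nat.cast_pos.2 Nat.card_pos
    have c2 : (0 : ℝ) < Nat.card (NP P) := Nat.cast_pos.2 Nat.card_pos
    have : (m : ℝ) < 2 := by
      have a1 := mul_lt_mul_of_pos_left l1 (inv_pos.2 c1)
      have a2 := mul_le_mul_of_nonneg_left (l2.trans (add_le_add_right l3 _)) (inv_pos.2 c2).le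
      rw [mul_add, inv_mul_cancel₀ c2.ne'] at a2
      linarith
    have : m < 2 := by exact_mod_cast this
    omega
  refine ((hψ.isChar.restrict (NP P)).irr_of_inner_eq_one (by rw [hm, m1, Nat.cast_one])).center_le_cent
    (x := ⟨z, le_normalizer hz⟩) (mem_center_iff.2 fun ⟨x, hx⟩ => Subtype.ext ?_)
  obtain ⟨a, ha, n, hn, rfl⟩ := mem_sup_of_normal_right.1 (hs.ge (mem_top x))
  have n1 : n ∈ NP P := (mul_mem_cancel_left (le_normalizer ha)).1 hx
  have : n * z * n⁻¹ * z⁻¹ = 1 := dj.le (mem_inf.2 ⟨mul_mem ((mem_normalizer_iff.1 n1 z).1 hz) (inv_mem hz), by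
    simpa only [mul_assoc, inv_inv] using mul_mem hn (Normal.conj_mem inferInstance _ (inv_mem hn) z)⟩)
  rw [mul_inv_eq_one, mul_inv_eq_iff_eq_mul] at this
  change a * n * z = z * (a * n)
  rw [mul_assoc, this, ← mul_assoc, hc a ha, mul_assoc]

theorem ti_psolv (hs : IsPSolvable p G) (P : Sylow p G)
    (hTI : ∀ g u, u ∈ P.1 → u ≠ 1 → g * u * g⁻¹ ∈ P.1 → g ∈ NP P) {χ : G → ℂ} (hχ : IsCharacter G χ)
    (hk : ∀ g, χ g = χ 1 → g = 1) {d : ℕ} (h1 : χ 1 = d) (hd : d ^ 2 ≤ Nat.card P) : P.1.Normal := by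
  classical
  by_contra hP
  obtain ⟨g, hg⟩ : ∃ g, g ∉ NP P := by
    by_contra! h
    exact hP (normalizer_eq_top_iff.1 (eq_top_iff.2 fun g _ => h g))
  have h0 : pCore p G = ⊥ := eq_bot_iff.2 fun u hu => by_contra fun u1 => hg
    (hTI g u (CfsgH1.pCore_le_sylow P hu) u1 (CfsgH1.pCore_le_sylow P (Normal.conj_mem inferInstance _ hu g)))
  have : Nontrivial P.1 := (nontrivial_iff_ne_bot _).2 fun e => hP (e ▸ inferInstance)
  obtain ⟨⟨⟨z, hz⟩, zc⟩, z1⟩ := have := P.2.center_nontrivial; exists_ne (1 : center P.1)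
  let N := pPrimeCore p G
  have cp := CfsgH1.coprime_card_pPrimeCore p G
  let K := P.1 ⊔ N
  have hK : P.1 ≤ K := le_sup_left
  have : z ∈ N := CfsgH1.IsPSolvable.centralizer_pPrimeCore_le hs h0 fun n hn => by
    have := hk _ (apply_eq_of_constituents (c := ⟨z, hK hz⟩ * ⟨n, mem_sup_right hn⟩ * (⟨z, hK hz⟩ : K)⁻¹ *
      (⟨n, mem_sup_right hn⟩ : K)⁻¹) (hχ.restrict K) fun ψ hψ h => ?_)
    · exact (mul_inv_eq_iff_eq_mul.1 (mul_inv_eq_one.1 this)).symm
    obtain ⟨e, he⟩ := hψ.isChar.exists_deg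
    refine hψ.isChar.commutator_mem_ker (ti_cent (P.subtype hK) (N.subgroupOf K) ?_ ?_ (fun g u hu u1 h => ?_) hψ he ?_
      hz fun y hy => Subtype.ext (congrArg Subtype.val (mem_center_iff.1 zc ⟨y, hy⟩) :)) _
    · rw [CfsgH1.card_subgroupOf_of_le le_sup_right]
      exact (Nat.Prime.coprime_iff_not_dvd hp.out).1 cp.symm
    · rw [Sylow.coe_subtype, ← subgroupOf_sup hK le_sup_right, subgroupOf_self]
    · rw [NP, Sylow.coe_subtype, ← subgroupOf_normalizer_eq hK]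
      exact hTI g u hu (fun e => u1 (Subtype.ext e)) h
    · rw [Sylow.coe_subtype, CfsgH1.card_subgroupOf_of_le hK]
      exact (Nat.pow_le_pow_left ((hχ.restrict K).deg_le_of_constituent hψ h h1 he) 2).trans hd
  obtain ⟨k, hk⟩ := IsPGroup.iff_card.1 P.2
  exact z1 (Subtype.ext (Subtype.ext ((disjoint_of_coprime_natCard (hk ▸ cp.symm.pow_left k)).le_bot ⟨hz, this⟩)))

end CfsgH8
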