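import Mathlib
import Cfsg.Agent.H8.Lin3
import Cfsg.Agent.H5.LinMat
import Cfsg.Prelude.Def_LocalStructure

/-! The least order of a group with non-normal Sylow `p`-subgroups. -/

set_option autoImplicit false
set_option linter.unusedSectionVars false

namespace CfsgH8
open Subgroup CfsgH4 Cfsg CfsgH3 CfsgH2

variable {p : ℕ} [hp : Fact p.Prime]

theorem low_order (h2 : p ≠ 2) {m : ℕ} (hm : ∀ k : ℕ, IsPrimePow k → k % p = 1 → m ≤ k) (n : ℕ) :
    ∀ (H : Type) [Group H] [Finite H], Nat.card H = n → ¬ IsPClosed p H → min (p * m) (p * (p ^ 2 - 1) / 2) ≤ n := by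
  induction n using Nat.strong_induction_on with | _ n ih => ?_
  intro H _ _ hn hH
  have := Fintype.ofFinite H
  by_contra hl
  obtain ⟨l1, l2⟩ := lt_min_iff.1 (not_le.1 hl)
  obtain ⟨P, hP⟩ := not_forall.1 hH
  have cl : ∀ K : Subgroup H, P.1 ≤ K → K ≠ ⊤ → K ≤ NP P := fun K h1 hK => by
    have l : Nat.card K < n := hn ▸ card_top (G := H) ▸ card_lt_of_lt hK.lt_top
    have : (P.subtype h1).1.Normal := by
      by_contra h
      exact hl ((ih _ l K rfl fun c => h (c _)).trans l.le)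
    exact (normal_subgroupOf_iff_le_normalizer h1).1 this
  have p2 := hp.out.two_le
  have hd : p ∣ Nat.card H := by
    by_contra h
    obtain ⟨k, hk⟩ := IsPGroup.iff_card.1 P.2
    rcases k with _ | k
    · exact hP (card_eq_one.1 hk ▸ inferInstance)
    · exact h ((dvd_pow_self p k.succ_ne_zero).trans (hk ▸ card_subgroup_dvd_card P.1))
  obtain ⟨q, rfl⟩ : ∃ q, p = q + 2 := ⟨p - 2, by omega⟩
  have e1 : (q + 2) ^ 2 - 1 = (q + 3) * (q + 1) := Nat.sub_eq_of_eq_add (by ring)
  have l3 : 2 * n < (q + 2) * ((q + 3) * (q + 1)) := by rw [e1] at l2; omega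
  by_cases hG : commutator H = ⊤
  · obtain ⟨_, k, h1, h3⟩ := o1_of_cube hG hd (by rw [hn]; nlinarith [Nat.zero_le (q ^ 3)]) hP
    obtain ⟨p3, h4⟩ := brauer_quot P hG h1 (not_form_of_lt h3)
    have h5 := hn ▸ Nat.le_of_dvd Nat.card_pos (index_dvd_card (pPrimeCore (q + 2) H))
    rcases h4 with ⟨h4, -⟩ | ⟨m, h9, h4, -⟩ <;> simp only [show q + 2 - 1 = q + 1 from rfl, Nat.add_sub_cancel] at h4
    · nlinarith
    · have : q ≠ 2 := by rintro rfl; exact absurd (Fact.out : Nat.Prime 4) (by decide)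
      have h8 : 3 ≤ q := by omega
      nlinarith [Nat.mul_le_mul_left ((q + 2) * (q + 1)) h8]
  have n1 : (NP P).index ≠ 1 := fun e => hP (normalizer_eq_top_iff.1 (index_eq_one.1 e))
  have n2 : (NP P).index % (q + 2) = 1 := by
    rw [← card_sylow_eq_NP, card_sylow_modEq_one (q + 2) H, Nat.mod_eq_of_lt p2]
  have n3 := card_mul_index (NP P)
  have n4 : (q + 2) ∣ Nat.card (NP P) := (P.dvd_card_of_dvd_card hd).trans (card_dvd_of_le le_normalizer)
  have sq : ¬ (q + 2) ^ 2 ∣ Nat.card H := fun h => by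
    have a1 := Nat.le_of_dvd Nat.card_pos ((P.pow_dvd_card_of_pow_dvd_card h).trans (card_dvd_of_le le_normalizer))
    have a2 : q + 3 ≤ (NP P).index := by
      have := Nat.mod_add_div (NP P).index (q + 2)
      rcases h : (NP P).index / (q + 2) with _ | k <;> rw [h, n2] at this
      · omega
      · nlinarith
    nlinarith [Nat.mul_le_mul a1 a2]
  have o := O1.of_dvd hd sq P
  let D := commutator H
  have s : P.1 ⊔ D = ⊤ := by
    by_contra h
    have : (P.1 ⊔ D).Normal := Normal.of_commutator_le _ le_sup_right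
    exact hP (normalizer_eq_top_iff.1 ((sup_eq_left.2 (cl _ le_sup_left h)).symm.trans
      (P.normalizer_sup_eq_top' le_sup_left)))
  have nd : ¬ (q + 2) ∣ Nat.card D := fun h => hG ((sup_eq_right.2 (le_of_dvd_card h)).symm.trans s)
  have cp : (Nat.card P.1).Coprime (Nat.card D) := o.card.symm ▸ (Nat.Prime.coprime_iff_not_dvd hp.out).2 nd
  obtain ⟨r, hr, rd⟩ := Nat.exists_prime_and_dvd n1
  have := Fact.mk hr
  obtain ⟨S, hS, hPS⟩ := CfsgH1.exists_invariant_sylow (A := P.1) (K := D) le_normalizer_of_normal cp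
    (Or.inl (have := P.2.isNilpotent; inferInstance)) r
  by_cases hK : P.1 ⊔ S = ⊤
  · have : S.Normal := normalizer_eq_top_iff.1 (eq_top_iff.2 (hK.ge.trans (sup_le hPS le_normalizer)))
    have a1 := CfsgH1.card_sup_mul_card_inf P.1 S
    obtain ⟨a, ha⟩ := IsPGroup.iff_card.1 hS.pgroup
    rw [hK, card_top, ← P.1.card_mul_index, mul_assoc, ha] at a1
    obtain ⟨b, -, hb⟩ := (Nat.dvd_prime_pow hr).1 ((index_dvd_of_le (le_normalizer (H := P.1))).trans
      ⟨_, (Nat.eq_of_mul_eq_mul_left Nat.card_pos a1).symm⟩)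
    have := hm (NP P).index ((isPrimePow_nat_iff _).2 ⟨r, b, hr, Nat.pos_of_ne_zero (by rintro rfl; exact n1 hb),
      hb.symm⟩) n2
    nlinarith [Nat.mul_le_mul (Nat.le_of_dvd Nat.card_pos n4) this]
  · have a1 := rd.trans (index_dvd_of_le (le_sup_right.trans (cl _ le_sup_left hK)))
    have a2 := CfsgH1.card_sup_mul_card_inf P.1 D
    rw [s, disjoint_iff.1 (disjoint_of_coprime_natCard cp), card_bot, mul_one, card_top, ← D.index_mul_card] at a2
    rw [← relIndex_mul_index hS.le, Nat.eq_of_mul_eq_mul_right Nat.card_pos a2, o.card] at a1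
    rcases (Nat.Prime.dvd_mul hr).1 a1 with h | h
    · exact hS.not_dvd h
    · obtain rfl := (Nat.prime_dvd_prime_iff_eq hr hp.out).1 h
      rw [Nat.mod_eq_zero_of_dvd rd] at n2; omega

theorem exists_affine {m : ℕ} (hm : IsPrimePow m) (h1 : m % p = 1) :
    ∃ (H : Type) (_ : Group H) (_ : Finite H), Nat.card H = p * m ∧ ¬ IsPClosed p H := by
  obtain ⟨r, k, hr, k0, rfl⟩ := (isPrimePow_nat_iff _).1 hm
  have := Fact.mk hr
  let F := GaloisField r k
  have cF : Nat.card F = r ^ k := GaloisField.card r k k0.ne'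
  obtain ⟨ζ, hζ⟩ := exists_prime_orderOf_dvd_card' (G := Fˣ) p (by
    rw [Nat.card_units, cF]
    exact (Nat.modEq_iff_dvd' hm.pos).1 (by rw [Nat.ModEq, h1, Nat.mod_eq_of_lt hp.out.one_lt]))
  let φ : zpowers ζ →* MulAut (Multiplicative F) :=
    { toFun := fun u => AddEquiv.toMultiplicative (DistribMulAction.toAddEquiv F u.1)
      map_one' := by ext; simp
      map_mul' := fun a b => by ext; simp [mul_smul] }
  let H := Multiplicative F ⋊[φ] zpowers ζ
  have : Finite H := Finite.of_equiv _ SemidirectProduct.equivProd.symm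
  have cZ : Nat.card (zpowers ζ) = p := by rw [Nat.card_zpowers, hζ]
  refine ⟨H, inferInstance, this, by rw [SemidirectProduct.card, cZ, Nat.card_congr Multiplicative.toAdd, cF,
    mul_comm], fun h => ?_⟩
  obtain ⟨Q, hQ⟩ := ((IsPGroup.of_card (cZ.trans (pow_one p).symm)).of_equiv
    (MonoidHom.ofInjective (SemidirectProduct.inr_injective (φ := φ)))).exists_le_sylow
  obtain ⟨a, ha⟩ := IsPGroup.iff_card.1 Q.2
  have := commute_of_normal_of_disjoint Q.1 (SemidirectProduct.inl (φ := φ)).range (h Q)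
    (SemidirectProduct.range_inl_eq_ker_rightHom (φ := φ) ▸ inferInstance) (disjoint_of_coprime_natCard (by
      rw [ha, ← Nat.card_congr (MonoidHom.ofInjective SemidirectProduct.inl_injective).toEquiv,
        Nat.card_congr Multiplicative.toAdd, cF]
      exact ((Nat.Prime.coprime_iff_not_dvd hp.out).2 fun d => by
        rw [Nat.mod_eq_zero_of_dvd d] at h1; omega).pow_left a))
    _ _ (hQ ⟨⟨ζ, mem_zpowers ζ⟩, rfl⟩) ⟨Multiplicative.ofAdd 1, rfl⟩
  have := congrArg SemidirectProduct.left this.eq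
  have : ζ = 1 := Units.ext (by simpa [φ, Units.smul_def] using this)
  rw [this, orderOf_one] at hζ
  exact hp.out.one_lt.ne hζ

theorem exists_psl (h3 : 3 < p) :
    ∃ (H : Type) (_ : Group H) (_ : Finite H), Nat.card H = p * (p ^ 2 - 1) / 2 ∧ ¬ IsPClosed p H := by
  let H := Matrix.ProjectiveSpecialLinearGroup (Fin 2) (ZMod p)
  have c := CfsgH5.card_PSL_mul (ι := Fin 2) (F := ZMod p)
  obtain ⟨j, hj⟩ := hp.out.odd_of_ne_two (by omega)
  rw [CfsgH5.card_SL_two, ZMod.card, Fintype.card_fin, Nat.gcd_eq_left ⟨j, by omega⟩] at c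
  have := Matrix.ProjectiveSpecialLinearGroup.rank_two_simple (F := ZMod p) (by rw [Nat.card_zmod]; omega)
  have l : 2 < p ^ 2 - 1 := by have := Nat.pow_le_pow_left h3.le 2; omega
  refine ⟨H, inferInstance, inferInstance, by rw [← c, Nat.mul_div_cancel_left _ two_pos], fun h => ?_⟩
  obtain ⟨P⟩ := (inferInstance : Nonempty (Sylow p H))
  have cp : ¬ p ∣ p ^ 2 - 1 := fun d => hp.out.one_lt.ne' (Nat.dvd_one.1
    ((Nat.dvd_sub_iff_right (by omega) (dvd_pow_self p two_ne_zero)).1 d))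
  rcases (h P).eq_bot_or_eq_top with e | e
  · have := P.not_dvd_index
    rw [e, index_bot] at this
    exact this (((Nat.coprime_primes hp.out Nat.prime_two).2 (by omega)).dvd_of_dvd_mul_left ⟨_, c⟩)
  · obtain ⟨a, ha⟩ := IsPGroup.iff_card.1 P.2
    rw [e, card_top] at ha
    rw [ha] at c
    have := Nat.le_of_dvd two_pos ((((Nat.Prime.coprime_iff_not_dvd hp.out).2 cp).symm.pow_right a).dvd_of_dvd_mul_right
      ⟨p, c.trans (mul_comm _ _)⟩)
    omega

end CfsgH8
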