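import Cfsg.Agent.H8.OW1

/-! Weights of the unipotent radical of a point stabiliser in a representation of `Ω`. -/

set_option autoImplicit false

namespace CfsgH8
open Module LinearMap Finset Classical CfsgH5 CfsgH5.Form

variable {F M V : Type*} [Field F] [Fintype F] [AddCommGroup M] [Module F M] [Fintype M] {S : Form (orthParam F) M}
  [AddCommGroup V] [Module ℂ V] [FiniteDimensional ℂ V]

theorem trans_vec (hS : S.Nondeg) (hd : 5 ≤ finrank F M) {x y : M} (hx : x ≠ 0) (hy : y ≠ 0) (h : S.Q x = S.Q y) :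
    ∃ t ∈ S.om, t x = y := by
  obtain ⟨e, f, he⟩ := hS.exists_isHyp (by omega)
  have := hS.finrank_perp_hyp he
  rw [hS.om_eq_EG_of_five hd]
  exact hS.EG_trans he (fun l => by
    simpa only [q_eq_π_iff] using (hS.nondegOn_perp_hyp he).exists_Q_eq (by omega) l) hx hy ((q_eq_iff _ _).2 h)

theorem sum_sing {ψ : AddChar F ℂ} (hψ : ψ.IsPrimitive) {y y' : M} (h : S.IsHyp y y') :
    ∑ w, (if S.Q w = 0 then 1 - ψ (-S.B y w) else 0) = Fintype.card F * Nat.card (S.perp {y, y'}) := by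
  rw [← h.coords.symm.sum_comp, Fintype.sum_prod_type_right, Fintype.sum_prod_type,
    sum_congr rfl (g := fun b => (1 - ψ (-b)) * Nat.card (S.perp {y, y'})) fun b _ => ?_, ← sum_mul, sum_sub_distrib]
  · have := AddChar.sum_mulShift (-1) hψ
    simp only [mul_neg, mul_one, neg_eq_zero, one_ne_zero, if_false, Nat.cast_zero] at this
    simp [this]
  rw [sum_congr rfl (g := fun _ => 1 - ψ (-b)) fun v _ => ?_]
  · simp [sub_mul, mul_comm]
  have h1 : ∀ a, S.Q (h.coords.symm (a, b, v)) = a * b + S.Q v := fun a =>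
    (q_eq_π_iff _).1 ((h.q_coords a b v.2).trans (by rw [map_add, ← q_eq_Q]; rfl))
  have h2 : ∀ a, S.B y (h.coords.symm (a, b, v)) = b := fun a => by
    change S.B y (a • y + b • y' + v) = b
    simp [h.ee, h.ef, perp_symm (S.mem_perp_pair.1 v.2).1]
  simp only [h1, h2]
  rcases eq_or_ne b 0 with rfl | hb
  · simp
  · rw [sum_eq_single (-S.Q v / b) (fun a _ ha => if_neg fun e => ha (by field_simp; linear_combination e)) (by simp),
      if_pos (by field_simp; ring)]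

theorem dvd_card_free (T : Finset M) (h0 : 0 ∉ T) (hT : ∀ c : F, c ≠ 0 → ∀ x ∈ T, c • x ∈ T) :
    Fintype.card F - 1 ∣ #T := by
  letI : MulAction Fˣ T :=
    { smul := fun c x => ⟨c.1 • x.1, hT _ c.ne_zero _ x.2⟩
      one_smul := fun x => Subtype.ext (one_smul F x.1)
      mul_smul := fun a b x => Subtype.ext (mul_smul a.1 b.1 x.1) }
  have := Nat.card_congr (MulAction.selfEquivOrbitsQuotientProd (G := Fˣ) (X := T) fun x => eq_bot_iff.2 fun c hc => by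
    have h1 : (c.1 - 1) • x.1 = 0 := by rw [sub_smul, one_smul]; exact sub_eq_zero.2 (congrArg Subtype.val hc)
    exact Units.ext (sub_eq_zero.1 ((smul_eq_zero.1 h1).resolve_right fun e => h0 (e ▸ x.2))))
  rw [Nat.card_prod, Nat.card_units, Nat.card_eq_fintype_card, Fintype.card_coe, Nat.card_eq_fintype_card (α := F)] at this
  exact this ▸ Dvd.intro_left _ rfl

/-- data for the weight decomposition -/
structure OD (S : Form (orthParam F) M) (V : Type*) [AddCommGroup V] [Module ℂ V] where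
  hS : S.Nondeg
  hE : S.EG ≤ S.om
  e : M
  f : M
  h : S.IsHyp e f
  ρ : Representation ℂ S.om V
  ψ : AddChar F ℂ
  prim : ψ.IsPrimitive

namespace OD
variable (D : OD S V)

/-- the complement of the hyperbolic pair -/
abbrev W : Submodule F M := S.perp {D.e, D.f}

/-- image of an Eichler element -/
noncomputable def fz (y : D.W) : End ℂ V := D.ρ (zE D.hE D.e y)

/-- characters of the unipotent radical -/
def lam (w : D.W) : AddChar D.W ℂ := D.ψ.compAddMonoidHom ((S.res D.W).lin w).toAddMonoidHom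

/-- weight projections -/
noncomputable def P (w : D.W) : End ℂ V := pr D.fz (D.lam w)

omit [Fintype F] [Fintype M] [FiniteDimensional ℂ V] in
theorem we (w : D.W) : S.B w D.e = 0 := (S.mem_perp_pair.1 w.2).1

omit [Fintype F] [Fintype M] [FiniteDimensional ℂ V] in
theorem fz_add (a b : D.W) : D.fz (a + b) = D.fz a * D.fz b := by
  rw [fz, Submodule.coe_add, zE_add _ D.h.Qe (D.we a) (D.we b), map_mul]; rfl

omit [Fintype F] [FiniteDimensional ℂ V] in
theorem ndW : (S.res D.W).Nondeg := (D.hS.nondegOn_perp_hyp D.h).res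

omit [Fintype F] [FiniteDimensional ℂ V] in
theorem lam_ne {w : D.W} (hw : w ≠ 0) : D.lam w ≠ 1 := fun e => by
  obtain ⟨y, hy⟩ := D.ndW.exists_ne hw
  refine D.prim hy (AddChar.ext _ _ fun t => ?_)
  simpa [lam, mul_comm] using DFunLike.congr_fun e (t • y)

omit [Fintype F] [FiniteDimensional ℂ V] in
theorem lam_inj {w w' : D.W} (h : D.lam w = D.lam w') : w = w' := by
  by_contra hne
  refine D.lam_ne (sub_ne_zero.2 hne) (AddChar.ext _ _ fun y => ?_)
  have : D.ψ (S.B y w) = D.ψ (S.B y w') := DFunLike.congr_fun h y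
  change D.ψ (S.B y (w - w')) = 1
  rw [sub_right, sub_eq_add_neg, AddChar.map_add_eq_mul, this, ← AddChar.map_add_eq_mul]; simp

omit [Fintype F] [FiniteDimensional ℂ V] in
theorem sum_P : ∑ w, D.P w = 1 :=
  sum_pr (by simp [fz, zE_zero _ D.h.Qe]) _ rfl fun a ha => by
    rw [← AddChar.sum_eq_zero_of_ne_one (D.lam_ne ha)]
    exact sum_congr rfl fun w _ => congrArg D.ψ (S.orth_symm _ _)

omit [Fintype F] [FiniteDimensional ℂ V] in
theorem P_cj (g : S.om) {μ : F} (hμ : μ ≠ 0) (h1 : g.1 D.e = μ • D.e) (h2 : ∀ y ∈ D.W, g.1 y ∈ D.W) {w w' : D.W}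
    (h3 : g.1 w = μ • w') : D.ρ g * D.P w = D.P w' * D.ρ g :=
  pr_conj (Equiv.ofBijective (fun y : D.W => (⟨μ • g.1 y, D.W.smul_mem _ (h2 y y.2)⟩ : D.W)) (Finite.injective_iff_bijective.1
    fun a b e => Subtype.ext (g.1.injective (smul_right_injective M hμ (congrArg Subtype.val e))))) (fun y => by
      rw [fz, fz, ← map_mul, ← map_mul, zE_conj _ D.h.Qe (D.we y), h1, zE_smul _ D.h.Qe (D.we ⟨_, h2 y y.2⟩)]; rfl)
    fun y => congrArg D.ψ (by
      change S.B (μ • g.1 y) w' = S.B y w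
      rw [smul_left, ← orth_smul_right, ← isom_B (om_le_isom g.2) y, h3])

omit [Fintype F] [FiniteDimensional ℂ V] in
theorem fix_W {g : M ≃ₗ[F] M} (hg : g ∈ S.isom) (h1 : g D.e = D.e) (h2 : g D.f = D.f) : ∀ y ∈ D.W, g y ∈ D.W :=
  fun y hy => S.mem_perp_pair.2 (by rw [← h1, ← h2, isom_B hg, isom_B hg]; exact S.mem_perp_pair.1 hy)

omit [Fintype F] [FiniteDimensional ℂ V] in
theorem exists_ext : ∃ ι : (S.res D.W).om →* S.om, ∀ t, S.IsExt D.W.subtype t.1 (ι t).1 ∧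
    ∀ w, D.ρ (ι t) * D.P w = D.P (t.1 w) * D.ρ (ι t) := by
  obtain ⟨Ψ, hΨ⟩ := exists_isExt (isIsom_res D.W) D.ndW
  refine ⟨(Ψ.comp (Subgroup.subtype _)).codRestrict _ fun t => (hΨ _).mem_om (isIsom_res D.W) D.ndW t.2,
    fun t => ⟨hΨ _, fun w => D.P_cj _ one_ne_zero (((hΨ _).right _ ?_).trans (one_smul _ _).symm)
      (fun y hy => ((hΨ t).left ⟨y, hy⟩).symm ▸ (t.1 ⟨y, hy⟩).2) (((hΨ t).left w).trans (one_smul _ _).symm)⟩⟩
  rintro _ ⟨y, rfl⟩
  exact perp_symm (D.we y)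

omit [FiniteDimensional ℂ V] in
theorem tr_same (hd : 7 ≤ finrank F M) {w w' : D.W} (h : w ≠ 0) (h' : w' ≠ 0) (hq : S.Q w = S.Q w') :
    trace ℂ V (D.P w) = trace ℂ V (D.P w') := by
  have : finrank F D.W + 2 = _ := D.hS.finrank_perp_hyp D.h
  obtain ⟨t, ht, rfl⟩ := trans_vec D.ndW (by omega) h h' (by rwa [res_Q, res_Q])
  obtain ⟨ι, hι⟩ := D.exists_ext
  exact tr_cj _ ((hι ⟨t, ht⟩).2 w)

omit [FiniteDimensional ℂ V] in
theorem tr_scale (hd : 7 ≤ finrank F M) {μ : F} (hμ : μ ≠ 0) (w : D.W) :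
    ∃ w' : D.W, S.Q w = μ ^ 2 * S.Q w' ∧ trace ℂ V (D.P w) = trace ℂ V (D.P w') := by
  have := D.hS.finrank_perp_hyp D.h
  obtain ⟨y, hy, h1⟩ := (D.hS.nondegOn_perp_hyp D.h).exists_Q_eq (by omega) 1
  obtain ⟨y', hy', h2⟩ := (D.hS.nondegOn_perp_hyp D.h).exists_Q_eq (by omega) μ
  obtain ⟨a1, a2⟩ := S.mem_perp_pair.1 hy
  obtain ⟨a3, a4⟩ := S.mem_perp_pair.1 hy'
  have hg : dil D.h hμ * (S.rf y * S.rf y') ∈ S.om := by
    rw [dil_eq_rf, mul_assoc, ← mul_assoc (S.rf _) (S.rf y), rf_comm (y := y) (by simp [perp_symm a1, perp_symm a2]),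
      mul_assoc, ← mul_assoc]
    exact mul_mem (D.hS.rf_mul_rf_mem_om one_ne_zero (by rw [D.h.Q_comb', h1]; simp))
      (D.hS.rf_mul_rf_mem_om one_ne_zero (by rw [D.h.Q_comb', h2]; simp))
  have hi := mul_mem (rf_mem (S := S) y) (rf_mem y')
  have he : (S.rf y * S.rf y') D.e = D.e := by simp [rf_fix (perp_symm a1), rf_fix (perp_symm a3)]
  have hW := D.fix_W hi he (by simp [rf_fix (perp_symm a2), rf_fix (perp_symm a4)])
  have h3 : ∀ x ∈ D.W, (dil D.h hμ * (S.rf y * S.rf y')) x = (S.rf y * S.rf y') x := fun x hx =>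
    dil_fix D.h hμ (S.mem_perp_pair.1 (hW x hx)).1 (S.mem_perp_pair.1 (hW x hx)).2
  refine ⟨μ⁻¹ • ⟨_, hW w w.2⟩, ?_, tr_cj _ (D.P_cj ⟨_, hg⟩ hμ ?_ (fun x hx => (h3 x hx).symm ▸ hW x hx) ?_)⟩
  · rw [Submodule.coe_smul, Q_smul, isom_Q hi]; field_simp
  · exact (congrArg (dil D.h hμ) he).trans (dil_e D.h hμ)
  · rw [Submodule.coe_smul, smul_inv_smul₀ hμ]; exact h3 w w.2

theorem fix_aux (hd : 7 ≤ finrank F M) {μ : F} (hμ : μ ≠ 0) (hμ' : μ ^ 2 ≠ 1) {w : D.W} (h1 : trace ℂ V (D.P w) = 1)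
    {u u' : D.W} (hu : S.Q u = 0) (hu' : S.Q u' = 0) (h2 : S.B u' u = 0) (h3 : S.B w u = 0) (h4 : S.B w u' = 0)
    (h5 : u'.1 ∉ Submodule.span F {D.e, D.f, w.1, u.1}) : D.P w * D.ρ (zE D.hE u u') = D.P w := by
  obtain ⟨v, v1, v2, v3⟩ := D.hS.exists_hyp _ ((q_eq_zero_iff _).2 hu') h5 fun x hx => by
    refine Submodule.span_le (p := S.perp {u'.1}) |>.2 ?_ hx _ rfl
    rintro _ (rfl | rfl | rfl | rfl) <;> rw [SetLike.mem_coe, mem_perp_singleton]
    exacts [perp_symm (D.we u'), perp_symm (S.mem_perp_pair.1 u'.2).2, h4, perp_symm h2]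
  have hv : S.IsHyp u' v := ⟨(q_eq_zero_iff _).2 hu', v1, v2⟩
  let g : S.om := ⟨_, D.hE (D.hS.dil_sq_mem_EG hv (by omega) hμ)⟩
  have hf : ∀ x ∈ ({D.e, D.f, w.1, u.1} : Set M), S.B x u' = 0 → g.1 x = x := fun x hx e =>
    dil_fix hv (pow_ne_zero 2 hμ) e (v3 x (Submodule.subset_span hx))
  have g1 := hf D.e (by simp) (perp_symm (D.we u'))
  have hg := D.P_cj g one_ne_zero (g1.trans (one_smul _ _).symm) (D.fix_W (om_le_isom g.2) g1
    (hf _ (by simp) (perp_symm (S.mem_perp_pair.1 u'.2).2))) (w' := w) ((hf _ (by simp) h4).trans (one_smul _ _).symm)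
  have ht : ∀ t : F, S.B (t • u'.1) u = 0 := fun t => by simp [h2]
  have hc : ∀ t : F, D.P w * D.ρ (zE D.hE u (t • u')) = trace ℂ V (D.P w * D.ρ (zE D.hE u (t • u'))) • D.P w := fun t => by
    have k : ∀ x, S.B x u = 0 → S.B x u' = 0 → (zE D.hE u (t • u')).1 x = x := fun x a b => by
      rw [zE_apply _ hu (ht t)]; simp [a, b]
    have k1 := k _ (perp_symm (D.we u)) (perp_symm (D.we u'))
    exact rank_one_idem (pr_idem D.fz_add _) h1 _ (D.P_cj _ one_ne_zero (k1.trans (one_smul _ _).symm)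
      (D.fix_W (om_le_isom (zE D.hE u (t • u')).2) k1 (k _ (perp_symm (S.mem_perp_pair.1 u.2).2)
      (perp_symm (S.mem_perp_pair.1 u'.2).2))) ((k _ h3 h4).trans (one_smul _ _).symm)).symm
  have h6 : ∀ t : F, D.P w * D.ρ (zE D.hE u (t • u')) = D.P w * D.ρ (zE D.hE u ((μ ^ 2 * t) • u')) := fun t => by
    rw [hc, hc (μ ^ 2 * t), tr_cj D.ρ (g := g) (Y := D.P w * D.ρ (zE D.hE u ((μ ^ 2 * t) • u')))]
    rw [← mul_assoc, hg, mul_assoc, mul_assoc, ← map_mul, ← map_mul, zE_conj _ hu (ht t), hf u (by simp) (perp_symm h2),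
      map_smul, show g.1 u' = μ ^ 2 • u'.1 from dil_e hv (pow_ne_zero 2 hμ), smul_smul, mul_comm t]
  have h7 := congrArg (· * D.ρ (zE D.hE u (-(μ ^ 2 - 1)⁻¹ • u'))) (h6 (μ ^ 2 - 1)⁻¹)
  simp only [mul_assoc, ← map_mul, ← zE_add _ hu (ht _) (ht _), ← add_smul] at h7
  rw [add_neg_cancel, zero_smul, zE_zero _ hu, map_one, mul_one,
    show μ ^ 2 * (μ ^ 2 - 1)⁻¹ + -(μ ^ 2 - 1)⁻¹ = 1 by have := sub_ne_zero.2 hμ'; field_simp; ring, one_smul] at h7
  exact h7.symm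

theorem fix_P (hd : 7 ≤ finrank F M) {μ : F} (hμ : μ ≠ 0) (hμ' : μ ^ 2 ≠ 1) {w : D.W} (h1 : trace ℂ V (D.P w) = 1)
    (hw : S.Q w = 0) {u u' : D.W} (hu : S.Q u = 0) (hu' : S.Q u' = 0) (h2 : S.B u' u = 0) (h3 : S.B w u = 0)
    (h4 : S.B w u' = 0) : D.P w * D.ρ (zE D.hE u u') = D.P w := by
  have k : ∀ x u : D.W, x.1 ∈ Submodule.span F {D.e, D.f, w.1, u.1} → ∃ a b : F, x.1 = a • w.1 + b • u.1 := fun x u hx => by
    simp only [Submodule.mem_span_insert, Submodule.mem_span_singleton] at hx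
    obtain ⟨a, _, ⟨b, _, ⟨c, _, ⟨d, rfl⟩, rfl⟩, rfl⟩, hx⟩ := hx
    have h5 := D.we x
    have h6 := (S.mem_perp_pair.1 x.2).2
    simp only [hx, add_left, smul_left, D.h.ee, D.h.ef, D.h.ff, D.h.fe', D.we, (S.mem_perp_pair.1 w.2).2,
      (S.mem_perp_pair.1 u.2).2, mul_zero, mul_one, add_zero, zero_add] at h5 h6
    exact ⟨c, d, by simp [hx, h5, h6]⟩
  by_cases h5 : u'.1 ∈ Submodule.span F {D.e, D.f, w.1, u.1}
  swap
  · exact D.fix_aux hd hμ hμ' h1 hu hu' h2 h3 h4 h5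
  obtain ⟨a, b, h6⟩ := k _ _ h5
  have hw2 := self_of_Q hw
  rw [h6, zE_shift _ hu (by simp [h3]), ← zE_smul _ hu h3, zE_anti _ (by simp [Q_smul, hu]) (by simp [h3]) hw]
  by_cases h7 : (-(a • u)).1 ∈ Submodule.span F {D.e, D.f, w.1, w.1}
  · obtain ⟨c, d, h8⟩ := k _ _ h7
    rw [show -(a • u.1) = 0 + (c + d) • w.1 by rw [zero_add, add_smul]; exact h8, zE_shift _ hw (by simp), zE_zero _ hw,
      map_one, mul_one]
  · exact D.fix_aux hd hμ hμ' h1 hw (by simp [Q_smul, hu]) (by simp [perp_symm h3]) hw2 (by simp [h3]) h7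

end OD
end CfsgH8
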