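import Cfsg.Agent.H8.OW2

/-! The inductive step for degree bounds of complex representations of `Ω`. -/

set_option autoImplicit false

namespace CfsgH8
open Module LinearMap Finset Classical CfsgH5 CfsgH5.Form

variable {F M V : Type*} [Field F] [Fintype F] [AddCommGroup M] [Module F M] [Fintype M] {S : Form (orthParam F) M}
  [AddCommGroup V] [Module ℂ V] [FiniteDimensional ℂ V]

namespace OD
variable (D : OD S V)

omit [FiniteDimensional ℂ V] in
theorem conj_to (hd : 5 ≤ finrank F M) {u : M} (h0 : u ≠ 0) (hu : S.Q u = 0) : ∃ t : S.om, t.1 u = D.e ∧ ∀ w, S.B w u = 0 →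
    ∃ y : D.W, t * zE D.hE u w = zE D.hE D.e y * t ∧ S.Q y = S.Q w ∧ (y = 0 → w ∈ Submodule.span F {u}) := by
  obtain ⟨t, ht, h1⟩ := trans_vec D.hS hd h0 D.h.ne_left (hu.trans D.h.Qe.symm)
  refine ⟨⟨t, ht⟩, h1, fun w hw => ?_⟩
  have h2 : S.B (t w) D.e = 0 := by rw [← h1, isom_B (om_le_isom ht), hw]
  refine ⟨⟨t w + -S.B (t w) D.f • D.e, S.mem_perp_pair.2 ⟨by simp [h2, D.h.ee], by simp [D.h.ef]⟩⟩, ?_, ?_, fun e => ?_⟩
  · rw [zE_conj _ hu hw, zE_shift _ D.h.Qe h2]; simp only [h1]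
  · change S.Q (t w + _ • D.e) = _
    rw [Q_add_smul, D.h.Qe, h2, isom_Q (om_le_isom ht)]; simp
  · have h3 : t (w + -S.B (t w) D.f • u) = 0 := by rw [map_add, map_smul, h1]; exact congrArg Subtype.val e
    exact Submodule.mem_span_singleton.2 ⟨S.B (t w) D.f, by
      rw [eq_comm, ← sub_eq_zero, sub_eq_add_neg, ← neg_smul]; exact t.map_eq_zero_iff.1 h3⟩

theorem tr_fz (hd : 7 ≤ finrank F M) (h1 : ∀ w : D.W, w ≠ 0 → trace ℂ V (D.P w) = if S.Q w = 0 then 1 else 0)
    {y : D.W} (h0 : y ≠ 0) (hy : S.Q y = 0) :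
    trace ℂ V (D.fz y) = finrank ℂ V - Fintype.card F ^ (finrank F M - 3) := by
  obtain ⟨y', h⟩ := D.ndW.exists_hyp' (e := y) ((q_eq_zero_iff _).2 hy) h0
  have h2 := sum_sing D.prim h
  have h3 : finrank F D.W + 2 = _ := D.hS.finrank_perp_hyp D.h
  have h4 := D.ndW.finrank_perp_hyp h
  rw [card_eq_pow_finrank' (F := F), Nat.card_eq_fintype_card, Nat.cast_pow, ← pow_succ',
    show finrank F ((S.res D.W).perp {y, y'}) + 1 = finrank F M - 3 by omega] at h2
  rw [← h2, ← trace_one, ← D.sum_P, ← mul_one (D.fz y), ← D.sum_P, mul_sum, map_sum, map_sum, ← sum_sub_distrib]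
  refine sum_congr rfl fun w _ => ?_
  rw [P, mul_pr D.fz_add, map_smul, ← P, res_Q]
  rcases eq_or_ne w 0 with rfl | hw
  · simp [lam]
  · rw [h1 w hw]; split_ifs <;> simp [lam]

theorem dvd_deg {k : ℕ} (D : OD S (Fin k → ℂ)) (hi : D.ρ.IsIrreducible) (hk0 : k ≠ 0) (hd : 7 ≤ finrank F M)
    (h1 : ∀ w : D.W, w ≠ 0 → trace ℂ _ (D.P w) = if S.Q w = 0 then 1 else 0) :
    k ∣ Nat.card {v // v ≠ 0 ∧ S.q v = 0} * (Nat.card {v : D.W // v ≠ 0 ∧ (S.res D.W).q v = 0} *
      Fintype.card F ^ (finrank F M - 2)) := by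
  let A : Finset M := {u | u ≠ 0 ∧ S.q u = 0}
  let A' : Finset D.W := {u | u ≠ 0 ∧ (S.res D.W).q u = 0}
  let C : Finset (M × M) := {p | (p.1 ≠ 0 ∧ S.q p.1 = 0) ∧ S.Q p.2 = 0 ∧ S.B p.2 p.1 = 0}
  obtain ⟨c, hc⟩ := CfsgH3.exists_scalar_of_commute D.ρ (∑ p ∈ C, (1 : ℂ) • D.ρ (zE D.hE p.1 p.2)) fun g => by
    rw [← End.mul_eq_comp, ← End.mul_eq_comp, mul_sum, sum_mul]
    refine (sum_equiv (g.1.toEquiv.prodCongr g.1.toEquiv) (fun p => ?_) fun p hp => ?_).symm
    · simp [C, isom_q (om_le_isom g.2), isom_Q (om_le_isom g.2), isom_B (om_le_isom g.2)]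
    · simp only [C, mem_filter, q_eq_zero_iff] at hp
      rw [one_smul, one_smul, ← map_mul, ← map_mul, zE_conj _ hp.2.1.2 hp.2.2.2]; rfl
  haveI : Nonempty (Fin k) := ⟨⟨0, Nat.pos_of_ne_zero hk0⟩⟩
  haveI : Finite (M ≃ₗ[F] M) := Finite.of_injective _ DFunLike.coe_injective
  have hint := CfsgH3.isIntegral_of_sum_eq_scalar inferInstance D.ρ C _ _ (fun _ _ => isIntegral_one) hc
  have h2 : ∀ u ∈ A, ∑ w, (if S.Q w = 0 ∧ S.B w u = 0 then trace ℂ _ (D.ρ (zE D.hE u w)) else 0) =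
      Fintype.card F * (k + #A' * (k - Fintype.card F ^ (finrank F M - 3))) := fun u hu => by
    obtain ⟨h3, h4⟩ := (mem_filter.1 hu).2
    rw [q_eq_zero_iff] at h4
    obtain ⟨t, ht, -⟩ := D.conj_to (by omega) h3 h4
    rw [Fintype.sum_equiv (t.1.toEquiv.trans D.h.coords) _ (fun p => if S.Q p.2.2 = 0 ∧ p.2.1 = 0 then
      trace ℂ _ (D.fz p.2.2) else 0) fun w => ?_, Fintype.sum_prod_type]
    · simp only [sum_const, card_univ, nsmul_eq_mul]
      rw [Fintype.sum_prod_type, sum_eq_single 0 (fun b _ hb => by simp [hb]) (by simp), ← add_sum_erase _ _ (mem_univ 0)]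
      simp only [and_true, ← sum_filter]
      rw [sum_congr (show _ = A' by ext; simp [A', q_eq_zero_iff, res_Q]) fun y hy => D.tr_fz hd h1 (mem_filter.1 hy).2.1
        ((q_eq_zero_iff _).1 (mem_filter.1 hy).2.2)]
      simp [fz, zE_zero _ D.h.Qe, mul_sub]
    · have h5 : S.B (t.1 w) D.e = S.B w u := by rw [← ht, isom_B (om_le_isom t.2)]
      by_cases h6 : S.B w u = 0
      · have h7 : ((D.h.coords (t.1 w)).2.2 : M) = t.1 w + -S.B (t.1 w) D.f • D.e := by
          simp [IsHyp.coords, h5, h6, sub_eq_add_neg]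
        have h8 : (D.h.coords (t.1 w)).2.1 = 0 := by simp [IsHyp.coords, h5, h6]
        simp only [Equiv.trans_apply, LinearEquiv.coe_toEquiv, fz, h7, h8, Q_add_smul, D.h.Qe, h5, h6, mul_zero, add_zero,
          isom_Q (om_le_isom t.2), zE_shift _ D.h.Qe (h5.trans h6)]
        rw [tr_cj D.ρ (g := t) (by rw [← map_mul, zE_conj _ h4 h6, ht, map_mul])]
      · simp [IsHyp.coords, h5, h6]
  have h3 := congrArg (trace ℂ _) hc
  simp only [map_sum, one_smul, map_smul, trace_id, finrank_fin_fun, C, sum_filter, Fintype.sum_prod_type, ite_and,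
    sum_ite_irrel, sum_const_zero, apply_ite (trace ℂ _), map_zero] at h3
  simp only [← ite_and, ← sum_filter _ fun u => ∑ w, _] at h3
  rw [sum_congr rfl h2, sum_const, nsmul_eq_mul, smul_eq_mul] at h3
  have h4 := CfsgH3.int_dvd_of_isIntegral_div (a := #A * (Fintype.card F * (k + #A' * (k - Fintype.card F ^ (finrank F M - 3)))))
    (b := k) (by simpa using hk0) (by
      push_cast; rwa [h3, mul_div_cancel_right₀ _ (Nat.cast_ne_zero.2 hk0)])
  rw [Nat.card_eq_fintype_card, Nat.card_eq_fintype_card, Fintype.card_subtype, Fintype.card_subtype, ← Int.natCast_dvd_natCast,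
    show finrank F M - 2 = finrank F M - 3 + 1 by omega]
  have h5 := (dvd_mul_left (k : ℤ) (#A * (Fintype.card F * (1 + #A')))).sub h4
  refine h5.trans (dvd_of_eq ?_)
  push_cast; ring

theorem nontriv (hd : 7 ≤ finrank F M) (hq : 4 ≤ Fintype.card F)
    (h1 : ∀ w : D.W, w ≠ 0 → trace ℂ V (D.P w) = if S.Q w = 0 then 1 else 0) :
    ∃ σ : Representation ℂ (S.res D.W).om (range (D.P 0)), ∃ g, σ g ≠ 1 := by
  obtain ⟨μ, hμ, hμ'⟩ := exists_sq_ne_one hq
  obtain ⟨ι, hι⟩ := D.exists_ext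
  have h3 : finrank F D.W + 2 = _ := D.hS.finrank_perp_hyp D.h
  obtain ⟨u, v, h⟩ := D.ndW.exists_isHyp (by omega)
  have h4 := D.ndW.finrank_perp_hyp h
  obtain ⟨u', hu', h0, h5⟩ := exists_sing_of_three (S.res D.W) ((S.res D.W).perp {u, v}) (by omega)
  obtain ⟨a1, a2⟩ := (S.res D.W).mem_perp_pair.1 hu'
  have hE' := (D.ndW.om_eq_EG_of_five (by omega)).ge
  have hu := h.Qe
  let t := zE hE' u u'
  have ht := zE_apply hE' hu a1
  rw [h5] at ht
  rw [res_Q] at hu h5
  have h6 : ι t = zE D.hE u u' := by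
    obtain ⟨h', h7⟩ := IsExt.eich (isIsom_res D.W) (orth_isEich h.Qe a1)
    exact Subtype.ext (((hι t).1.unique (isIsom_res D.W) D.ndW (zE_eq hE' _ ▸ h7)).trans (zE_eq _ h').symm)
  refine ⟨Representation.subrepresentation (D.ρ.comp ι) _ fun g => ?_, t, fun e => ?_⟩
  · rintro _ ⟨x, rfl⟩
    exact ⟨_, by simpa using (congr($((hι g).2 0) x)).symm⟩
  have h7 : D.ρ (ι t) * D.P 0 = D.P 0 := LinearMap.ext fun x => congrArg Subtype.val congr($e ⟨_, x, rfl⟩)
  obtain ⟨s, -, hs⟩ := D.conj_to (by omega) (u := u) (by simpa using h.ne_left) hu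
  obtain ⟨y, y1, y2, y3⟩ := hs u' a1
  have h8 := D.tr_fz hd h1 (y := y) (fun e => by
    obtain ⟨c, hc⟩ := Submodule.mem_span_singleton.1 (y3 e)
    have : c = 0 := by simpa [← hc, show S.B u v = 1 from h.ef] using show S.B u' v = 0 from a2
    exact h0 (Subtype.ext (by simp [← hc, this]))) (y2.trans h5)
  rw [fz, ← tr_cj D.ρ (g := s) (X := D.ρ (ι t)) (by rw [h6, ← map_mul, y1, map_mul]), ← trace_one, ← D.sum_P,
    ← mul_one (D.ρ _), ← D.sum_P, mul_sum, map_sum, map_sum, eq_sub_iff_add_eq', ← eq_sub_iff_add_eq, ← sum_sub_distrib,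
    sum_congr rfl (g := fun w : D.W => if S.Q w = 0 ∧ t.1 w ≠ w then 1 else 0) fun w _ => ?_, sum_boole] at h8
  · have h9 := dvd_card_free (F := F) {w : D.W | S.Q w = 0 ∧ t.1 w ≠ w} (by simp) fun c hc x hx => by
      simp only [mem_filter, mem_univ, true_and] at hx ⊢
      exact ⟨by simp [Q_smul, hx.1], fun e => hx.2 (smul_right_injective _ hc (by simpa using e))⟩
    rw [← Nat.cast_injective (R := ℂ) ((Nat.cast_pow _ _).trans h8)] at h9
    have := (Nat.coprime_self_sub_left (show 1 ≤ Fintype.card F by omega)).2 (Nat.coprime_one_left _)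
    have := Nat.Coprime.eq_one_of_dvd (this.pow_right _) h9
    omega
  rcases eq_or_ne w 0 with rfl | hw
  · simp [h7]
  have h9 := h1 w hw
  by_cases h10 : S.Q w = 0
  · rw [if_pos h10] at h9
    by_cases h11 : t.1 w = w
    · have h12 := (ht w).symm.trans h11
      have h13 := congrArg ((S.res D.W).B · v) h12
      simp only [sub_left, add_left, smul_left, a2, h.ef, mul_zero, zero_mul, add_zero, mul_one, sub_eq_self] at h13
      simp only [h13, zero_mul, add_zero, zero_smul, sub_zero, add_eq_left, smul_eq_zero, h0, or_false] at h12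
      rw [trace_mul_comm, h6, D.fix_P hd hμ hμ' h9 h10 hu h5 a1 h12 h13]
      simp [h11]
    · rw [P, tr_pr_ne D.fz_add ((hι t).2 w) fun e => h11 (D.lam_inj e).symm, ← P, h9]
      simp [h10, h11]
  · rw [if_neg h10] at h9
    simp [(pr_idem D.fz_add _).eq_zero_of_trace_eq_zero h9, P, h10]

theorem step {k : ℕ} (D : OD S (Fin k → ℂ)) (hi : D.ρ.IsIrreducible) (hn : ∃ g, D.ρ g ≠ 1) (hd : 7 ≤ finrank F M)
    (hq : 4 ≤ Fintype.card F) : 2 * ((Fintype.card F - 1) * Fintype.card F ^ (finrank F M - 4)) ≤ k ∨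
    (∀ w : D.W, w ≠ 0 → trace ℂ _ (D.P w) = if S.Q w = 0 then 1 else 0) ∧
      k = finrank ℂ (range (D.P 0)) + Nat.card {v : D.W // v ≠ 0 ∧ (S.res D.W).q v = 0} := by
  obtain ⟨μ, hμ, hμ'⟩ := exists_sq_ne_one hq
  let m : D.W → ℕ := fun w => finrank ℂ (range (D.P w))
  have hm : ∀ w, trace ℂ _ (D.P w) = m w := fun w => tr_idem (pr_idem D.fz_add _)
  have hs : ∑ w, m w = k := Nat.cast_injective (R := ℂ) (by
    rw [Nat.cast_sum, ← sum_congr rfl fun w _ => hm w, ← map_sum, D.sum_P, trace_one, finrank_fin_fun])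
  have h3 : finrank F D.W + 2 = _ := D.hS.finrank_perp_hyp D.h
  obtain ⟨u, v, h⟩ := D.ndW.exists_isHyp (by omega)
  have hu : S.Q u = 0 := (res_Q _ _ _).symm.trans h.Qe
  have hc := h.card_Q D.ndW
  simp only [Nat.card_eq_fintype_card (α := F), show finrank F D.W - 2 = finrank F M - 4 by omega,
    Nat.card_eq_fintype_card (α := {v : D.W // _}), Fintype.card_subtype, res_Q S] at hc
  have hle : ∀ (A : Finset D.W) (c : ℕ), (∀ w ∈ A, c ≤ m w) → c * #A ≤ k := fun A c hA => by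
    rw [mul_comm, ← smul_eq_mul]
    exact ((card_nsmul_le_sum _ _ _ hA).trans (sum_le_sum_of_subset (subset_univ _))).trans hs.le
  have same : ∀ w w' : D.W, S.Q w ≠ 0 ∨ (w ≠ 0 ∧ w' ≠ 0) → S.Q w = S.Q w' → m w = m w' := fun w w' h1 h2 =>
    Nat.cast_injective (R := ℂ) (by
      rw [← hm, ← hm]
      exact D.tr_same hd (h1.elim (fun a e => a (by simp [e])) (·.1)) (h1.elim (fun a e => a (by simp [h2, e])) (·.2)) h2)
  by_cases h1 : ∃ w : D.W, S.Q w ≠ 0 ∧ m w ≠ 0
  · obtain ⟨w, h1, h2⟩ := h1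
    obtain ⟨w', h4, h5⟩ := D.tr_scale hd hμ w
    rw [hm, hm, Nat.cast_inj] at h5
    have h6 : S.Q w' ≠ 0 := fun e => h1 (by simp [h4, e])
    have := hle (univ.filter (fun x : D.W => S.Q x = S.Q w) ∪ univ.filter (fun x : D.W => S.Q x = S.Q w')) 1 fun x hx => Nat.one_le_iff_ne_zero.2 (by
      rcases mem_union.1 hx with hx | hx
      · rwa [← same w x (.inl h1) (mem_filter.1 hx).2.symm]
      · rwa [← same w' x (.inl h6) (mem_filter.1 hx).2.symm, ← h5])
    rw [card_union_of_disjoint (disjoint_filter.2 fun x _ a b => hμ' (mul_right_cancel₀ h6 (by rw [← h4, ← a, b, one_mul]))),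
      hc, hc] at this
    omega
  push Not at h1
  let A : Finset D.W := {x | x ≠ 0 ∧ (S.res D.W).q x = 0}
  have hA : ∀ w ∈ A, m w = m u := fun w hw => same w u (.inr ⟨(mem_filter.1 hw).2.1, h.ne_left⟩)
    (((q_eq_zero_iff _).1 (mem_filter.1 hw).2.2).trans hu.symm)
  have hk : k = m 0 + #A * m u := by
    refine hs.symm.trans ?_
    rw [← add_sum_erase _ _ (mem_univ 0), ← smul_eq_mul, ← sum_const, ← sum_congr rfl hA]
    refine congrArg _ (sum_subset (fun x hx => by simpa using (mem_filter.1 hx).2.1) fun x hx hx' => h1 x fun e => hx' ?_).symm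
    simpa [A, q_eq_zero_iff, res_Q, e] using hx
  rcases hmu : m u with _ | _ | j
  · obtain ⟨g, hg⟩ := hn
    have h4 : D.P 0 = 1 := by
      rw [← D.sum_P]
      refine (sum_eq_single 0 (fun w _ hw => (pr_idem D.fz_add _).eq_zero_of_trace_eq_zero ((hm w).trans ?_)) (by simp)).symm
      rw [Nat.cast_eq_zero]
      by_contra e
      exact e ((hA w (by simpa [A, q_eq_zero_iff, res_Q, hw] using not_imp_comm.1 (h1 w) e)).trans hmu)
    have h5 : S.EG ≤ (MonoidHom.ker D.ρ).map S.om.subtype := EG_le.2 fun a b l hE => ⟨zE D.hE a b, by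
      rcases eq_or_ne a 0 with rfl | ha
      · rw [show zE D.hE 0 b = 1 from Subtype.ext (LinearEquiv.ext fun x => by rw [zE_apply _ (by simp) (by simp)]; simp)]
        exact one_mem _
      obtain ⟨t, -, ht⟩ := D.conj_to (by omega) ha hE.Qu_eq
      obtain ⟨y, y1, -⟩ := ht b hE.perp
      have h6 : D.ρ (zE D.hE D.e y) = 1 := by
        have h7 : D.fz y * D.P 0 = _ • D.P 0 := mul_pr D.fz_add (D.lam 0) y
        simpa [lam, h4, fz] using h7
      rw [← inv_mul_cancel_left t (zE D.hE a b), y1, ← mul_assoc]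
      exact (MonoidHom.normal_ker D.ρ).conj_mem' _ h6 _, zE_eq _ hE⟩
    obtain ⟨x, hx, hx'⟩ := h5 ((D.hS.om_eq_EG_of_five (by omega)).le g.2)
    exact (hg (Subtype.ext hx' ▸ hx)).elim
  · refine .inr ⟨fun w hw => ?_, hk.trans (by rw [hmu, Nat.card_eq_fintype_card, Fintype.card_subtype, zero_add, mul_one])⟩
    rw [hm]
    split_ifs with h4
    · rw [hA w (by simpa [A, q_eq_zero_iff, res_Q, hw] using h4), hmu]; simp
    · rw [h1 w h4, Nat.cast_zero]
  · have h4 := hc 0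
    have h5 : #A + 1 = #{x : D.W | S.Q x.1 = 0} := by
      rw [← card_erase_add_one (s := {x : D.W | S.Q x.1 = 0}) (a := 0) (by simp)]
      congr 2; ext; simp [A, q_eq_zero_iff, res_Q]
    haveI : Nonempty {w // ((S.res D.W).res ((S.res D.W).perp {u, v})).Q w = 0} := ⟨⟨0, by simp⟩⟩
    have h6 := Nat.mul_pos (show 0 < Fintype.card F by omega)
      (Nat.card_pos (α := {w // ((S.res D.W).res ((S.res D.W).perp {u, v})).Q w = 0}))
    have h7 := hle A 2 fun w hw => by rw [hA w hw]; omega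
    omega

end OD
end CfsgH8
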