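import Cfsg.Agent.H8.SW2

/-! The smallest degree of a complex representation of `SL`. -/

set_option autoImplicit false

namespace CfsgH8
open Module LinearMap Finset Classical

theorem sw_arith {q u a s t : ℤ} (hq : 2 ≤ q) (hu : 3 ≤ u) (ha : 0 ≤ a) (ht : 0 < t) (hs : s = 0 ∨ t ≤ q * s)
    (h : (q ^ 2 * u - 1) * a * t = (q * (u - 1) * t + (q ^ 2 - 1) * s) * (a + q * u - 1)) : q * u - 1 ≤ (q - 1) * a := by
  have h1 : 6 ≤ q * u := by nlinarith
  rcases hs with rfl | hs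
  · have h2 : (q * u + 1) * (a * (q - 1) - (q * u + 1) + (q + 3)) = 2 * (q + 1) :=
      mul_right_cancel₀ ht.ne' (by linear_combination h)
    have := Int.le_of_dvd (by omega) ⟨_, h2.symm⟩
    nlinarith
  · have h2 : 0 < (q ^ 2 * u - 1) * t := mul_pos (by nlinarith) ht
    have h3 := mul_le_mul_of_nonneg_left hs (show 0 ≤ (q ^ 2 - 1) * (a + q * u - 1) from
      mul_nonneg (by nlinarith) (by omega))
    have h4 : (q ^ 2 * u - 1) * t * (a + q * u - 1) ≤ (q ^ 2 * u - 1) * t * (q * a) := by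
      have : (q ^ 2 * u - 1) * t * (q * a) = q * ((q ^ 2 * u - 1) * a * t) := by ring
      rw [this, h]; nlinarith
    have := le_of_mul_le_mul_left h4 h2
    linarith

variable {F M V : Type*} [Field F] [AddCommGroup M] [Module F M] [Fintype M] [AddCommGroup V] [Module ℂ V]
  [Fintype (Dual F M)]

/-- nonzero linear forms vanishing on a subspace -/
noncomputable def An (W : Submodule F M) : Finset (Dual F M) := (univ.filter (· ∈ W.dualAnnihilator)).erase 0

theorem mem_An {W : Submodule F M} {φ : Dual F M} : φ ∈ An W ↔ φ ≠ 0 ∧ W ≤ ker φ := by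
  simp only [An, mem_erase, mem_filter, mem_univ, true_and, ann_iff]

theorem card_fl [Fintype F] {W : Submodule F M} {c : ℕ} (h : Fintype.card M = c * Nat.card W) :
    #(univ.filter (· ∈ W.dualAnnihilator)) = c := by
  rw [← Fintype.card_subtype, ← Nat.card_eq_fintype_card]
  exact Nat.eq_of_mul_eq_mul_right Nat.card_pos ((card_ann_mul W).trans h)

theorem card_An [Fintype F] {W : Submodule F M} {c : ℕ} (h : Fintype.card M = c * Nat.card W) : (#(An W) : ℂ) = c - 1 := by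
  rw [An, cast_card_erase_of_mem (by simp), card_fl h]

namespace SLR
variable (S : SLR F M V) {W W' : Submodule F M} {φ χ φ' χ' ξ ξ' w w' : Dual F M} {v : M} {g : End F M}

/-- sum of the fixed point projections -/
noncomputable def SS (W : Submodule F M) : End ℂ V := ∑ φ ∈ An W, S.hP φ 0

theorem SS_cj (hg : LinearMap.det g = 1) (h : ∀ v, v ∈ W' ↔ g v ∈ W) : S.Cj g (S.SS W') (S.SS W) := by
  have hb := (End.isUnit_iff g).1 ((isUnit_iff_isUnit_det g).2 (by simp [hg]))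
  let e := (LinearEquiv.ofBijective g hb).dualMap
  rw [Cj, SS, SS, mul_sum, sum_mul]
  refine (sum_equiv e.toEquiv (fun φ => ?_) fun φ _ => (S.hP_cj hg φ 0).symm).symm
  rw [mem_An, mem_An]
  refine and_congr (by simp) ⟨fun h1 x hx => h1 ((h x).1 hx), fun h1 x hx => ?_⟩
  obtain ⟨x, rfl⟩ := hb.2 x
  exact h1 ((h x).2 hx)

omit [Fintype (Dual F M)] in
theorem cH' (h : W ≤ ker φ) (h1 : W ≤ ker w) (h' : W ≤ ker ξ) : Commute (S.hP φ w) (S.Pr W ξ w') :=
  S.comm_Pr fun v hv => (S.U_comm (h' hv) le_rfl (fun x => by simp [mem_ker.1 (h hv)]) (h hv)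
    fun x _ => by simp [mem_ker.1 (h1 hv)]).symm

omit [Fintype (Dual F M)] in
theorem Pr_hP (h : W ≤ ker φ) : S.Pr W φ 0 * S.hP φ 0 = S.hP φ 0 := S.Pr_mul fun _ hv => S.U_mul_Pr le_rfl (h hv)

theorem trs (h : Bs W φ χ) (h' : Bs W' φ' χ') (h0 : W ≠ ⊥) : trace ℂ V (S.hP φ' χ') = trace ℂ V (S.hP φ χ) ∧
    trace ℂ V (S.hP φ' 0 * S.hP χ' 0) = trace ℂ V (S.hP φ 0 * S.hP χ 0) ∧
    trace ℂ V (S.hP φ' χ' * S.SS W') = trace ℂ V (S.hP φ χ * S.SS W) := by
  obtain ⟨g, hg, rfl, rfl, h1⟩ := h.trans h' h0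
  exact ⟨(S.hP_cj hg φ χ).tr hg, ((S.hP_cj hg φ 0).mul (S.hP_cj hg χ 0)).tr hg,
    ((S.hP_cj hg φ χ).mul (S.SS_cj hg h1)).tr hg⟩

variable [Fintype F] [FiniteDimensional ℂ V]

theorem keyI (hm : ∀ {W φ w}, Bs W φ w → trace ℂ V (S.hP φ w) = 1)
    (hC : (∃ r : F, r ≠ 0 ∧ r ^ 3 ≠ 1) ∨ Fintype.card M ≠ Fintype.card F ^ 3) (h : Bs W φ χ) :
    S.hP φ 0 * (S.Pr W φ 0 * S.Pr W χ 0) = S.hP φ 0 * S.Pr W χ 0 ∧ ∃ X, S.Pr W φ 0 * S.Pr W χ 0 =
      S.hP φ 0 * S.Pr W χ 0 + X ∧ trace ℂ V X = Fintype.card F - 1 ∧ ∀ c : ℂ,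
      (∀ ξ, Bs W φ ξ → trace ℂ V (S.hP φ ξ * S.SS W) = c) → X * S.SS W = c • X := by
  have hb : ∀ t ∈ univ.erase (0 : F), Bs W φ (t • χ) := fun t ht => h.right (fun x hx => by
    simp [mem_ker.1 (h.symm.le hx)]) fun e => h.nm (by
      simpa [(mem_erase.1 ht).1] using Submodule.smul_mem _ t⁻¹ e)
  refine ⟨by rw [← mul_assoc, (S.cH' h.le (by simp) h.le).eq, S.Pr_hP h.le], ∑ t ∈ univ.erase (0 : F), S.hP φ (t • χ),
    ?_, by rw [map_sum, sum_congr rfl fun t ht => hm (hb t ht)]; simp [Nat.cast_pred Fintype.card_pos], fun c hc => ?_⟩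
  · have := S.sum_line (φ := φ) (w := 0) h.nm
    rw [← h.eq] at this
    rw [← this, sum_mul, ← add_sum_erase _ _ (mem_univ 0)]
    simp only [zero_add, zero_smul]
    refine congrArg _ (sum_congr rfl fun t ht => ?_)
    rw [← S.Pr_smul (mem_erase.1 ht).1 (φ := χ), smul_zero, rank_one_idem (S.Pr_idem le_rfl) (hm (hb t ht)) _
      (S.cH (hb t ht) (hb t ht).symm.le), S.lemC hm hC (hb t ht), one_smul]
  · rw [sum_mul, smul_sum]
    refine sum_congr rfl fun t ht => ?_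
    rw [rank_one_idem (S.Pr_idem le_rfl) (hm (hb t ht)) _ (S.comm_Pr fun v hv => ?_).symm, hc _ (hb t ht)]
    refine Commute.symm (S.SS_cj (by simp [transvection.det, mem_ker.1 hv]) fun x => ⟨fun hx => ?_, fun hx => ?_⟩)
    · simpa [transvection.apply, mem_ker.1 (h.le hx)] using hx
    · have : φ x = 0 := by simpa [transvection.apply, mem_ker.1 hv] using h.le hx
      simpa [transvection.apply, this] using hx

theorem trN (h : Bs W φ χ) (h0 : W ≠ ⊥) : (finrank ℂ V : ℂ) =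
    trace ℂ V (S.hP φ 0) + (Fintype.card F * Nat.card W - 1) * trace ℂ V (S.hP φ χ) := by
  have hq : (Fintype.card F : ℂ) ≠ 0 := Nat.cast_ne_zero.2 Fintype.card_ne_zero
  have h1 := congrArg (trace ℂ V) (S.sum_all (W := ker φ) (φ := φ))
  have h2 : Fintype.card M = Fintype.card F * Nat.card (ker φ) := by rw [h.card.1, h.card.2]; ring
  have h3 := card_fl (F := F) (M := M) (W := ⊥) (c := Fintype.card M) (by simp)
  rw [map_sum, sum_two (subset_univ (univ.filter (· ∈ (ker φ).dualAnnihilator))) _ (x := trace ℂ V (S.hP φ 0))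
    (y := trace ℂ V (S.hP φ χ)) (fun i hi => by
      rw [S.Pr_congr (w' := 0) fun x hx => ann_iff.1 (mem_filter.1 hi).2 hx]) fun i _ hi => ?_,
    ← ann_eq, Nat.card_eq_fintype_card, Fintype.card_subtype, card_fl h2, map_smul, trace_one] at h1
  · simp only [Submodule.dualAnnihilator_bot, Submodule.mem_top, filter_true] at h3
    rw [h3, h.card.2] at h1
    push_cast at h1
    exact mul_left_cancel₀ hq (by rw [← smul_eq_mul, ← h1]; ring)
  · exact (S.trs h (Bs.mk' h.ne (by simpa using hi)) h0).1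

theorem one_case (hS : ∀ T : End ℂ V, (∀ g, LinearMap.det g = 1 → S.Cj g T T) → ∃ c : ℂ, T = c • 1)
    (hB : (∃ r : F, r ≠ 0 ∧ r ^ 2 ≠ 1) ∨ Fintype.card M ≠ Fintype.card F ^ 4)
    (hC : (∃ r : F, r ≠ 0 ∧ r ^ 3 ≠ 1) ∨ Fintype.card M ≠ Fintype.card F ^ 3) (h : Bs W φ χ) (hu : 3 ≤ Nat.card W)
    (h0 : W ≠ ⊥) (h1 : trace ℂ V (S.hP φ χ) = 1) :
    (Fintype.card F * Nat.card W - 1 : ℤ) ≤ (Fintype.card F - 1) * finrank ℂ (range (S.hP φ 0)) := by
  have hm : ∀ {W φ w}, Bs W φ w → trace ℂ V (S.hP φ w) = 1 := fun h' => (S.trs h h' h0).1.trans h1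
  have hq : (Fintype.card F : ℂ) ≠ 0 := Nat.cast_ne_zero.2 Fintype.card_ne_zero
  have hq2 : 2 ≤ Fintype.card F := Fintype.one_lt_card
  have hq1 : (Fintype.card F : ℂ) - 1 ≠ 0 := sub_ne_zero.2 (Nat.cast_ne_one.2 (by omega))
  have ha := tr_idem (S.Pr_idem (W := ker φ) (φ := φ) (w := 0) le_rfl)
  have hN := S.trN h h0
  have ta : ∀ ξ, ξ ≠ 0 → trace ℂ V (S.hP ξ 0) = trace ℂ V (S.hP φ 0) := fun ξ hξ => by
    obtain ⟨g, hg, rfl, -⟩ := mv1 (nm_top h.ne) (nm_top hξ) fun e => h0 (eq_bot_iff.2 (e ▸ le_inf le_top h.le))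
    exact (S.hP_cj hg φ 0).tr hg
  have k1 : Fintype.card M = Fintype.card F * Nat.card (ker φ) := by rw [h.card.1, h.card.2]; ring
  have k2 : Fintype.card M = Fintype.card M * Nat.card (⊥ : Submodule F M) := by simp
  have sub : ∀ {W' : Submodule F M}, W' ≤ ker φ → An (ker φ) ⊆ An W' := fun h' i hi =>
    mem_An.2 ⟨(mem_An.1 hi).1, h'.trans (mem_An.1 hi).2⟩
  have id0 : ∀ i ∈ An (ker φ), S.hP φ 0 * S.hP i 0 = S.hP φ 0 := fun i hi => by
    rw [S.hP_eq h.ne (ann_iff.2 (mem_An.1 hi).2) (mem_An.1 hi).1, (S.Pr_idem le_rfl).eq]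
  have nm : ∀ {W' : Submodule F M}, ∀ i ∈ An W', i ∉ An (ker φ) → i ∉ (ker φ).dualAnnihilator := fun i hi hi' e =>
    hi' (mem_An.2 ⟨(mem_An.1 hi).1, ann_iff.1 e⟩)
  -- the global equations
  obtain ⟨c₁, hc₁⟩ := hS (S.SS ⊥) fun g hg => S.SS_cj hg fun v => by
    simp [map_eq_zero_iff g ((End.isUnit_iff g).1 ((isUnit_iff_isUnit_det g).2 (by simp [hg]))).1]
  have e1 := congrArg (trace ℂ V) hc₁
  rw [SS, map_sum, sum_congr rfl fun i hi => ta i (mem_An.1 hi).1, sum_const, nsmul_eq_mul, card_An k2, map_smul,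
    trace_one] at e1
  have e2 := congrArg (fun T => trace ℂ V (S.hP φ 0 * T)) hc₁
  simp only [SS, mul_sum, map_sum, mul_smul_comm, mul_one, map_smul] at e2
  rw [sum_two (sub bot_le) _ (fun i hi => by rw [id0 i hi]) (fun i hi hi' => (S.trs h (Bs.mk' h.ne (nm i hi hi')) h0).2.1),
    card_An k1, card_An k2] at e2
  -- the fixed space of the unipotent radical
  set E := S.Pr W φ 0 * S.Pr W χ 0 with hE
  have e3 := congrArg (fun T => trace ℂ V (T * S.Pr W χ 0)) (S.sum_all (W := W) (φ := φ))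
  have e4 := congrArg (trace ℂ V) (S.sum_line (φ := χ) (w := 0) h.symm.nm)
  rw [← h.symm.eq, map_sum, ← add_sum_erase _ _ (mem_univ 0), sum_congr rfl fun t ht => hm (Bs.mk' h.symm.ne fun e =>
    h.symm.nm (by simpa [(mem_erase.1 ht).1] using Submodule.smul_mem _ t⁻¹ e))] at e4
  have k3 := card_fl k2
  simp only [Submodule.dualAnnihilator_bot, Submodule.mem_top, filter_true] at k3
  simp only [sum_mul, map_sum, smul_mul_assoc, one_mul, map_smul] at e3
  rw [sum_two (subset_univ (univ.filter (· ∈ W.dualAnnihilator))) _ (x := trace ℂ V E) (fun i hi => by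
      rw [S.Pr_congr (w' := 0) fun x hx => ann_iff.1 (mem_filter.1 hi).2 hx])
    (fun i _ hi => S.lemB hm hB h (by simpa using hi)), ← ann_eq, Nat.card_eq_fintype_card, Fintype.card_subtype,
    card_fl h.card.2, k3, ← e4, zero_smul, add_zero, ta _ h.symm.ne] at e3
  set c := trace ℂ V (S.hP φ χ * S.SS W)
  have K : ∀ i ∈ An W, trace ℂ V (S.hP i 0 * E) = trace ℂ V E - (Fintype.card F - 1) ∧
      S.hP i 0 * (E * S.SS W - c • E) = E * S.SS W - c • E := fun i hi => by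
    obtain ⟨j, hj⟩ := h.ext (mem_An.1 hi).2 (mem_An.1 hi).1
    obtain ⟨f1, X, f2, f3, f4⟩ := S.keyI hm hC hj
    rw [← f1, S.E_eq h hj, ← hE] at f2
    have f5 := f4 c fun ξ hξ => (S.trs h hξ h0).2.2
    rw [← sub_eq_iff_eq_add'] at f2
    refine ⟨by rw [← f3, ← f2]; simp, ?_⟩
    rw [← f2, sub_mul, smul_sub, sub_eq_sub_iff_sub_eq_sub] at f5
    rw [mul_sub, mul_smul_comm, ← mul_assoc, f5]
  have hφ : φ ∈ An W := mem_An.2 ⟨h.ne, h.le⟩
  set B := E * S.SS W - c • E with hBd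
  have b1 : S.SS W * B = ((Fintype.card F : ℂ) ^ 2 - 1) • B := by
    rw [SS, sum_mul, sum_congr rfl fun i hi => (K i hi).2, sum_const, ← Nat.cast_smul_eq_nsmul ℂ, card_An h.card.2]
    push_cast; rfl
  have iE : IsIdempotentElem E := (S.Pr_idem h.le).mul_of_commute (S.cP h.le h.symm.le) (S.Pr_idem h.symm.le)
  have b2 : E * B = B := by rw [hBd, mul_sub, mul_smul_comm, ← mul_assoc, iE.eq]
  have b3 : B * B = ((Fintype.card F : ℂ) ^ 2 - 1 - c) • B := by
    nth_rw 1 [hBd]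
    rw [sub_mul, mul_assoc, b1, mul_smul_comm, smul_mul_assoc, b2, sub_smul _ c]
  have e5 : trace ℂ V (E * S.SS W) = ((Fintype.card F : ℂ) ^ 2 - 1) * (trace ℂ V E - (Fintype.card F - 1)) := by
    rw [trace_mul_comm, SS, sum_mul, map_sum, sum_congr rfl fun i hi => (K i hi).1, sum_const, nsmul_eq_mul,
      card_An h.card.2]
    push_cast; rfl
  have e6 := congrArg (trace ℂ V) (K φ hφ).2
  rw [hBd, mul_sub, map_sub, map_sub, e5, mul_smul_comm, map_smul, map_smul, (K φ hφ).1, SS, mul_sum, mul_sum, map_sum,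
    sum_two (sub h.le) _ (x := trace ℂ V E - (Fintype.card F - 1)) (y := trace ℂ V (S.hP φ 0 * S.hP χ 0))
      (fun i hi => by rw [← mul_assoc, trace_mul_comm, ← mul_assoc, S.hP_eq h.ne (ann_iff.2 (mem_An.1 hi).2) (mem_An.1 hi).1,
        (S.Pr_idem le_rfl).eq, (K φ hφ).1]) (fun i hi hi' => by
        have hj := h.right (mem_An.1 hi).2 (nm i hi hi')
        rw [← mul_assoc, hE, ← S.E_eq h hj, (S.keyI hm hC hj).1, mul_assoc, S.Pr_hP hj.symm.le, (S.trs h hj h0).2.1]),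
    card_An k1, card_An h.card.2] at e6
  have hJ : IsIdempotentElem (S.hP φ 0 * E) := by
    rw [hE, (S.keyI hm hC h).1]
    exact (S.Pr_idem le_rfl).mul_of_commute (S.cH' h.le (by simp) h.symm.le) (S.Pr_idem h.symm.le)
  obtain ⟨s, t, ht, hs, hst⟩ : ∃ s t : ℕ, 0 < t ∧ (s = 0 ∨ t ≤ Fintype.card F * s) ∧
      c * t = ((Fintype.card F : ℂ) ^ 2 - 1) * s := by
    by_cases hc : (Fintype.card F : ℂ) ^ 2 - 1 - c = 0
    · exact ⟨1, 1, one_pos, .inr (by omega), by rw [← sub_eq_zero.1 hc]⟩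
    have hp : IsIdempotentElem (((Fintype.card F : ℂ) ^ 2 - 1 - c)⁻¹ • B) := by
      rw [IsIdempotentElem, smul_mul_smul_comm, b3, smul_smul, mul_assoc, inv_mul_cancel₀ hc, mul_one]
    have hr := tr_idem hp
    have hle : finrank ℂ (range (((Fintype.card F : ℂ) ^ 2 - 1 - c)⁻¹ • B)) ≤ finrank ℂ (range (S.hP φ 0 * E)) := by
      refine Submodule.finrank_mono ?_
      rw [← (K φ hφ).2, ← b2, ← mul_assoc, ← mul_smul_comm]
      exact range_comp_le_range _ _
    obtain ⟨s, hs⟩ := Nat.exists_eq_add_of_le hle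
    have hb := tr_idem hJ
    rw [hs, Nat.cast_add, ← hr, (K φ hφ).1, map_smul, hBd, map_sub, e5, map_smul] at hb
    refine ⟨s, s + (Fintype.card F - 1), by omega, ?_, ?_⟩
    · rcases s with _ | s
      exacts [.inl rfl, .inr (by rw [mul_add_one]; have := Nat.le_mul_of_pos_left s (show 0 < Fintype.card F by omega); omega)]
    · rw [Nat.cast_add, Nat.cast_pred Fintype.card_pos]
      simp only [smul_eq_mul] at hb
      field_simp at hb
      linear_combination hb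
  refine sw_arith (s := s) (t := t) (by omega) (by omega) (by omega) (by omega) (by exact_mod_cast hs) ?_
  rw [h1, ha] at hN
  rw [ha, h.card.2, hN] at e1
  rw [ha, h.card.2] at e2 e3
  simp only [smul_eq_mul, sum_const, card_erase_of_mem (mem_univ _), card_univ, nsmul_eq_mul,
    Nat.cast_pred Fintype.card_pos] at e1 e2 e3 e6
  push_cast at e1 e2 e3 e6
  have hM : (Fintype.card F : ℂ) * Nat.card W - 1 ≠ 0 := sub_ne_zero.2 (by
    exact_mod_cast (show Fintype.card F * Nat.card W ≠ 1 by nlinarith))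
  refine Int.cast_injective (α := ℂ) ?_
  push_cast
  generalize (Fintype.card F : ℂ) = q at *
  generalize (finrank ℂ (range (S.hP φ 0)) : ℂ) = a at *
  have f1 : trace ℂ V E = a + q - Nat.card W := mul_left_cancel₀ (pow_ne_zero 2 hq) (by linear_combination e3)
  have f2 : c = q * (trace ℂ V E - (q - 1) - trace ℂ V (S.hP φ 0 * S.hP χ 0)) :=
    mul_left_cancel₀ hq1 (by linear_combination e6)
  have f3 : c₁ = q * (a - trace ℂ V (S.hP φ 0 * S.hP χ 0)) := mul_left_cancel₀ hM (by linear_combination e2 - e1)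
  have f4 : c₁ = q * (Nat.card W - 1) + c := by rw [f3, f2, f1]; ring
  rw [e1, f4, ← hst]
  ring

theorem bound (hS : ∀ T : End ℂ V, (∀ g, LinearMap.det g = 1 → S.Cj g T T) → ∃ c : ℂ, T = c • 1)
    (hB : (∃ r : F, r ≠ 0 ∧ r ^ 2 ≠ 1) ∨ Fintype.card M ≠ Fintype.card F ^ 4)
    (hC : (∃ r : F, r ≠ 0 ∧ r ^ 3 ≠ 1) ∨ Fintype.card M ≠ Fintype.card F ^ 3) (h : Bs W φ χ) (hu : 3 ≤ Nat.card W)
    (hv : φ v = 0) (hne : S.U φ v ≠ 1) : Fintype.card M - Fintype.card F ≤ (Fintype.card F - 1) * finrank ℂ V := by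
  have h0 : W ≠ ⊥ := fun e => by simp [e] at hu
  have hq2 : 2 ≤ Fintype.card F := Fintype.one_lt_card
  have hN := S.trN h h0
  have ha := tr_idem (S.Pr_idem (W := ker φ) (φ := φ) (w := 0) le_rfl)
  have hm := tr_idem (S.Pr_idem (W := ker φ) (φ := φ) (w := χ) le_rfl)
  have h1 := S.one_case hS hB hC h hu h0
  rw [hm] at h1 hN
  rw [ha] at hN
  have hN' : (finrank ℂ V : ℤ) = finrank ℂ (range (S.hP φ 0)) + (Fintype.card F * Nat.card W - 1) *
      finrank ℂ (range (S.hP φ χ)) := Int.cast_injective (α := ℂ) (by push_cast; exact hN)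
  rw [h.card.2, tsub_le_iff_right]
  zify [show 1 ≤ Fintype.card F by omega]
  have h2 : (0 : ℤ) ≤ Fintype.card F * Nat.card W - 1 := by
    have : 1 ≤ Fintype.card F * Nat.card W := by nlinarith
    omega
  generalize finrank ℂ (range (S.hP φ χ)) = m at *
  rcases m with _ | _ | m
  · refine (hne ?_).elim
    have h3 : S.hP φ 0 = 1 := by
      have h4 := Submodule.eq_top_of_finrank_eq (S := range (S.hP φ 0)) (by simpa using hN'.symm)
      exact (IsIdempotentElem.iff_eq_one_of_isUnit <| (End.isUnit_iff _).2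
        ⟨injective_iff_surjective.2 (range_eq_top.1 h4), range_eq_top.1 h4⟩).1 (S.Pr_idem le_rfl)
    simpa [h3] using S.U_mul_Pr (w := 0) le_rfl hv
  · have := h1 (by simp)
    rw [hN']; push_cast; nlinarith
  · rw [hN']; push_cast
    have h3 : (0 : ℤ) ≤ Fintype.card F - 2 := by omega
    nlinarith [mul_nonneg h2 h3, mul_nonneg (mul_nonneg h2 (show (0 : ℤ) ≤ Fintype.card F - 1 by omega)) (Nat.cast_nonneg m),
      mul_nonneg (show (0 : ℤ) ≤ Fintype.card F - 1 by omega) (Nat.cast_nonneg (finrank ℂ (range (S.hP φ 0))))]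

end SLR
end CfsgH8
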