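import Cfsg.Agent.H8.OW3
import Cfsg.Agent.S2332

/-! The smallest degree of a complex representation of `Ω⁺`. -/

set_option autoImplicit false

namespace CfsgH8
open Module LinearMap Finset Classical CfsgH5 CfsgH5.Form Matrix

theorem ow_arith {q N : ℤ} {j : ℕ} (hq : 4 ≤ q) (hj : 3 ≤ j)
    (h : (q ^ 2 - 1) * (N + 1) = (q * q ^ j - 1) * (q ^ j + q)) (hd : N ∣ (q ^ 2 - 1) * ((q ^ j) ^ 2 - 1)) : False := by
  have h1 : N ∣ (q ^ 2 - 1) ^ 2 * (q ^ j - 1) := by
    have := (dvd_mul_left N ((q ^ 2 - 1) ^ 2)).sub (hd.mul_left q)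
    refine this.trans (dvd_of_eq ?_)
    linear_combination (q ^ 2 - 1) * h
  have h2 : 0 < q ^ 2 - 1 := by nlinarith
  obtain rfl | rfl | h3 : j = 3 ∨ j = 4 ∨ 5 ≤ j := by omega
  · obtain rfl : N = q ^ 5 + 2 * q ^ 3 + q - 1 := mul_left_cancel₀ h2.ne' (by linear_combination h)
    have h4 : q ^ 5 + 2 * q ^ 3 + q - 1 ∣ -q ^ 4 + 8 * q ^ 3 + 3 * q ^ 2 + 4 * q - 5 :=
      (h1.sub (dvd_mul_left _ (q ^ 2 - 4))).trans (dvd_of_eq (by ring))
    have h5 : 0 < q ^ 3 := by positivity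
    have h6 : 4 * q ^ 3 ≤ q ^ 4 := by nlinarith
    have h7 : 4 * q ^ 4 ≤ q ^ 5 := by nlinarith
    have h8 : 4 * q ^ 2 ≤ q ^ 3 := by nlinarith
    have h9 : 4 * q ≤ q ^ 2 := by nlinarith
    have hc := Int.eq_zero_of_abs_lt_dvd h4 (abs_lt.2 ⟨by linarith, by linarith⟩)
    have h7 : q ∣ 5 := ⟨-q ^ 3 + 8 * q ^ 2 + 3 * q + 4, by linear_combination -hc⟩
    have := Int.le_of_dvd (by norm_num) h7
    interval_cases q <;> norm_num at hc
  · obtain rfl : N = q ^ 7 + q ^ 5 + q ^ 4 + q ^ 3 + q - 1 := mul_left_cancel₀ h2.ne' (by linear_combination h)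
    have h4 : q ^ 7 + q ^ 5 + q ^ 4 + q ^ 3 + q - 1 ∣ 3 * q ^ 6 + q ^ 5 + q ^ 4 - q ^ 2 - q + 1 :=
      ((dvd_mul_left _ q).sub h1).trans (dvd_of_eq (by ring))
    have h5 : 0 < q ^ 6 := by positivity
    have h6 : 0 < q ^ 3 := by positivity
    have := Int.le_of_dvd (by nlinarith) h4
    nlinarith
  · have h4 : q ^ 5 ≤ q ^ j := pow_le_pow_right₀ (by omega) h3
    have h5 : q ^ 2 ≤ q ^ 5 := pow_le_pow_right₀ (by omega) (by omega)
    generalize q ^ j = x at *
    have h6 := mul_le_mul_of_nonneg_left (Int.le_of_dvd (mul_pos (by positivity) (by nlinarith)) h1) h2.le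
    have h7 : (q ^ 2 - 1) * (q ^ 2 - 1) ^ 2 ≤ q * x := by nlinarith
    have h8 := mul_le_mul_of_nonneg_right h7 (show 0 ≤ x - 1 by nlinarith)
    nlinarith

/-- the smallest degree for `Ω⁺` in dimension `2(j + 3)` -/
def dP (q : ℕ) : ℕ → ℕ
  | 0 => q ^ 3 + q ^ 2 + q
  | j + 1 => dP q j + (q ^ (j + 3) - 1) * (q ^ (j + 2) + 1) + 1

theorem dP_eq {q : ℕ} (hq : 1 ≤ q) (j : ℕ) :
    ((q : ℤ) ^ 2 - 1) * dP q j = (q ^ (j + 3) - 1) * (q ^ (j + 2) + q) := by
  induction j with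
  | zero => simp only [dP]; push_cast; ring
  | succ j ih => simp only [dP]; push_cast [Nat.one_le_pow _ _ hq]; linear_combination ih

variable {F : Type*} [Field F] [Fintype F]

theorem exists_klein : ∃ φ : SpecialLinearGroup (Fin 4) F →* ((Fin 3 ⊕ Fin 3 → F) ≃ₗ[F] (Fin 3 ⊕ Fin 3 → F)),
    (∀ g, φ g ∈ (plusForm 3 F).isom) ∧ ∃ g v, ∀ c : F, φ g v ≠ c • v := by
  let j : (Fin 3 ⊕ Fin 3 → F) →ₗ[F] Matrix (Fin 4) (Fin 4) F :=
    { toFun := fun v => alt4 (v (.inl 0)) (v (.inl 1)) (v (.inl 2)) (v (.inr 2)) (-v (.inr 1)) (v (.inr 0))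
      map_add' := fun u v => by simp [← alt4_add, add_comm]
      map_smul' := fun c v => by simp [← alt4_smul] }
  have hjv : ∀ v, j v = alt4 (v (.inl 0)) (v (.inl 1)) (v (.inl 2)) (v (.inr 2)) (-v (.inr 1))
    (v (.inr 0)) := fun _ => rfl
  have hj : Function.Injective j := by
    intro v w h
    obtain ⟨h1, h2, h3, h4, h5, h6⟩ := alt4_inj.1 h
    ext (i | i) <;> fin_cases i <;> simp_all
  obtain ⟨φ, hφ⟩ := exists_sandwich (G := SpecialLinearGroup (Fin 4) F) j hj (fun g => g.1)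
    (fun g => g.1ᵀ) rfl (by simp) (fun _ _ => rfl) (fun g h => transpose_mul _ _) (fun g v => by
      rw [hjv v, sand_alt4]
      exact ⟨Sum.elim ![_, _, _] ![_, -_, _], by
        rw [hjv]; simp only [Sum.elim_inl, Sum.elim_inr]; exact alt4_inj.2 ⟨rfl, rfl, rfl, rfl, neg_neg _, rfl⟩⟩)
  refine ⟨φ, fun g => ?_, ⟨!![1, 0, 0, 0; 0, 1, 0, 0; 1, 0, 1, 0; 0, 0, 0, 1], by simp [det_four]⟩,
    Pi.single (.inl 0) 1, fun c hc => ?_⟩
  · rw [Form.orth_mem_isom]
    intro v
    have h := hφ g v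
    rw [hjv, hjv, sand_alt4, alt4_inj] at h
    obtain ⟨h1, h2, h3, h4, h5, h6⟩ := h
    have h7 := pf_sand g.1 (v (.inl 0)) (v (.inl 1)) (v (.inl 2)) (v (.inr 2)) (-v (.inr 1)) (v (.inr 0))
    rw [← h1, ← h2, ← h3, ← h4, ← h5, ← h6, g.2] at h7
    simp only [plusForm_Q, Cfsg.quadFormPlus, Fin.sum_univ_three]
    linear_combination h7
  · have h := hφ ⟨!![1, 0, 0, 0; 0, 1, 0, 0; 1, 0, 1, 0; 0, 0, 0, 1], by simp [det_four]⟩ (Pi.single (.inl 0) 1)
    rw [hc, hjv, hjv, sand_alt4, alt4_inj] at h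
    simpa [wd] using h.2.2.2.1

universe u
theorem plus_bound (hq : 4 ≤ Fintype.card F) (j : ℕ) : ∀ {M : Type u} [AddCommGroup M] [Module F M] [Fintype M]
    {S : Form (orthParam F) M}, S.Nondeg → S.IsPlus → finrank F M = 2 * (j + 3) → ∀ {V : Type} [AddCommGroup V] [Module ℂ V]
    [FiniteDimensional ℂ V] (σ : Representation ℂ S.om V), (∃ g, σ g ≠ 1) → dP (Fintype.card F) j ≤ finrank ℂ V := by
  induction j with
  | zero =>
    intro M _ _ _ S hS hp hd V _ _ _ σ ⟨g, hg⟩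
    obtain ⟨e, he⟩ := hS.exists_isom_plus hp hd
    obtain ⟨φ, h1, x, v, h2⟩ := exists_klein (F := F)
    have hS' := plusForm_nondeg (F := F) 3
    have hG : (plusForm 3 F).Gen := Or.inl (Or.inr (by rw [finrank_sp]; omega))
    have hc := commutator_SL (ι := Fin 4) (F := F) (.inl (by simp))
    let φ' := φ.codRestrict _ (hG.hom_mem_om hS' φ h1 (hom_units_of_perfect hc))
    let E : S.om ≃* (plusForm 3 F).om := ((conjEquiv e).subgroupMap _).trans (MulEquiv.subgroupCongr he.map_om)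
    haveI := isSimple_PSL (ι := Fin 4) (F := F) (Or.inl (by simp))
    refine deg_ge (fun k ρ hρ ⟨a, ha⟩ => ?a) (σ.comp (E.symm.toMonoidHom.comp φ')) (not_forall.1 fun h => ?b)
    case a =>
      have := (Cfsg.Agent.S2332.result 4 (by omega) (by simp only [ne_eq, Prod.mk.injEq]; omega)).1 k ρ hρ (by
        by_contra h3
        obtain ⟨l, hl⟩ := CfsgH3.Cfsg.IsCharacter.exists_hom_of_deg_one (CfsgH3.isCharacter_rep ρ) (by
          obtain ⟨_, h4, h5⟩ := CfsgH3.Cfsg.IsIrrCharacter.exists_deg ⟨k, ρ, hρ, rfl⟩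
          simp only [Representation.char_one, finrank_fin_fun, Nat.cast_inj] at h5 ⊢
          exact_mod_cast (show k = 1 by omega))
        refine ha (CfsgH3.rep_trivial_of_char_const ρ (fun y => ?_) a)
        have h6 : ∀ y, l y = 1 := fun y => Abelianization.commutator_subset_ker l (hc ▸ trivial)
        rw [← ρ.char_one, hl]; simp [h6])
      refine le_trans (le_of_eq ?_) this
      obtain ⟨r, hr⟩ : ∃ r, Fintype.card F = r + 1 := ⟨_, (Nat.sub_add_cancel (by omega)).symm⟩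
      rw [hr, Nat.add_sub_cancel, dP]
      exact (Nat.div_eq_of_eq_mul_left (by omega) (Nat.sub_eq_of_eq_add (by ring))).symm
    case b =>
      obtain ⟨i⟩ := exists_omega_six_plus (F := F)
      rcases qs_normal (G := (plusForm 3 F).om) (by
        rw [← Subgroup.map_subtype_inj, commutator_def, Subgroup.map_commutator, ← MonoidHom.range_eq_map,
          Subgroup.range_subtype, hS'.om_perfect (by rw [finrank_sp]; omega)]) i.isSimpleGroup
        (σ.comp E.symm.toMonoidHom).ker with h3 | h3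
      · obtain ⟨c, h4⟩ := (hG.mem_center hS' (by rw [finrank_sp]; omega)).1 (h3 (h x : φ' x ∈ _))
        exact h2 c (h4 v)
      · exact hg (by simpa using (h3 ▸ trivial : E g ∈ (σ.comp E.symm.toMonoidHom).ker))
  | succ j ih =>
    intro M _ _ _ S hS hp hd V _ _ _ σ hσ
    haveI : Finite (M ≃ₗ[F] M) := Finite.of_injective _ DFunLike.coe_injective
    refine deg_ge (fun k ρ hρ hn => ?_) σ hσ
    obtain ⟨e, f, h⟩ := hS.exists_isHyp (by omega)
    let D : OD S (Fin k → ℂ) := ⟨hS, (hS.om_eq_EG_of_five (by omega)).ge, e, f, h, ρ, _,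
      AddChar.FiniteField.primitiveChar_to_Complex_isPrimitive F⟩
    have h3 : finrank F D.W + 2 = _ := hS.finrank_perp_hyp h
    have hq' : (4 : ℤ) ≤ Fintype.card F := by exact_mod_cast hq
    have d1 := dP_eq (show 1 ≤ Fintype.card F by omega) (j + 1)
    rcases D.step hρ hn (by omega) hq with h1 | ⟨h1, h2⟩
    · rw [show finrank F M - 4 = 2 * (j + 2) by omega] at h1
      zify [show 1 ≤ Fintype.card F by omega] at h1 ⊢
      refine le_of_mul_le_mul_left (a := (Fintype.card F : ℤ) ^ 2 - 1) ?_ (by nlinarith)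
      refine le_trans ?_ (mul_le_mul_of_nonneg_left h1 (by nlinarith))
      have h4 : (Fintype.card F : ℤ) ^ 1 ≤ Fintype.card F ^ (j + 2) := pow_le_pow_right₀ (by omega) (by omega)
      rw [d1, pow_mul', pow_succ _ (j + 3), pow_succ _ (j + 2)]
      generalize (Fintype.card F : ℤ) ^ (j + 2) = x at *
      generalize (Fintype.card F : ℤ) = q at *
      have h5 : 0 ≤ x ^ 2 * q ^ 2 * (q - 4) := by have : 0 ≤ q - 4 := by omega
                                                  positivity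
      nlinarith [mul_nonneg (mul_nonneg (show 0 ≤ x by nlinarith) (show 0 ≤ x - q by nlinarith)) (show 0 ≤ q ^ 3 by positivity)]
    obtain ⟨τ, hτ⟩ := D.nontriv (by omega) hq h1
    have h4 := ih D.ndW ((h.isPlus_perp_iff hS).2 hp) (by omega) τ hτ
    have h5 := D.ndW.card_sing_even (m := j + 2) (by omega)
    have h6 := hS.card_sing_even (m := j + 3) (by omega)
    rw [tp_eq_one_iff.2 ((h.isPlus_perp_iff hS).2 hp)] at h5
    rw [tp_eq_one_iff.2 hp] at h6
    simp only [Nat.card_eq_fintype_card (α := F), Units.val_one, show j + 2 + 1 = j + 3 from rfl] at h5 h6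
    by_contra h7
    have h8 : (k : ℤ) + 1 = dP (Fintype.card F) (j + 1) := by
      simp only [dP] at h7 ⊢
      zify [Nat.one_le_pow (j + 3) _ (show 0 < Fintype.card F by omega)] at h2 h4 h7 ⊢
      rw [h5] at h2
      omega
    have h9 := D.dvd_deg hρ (by rintro rfl; obtain ⟨g, hg⟩ := hn; exact hg (Subsingleton.elim _ _)) (by omega) h1
    rw [← mul_assoc, ← Int.natCast_dvd_natCast] at h9
    push_cast at h9
    rw [← h8, pow_succ' _ (j + 3)] at d1
    have h10 : IsCoprime (k : ℤ) (Fintype.card F) := ⟨(Fintype.card F : ℤ) ^ 2 - 1, Fintype.card F - (Fintype.card F *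
      Fintype.card F ^ (j + 3) - 1) * (Fintype.card F ^ (j + 2) + 1), by linear_combination d1⟩
    have h11 := ((h10.pow_right).dvd_of_dvd_mul_right h9).mul_left (Fintype.card F)
    refine ow_arith hq' (show 3 ≤ j + 3 by omega) d1 ?_
    have h12 := h11.sub (dvd_mul_left (k : ℤ) ((Fintype.card F ^ 2 - 1) * ((Fintype.card F ^ (j + 3)) ^ 2 - 1)))
    refine h12.trans (dvd_of_eq ?_)
    rw [h5, h6]
    linear_combination -((Fintype.card F ^ (j + 3) : ℤ) ^ 2 - 1) * d1

end CfsgH8
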