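import Cfsg.Agent.H8.CRE1
import Cfsg.Agent.H8.AutO3
import Cfsg.Agent.H6.Aut2

/-! The outer automorphism group of the Chevalley group of type `D₄`. -/

set_option autoImplicit false

namespace CfsgH8

open Finset Cfsg CfsgH6 CfsgH6.PreSt CfsgH6.Chev Cfsg.Lie CfsgH5

theorem out_equiv_of_equiv {G H : Type*} [Group G] [Group H] (e : G ≃* H) : Nonempty (Out G ≃* Out H) :=
  ⟨QuotientGroup.congr _ _ (MulAut.congr e) (by
    ext φ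
    constructor
    · rintro ⟨_, ⟨g, rfl⟩, rfl⟩
      exact ⟨e g, by ext x; simp⟩
    · rintro ⟨g, rfl⟩
      exact ⟨_, ⟨e.symm g, rfl⟩, by ext x; simp⟩)⟩

theorem out_equiv_of_rel {G B : Type*} [Group G] [Group B] (R : MulAut G → B → Prop)
    (h1 : ∀ θ, ∃ x b, R (MulAut.conj x * θ) b) (h2 : ∀ a a' b b', R a b → R a' b' → R (a * a') (b * b'))
    (h3 : ∀ b, ∃ a, R a b) (h4 : ∀ a b, R a b → (b = 1 ↔ a ∈ Inn G)) : Nonempty (Out G ≃* B) := by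
  have h5 : ∀ o : Out G, ∃ b, ∃ a : MulAut G, (a : Out G) = o ∧ R a b := fun o => by
    obtain ⟨θ, rfl⟩ := QuotientGroup.mk_surjective o
    obtain ⟨x, b, h⟩ := h1 θ
    exact ⟨b, _, by rw [QuotientGroup.mk_mul, (QuotientGroup.eq_one_iff (N := Inn G) _).2 ⟨x, rfl⟩, one_mul], h⟩
  have h6 : ∀ a a' b b', R a b → R a' b' → (a : Out G) = a' → b = b' := fun a a' b b' e1 e2 e => by
    obtain ⟨c, a'', e3, e4⟩ := h5 (a : Out G)⁻¹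
    have f1 := (h4 _ _ (h2 _ _ _ _ e1 e4)).2 ((QuotientGroup.eq_one_iff _).1 (by simp [e3]))
    have f2 := (h4 _ _ (h2 _ _ _ _ e2 e4)).2 ((QuotientGroup.eq_one_iff _).1 (by simp [e3, e]))
    exact mul_right_cancel (f1.trans f2.symm)
  choose f a ha hR using h5
  refine ⟨MulEquiv.ofBijective (MonoidHom.mk' f fun o o' => h6 _ _ _ _ (hR _) (h2 _ _ _ _ (hR o) (hR o'))
    (by simp [ha])) ⟨(injective_iff_map_eq_one _).2 fun o h => ?_, fun b => ?_⟩⟩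
  · rw [← ha o]; exact (QuotientGroup.eq_one_iff _).2 ((h4 _ _ (hR o)).1 h)
  · obtain ⟨a', h⟩ := h3 b
    exact ⟨a', h6 _ _ _ _ (hR _) h (ha _)⟩

theorem sp_mul {I R : Type} [Fintype I] [DecidableEq I] {Φ : CD I R} {F : Type*} [Field F]
    {Γ : Type*} [Group Γ] {X : PreSt Φ F Γ} {θ θ' : MulAut Γ} {π π' : Equiv.Perm I} {c c' : I → Fˣ}
    {σ σ' : I → F ≃+* F} (h : X.SP θ π c σ) (h' : X.SP θ' π' c' σ') :
    X.SP ⇑(θ * θ') ⇑(π * π') (fun i => c (π' i) * Units.map (σ (π' i) : F →* F) (c' i)) fun i => σ (π' i) * σ' i :=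
  fun i t => by
    rw [MulAut.mul_apply, MulAut.mul_apply, (h' i t).1, (h' i t).2, (h _ _).1, (h _ _).2]
    constructor <;> congr 1 <;> simp [RingAut.mul_apply, mul_assoc, mul_left_comm]

section Good
variable {D : ChevalleyDatum} {g : Good D} {F : Type*} [Field F] [Finite F]

theorem sp_inn_iff {θ : MulAut (D.group F)} {π : Equiv.Perm (Fin D.rank)} {c σ} (h : (g.adjG F).SP θ π c σ) :
    θ ∈ Inn _ ↔ π = 1 ∧ (∀ i, σ i = 1) ∧ ∃ t : Fin D.rank → Fˣ, ∀ i, c i = ∏ j, t j ^ g.cd.C j i := by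
  have key : ∀ t, (g.adjG F).SP (MulAut.conj ((g.isStG F).hh (g.multG F) t)) (1 : Equiv.Perm (Fin D.rank))
      (fun i => ∏ j, t j ^ g.cd.C j i) fun _ => 1 := fun t i u => by
    simp [MulAut.conj_apply, IsSt.hh_conj, RS.A_sim_sim]
  constructor
  · rintro ⟨x, rfl⟩
    have := Good.conj_mem_stab.1 (Good.sp_mem h)
    rw [← (g.isStG F).range_hh (g.multG F)] at this
    obtain ⟨t, rfl⟩ := this
    obtain rfl : π = 1 := (g.isStG F).sp_unique h fun i => ⟨_, (key t i 1).1⟩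
    have h1 : ∀ i u, c i * σ i u = (∏ j, t j ^ g.cd.C j i : Fˣ) * u := fun i u =>
      ((g.isStG F).r1 i).inj ((h i u).1.symm.trans (key t i u).1)
    have h2 : ∀ i, c i = ∏ j, t j ^ g.cd.C j i := fun i => Units.ext (by simpa using h1 i 1)
    exact ⟨rfl, fun i => RingEquiv.ext fun u => mul_left_cancel₀ (c i).ne_zero ((h1 i u).trans (by rw [h2]; rfl)),
      t, h2⟩
  · rintro ⟨rfl, h1, t, h2⟩
    obtain rfl : c = _ := funext h2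
    obtain rfl : σ = _ := funext h1
    exact ⟨_, (g.isStG F).sp_ext (g.adjG_G F) (key t) h⟩

theorem exists_sp_of_gr {γ : MulAut (D.group F)} {π : Equiv.Perm (Fin D.rank)} {τ}
    (h : (g.adjG F).SP γ π 1 τ) (c) (σ : F ≃+* F) :
    ∃ θ : MulAut (D.group F), (g.adjG F).SP θ π c fun i => σ * τ i := by
  obtain ⟨d, f, -, -, h1⟩ := g.exists_df (fun i => c (π⁻¹ i)) σ
  exact ⟨d * f * γ, by simpa using sp_mul h1 h⟩

theorem sp_of_gr (ha : g.Adm F) {γ : MulAut (D.group F)} {π : Equiv.Perm (Fin D.rank)} {τ}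
    (h : (g.adjG F).SP γ π 1 τ) {θ : g.SA F} (hθ : g.pA F θ = π) :
    ∃ c, ∃ σ : F ≃+* F, (g.adjG F).SP θ.1 π c fun i => σ * τ i := by
  obtain ⟨c, σ, h1⟩ := ha.ker (θ := θ * (⟨γ, Good.sp_mem h⟩ : g.SA F)⁻¹) (by rw [map_mul, map_inv, Good.sp_pA h, hθ, mul_inv_cancel])
  exact ⟨_, σ, by simpa using sp_mul h1 h⟩

end Good

section D4
variable {F : Type*} [Field F] [Finite F]

theorem cartan_D4 (i j : Fin 4) : gD4.cd.C i j =
    (![![2, -1, 0, 0], ![-1, 2, -1, -1], ![0, -1, 2, 0], ![0, -1, 0, 2]] : Fin 4 → Fin 4 → ℤ) i j :=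
  (by decide +kernel : ∀ i j : Fin 4, chevD4.cartan i (chevD4.simple j) =
    (![![2, -1, 0, 0], ![-1, 2, -1, -1], ![0, -1, 2, 0], ![0, -1, 0, 2]] : Fin 4 → Fin 4 → ℤ) i j) i j

theorem chi_eq_iff (a b : Fˣ) : chi (a : F) = chi (b : F) ↔ ∃ s : Fˣ, a = s ^ 2 * b⁻¹ := by
  constructor
  · intro h
    obtain ⟨s, hs⟩ := chi_eq_one_iff.1 ((chi_mul a.ne_zero b.ne_zero).trans (by rw [h, Int.units_mul_self]))
    have h0 : s ≠ 0 := by rintro rfl; simp at hs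
    exact ⟨Units.mk0 s h0, Units.ext (by simp [sq, ← hs])⟩
  · rintro ⟨s, rfl⟩
    simp [chi_sq_mul, chi_inv]

theorem inner_D4 (c : Fin 4 → Fˣ) : (∃ t : Fin 4 → Fˣ, ∀ i, c i = ∏ j, t j ^ gD4.cd.C j i) ↔
    chi (c 0 : F) = chi (c 2 : F) ∧ chi (c 2 : F) = chi (c 3 : F) := by
  have e : ∀ t : Fin 4 → Fˣ, (∀ i, c i = ∏ j, t j ^ gD4.cd.C j i) ↔ c 0 = t 0 ^ 2 * (t 1)⁻¹ ∧
      c 1 = (t 0)⁻¹ * t 1 ^ 2 * (t 2)⁻¹ * (t 3)⁻¹ ∧ c 2 = t 2 ^ 2 * (t 1)⁻¹ ∧ c 3 = t 3 ^ 2 * (t 1)⁻¹ := fun t => by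
    simp [cartan_D4, Fin.forall_fin_succ, Fin.prod_univ_four, zpow_ofNat, mul_comm]
  simp only [e]
  constructor
  · rintro ⟨t, h0, -, h2, h3⟩
    rw [(chi_eq_iff _ _).2 ⟨_, h0⟩, (chi_eq_iff _ _).2 ⟨_, h2⟩, (chi_eq_iff _ _).2 ⟨_, h3⟩]
    exact ⟨rfl, rfl⟩
  · rintro ⟨h1, h2⟩
    obtain ⟨a, ha⟩ := (chi_eq_iff _ _).1 h1.symm
    obtain ⟨b, hb⟩ := (chi_eq_iff _ _).1 (h1.trans h2).symm
    refine ⟨![c 1 * a * b, (c 1 * a * b) ^ 2 / c 0, c 1 * a * b / c 0 * a, c 1 * a * b / c 0 * b], ?_⟩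
    simp only [Matrix.cons_val, ha, hb]
    refine ⟨?_, ?_, ?_, ?_⟩ <;> ext <;> push_cast <;> field_simp

theorem out_D4 {B : Type*} [Group B] (r : Equiv.Perm (Fin 4) → (Fin 4 → ℤˣ) → B → Prop)
    (h1 : ∀ π, π 1 = 1 → ∀ c : Fin 4 → Fˣ, ∃ b, r π (fun i => chi (c i : F)) b)
    (h2 : ∀ π π' s s' b b', π' 1 = 1 → r π s b → r π' s' b' → r (π * π') (fun i => s (π' i) * s' i) (b * b'))
    (h3 : ∀ b, ∃ π, π 1 = 1 ∧ ∃ c : Fin 4 → Fˣ, r π (fun i => chi (c i : F)) b)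
    (h4 : ∀ π (c : Fin 4 → Fˣ) b, π 1 = 1 → r π (fun i => chi (c i : F)) b →
      (b = 1 ↔ π = 1 ∧ chi (c 0 : F) = chi (c 2 : F) ∧ chi (c 2 : F) = chi (c 3 : F))) :
    Nonempty (Out (chevD4.group F) ≃* B × (F ≃+* F)) := by
  have k1 : ∀ π : Equiv.Perm (Fin 4), π 1 = 1 ↔ π ∈ ({1, f0132, f2103, f2130, f3102, f3120} :
    Finset (Equiv.Perm (Fin chevD4.rank))) := (by decide +kernel : ∀ π : Equiv.Perm (Fin chevD4.rank),
      π ⟨1, by decide⟩ = ⟨1, by decide⟩ ↔ π ∈ ({1, f0132, f2103, f2130, f3102, f3120} : Finset _))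
  have k2 : ∀ π : Equiv.Perm (Fin 4), π 1 = 1 → ∃ γ : MulAut (chevD4.group F),
      (gD4.adjG F).SP γ π 1 fun _ => 1 := fun π h => by
    obtain ⟨γ, h⟩ := admD4.range.1 ((mem_rangeD4 (F := F)).2 ((k1 π).1 h))
    exact ⟨γ, fun i t => by have := h.2 i t; simp [geD4] at this ⊢; exact this⟩
  refine out_equiv_of_rel (fun θ b => ∃ (π : Equiv.Perm (Fin 4)) (c : Fin 4 → Fˣ), π 1 = 1 ∧
    (gD4.adjG F).SP θ π c (fun _ => b.2) ∧ r π (fun i => chi (c i : F)) b.1) (fun θ => ?_) ?_ (fun b => ?_) ?_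
  · obtain ⟨x, hx⟩ := gD4.exists_stab θ
    have h := (k1 _).2 (mem_rangeD4.1 ⟨⟨_, hx⟩, rfl⟩)
    obtain ⟨γ, hγ⟩ := k2 _ h
    obtain ⟨c, σ, h'⟩ := sp_of_gr admD4 hγ rfl
    obtain ⟨b, hb⟩ := h1 _ h c
    exact ⟨x, (b, σ), _, c, h, h', hb⟩
  · rintro a a' b b' ⟨π, c, e1, e2, e3⟩ ⟨π', c', f1, f2, f3⟩
    refine ⟨π * π', _, by simp [e1, f1], sp_mul e2 f2, ?_⟩
    have := h2 _ _ _ _ _ _ f1 e3 f3
    simp [chi_mul, chi_map]
    exact this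
  · obtain ⟨π, e, c, h⟩ := h3 b.1
    obtain ⟨γ, hγ⟩ := k2 _ e
    obtain ⟨θ, hθ⟩ := exists_sp_of_gr hγ c b.2
    exact ⟨θ, π, c, e, hθ, h⟩
  · rintro a b ⟨π, c, e1, e2, e3⟩
    rw [sp_inn_iff e2, Prod.ext_iff, Prod.fst_one, h4 _ _ _ e1 e3, ← inner_D4]
    exact ⟨fun h => ⟨h.1.1, fun _ => h.2, h.1.2⟩, fun h => ⟨⟨h.1, h.2.2⟩, h.2.1 (0 : Fin 4)⟩⟩

/-- the Klein four-group -/
def kl4 (s : Fin 4 → ℤˣ) : Equiv.Perm (Fin 4) :=
  (if s 0 = 1 then 1 else Equiv.swap 1 0 * Equiv.swap 2 3) * (if s 2 = 1 then 1 else Equiv.swap 1 2 * Equiv.swap 0 3) *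
    if s 3 = 1 then 1 else Equiv.swap 1 3 * Equiv.swap 0 2

theorem out_D4_odd (h : (2 : F) ≠ 0) : Nonempty (Out (chevD4.group F) ≃* Equiv.Perm (Fin 4) × (F ≃+* F)) := by
  have k1 : ∀ π : Equiv.Perm (Fin 4), π 1 = 1 → ∀ s, kl4 s * π = π * kl4 fun i => s (π i) := by decide +kernel
  have k2 : ∀ s s', kl4 s * kl4 s' = kl4 fun i => s i * s' i := by decide +kernel
  have k3 : ∀ b : Equiv.Perm (Fin 4), ∃ s, (b * kl4 s) 1 = 1 ∧ kl4 s * kl4 s = 1 := by decide +kernel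
  have k4 : ∀ π : Equiv.Perm (Fin 4), π 1 = 1 → ∀ s, π * kl4 s = 1 ↔ π = 1 ∧ s 0 = s 2 ∧ s 2 = s 3 := by
    decide +kernel
  refine out_D4 (fun π s b => b = π * kl4 s) (fun _ _ _ => ⟨_, rfl⟩) ?_ (fun b => ?_) ?_
  · rintro π π' s s' _ _ e rfl rfl
    rw [mul_assoc, ← mul_assoc (kl4 s), k1 _ e, mul_assoc, k2, mul_assoc]
  · obtain ⟨s, e1, e2⟩ := k3 b
    choose c h0 hc using exists_chi_eq h
    exact ⟨_, e1, fun i => Units.mk0 _ (h0 (s i)), by simp [hc, mul_assoc, e2]⟩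
  · rintro π c _ e rfl
    exact k4 _ e _

theorem out_D4_even (h : (2 : F) = 0) : Nonempty (Out (chevD4.group F) ≃* Equiv.Perm (Fin 3) × (F ≃+* F)) := by
  let j := Equiv.Perm.extendDomainHom (finSuccAboveEquiv (1 : Fin 4))
  have k1 : ∀ π : Equiv.Perm (Fin 4), π 1 = 1 ↔ ∃ b, π = j b := by decide +kernel
  refine out_D4 (fun π _ b => π = j b) (fun π e _ => (k1 π).1 e) ?_ (fun b => ⟨_, (k1 _).2 ⟨b, rfl⟩, 1, rfl⟩) ?_
  · rintro _ _ _ _ b b' - rfl rfl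
    rw [map_mul]
  · rintro _ c b - rfl
    simp only [chi_of_two_eq_zero h, and_true]
    exact (map_eq_one_iff j (Equiv.Perm.extendDomainHom_injective _)).symm

end D4

end CfsgH8
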