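import Mathlib

set_option autoImplicit false

namespace CfsgH8

open Polynomial

/-- an abstract ping-pong lemma -/
theorem pingpong {G X M : Type*} [Group G] [MulAction G X] [AddCommGroup M] (A B : Set X)
    (U : M → G) (hadd : ∀ a b, U (a + b) = U a * U b) (good : M → Prop)
    (hgood : ∀ m, good m → ∀ x ∈ B, U m • x ∈ A) (y : G) (hy : ∀ x ∈ A, y • x ∈ B)
    (hy' : ∀ x ∈ A, y⁻¹ • x ∈ B) (p q : ℕ → M)
    (h1 : ∀ i j, good (q i + p j)) (h2 : ∀ i j, i ≠ j → good (q i + -q j))
    (h3 : ∀ i j, i ≠ j → good (-p i + p j)) (h4 : ∀ i j, good (-p i + -q j))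
    (h5 : ∀ i, good (p i)) (h6 : ∀ i, good (q i)) (h7 : ∀ i, good (-p i)) (h8 : ∀ i, good (-q i))
    (w : FreeGroup ℕ) (hw : w ≠ 1) (x : X) (hx : x ∈ B) :
    FreeGroup.lift (fun i => U (p i) * y * U (q i)) w • x ∈ A := by
  have hzero : U 0 = 1 := by
    have := hadd 0 0
    rw [add_zero] at this
    exact (mul_eq_left.1 this.symm)
  have hneg : ∀ a, (U a)⁻¹ = U (-a) := by
    intro a
    rw [inv_eq_iff_mul_eq_one, ← hadd, add_neg_cancel, hzero]
  let l : ℕ × Bool → M := fun a => cond a.2 (p a.1) (-q a.1)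
  let r : ℕ × Bool → M := fun a => cond a.2 (q a.1) (-p a.1)
  let z : ℕ × Bool → G := fun a => cond a.2 y y⁻¹
  have hz : ∀ a, ∀ x ∈ A, z a • x ∈ B := by
    rintro ⟨i, b⟩; cases b
    · exact hy'
    · exact hy
  have hlet : ∀ a : ℕ × Bool, cond a.2 (U (p a.1) * y * U (q a.1)) (U (p a.1) * y * U (q a.1))⁻¹ =
      U (l a) * z a * U (r a) := by
    rintro ⟨i, b⟩; cases b
    · simp [l, r, z, hneg, mul_assoc]
    · rfl
  have key : ∀ (L : List (ℕ × Bool)) (a : ℕ × Bool), FreeGroup.IsReduced (a :: L) →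
      ∃ v ∈ B, ((a :: L).map fun a => U (l a) * z a * U (r a)).prod • x = U (l a) • v := by
    intro L
    induction L with
    | nil =>
      intro a _
      refine ⟨z a • U (r a) • x, hz a _ (hgood _ ?_ _ hx), by simp [mul_smul]⟩
      obtain ⟨i, b⟩ := a
      cases b
      · exact h7 i
      · exact h6 i
    | cons b L ih =>
      intro a hab
      rw [FreeGroup.isReduced_cons_cons] at hab
      obtain ⟨v, hv, hv2⟩ := ih b hab.2
      refine ⟨z a • U (r a + l b) • v, hz a _ (hgood _ ?_ _ hv), ?_⟩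
      · obtain ⟨i, c⟩ := a
        obtain ⟨j, d⟩ := b
        have h := hab.1
        cases c <;> cases d
        · exact h4 i j
        · exact h3 i j (by simpa using h)
        · exact h2 i j (by simpa using h)
        · exact h1 i j
      · rw [List.map_cons, List.prod_cons, mul_smul, hv2, hadd]
        simp only [mul_smul]
  have hred : FreeGroup.IsReduced w.toWord := FreeGroup.isReduced_toWord
  have hne : w.toWord ≠ [] := by rwa [Ne, FreeGroup.toWord_eq_nil_iff]
  rw [← FreeGroup.mk_toWord (x := w), FreeGroup.lift_mk]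
  obtain ⟨a, L, hL⟩ := List.exists_cons_of_ne_nil hne
  rw [hL] at hred ⊢
  obtain ⟨v, hv, hv2⟩ := key L a hred
  simp only [hlet]
  rw [hv2]
  refine hgood _ ?_ _ hv
  obtain ⟨i, b⟩ := a
  cases b
  · exact h8 i
  · exact h5 i

theorem map_lift {G H : Type*} [Group G] [Group H] (φ : G →* H) (f : ℕ → G) (w : FreeGroup ℕ) :
    φ (FreeGroup.lift f w) = FreeGroup.lift (fun i => φ (f i)) w :=
  FreeGroup.lift_unique (φ.comp (FreeGroup.lift f)) (by simp)

open Matrix.SpecialLinearGroup in
/-- generic free generators in `SL₂` -/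
def sl2gen {R : Type*} [CommRing R] (t : R) (i : ℕ) : Matrix.SpecialLinearGroup (Fin 2) R :=
  transvection (i := 0) (j := 1) (by decide) (t ^ (2 * i)) * transvection (i := 1) (j := 0) (by decide) t *
    transvection (i := 0) (j := 1) (by decide) (t ^ (2 * i + 1))

theorem map_transvection {R S : Type*} [CommRing R] [CommRing S] (φ : R →+* S) {ι : Type*} [Fintype ι]
    [DecidableEq ι] {i j : ι} (hij : i ≠ j) (t : R) :
    Matrix.SpecialLinearGroup.map φ (Matrix.SpecialLinearGroup.transvection hij t) =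
      Matrix.SpecialLinearGroup.transvection hij (φ t) := by
  ext a b
  simp [Matrix.SpecialLinearGroup.transvection_coe, Matrix.one_apply, Matrix.single_apply]
  split_ifs <;> simp

theorem map_sl2gen {R S : Type*} [CommRing R] [CommRing S] (φ : R →+* S) (t : R) (i : ℕ) :
    Matrix.SpecialLinearGroup.map φ (sl2gen t i) = sl2gen (φ t) i := by
  simp only [sl2gen, map_mul, map_transvection, map_pow]

theorem X_pow_add_ne_zero {F : Type*} [Field F] {a b : ℕ} (h : a ≠ b) (c d : F[X])
    (hc : c = X ^ a ∨ c = -X ^ a) (hd : d = X ^ b ∨ d = -X ^ b) : c + d ≠ 0 := by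
  intro h0
  have := congrArg (fun f => Polynomial.coeff f a) h0
  rcases hc with rfl | rfl <;> rcases hd with rfl | rfl <;> simp [coeff_X_pow, h] at this

theorem sl2gen_entry_ne_zero (F : Type*) [Field F] (w : FreeGroup ℕ) (hw : w ≠ 1) :
    (FreeGroup.lift (sl2gen (X : F[X])) w) 0 1 ≠ 0 := by
  have hy : ∀ c : F[X], c.degree = 1 → ∀ x ∈ {v : Fin 2 → F[X] | v 0 ≠ 0 ∧ (v 1).degree ≤ (v 0).degree},
      Matrix.SpecialLinearGroup.transvection (i := (1 : Fin 2)) (j := 0) (by decide) c • x ∈
        {v : Fin 2 → F[X] | (v 0).degree < (v 1).degree} := by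
    rintro c hc v ⟨h1, h2⟩
    have hlt : (v 0).degree < (c * v 0).degree := by
      rw [degree_mul, hc, degree_eq_natDegree h1]
      norm_cast; omega
    simp only [Set.mem_ofPred_eq, Matrix.SpecialLinearGroup.smul_def,
      Matrix.SpecialLinearGroup.transvection_coe, Matrix.add_mulVec, Matrix.one_mulVec,
      Matrix.single_mulVec, Pi.add_apply, Matrix.smul_eq_mulVec]
    simp only [Fin.isValue, ne_eq, zero_ne_one, not_false_eq_true, Function.update_of_ne,
      Pi.zero_apply, add_zero, Function.update_self]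
    rw [degree_add_eq_right_of_degree_lt (h2.trans_lt hlt)]
    exact hlt
  have := pingpong (G := Matrix.SpecialLinearGroup (Fin 2) F[X]) (X := Fin 2 → F[X]) (M := F[X])
    {v | v 0 ≠ 0 ∧ (v 1).degree ≤ (v 0).degree} {v | (v 0).degree < (v 1).degree}
    (fun c => Matrix.SpecialLinearGroup.transvection (i := 0) (j := 1) (by decide) c)
    (fun a b => Matrix.SpecialLinearGroup.transvection_add _ a b) (fun c => c ≠ 0) ?_
    (Matrix.SpecialLinearGroup.transvection (i := 1) (j := 0) (by decide) X) (hy _ degree_X)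
    (by rw [Matrix.SpecialLinearGroup.transvection_inv]; exact hy _ (by simp))
    (fun i => X ^ (2 * i)) (fun i => X ^ (2 * i + 1))
    (fun i j => X_pow_add_ne_zero (by omega) _ _ (Or.inl rfl) (Or.inl rfl))
    (fun i j h => X_pow_add_ne_zero (by omega) _ _ (Or.inl rfl) (Or.inr rfl))
    (fun i j h => X_pow_add_ne_zero (by omega) _ _ (Or.inr rfl) (Or.inl rfl))
    (fun i j => X_pow_add_ne_zero (by omega) _ _ (Or.inr rfl) (Or.inr rfl))
    (fun i => by simp) (fun i => by simp) (fun i => by simp) (fun i => by simp) w hw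
    (Pi.single 1 1) (by simp)
  · have h := this.1
    rw [Matrix.SpecialLinearGroup.smul_def, Matrix.smul_eq_mulVec, Matrix.mulVec_single_one] at h
    exact h
  · intro c hc v hv
    have hv1 : v 1 ≠ 0 := by
      rintro h
      simp [h] at hv
    have hle : (v 1).degree ≤ (c * v 1).degree := by
      rw [degree_mul, degree_eq_natDegree hv1, degree_eq_natDegree hc]
      norm_cast; omega
    simp only [Set.mem_ofPred_eq, Matrix.SpecialLinearGroup.smul_def,
      Matrix.SpecialLinearGroup.transvection_coe, Matrix.add_mulVec, Matrix.one_mulVec,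
      Matrix.single_mulVec, Pi.add_apply, Matrix.smul_eq_mulVec]
    simp only [Fin.isValue, ne_eq, one_ne_zero, not_false_eq_true, Function.update_of_ne,
      Pi.zero_apply, add_zero, Function.update_self]
    have hd := degree_add_eq_right_of_degree_lt (lt_of_lt_of_le hv hle)
    refine ⟨?_, hd ▸ hle⟩
    intro h
    rw [h] at hd
    have : c * v 1 = 0 := degree_eq_bot.1 hd.symm
    exact mul_ne_zero hc hv1 this

/-- a nontrivial word is not central in `SL₂` over large enough finite fields -/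
theorem sl2_not_law.{u} (w : FreeGroup ℕ) (hw : w ≠ 1) : ∃ N : ℕ, ∀ (F : Type u) [Field F] [Fintype F],
    N ≤ Fintype.card F → ∃ f : ℕ → Matrix.SpecialLinearGroup (Fin 2) F,
      FreeGroup.lift f w ∉ Subgroup.center (Matrix.SpecialLinearGroup (Fin 2) F) := by
  set P : ℤ[X] := (FreeGroup.lift (sl2gen (X : ℤ[X])) w) 0 1 with hP
  refine ⟨P.natDegree + 1, fun F _ _ hF => ?_⟩
  have h1 : (FreeGroup.lift (sl2gen (X : F[X])) w) 0 1 = P.map (Int.castRingHom F) := by
    have := map_lift (Matrix.SpecialLinearGroup.map (Polynomial.mapRingHom (Int.castRingHom F)))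
      (sl2gen (X : ℤ[X])) w
    simp only [map_sl2gen, coe_mapRingHom, map_X] at this
    rw [← this]
    rfl
  have h2 := sl2gen_entry_ne_zero F w hw
  have h3 : ∃ a : F, eval a ((FreeGroup.lift (sl2gen (X : F[X])) w) 0 1) ≠ 0 := by
    by_contra hcon
    push Not at hcon
    refine h2 (eq_zero_of_natDegree_lt_card_of_eval_eq_zero _ Function.injective_id hcon ?_)
    rw [h1]
    exact lt_of_le_of_lt natDegree_map_le hF
  obtain ⟨a, ha⟩ := h3
  refine ⟨sl2gen a, fun hc => ha ?_⟩
  have := map_lift (Matrix.SpecialLinearGroup.map (Polynomial.evalRingHom a)) (sl2gen (X : F[X])) w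
  simp only [map_sl2gen, coe_evalRingHom, eval_X] at this
  rw [Matrix.SpecialLinearGroup.mem_center_iff] at hc
  obtain ⟨r, -, hr⟩ := hc
  have h4 := congrFun (congrFun hr 0) 1
  have h5 : (FreeGroup.lift (sl2gen a) w) 0 1 = 0 := by
    rw [← h4]; simp
  rw [← this] at h5
  exact h5

/-- laws modulo the centre pass to subgroups -/
theorem exists_not_center_of_injective {H X : Type*} [Group H] [Group X] (φ : H →* X)
    (hφ : Function.Injective φ) {w : FreeGroup ℕ}
    (h : ∃ f : ℕ → H, FreeGroup.lift f w ∉ Subgroup.center H) :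
    ∃ f : ℕ → X, FreeGroup.lift f w ∉ Subgroup.center X := by
  obtain ⟨f, hf⟩ := h
  refine ⟨fun i => φ (f i), fun hc => hf ?_⟩
  rw [← map_lift] at hc
  rw [Subgroup.mem_center_iff] at hc ⊢
  intro g
  apply hφ
  rw [map_mul, map_mul, hc]

theorem exists_quotient_center_not_law {X : Type*} [Group X] {w : FreeGroup ℕ}
    (h : ∃ f : ℕ → X, FreeGroup.lift f w ∉ Subgroup.center X) :
    ∃ f : ℕ → X ⧸ Subgroup.center X, FreeGroup.lift f w ≠ 1 := by
  obtain ⟨f, hf⟩ := h
  refine ⟨fun i => QuotientGroup.mk' _ (f i), fun hc => hf ?_⟩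
  rw [← map_lift] at hc
  exact (QuotientGroup.eq_one_iff _).1 hc

theorem exists_not_law_of_injective {H X : Type*} [Group H] [Group X] (φ : H →* X)
    (hφ : Function.Injective φ) {w : FreeGroup ℕ}
    (h : ∃ f : ℕ → H, FreeGroup.lift f w ≠ 1) : ∃ f : ℕ → X, FreeGroup.lift f w ≠ 1 := by
  obtain ⟨f, hf⟩ := h
  refine ⟨fun i => φ (f i), fun hc => hf ?_⟩
  rw [← map_lift] at hc
  exact hφ (by rw [hc, map_one])

end CfsgH8
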