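import Mathlib

set_option autoImplicit false

namespace CfsgH8
open Matrix

/-- certificate that a `2 × 2` matrix group is regular on the non-zero vectors -/
theorem reg_of_cert {p : ℕ} [Fact p.Prime] (S : Set (GL (Fin 2) (ZMod p)))
    (b d : ZMod p → ZMod p → ZMod p) (r : ZMod p → ZMod p → ℕ)
    (L : List (ZMod p × ZMod p × ZMod p × ZMod p))
    (hL : ∀ s ∈ S, (s 0 0, s 0 1, s 1 0, s 1 1) ∈ L)
    (hL' : ∀ l ∈ L, ∃ s ∈ S, (s 0 0, s 0 1, s 1 0, s 1 1) = l)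
    (h1 : b 1 0 = 0 ∧ d 1 0 = 1)
    (h : ∀ a c, (a = 0 ∧ c = 0) ∨
      (∀ l ∈ L, b (l.1 * a + l.2.1 * c) (l.2.2.1 * a + l.2.2.2 * c) = l.1 * b a c + l.2.1 * d a c ∧
        d (l.1 * a + l.2.1 * c) (l.2.2.1 * a + l.2.2.2 * c) = l.2.2.1 * b a c + l.2.2.2 * d a c) ∧
      ((a = 1 ∧ c = 0) ∨ ((a - 1) * (d a c - 1) - b a c * c ≠ 0 ∧
        ∃ l ∈ L, r (l.1 * a + l.2.1 * c) (l.2.2.1 * a + l.2.2.2 * c) < r a c))) :
    Nat.card (Subgroup.closure S) = p ^ 2 - 1 ∧ ∀ v w : Fin 2 → ZMod p, v ≠ 0 → w ≠ 0 →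
      ∃! h : Subgroup.closure S, ((h : GL (Fin 2) (ZMod p)) : Matrix (Fin 2) (Fin 2) (ZMod p)) *ᵥ v = w := by
  have hinv : ∀ (g : GL (Fin 2) (ZMod p)) v, (g⁻¹ : GL (Fin 2) (ZMod p)).1 *ᵥ g.1 *ᵥ v = v :=
    fun g v => by rw [mulVec_mulVec, Units.inv_mul, one_mulVec]
  have hne : ∀ (g : GL (Fin 2) (ZMod p)) v, v ≠ 0 → (g : Matrix (Fin 2) (Fin 2) (ZMod p)) *ᵥ v ≠ 0 :=
    fun g v hv h => hv (by
      have := congrArg ((g⁻¹ : GL (Fin 2) (ZMod p)).1 *ᵥ ·) h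
      simpa only [hinv, mulVec_zero] using this)
  have hcol : ∀ g : GL (Fin 2) (ZMod p), ¬ (g 0 0 = 0 ∧ g 1 0 = 0) := fun g hg =>
    hne g (Pi.single 0 1) (by simp) (by ext i; fin_cases i <;> simp [hg])
  have hQ : ∀ g ∈ Subgroup.closure S, g 0 1 = b (g 0 0) (g 1 0) ∧ g 1 1 = d (g 0 0) (g 1 0) := by
    intro g hg
    rw [← Subgroup.mem_toSubmonoid, Subgroup.closure_toSubmonoid_of_finite] at hg
    induction hg using Submonoid.closure_induction_left with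
    | one => simp [h1]
    | mul_left s hs g _ ih =>
      have := ((h _ _).resolve_left (hcol g)).1 _ (hL s hs)
      simp [Matrix.mul_apply, Fin.sum_univ_two, this, ← ih.1, ← ih.2]
  have hsemi : ∀ g ∈ Subgroup.closure S, ∀ v, v ≠ 0 → (g : Matrix (Fin 2) (Fin 2) (ZMod p)) *ᵥ v = v →
      g = 1 := fun g hg v hv hgv => by
    obtain ⟨h2, h3⟩ := hQ g hg
    rcases ((h _ _).resolve_left (hcol g)).2 with h4 | h4
    · ext i j
      fin_cases i <;> fin_cases j <;> simp [h2, h3, h4, h1]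
    · refine absurd ?_ h4.1
      have := Matrix.exists_mulVec_eq_zero_iff.1 ⟨v, hv, show ((g : Matrix (Fin 2) (Fin 2) (ZMod p)) - 1) *ᵥ v = 0
        by rw [sub_mulVec, hgv, one_mulVec, sub_self]⟩
      simpa [det_fin_two, ← h2, ← h3] using this
  have htr : ∀ n, ∀ v : Fin 2 → ZMod p, v ≠ 0 → r (v 0) (v 1) = n → ∃ g ∈ Subgroup.closure S,
      (g : Matrix (Fin 2) (Fin 2) (ZMod p)) *ᵥ v = Pi.single 0 1 := by
    intro n
    induction n using Nat.strong_induction_on with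
    | _ n ih =>
    intro v hv hr
    rcases ((h (v 0) (v 1)).resolve_left fun h => hv (by ext i; fin_cases i <;> simp [h])).2 with h4 | h4
    · exact ⟨1, one_mem _, by ext i; fin_cases i <;> simp [h4]⟩
    obtain ⟨-, l, hl, h4⟩ := h4
    obtain ⟨s, hs, rfl⟩ := hL' l hl
    obtain ⟨g, hg, h5⟩ := ih _ (hr ▸ h4) _ (hne s v hv) (by simp [mulVec, dotProduct, Fin.sum_univ_two])
    exact ⟨g * s, mul_mem hg (Subgroup.subset_closure hs), by rwa [Units.val_mul, ← mulVec_mulVec]⟩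
  have main : ∀ v w : Fin 2 → ZMod p, v ≠ 0 → w ≠ 0 → ∃! h : Subgroup.closure S,
      ((h : GL (Fin 2) (ZMod p)) : Matrix (Fin 2) (Fin 2) (ZMod p)) *ᵥ v = w := by
    intro v w hv hw
    obtain ⟨g, hg, h2⟩ := htr _ v hv rfl
    obtain ⟨u, hu, h3⟩ := htr _ w hw rfl
    refine existsUnique_of_exists_of_unique ⟨⟨u⁻¹ * g, mul_mem (inv_mem hu) hg⟩, ?_⟩ fun x y hx hy => ?_
    · simp only [Units.val_mul, ← mulVec_mulVec, h2, ← h3, hinv]
    · refine Subtype.ext (inv_mul_eq_one.1 (hsemi _ (mul_mem (inv_mem x.2) y.2) v hv ?_))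
      rw [Units.val_mul, ← mulVec_mulVec, hy, ← hx, hinv]
  refine ⟨?_, main⟩
  rw [Nat.card_congr (Equiv.ofBijective (fun g : Subgroup.closure S => (⟨_, hne g (Pi.single 0 1)
    (by simp)⟩ : {v : Fin 2 → ZMod p // v ≠ 0})) ⟨fun x y h => (main _ _ (by simp) (hne x _ (by simp))).unique
      rfl (congrArg Subtype.val h).symm, fun w => by
        obtain ⟨g, hg, -⟩ := main (Pi.single 0 1) w (by simp) w.2
        exact ⟨g, Subtype.ext hg⟩⟩)]
  simp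

def rcTb (T a c : ℕ) : ℕ := Nat.mod (Nat.shiftRight T (Nat.mul 6 (Nat.add (Nat.mul 64 a) c))) 64

def rcLin (p x y a c : ℕ) : ℕ := Nat.mod (Nat.add (Nat.mul x a) (Nat.mul y c)) p

def rcChk (p B D R : ℕ) (L : List (ℕ × ℕ × ℕ × ℕ)) : Bool :=
  (List.range p).all fun a => (List.range p).all fun c =>
    (Nat.beq a 0 && Nat.beq c 0) ||
    ((L.all fun l =>
      Nat.beq (rcTb B (rcLin p l.1 l.2.1 a c) (rcLin p l.2.2.1 l.2.2.2 a c))
        (rcLin p l.1 l.2.1 (rcTb B a c) (rcTb D a c)) &&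
      Nat.beq (rcTb D (rcLin p l.1 l.2.1 a c) (rcLin p l.2.2.1 l.2.2.2 a c))
        (rcLin p l.2.2.1 l.2.2.2 (rcTb B a c) (rcTb D a c))) &&
    ((Nat.beq a 1 && Nat.beq c 0) ||
      (!(Nat.beq (rcLin p a 1 (rcTb D a c) 1) (rcLin p (rcTb B a c) 1 c (a + rcTb D a c))) &&
        L.any fun l => Nat.blt (rcTb R (rcLin p l.1 l.2.1 a c) (rcLin p l.2.2.1 l.2.2.2 a c))
          (rcTb R a c))))

theorem reg_of_chk {p : ℕ} [Fact p.Prime] (S : Set (GL (Fin 2) (ZMod p))) (B D R : ℕ)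
    (L : List (ℕ × ℕ × ℕ × ℕ))
    (hL : ∀ s ∈ S, ((s 0 0).val, (s 0 1).val, (s 1 0).val, (s 1 1).val) ∈ L)
    (hL' : ∀ l ∈ L, ∃ s ∈ S, ((s 0 0).val, (s 0 1).val, (s 1 0).val, (s 1 1).val) = l)
    (h1 : rcTb B 1 0 = 0 ∧ rcTb D 1 0 = 1) (h : rcChk p B D R L = true) :
    Nat.card (Subgroup.closure S) = p ^ 2 - 1 ∧ ∀ v w : Fin 2 → ZMod p, v ≠ 0 → w ≠ 0 →
      ∃! h : Subgroup.closure S, ((h : GL (Fin 2) (ZMod p)) : Matrix (Fin 2) (Fin 2) (ZMod p)) *ᵥ v = w := by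
  have hm : ∀ x y a c : ℕ, rcLin p x y a c = (x * a + y * c) % p := fun _ _ _ _ => rfl
  have hc : ∀ x y a c : ℕ, (rcLin p x y a c : ZMod p) = x * a + y * c := fun x y a c => by
    simp [hm]
  have hv : ∀ (x y : ℕ) (a c : ZMod p), ((x : ZMod p) * a + y * c).val = rcLin p x y a.val c.val :=
    fun x y a c => by
    rw [← ZMod.natCast_zmod_val a, ← ZMod.natCast_zmod_val c, ← hc, ZMod.val_natCast]
    simp [hm]
  refine reg_of_cert S (fun a c => rcTb B a.val c.val) (fun a c => rcTb D a.val c.val)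
    (fun a c => rcTb R a.val c.val) (L.map fun l => (l.1, l.2.1, l.2.2.1, l.2.2.2))
    (fun s hs => List.mem_map.2 ⟨_, hL s hs, by simp⟩) (fun l hl => ?_) (by simp [ZMod.val_one, h1])
    fun a c => ?_
  · obtain ⟨l, hl', rfl⟩ := List.mem_map.1 hl
    obtain ⟨s, hs, rfl⟩ := hL' l hl'
    exact ⟨s, hs, by simp⟩
  simp only [rcChk, List.all_eq_true, List.mem_range, Bool.or_eq_true, Bool.and_eq_true, Nat.beq_eq,
    Bool.not_eq_true', List.any_eq_true, Nat.blt_eq, ← Bool.not_eq_true] at h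
  refine (h _ a.val_lt _ c.val_lt).imp (by simp) (And.imp (fun h l hl => ?_) (Or.imp (fun h => ?_)
    (And.imp (fun h h' => h ?_) fun ⟨l, hl, h⟩ => ⟨_, List.mem_map.2 ⟨l, hl, rfl⟩, ?_⟩)))
  · obtain ⟨l, hl', rfl⟩ := List.mem_map.1 hl
    simp only [hv, h l hl', hc, and_self]
  · exact ⟨ZMod.val_injective p (h.1.trans (ZMod.val_one p).symm), by simpa using h.2⟩
  · refine (ZMod.natCast_eq_natCast_iff' _ _ p).1 ?_
    simp only [Nat.mul_eq, Nat.add_eq]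
    push_cast
    simp only [ZMod.natCast_val, ZMod.cast_id', id]
    linear_combination h'
  · simpa only [hv] using h

end CfsgH8
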