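import Cfsg.Agent.H8.SB1
import Cfsg.Agent.H6.Mul6
import Cfsg.Agent.H6.Aut1

/-! The Steinberg character of a twisted group. -/

set_option autoImplicit false

namespace CfsgH8

open Finset CfsgH6 CfsgH6.PreSt Cfsg

theorem hasSt_of_dvd {p : ℕ} [hp : Fact p.Prime] {G : Type*} [Group G] [Finite G] {χ : G → ℂ} (h : IsIrrCharacter G χ)
    {a m : ℕ} (h1 : χ 1 = (p ^ a : ℕ)) (h2 : Nat.card G ∣ p ^ a * m) (hm : ¬ p ∣ m) : HasSt p G := by
  obtain ⟨P⟩ : Nonempty (Sylow p G) := inferInstance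
  refine hasSt_of h P (h1.trans (congrArg _ (Nat.dvd_antisymm ?_ ?_)))
  · rw [P.card_eq_multiplicity]
    exact pow_dvd_pow _ ((hp.out.pow_dvd_iff_le_factorization Nat.card_pos.ne').1 (CfsgH3.Cfsg.IsIrrCharacter.deg_dvd_card h h1))
  · rw [P.card_eq_multiplicity]
    exact ((hp.out.coprime_iff_not_dvd.2 hm).pow_left _).dvd_of_dvd_mul_right ((Nat.ordProj_dvd _ _).trans h2)

variable {I R : Type} [Fintype I] [DecidableEq I] {Φ : CD I R} {F : Type*} [Field F] [Finite F] [Finite R]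
  {Γ : Type*} [Group Γ] {X : PreSt Φ F Γ} {T : X.Tw}

theorem hasSt_tw (hX : X.IsSt) (hne : T.Ne) {Δ : Type*} [Group Δ] [Finite Δ] {ι : Δ →* Γ} (hι : Function.Injective ι)
    (h1 : T.M ≤ ι.range) (h2 : ι.range ≤ X.G ⊓ T.Fix) (p : ℕ) [hp : Fact p.Prime] [CharP F p] :
    HasSt p (Δ ⧸ Subgroup.center Δ) := by
  classical
  have := Fintype.ofFinite T.WF
  have := Fintype.ofFinite F
  obtain ⟨_, hn, ha⟩ := Tw.exists_n hX hne T.w0_mem
  obtain ⟨n, rfl⟩ := h1 (ir hn)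
  have hn' : ι n ∈ X.N := il hn
  obtain ⟨χ, h3, h4⟩ := exists_steinberg (Tw.bn hX hne hι h1 h2) (n := ⟨n, hn'⟩) (fun b hb h => X.H_le_N (by
    simpa [UJ_univ] using (hX.B_inf_conj hn' ha hb).1 (by rw [← map_inv, ← map_mul, ← map_mul]; exact h))) (QuotientGroup.mk'_surjective (Subgroup.center Δ))
    (by rw [QuotientGroup.ker_mk', ← BN.normalizer_eq _ le_rfl]; exact Subgroup.center_le_normalizer _)
  have k : ∀ A : Subgroup Γ, Nat.card (A.comap ι) = Nat.card (A ⊓ ι.range : Subgroup Γ) := fun A => by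
    rw [← Subgroup.card_map_of_injective hι, Subgroup.map_comap_eq, inf_comm]
  have k2 : ∀ K : Subgroup Γ, ¬ p ∣ Nat.card (X.H ⊓ K : Subgroup Γ) := fun K h => by
    have := hp.out.dvd_of_dvd_pow ((h.trans (Subgroup.card_dvd_of_le inf_le_left)).trans (hX.card_H_dvd (mult_fin hX)))
    rw [Nat.card_eq_fintype_card] at this
    exact hp.out.coprime_iff_not_dvd.1 (coprime_card p) this
  change χ 1 * Nat.card (X.B.comap ι ⊓ X.N.comap ι : Subgroup Δ) = Nat.card (X.B.comap ι) at h4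
  rw [← Subgroup.comap_inf, hX.B_inf_N, k, k, Tw.card_B hX hne h1 h2, Nat.cast_mul, mul_left_inj' (by
    exact Nat.cast_ne_zero.2 fun e => k2 ι.range (by rw [e]; exact dvd_zero p))] at h4
  have : Finite ι.range := Finite.of_surjective _ ι.rangeRestrict_surjective
  have : Finite T.M := Finite.of_injective _ (Subgroup.inclusion_injective h1)
  obtain ⟨P, hP⟩ := Tw.exists_sylow hX hne T.M.subtype_injective T.M.range_subtype (mult_fin hX) p
  have h5 : Nat.card P = Nat.card (X.U ⊓ T.Fix : Subgroup Γ) := by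
    rw [hP, ← Subgroup.card_map_of_injective T.M.subtype_injective, Subgroup.map_comap_eq, T.M.range_subtype, inf_comm,
      Tw.U_inf_M hX hne]
  have h6 := Tw.card_K hX hne le_rfl (le_inf T.M_le_G T.M_le_Fix)
  have h7 := Tw.card_K hX hne h1 h2
  rw [Tw.card_B hX hne le_rfl (le_inf T.M_le_G T.M_le_Fix), ← h5, ← P.1.card_mul_index, mul_assoc,
    mul_right_inj' Nat.card_pos.ne'] at h6
  rw [Tw.card_B hX hne h1 h2, ← h5, P.card_eq_multiplicity, mul_assoc, ← Nat.card_congr (MonoidHom.ofInjective hι).toEquiv] at h7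
  refine hasSt_of_dvd h3 (by rw [h4, ← h5, P.card_eq_multiplicity]) (h7 ▸ Subgroup.card_quotient_dvd_card _) fun h => ?_
  exact (hp.out.dvd_mul.1 h).elim (k2 _) fun h => P.not_dvd_index (h6 ▸ h.mul_left _)

omit [Finite F] in
theorem ne_of_invol [Finite Γ] (hX : X.IsSt) (h : ∀ g, T.σ (T.σ g) = g)
    (h' : ∀ i, ∃ t, T.σ (X.x (Φ.neg (Φ.sim i)) t) ≠ X.x (Φ.neg (Φ.sim i)) (-t)) : T.Ne := fun i => by
  by_contra e
  obtain ⟨t, ht⟩ := h' i
  let f : X.XM (T.orb i) →* X.XM (T.orb i) := (T.σ.comp (Subgroup.subtype _)).codRestrict _ fun g =>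
    T.σ_XM T.π_mem_orb g.2
  have := MonoidHom.FixedPointFree.coe_eq_inv_of_involutive (φ := f) (fun g hg => Subtype.ext (by
    by_contra e'
    exact e ⟨g, g.2, congrArg Subtype.val hg, e'⟩)) fun g => Subtype.ext (h g)
  exact ht ((congrArg Subtype.val (congrFun this ⟨_, X.x_mem_XS (S := {r | ¬Φ.Pos r ∧ Φ.InJ (T.orb i) r})
    ⟨fun h => (Φ.pos_neg_iff _).1 h (Φ.pos_sim i), Φ.inJ_neg.2 (Φ.inJ_sim.2 (T.mem_orb_self i))⟩ t⟩)).trans (X.x_inv _ _))

end CfsgH8
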