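import Cfsg.Agent.H8.FH3
import Cfsg.Agent.H8.CR4
import Cfsg.Agent.H8.SW1

/-! The Steinberg character of a finite (B,N)-pair through the Hecke algebra. -/

set_option autoImplicit false

namespace CfsgH8

open FHx

open Matrix Finset CfsgH6 CfsgH6.BN Cfsg Classical

theorem exists_red_ext {ι W : Type*} [Group W] (E : ExchSys ι W) {w : W} (h : ∀ i, ¬ E.P i w) {l : List ι} (hl : E.Red l) :
    ∃ m, E.Red (l ++ m) ∧ E.wp (l ++ m) = w := by
  induction l with
  | nil => exact E.exists_red w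
  | cons i l ih =>
    obtain ⟨m, h1, h2⟩ := ih hl.tail
    obtain ⟨a, j, b, e, h3⟩ := E.exchange i (l ++ m) (h2 ▸ h i)
    rcases List.append_eq_append_iff.1 e with ⟨c, rfl, rfl⟩ | ⟨c, rfl, e'⟩
    · have h4 : E.wp (i :: l ++ (c ++ b)) = w := by
        rw [← h2, ← List.append_assoc, ← List.append_assoc, E.wp_append, E.wp_append (l ++ c), List.cons_append, E.wp_cons, h3,
          E.wp_cons, mul_assoc]
      exact ⟨c ++ b, by rw [ExchSys.Red, h4, ← h2, h1]; simp; omega, h4⟩
    · rcases c with _ | ⟨k, c⟩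
      · obtain rfl : j :: b = m := e'
        have h4 : E.wp (i :: (a ++ []) ++ b) = w := by simp [← h2, ← mul_assoc, h3]
        exact ⟨b, by rw [ExchSys.Red, h4, ← h2, h1]; simp; omega, h4⟩
      · obtain ⟨rfl, rfl⟩ := List.cons.inj e'
        have h4 := E.len_wp_le (a ++ c)
        rw [show E.wp (a ++ c) = E.wp (i :: (a ++ j :: c)) by simp [← mul_assoc, h3], hl] at h4
        simp at h4

variable {G : Type*} [Group G] {P : BNPair G}

theorem rel_smul (g : G) {w : W P} {x y : G ⧸ P.B} : Rel P w (g • x) (g • y) ↔ Rel P w x y := by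
  induction x using QuotientGroup.induction_on
  induction y using QuotientGroup.induction_on
  simp [rel_mk, mul_assoc]

variable (P) [Fintype (G ⧸ P.B)]

/-- the number of chambers at a given distance -/
noncomputable def qq (w : W P) : ℕ := #{y | Rel P w ((1 : G) : G ⧸ P.B) y}

theorem TT_row (w : W P) : TT P w *ᵥ 1 = (qq P w : ℂ) • 1 := by
  ext x
  induction x using QuotientGroup.induction_on with | H g => ?_
  simp only [mulVec, dotProduct, TT, of_apply, Pi.one_apply, mul_one, sum_boole, Pi.smul_apply, smul_eq_mul, qq, Nat.cast_inj]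
  exact (card_equiv (MulAction.toPerm g) fun y => by simpa using (rel_smul g (x := ((1 : G) : G ⧸ P.B))).symm).symm

theorem qq_eq {w : W P} {c : ℂ} (h : TT P w *ᵥ 1 = c • 1) : (qq P w : ℂ) = c := by
  simpa using congrFun ((TT_row P w).symm.trans h) ((1 : G) : G ⧸ P.B)

theorem qq_mul {s : P.S} {w : W P} (h : (E P).P s w) : qq P (sw P s * w) = qq P (sw P s) * qq P w :=
  Nat.cast_injective (R := ℂ) (qq_eq P (by rw [← TT_mul P h, ← mulVec_mulVec, TT_row, mulVec_smul, TT_row, smul_smul]; simp [mul_comm]))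

theorem qq_red {l : List P.S} (h : (E P).Red l) : qq P ((E P).wp l) = (l.map fun s => qq P (sw P s)).prod := by
  induction l with
  | nil => exact Nat.cast_injective (R := ℂ) (qq_eq P (by simp [TT_one]))
  | cons s l ih => rw [List.map_cons, List.prod_cons, ← ih h.tail]; exact qq_mul P h.P_tail

theorem TT_sq' (s : P.S) : 2 ≤ qq P (sw P s) ∧
    TT P (sw P s) * TT P (sw P s) = (qq P (sw P s) - 1 : ℂ) • TT P (sw P s) + (qq P (sw P s) : ℂ) • 1 := by
  obtain ⟨q, h1, h2⟩ := TT_sq P s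
  have h3 := congrFun (congrArg (· *ᵥ 1) h2) ((1 : G) : G ⧸ P.B)
  simp only [← mulVec_mulVec, TT_row, mulVec_smul, add_mulVec, smul_mulVec, one_mulVec, Pi.add_apply, Pi.smul_apply,
    Pi.one_apply, smul_eq_mul, mul_one] at h3
  obtain rfl : q = qq P (sw P s) := Nat.cast_injective (R := ℂ) (mul_left_cancel₀ (Nat.cast_add_one_ne_zero (qq P (sw P s)))
    (by linear_combination -h3))
  exact ⟨h1, h2⟩

theorem qq_card [Finite G] (n : P.N) : qq P (pr P n) * Nat.card (P.B ⊓ MulAction.stabilizer G (n.1 : G ⧸ P.B) : Subgroup G) =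
    Nat.card P.B := by
  rw [← Nat.card_congr (MulAction.orbitProdStabilizerEquivGroup P.B (n.1 : G ⧸ P.B)), Nat.card_prod, qq,
    ← Fintype.card_coe, ← Nat.card_eq_fintype_card]
  congr 1
  · refine Nat.card_congr (Equiv.subtypeEquivRight fun y => ?_)
    induction y using QuotientGroup.induction_on with | H g => ?_
    simp only [mem_filter, mem_univ, true_and, rel_mk, inv_one, one_mul, cell_pr]
    exact ⟨fun ⟨a, ha, b, hb, e⟩ => ⟨⟨a, ha⟩, QuotientGroup.eq.2 (by simpa [e, Subgroup.smul_def, mul_assoc])⟩,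
      fun ⟨a, e⟩ => ⟨a, a.2, _, QuotientGroup.eq.1 e, by simp [Subgroup.smul_def, mul_assoc]⟩⟩
  · exact Nat.card_congr ⟨fun x => ⟨⟨x.1, x.2.1⟩, x.2.2⟩, fun x => ⟨x.1, x.1.2, x.2⟩, fun _ => rfl, fun _ => rfl⟩

theorem qq_ne (w : W P) : (qq P w : ℂ) ≠ 0 := by
  obtain ⟨n, rfl⟩ := pr_surjective P w
  exact Nat.cast_ne_zero.2 (card_ne_zero.2 ⟨(n.1 : G ⧸ P.B), by simpa [rel_mk] using cell_self n⟩)

variable [Fintype (W P)]

theorem sum_qq : ∑ w, qq P w = Fintype.card (G ⧸ P.B) := by
  choose f hf using fun y : G ⧸ P.B => exists_cell P ((((1 : G) : G ⧸ P.B).out)⁻¹ * y.out)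
  rw [← card_univ, card_eq_sum_card_fiberwise (f := f) (t := univ) fun _ _ => mem_univ _]
  exact sum_congr rfl fun w _ => congrArg card (filter_congr fun y _ => ⟨fun h => Rel.uniq (hf y) h, fun h => h ▸ hf y⟩)

/-- the sign element of the Hecke algebra -/
noncomputable def EE : Matrix (G ⧸ P.B) (G ⧸ P.B) ℂ := ∑ w, ((-1) ^ (E P).len w / qq P w : ℂ) • TT P w

theorem s_EE (s : P.S) : TT P (sw P s) * EE P = -EE P := by
  rw [eq_neg_iff_add_eq_zero, EE, mul_sum, ← sum_add_distrib]
  have k : ∀ w, (E P).P s w → TT P (sw P s) * ((-1) ^ (E P).len w / qq P w : ℂ) • TT P w + ((-1) ^ (E P).len w / qq P w : ℂ) • TT P w +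
      (TT P (sw P s) * ((-1) ^ (E P).len (sw P s * w) / qq P (sw P s * w) : ℂ) • TT P (sw P s * w) +
        ((-1) ^ (E P).len (sw P s * w) / qq P (sw P s * w) : ℂ) • TT P (sw P s * w)) = 0 := fun w h => by
    rw [show (E P).len (sw P s * w) = _ from (E P).len_s_mul_of_P h, qq_mul P h, ← TT_mul P h, mul_smul_comm, mul_smul_comm,
      ← mul_assoc, (TT_sq' P s).2, add_mul, smul_mul_assoc, smul_mul_assoc, one_mul]
    have := qq_ne P w
    have := qq_ne P (sw P s)
    match_scalars <;> field_simp <;> ring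
  refine sum_involution (fun w _ => sw P s * w) (fun w _ => ?_) (fun w _ _ h => sw_ne_one s (mul_eq_right.1 h))
    (fun _ _ => mem_univ _) fun w _ => (E P).s_mul_s_mul s w
  by_cases h : (E P).P s w
  · exact k w h
  · have := k (sw P s * w) ((E P).P_iff.2 (by rw [E_s, ← E_s, (E P).s_mul_s_mul]; exact (E P).len_lt_of_not_P h))
    rwa [show sw P s * (sw P s * w) = w from (E P).s_mul_s_mul s w, add_comm] at this

theorem w_EE (w : W P) : TT P w * EE P = (-1 : ℂ) ^ (E P).len w • EE P := by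
  obtain ⟨l, hl, rfl⟩ := (E P).exists_red w
  rw [← TT_red P hl, hl]
  clear hl
  induction l with
  | nil => simp
  | cons s l ih => simp [mul_assoc, ih, s_EE, pow_succ]

theorem EE_sq : EE P * EE P = (∑ w, (qq P w : ℂ)⁻¹) • EE P := by
  nth_rw 1 [EE]
  rw [sum_mul, sum_smul]
  refine sum_congr rfl fun w _ => ?_
  rw [smul_mul_assoc, w_EE, smul_smul, div_mul_eq_mul_div, ← mul_pow]; simp

theorem trace_EE : (EE P).trace = Fintype.card (G ⧸ P.B) := by
  rw [EE, trace_sum, sum_eq_single 1 (fun w _ h => by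
    rw [trace_smul, ← mul_one (TT P w), ← TT_one, trace_TT P (by simpa), smul_zero]) (by simp)]
  simp [TT_one, show qq P 1 = 1 from qq_red P (l := []) (E P).len_one]

theorem sum_inv_qq {v : W P} (h : ∀ s, ¬ (E P).P s v) : (∑ w, (qq P w : ℂ)⁻¹) * qq P v = Fintype.card (G ⧸ P.B) := by
  rw [← sum_qq, sum_mul, Nat.cast_sum]
  refine Fintype.sum_equiv ((Equiv.inv _).trans (Equiv.mulRight v)) _ _ fun w => ?_
  obtain ⟨l, hl, rfl⟩ := (E P).exists_red w
  obtain ⟨m, h1, rfl⟩ := exists_red_ext (E P) h hl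
  rw [qq_red P h1, List.map_append, List.prod_append, ← qq_red P hl, ← qq_red P h1.of_append_right]
  simp [inv_mul_cancel_left₀ (qq_ne P _)]

omit [Fintype (G ⧸ P.B)] [Fintype (W P)] in
theorem exists_steinberg [Finite G] {n : P.N} (hn : ∀ b ∈ P.B, n.1⁻¹ * b * n ∈ P.B → b ∈ P.N) {G' : Type*} [Group G']
    {θ : G →* G'} (hθ : Function.Surjective θ) (hk : θ.ker ≤ P.B) : ∃ χ : G' → ℂ, IsIrrCharacter G' χ ∧
      χ 1 * Nat.card (P.B ⊓ P.N : Subgroup G) = Nat.card P.B := by
  have := Fintype.ofFinite (G ⧸ P.B)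
  have := Fintype.ofFinite (W P)
  have h1 : ∀ m : P.N, P.B ⊓ P.N ≤ P.B ⊓ MulAction.stabilizer G (m.1 : G ⧸ P.B) := fun m x hx => ⟨hx.1, QuotientGroup.eq.2 (by
    simpa [mul_assoc] using P.conj_mem _ (inv_mem m.2) _ (inv_mem hx))⟩
  have h2 := qq_card P n
  rw [← le_antisymm (h1 n) fun x hx => ⟨hx.1, hn x hx.1 (by
    simpa [mul_assoc] using inv_mem (QuotientGroup.eq.1 hx.2))⟩] at h2
  have h3 : ∀ s, ¬ (E P).P s (pr P n) := fun s h => by
    have h4 := qq_card P (sN P s * n)
    rw [map_mul, show pr P (sN P s) = sw P s from rfl, qq_mul P h, ← h2] at h4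
    have h5 := Subgroup.card_le_of_le (h1 (sN P s * n))
    have h6 := (TT_sq' P s).1
    have h7 : 0 < Nat.card P.B := Nat.card_pos
    have := Nat.mul_le_mul (Nat.mul_le_mul_right (qq P (pr P n)) h6) h5
    rw [h4, mul_assoc, h2] at this
    omega
  have h4 := sum_inv_qq P h3
  have h5 := EE_sq P
  generalize (∑ w, (qq P w : ℂ)⁻¹) = c at h4 h5
  have h6 : c ≠ 0 := by rintro rfl; exact Nat.cast_ne_zero.2 Fintype.card_ne_zero (h4.symm.trans (zero_mul _))
  let e : Module.End ℂ (G ⧸ P.B → ℂ) := toLin' (c⁻¹ • EE P)ᵀ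
  have he : ∀ f, e f = c⁻¹ • f ᵥ* EE P := fun f => by simp [e, mulVec_transpose, vecMul_smul]
  have h7 : IsIdempotentElem e := LinearMap.ext fun f => by
    rw [Module.End.mul_apply, he, he, smul_vecMul, vecMul_vecMul, h5, vecMul_smul, smul_smul c⁻¹ c, inv_mul_cancel₀ h6, one_smul]
  let ρ : Representation ℂ G (G ⧸ P.B → ℂ) :=
    { toFun := fun g => LinearMap.funLeft ℂ ℂ (g⁻¹ • ·)
      map_one' := by ext; simp
      map_mul' := fun g h => by ext f x; simp [mul_smul, Pi.single_apply] }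
  have hρ : ∀ g f x, ρ g f x = f (g⁻¹ • x) := fun _ _ _ => rfl
  have h8 : ∀ g f, ρ g (e f) = e (ρ g f) := fun g f => funext fun x => by
    simp only [hρ, he, Pi.smul_apply, vecMul, dotProduct]
    refine congrArg _ (Fintype.sum_equiv (MulAction.toPerm g) _ _ fun y => ?_)
    simp [EE, Matrix.sum_apply, TT, ← rel_smul g (x := y)]
  have h9 : ∀ g, LinearMap.range e ≤ (LinearMap.range e).comap (ρ g) := by rintro g _ ⟨f, rfl⟩; exact ⟨_, (h8 g f).symm⟩
  let σ := ρ.subrepresentation _ h9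
  let τ : Representation ℂ G' (LinearMap.range e) := (Units.coeHom _).comp (θ.liftOfSurjective hθ ⟨σ.toHomUnits, fun z hz => by
    ext f x
    induction x using QuotientGroup.induction_on with | H g => ?_
    refine congrArg f.1 (QuotientGroup.eq.2 (hk ?_))
    simp [MonoidHom.mem_ker, MonoidHom.mem_ker.1 hz]⟩)
  have hτ : ∀ g, τ (θ g) = σ g := fun g => by simp [τ]
  have h10 : (Module.finrank ℂ (LinearMap.range e) : ℂ) = qq P (pr P n) := by
    rw [← tr_idem h7, trace_toLin'_eq, trace_transpose, trace_smul, trace_EE, ← h4]; simp [h6]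
  haveI : Nontrivial (LinearMap.range e) := Module.nontrivial_of_finrank_pos (R := ℂ) (Nat.pos_of_ne_zero fun h =>
    qq_ne P _ (h10.symm.trans (by simp [h])))
  haveI := CfsgH3.irreducible_of_forall τ fun U hU => (eq_or_ne U ⊥).imp_right fun h => by
    obtain ⟨v, hv, h0⟩ := U.ne_bot_iff.1 h
    obtain ⟨x, hx⟩ := Function.ne_iff.1 (mt Subtype.ext h0)
    induction x using QuotientGroup.induction_on with | H g => ?_
    have := Fintype.ofFinite P.B
    let u := ∑ b : P.B, σ (b * g⁻¹) v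
    have hu : u ∈ U := sum_mem fun b _ => hτ _ ▸ hU _ _ hv
    have u1 : ∀ y, u.1 y = ∑ b : P.B, v.1 ((g * b⁻¹) • y) := fun y => by simp [u, σ, hρ, mul_smul]
    let o : G ⧸ P.B := (1 : G)
    have u2 : u.1 = ∑ w, u.1 ((pr_surjective P w).choose.1 : G) • Pi.single o 1 ᵥ* TT P w := funext fun y => by
      induction y using QuotientGroup.induction_on with | H y => ?_
      obtain ⟨w, hw⟩ := exists_cell P y
      rw [Finset.sum_apply, sum_eq_single w (fun w' _ h' => by
        simpa [TT, o, rel_mk] using fun h => absurd (cell_unique h hw) h') (by simp)]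
      obtain ⟨a, ha, b, hb, rfl⟩ := cell_pr.1 ((pr_surjective P w).choose_spec.symm ▸ hw)
      simp only [Pi.smul_apply, single_one_vecMul, row_apply', TT, of_apply, o, rel_mk, inv_one, one_mul, if_pos hw, smul_eq_mul,
        mul_one]
      simp only [u1, QuotientGroup.mk_mul_of_mem _ hb]
      exact Fintype.sum_equiv (Equiv.mulLeft (⟨a, ha⟩ : P.B)⁻¹) _ _ fun b => by simp [mul_assoc]
    have u3 : u.1 = (∑ w, u.1 ((pr_surjective P w).choose.1 : G) * (-1) ^ (E P).len w) • e (Pi.single o 1) := by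
      obtain ⟨f, hf⟩ := u.2
      have : u.1 = e u.1 := by rw [← hf]; exact (LinearMap.congr_fun h7 f).symm
      refine (this.trans (congrArg e u2)).trans ?_
      rw [map_sum, sum_smul]
      exact sum_congr rfl fun w _ => by rw [map_smul, he, he, vecMul_vecMul, w_EE, vecMul_smul, smul_comm c⁻¹, mul_smul]
    generalize (∑ w, u.1 ((pr_surjective P w).choose.1 : G) * (-1) ^ (E P).len w) = a at u3
    have u4 : a ≠ 0 := by
      rintro rfl
      have := (u1 o).symm.trans (congrFun u3 o)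
      rw [sum_congr rfl fun (b : P.B) _ => show v.1 ((g * b⁻¹) • o) = v.1 g from
        congrArg v.1 (QuotientGroup.eq.2 (by simp))] at this
      simp at this
      exact hx this
    refine eq_top_iff.2 fun ⟨_, f, rfl⟩ _ => ?_
    have u5 : ∀ y : G ⧸ P.B, (⟨e (Pi.single y 1), _, rfl⟩ : LinearMap.range e) ∈ U := fun y => by
      induction y using QuotientGroup.induction_on with | H y => ?_
      convert U.smul_mem a⁻¹ (hτ y ▸ hU (θ y) _ hu) using 1
      refine Subtype.ext (Eq.symm ?_)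
      change a⁻¹ • ρ y u.1 = e _
      rw [u3, map_smul, smul_smul, inv_mul_cancel₀ u4, one_smul, h8]
      exact congrArg e (funext fun z => by simp [hρ, Pi.single_apply, inv_smul_eq_iff, o])
    convert U.sum_mem (t := univ) fun y _ => U.smul_mem (f y) (u5 y) using 1
    refine Subtype.ext ?_
    simp only [Submodule.coe_sum, Submodule.coe_smul, ← map_smul, ← map_sum]
    exact congrArg e (pi_eq_sum_univ' f)
  exact ⟨_, CfsgH3.isIrr_rep τ, by rw [τ.char_one, h10, ← h2, Nat.cast_mul]⟩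

end CfsgH8
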