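import Cfsg.Agent.H8.SW1

/-! Weight multiplicities for representations of `SL` in which transvection groups act without multiplicity. -/

set_option autoImplicit false

namespace CfsgH8
open Module LinearMap Finset Classical

variable {F M V : Type*} [Field F] [AddCommGroup M] [Module F M]

/-- `φ, χ` is a basis of the annihilator of `W` -/
structure Bs (W : Submodule F M) (φ χ : Dual F M) : Prop where
  mem : ∀ v, v ∈ W ↔ φ v = 0 ∧ χ v = 0
  ex : ∃ v v', φ v = 1 ∧ χ v = 0 ∧ φ v' = 0 ∧ χ v' = 1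

theorem ann_iff {W : Submodule F M} {φ : Dual F M} : φ ∈ W.dualAnnihilator ↔ W ≤ ker φ :=
  Submodule.mem_dualAnnihilator φ

theorem nm_top {φ : Dual F M} (h : φ ≠ 0) : φ ∉ (⊤ : Submodule F M).dualAnnihilator := by simpa using h

theorem ann_ker {φ ξ : Dual F M} (h : φ ≠ 0) (h' : ξ ∈ (ker φ).dualAnnihilator) : ∃ s : F, ξ = s • φ := by
  obtain ⟨v, -, hv⟩ := ex_one (nm_top h)
  refine ⟨ξ v, LinearMap.ext fun x => ?_⟩
  simpa [sub_eq_zero, mul_comm] using ann_iff.1 h' (show x - φ x • v ∈ ker φ by simp [hv])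

namespace Bs
variable {W W' : Submodule F M} {φ χ φ' χ' ξ : Dual F M}

theorem mk' (h : φ ≠ 0) (h' : χ ∉ (ker φ).dualAnnihilator) : Bs (ker φ ⊓ ker χ) φ χ := by
  obtain ⟨v, -, hv⟩ := ex_one (nm_top h)
  obtain ⟨v', h1, h2⟩ := ex_one h'
  exact ⟨fun _ => Iff.rfl, v - χ v • v', v', by simp [hv, mem_ker.1 h1], by simp [h2], h1, h2⟩

variable (h : Bs W φ χ)
include h

theorem symm : Bs W χ φ :=
  ⟨fun v => (h.mem v).trans and_comm, let ⟨v, v', a, b, c, d⟩ := h.ex; ⟨v', v, d, c, b, a⟩⟩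

theorem le : W ≤ ker φ := fun v hv => ((h.mem v).1 hv).1

theorem eq : W = ker φ ⊓ ker χ := Submodule.ext h.mem

theorem nm : χ ∉ (ker φ).dualAnnihilator := fun e =>
  let ⟨_, _, _, _, c, d⟩ := h.ex; one_ne_zero (d.symm.trans (ann_iff.1 e c))

theorem ne : φ ≠ 0 := fun e => let ⟨_, _, a, _⟩ := h.ex; by simp [e] at a

theorem span (h' : W ≤ ker ξ) : ∃ s t : F, ξ = s • φ + t • χ := by
  obtain ⟨v, v', a, b, c, d⟩ := h.ex
  refine ⟨ξ v, ξ v', LinearMap.ext fun x => ?_⟩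
  have := h' ((h.mem (x - φ x • v - χ x • v')).2 (by simp [*]))
  simp only [mem_ker, map_sub, map_smul, smul_eq_mul] at this
  simp only [LinearMap.add_apply, LinearMap.smul_apply, smul_eq_mul]
  linear_combination this

theorem right (h1 : W ≤ ker ξ) (h2 : ξ ∉ (ker φ).dualAnnihilator) : Bs W φ ξ := by
  obtain ⟨s, t, rfl⟩ := h.span h1
  have ht : t ≠ 0 := fun e => h2 (ann_iff.2 fun x hx => by simp [e, mem_ker.1 hx])
  refine ⟨fun v => (h.mem v).trans (and_congr_right fun e => by simp [e, ht]), (mk' h.ne h2).ex⟩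

theorem ext (h1 : W ≤ ker ξ) (h2 : ξ ≠ 0) : ∃ ξ', Bs W ξ ξ' := by
  by_cases h3 : ξ ∈ (ker φ).dualAnnihilator
  · obtain ⟨s, rfl⟩ := ann_ker h.ne h3
    obtain ⟨v, v', a, b, c, d⟩ := h.ex
    exact ⟨χ, (h.symm.right h1 fun e => h2 (by simpa [a] using Or.inl (by simpa [a] using ann_iff.1 e b))).symm⟩
  · exact ⟨φ, (h.right h1 h3).symm⟩

theorem trans [Fintype M] (h' : Bs W' φ' χ') (h0 : W ≠ ⊥) :
    ∃ g : End F M, LinearMap.det g = 1 ∧ φ ∘ₗ g = φ' ∧ χ ∘ₗ g = χ' ∧ ∀ v, v ∈ W' ↔ g v ∈ W := by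
  obtain ⟨g, h1, h2, -⟩ := mv0 (nm_top h.ne) (nm_top h'.ne)
  obtain ⟨g', h3, h4, h5⟩ := mv0 (W := ker φ') (φ := χ ∘ₗ g) (fun e => by
    obtain ⟨v, v', a, b, c, d⟩ := h.ex
    obtain ⟨x, rfl⟩ := ((End.isUnit_iff g).1 ((isUnit_iff_isUnit_det g).2 h1.isUnit)).2 v'
    exact one_ne_zero (d.symm.trans (ann_iff.1 e (h2 ▸ c : x ∈ ker φ')))) h'.nm
  obtain ⟨k, h6, h7⟩ := fix_det h0 (g := g * g') (by simp [h1, h3])
  have e1 : φ ∘ₗ k = φ' := (h7 _ (ann_iff.2 h.le)).trans (by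
    rw [End.mul_eq_comp, ← comp_assoc, h2, h5 _ (ann_iff.2 le_rfl)])
  have e2 : χ ∘ₗ k = χ' := (h7 _ (ann_iff.2 h.symm.le)).trans (by rw [End.mul_eq_comp, ← comp_assoc, h4])
  exact ⟨k, h6, e1, e2, fun v => by rw [h.mem, h'.mem, ← e1, ← e2]; rfl⟩

theorem card [Fintype F] [Fintype M] : Nat.card (ker φ) = Fintype.card F * Nat.card W ∧
    Fintype.card M = Fintype.card F ^ 2 * Nat.card W := by
  have h1 := card_inf_ker h.nm
  have h2 := card_inf_ker (nm_top h.ne)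
  rw [← h.eq] at h1
  rw [top_inf_eq, h1, Nat.card_congr Submodule.topEquiv.toEquiv, Nat.card_eq_fintype_card] at h2
  exact ⟨h1, by rw [h2]; ring⟩

end Bs

variable [Fintype M] [AddCommGroup V] [Module ℂ V]

namespace SLR
variable (S : SLR F M V) {W W' : Submodule F M} {φ χ φ' χ' ξ ξ' w w' : Dual F M} {v : M} {g : End F M}

/-- weight projection for the full group of transvections with a given axis -/
noncomputable abbrev hP (φ w : Dual F M) : End ℂ V := S.Pr (ker φ) φ w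

theorem hP_cj (hg : LinearMap.det g = 1) (φ w : Dual F M) : S.Cj g (S.hP (φ ∘ₗ g) (w ∘ₗ g)) (S.hP φ w) :=
  S.Pr_cj hg le_rfl (fun _ => Iff.rfl) one_ne_zero (one_smul _ _).symm fun _ _ => (one_mul _).symm

theorem hP_eq (h : φ ≠ 0) (h' : ξ ∈ (ker φ).dualAnnihilator) (h0 : ξ ≠ 0) : S.hP ξ 0 = S.hP φ 0 := by
  obtain ⟨s, rfl⟩ := ann_ker h h'
  have hs : s ≠ 0 := fun e => h0 (by simp [e])
  rw [hP, hP, ker_smul _ _ hs, ← S.Pr_smul hs (φ := φ), smul_zero]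

theorem cU (h : W ≤ ker ξ) (h' : W ≤ ker ξ') (hv : v ∈ W) : Commute (S.U ξ v) (S.Pr W ξ' w) :=
  S.U_comm (h hv) h' (fun _ => (W.add_mem_iff_left (W.smul_mem _ hv)).symm) (h' hv) fun x hx => by simp [mem_ker.1 (h hx)]

theorem cP (h : W ≤ ker ξ) (h' : W ≤ ker ξ') : Commute (S.Pr W ξ w) (S.Pr W ξ' w') :=
  S.comm_Pr fun _ hv => (S.cU h' h hv).symm

theorem cH (h : Bs W φ χ) (h' : W ≤ ker ξ) : Commute (S.hP φ χ) (S.Pr W ξ w) :=
  S.comm_Pr fun v hv => (S.U_comm (h' hv) le_rfl (fun x => by simp [mem_ker.1 (h.le hv)]) (h.le hv)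
    fun x _ => by simp [mem_ker.1 (h.symm.le hv)]).symm

theorem Pr_mul_E (h : Bs W φ χ) (h' : W ≤ ker ξ) : S.Pr W ξ 0 * (S.Pr W φ 0 * S.Pr W χ 0) = S.Pr W φ 0 * S.Pr W χ 0 := by
  obtain ⟨s, t, rfl⟩ := h.span h'
  refine S.Pr_mul fun v hv => ?_
  rw [S.U_add' (by simp [mem_ker.1 (h.le hv)]) (by simp [mem_ker.1 (h.symm.le hv)]), U_smul, U_smul, mul_assoc,
    ← mul_assoc (S.U χ _), (S.cU h.symm.le h.le (W.smul_mem _ hv)).eq, mul_assoc, S.U_mul_Pr h.symm.le (W.smul_mem _ hv),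
    mul_smul_comm, mul_smul_comm, ← mul_assoc, S.U_mul_Pr h.le (W.smul_mem _ hv)]
  simp

theorem E_eq (h : Bs W φ χ) (h' : Bs W φ' χ') : S.Pr W φ' 0 * S.Pr W χ' 0 = S.Pr W φ 0 * S.Pr W χ 0 := by
  have h1 : ∀ {φ χ φ' χ'}, Bs W φ χ → Bs W φ' χ' → S.Pr W φ' 0 * S.Pr W χ' 0 * (S.Pr W φ 0 * S.Pr W χ 0) =
      S.Pr W φ 0 * S.Pr W χ 0 := fun h h' => by rw [mul_assoc, S.Pr_mul_E h h'.symm.le, S.Pr_mul_E h h'.le]
  exact (h1 h' h).symm.trans ((((S.cP h.le h'.le).mul_left (S.cP h.symm.le h'.le)).mul_right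
    ((S.cP h.le h'.symm.le).mul_left (S.cP h.symm.le h'.symm.le))).eq.trans (h1 h h'))

variable [Fintype F] [Fintype (Dual F M)] [FiniteDimensional ℂ V]

omit [Fintype (Dual F M)] in
theorem ann_eq (W : Submodule F M) : (Nat.card W.dualAnnihilator : ℂ) = Nat.card (Dual F M) / Nat.card W := by
  have h1 := card_ann_mul (F := F) (M := M) ⊥
  rw [Submodule.dualAnnihilator_bot, Nat.card_congr Submodule.topEquiv.toEquiv,
    Nat.card_unique (α := (⊥ : Submodule F M)), mul_one] at h1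
  rw [h1, ← card_ann_mul W, Nat.cast_mul, mul_div_cancel_right₀ _ (Nat.cast_ne_zero.2 Nat.card_pos.ne')]

theorem lemB (hm : ∀ {W φ w}, Bs W φ w → trace ℂ V (S.hP φ w) = 1)
    (hB : (∃ r : F, r ≠ 0 ∧ r ^ 2 ≠ 1) ∨ Fintype.card M ≠ Fintype.card F ^ 4) (h : Bs W φ χ)
    (hw : w ∉ W.dualAnnihilator) : trace ℂ V (S.Pr W φ w * S.Pr W χ 0) = 1 := by
  obtain ⟨v0, v1, a, b, c, d⟩ := h.ex
  refine uniq_class (W ⊓ ker w).dualAnnihilator (fun w' => trace ℂ V (S.Pr W φ w * S.Pr W χ w'))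
    (fun w' => ⟨_, tr_idem ((S.Pr_idem h.le).mul_of_commute (S.cP h.le h.symm.le) (S.Pr_idem h.symm.le))⟩)
    (fun w' ξ hξ => ?_) ?_ fun w' hw' => ?_
  · obtain ⟨v2, e1, e2⟩ := ex_one hw
    have h1 : ∀ x ∈ W, ξ x = ξ v2 * w x := fun x hx => by
      simpa [sub_eq_zero, mul_comm] using ann_iff.1 hξ (show x - w x • v2 ∈ W ⊓ ker w from
        ⟨W.sub_mem hx (W.smul_mem _ e1), by simp [e2]⟩)
    have hg : LinearMap.det (transvection (-ξ v2 • φ) v1) = 1 := by simp [transvection.det, c]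
    have h2 : ∀ x, x ∈ W ↔ transvection (-ξ v2 • φ) v1 x ∈ W := fun x => by
      rw [h.mem, h.mem]; simp +contextual [transvection.apply, c, d]
    have h3 : ∀ η : Dual F M, ∀ x ∈ W, η (transvection (-ξ v2 • φ) v1 x) = 1 * η x := fun η x hx => by
      simp [transvection.apply, mem_ker.1 (h.le hx)]
    rw [← ((S.Pr_cj (φ' := φ) hg h.le h2 one_ne_zero (by ext; simp [transvection.apply, c]) (h3 w)).mul
      (S.Pr_cj (φ' := -ξ v2 • φ + χ) hg h.symm.le h2 one_ne_zero (by ext; simp [transvection.apply, d, add_comm])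
      (h3 w'))).tr hg]
    congr 1
    generalize hX : S.Pr W φ w = X
    simp only [Pr, mul_smul_comm, mul_sum]
    refine congrArg (_ • ·) (sum_congr rfl fun x _ => ?_)
    rw [S.U_add' (by simp [mem_ker.1 (h.le x.2)]) (h.symm.le x.2), U_smul, ← mul_assoc, ← hX,
      ← (S.cU h.le h.le (W.smul_mem _ x.2)).eq, S.U_mul_Pr h.le (W.smul_mem _ x.2), smul_mul_assoc, smul_smul,
      ← AddChar.map_add_eq_mul]
    simp [h1 x x.2]
  · rw [← map_sum, ← mul_sum, sum_all, mul_smul_comm, mul_one, map_smul, ann_eq, card_inf_ker hw, h.eq, ← S.sum_line h.nm,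
      map_sum, sum_congr rfl fun t _ => hm (Bs.mk' h.ne fun e => hw (ann_iff.2 fun x hx => by
        simpa [mem_ker.1 (h.symm.le hx)] using ann_iff.1 e (h.le hx)))]
    simp
    field_simp
  obtain ⟨v3, ⟨e1, e2⟩, e3⟩ := ex_one hw'
  obtain ⟨e4, e5⟩ := (h.mem _).1 e1
  replace e2 := mem_ker.1 e2
  rcases hB with ⟨r, hr, hr'⟩ | hB
  · let g := transvection ((r - 1) • w') v3 * transvection ((r⁻¹ - 1) • χ) v1
    have hg : LinearMap.det g = 1 := by simp [g, transvection.det, e3, d, hr]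
    have g1 : φ ∘ₗ g = (1 : F) • φ := by ext; simp [g, transvection.apply, *]
    have g2 : χ ∘ₗ g = r⁻¹ • χ := by ext; simp [g, transvection.apply, *]; ring
    have h2 : ∀ x, x ∈ W ↔ g x ∈ W := fun x => by
      rw [h.mem, h.mem, ← comp_apply φ, ← comp_apply χ, g1, g2]; simp [hr]
    refine ⟨r ^ 2 • w', ((S.Pr_cj hg h.le h2 one_ne_zero g1 fun x hx => ?_).mul
      (S.Pr_cj hg h.symm.le h2 (inv_ne_zero hr) g2 fun x hx => ?_)).tr hg, fun e => hr' ?_⟩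
    · simp [g, transvection.apply, mem_ker.1 (h.symm.le hx), e2]
    · simp [g, transvection.apply, mem_ker.1 (h.symm.le hx), e3]; field_simp; ring
    · simpa [e3, sub_eq_zero] using ann_iff.1 e ⟨e1, e2⟩
  · have h0 : W ⊓ ker w ⊓ ker w' ≠ ⊥ := fun e => hB (by
      rw [h.card.2, card_inf_ker hw, card_inf_ker hw', e, Nat.card_unique]; ring)
    obtain ⟨v, hv, ξ, hξ⟩ := ex_dual h0
    obtain ⟨g, hg, g1, g2⟩ := mv1 hw' (χ := w' + ξ) (fun e => by simpa [mem_ker.1 hv.2, hξ] using ann_iff.1 e hv.1) h0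
    have g3 := g2 φ (ann_iff.2 (inf_le_left.trans h.le))
    have g4 := g2 χ (ann_iff.2 (inf_le_left.trans h.symm.le))
    have h2 : ∀ x, x ∈ W ↔ g x ∈ W := fun x => by rw [h.mem, h.mem, ← comp_apply φ, ← comp_apply χ, g3, g4]
    refine ⟨w' + ξ, ((S.Pr_cj hg h.le h2 one_ne_zero (by simpa using g3) fun x hx => ?_).mul
      (S.Pr_cj hg h.symm.le h2 one_ne_zero (by simpa using g4) fun x hx => by simp [← g1])).tr hg, fun e => ?_⟩
    · rw [← comp_apply w, g2 w (ann_iff.2 inf_le_right), one_mul]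
    · simpa [hξ] using ann_iff.1 e hv.1

theorem lemC (hm : ∀ {W φ w}, Bs W φ w → trace ℂ V (S.hP φ w) = 1)
    (hC : (∃ r : F, r ≠ 0 ∧ r ^ 3 ≠ 1) ∨ Fintype.card M ≠ Fintype.card F ^ 3) (h : Bs W φ χ) :
    trace ℂ V (S.hP φ χ * S.Pr W χ 0) = 1 := by
  obtain ⟨v0, v1, a, b, c, d⟩ := h.ex
  refine uniq_class W.dualAnnihilator (fun w' => trace ℂ V (S.hP φ χ * S.Pr W χ w'))
    (fun w' => ⟨_, tr_idem ((S.Pr_idem le_rfl).mul_of_commute (S.cH h h.symm.le) (S.Pr_idem h.symm.le))⟩)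
    (fun w' ξ hξ => by rw [S.Pr_congr (w' := w') fun x hx => by simp [mem_ker.1 (ann_iff.1 hξ hx)]])
    (by rw [← map_sum, ← mul_sum, sum_all, mul_smul_comm, mul_one, map_smul, ann_eq, hm h, smul_eq_mul, mul_one])
    fun w' hw' => ?_
  obtain ⟨v3, e1, e3⟩ := ex_one hw'
  obtain ⟨e4, e5⟩ := (h.mem _).1 e1
  rcases hC with ⟨r, hr, hr'⟩ | hC
  · let g := transvection ((r ^ 2 - 1) • w') v3 * transvection ((r⁻¹ - 1) • χ) v1 * transvection ((r⁻¹ - 1) • φ) v0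
    have hg : LinearMap.det g = 1 := by simp [g, transvection.det, e3, a, d]; field_simp
    have g1 : φ ∘ₗ g = r⁻¹ • φ := by ext; simp [g, transvection.apply, *]; ring
    have g2 : χ ∘ₗ g = r⁻¹ • χ := by ext; simp [g, transvection.apply, *]; ring
    have h2 : ∀ x, x ∈ W ↔ g x ∈ W := fun x => by
      rw [h.mem, h.mem, ← comp_apply φ, ← comp_apply χ, g1, g2]; simp [hr]
    refine ⟨r ^ 3 • w', ((S.Pr_cj hg le_rfl (fun x => ?_) (inv_ne_zero hr) g1 fun x hx => ?_).mul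
      (S.Pr_cj hg h.symm.le h2 (inv_ne_zero hr) g2 fun x hx => ?_)).tr hg, fun e => hr' ?_⟩
    · rw [mem_ker, mem_ker, ← comp_apply φ, g1]; simp [hr]
    · rw [← comp_apply χ, g2]; rfl
    · simp [g, transvection.apply, mem_ker.1 (h.symm.le hx), mem_ker.1 (h.le hx), e3]; field_simp; ring
    · simpa [e3, sub_eq_zero] using ann_iff.1 e e1
  · have h0 : W ⊓ ker w' ≠ ⊥ := fun e => hC (by rw [h.card.2, card_inf_ker hw', e, Nat.card_unique]; ring)
    obtain ⟨v, hv, ξ, hξ⟩ := ex_dual h0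
    obtain ⟨g, hg, g1, g2⟩ := mv1 hw' (χ := w' + ξ) (fun e => by simpa [mem_ker.1 hv.2, hξ] using ann_iff.1 e hv.1) h0
    have g3 := g2 φ (ann_iff.2 h.le)
    have g4 := g2 χ (ann_iff.2 h.symm.le)
    have h2 : ∀ x, x ∈ W ↔ g x ∈ W := fun x => by rw [h.mem, h.mem, ← comp_apply φ, ← comp_apply χ, g3, g4]
    have h3 := S.hP_cj hg φ χ
    rw [g3, g4] at h3
    refine ⟨w' + ξ, (h3.mul
      (S.Pr_cj hg h.symm.le h2 one_ne_zero (by simpa using g4) fun x hx => by simp [← g1])).tr hg, fun e => ?_⟩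
    simpa [hξ] using ann_iff.1 e hv.1

end SLR
end CfsgH8
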