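import Mathlib

set_option autoImplicit false

namespace CfsgH8

theorem shin_norm {X : Type*} [Group X] (σ : MulAut X) (a : X) (d : ℕ) :
    ((List.range d).map (fun i => (σ ^ i) (a * (σ a)⁻¹))).prod = a * ((σ ^ d) a)⁻¹ := by
  induction d with
  | zero => simp
  | succ n ih =>
    rw [List.range_succ, List.map_append, List.prod_append, ih]
    simp [pow_succ, mul_assoc]

theorem shin_fix_pow {X : Type*} [Group X] (σ : MulAut X) {h : X} (hh : σ h = h) (e : ℕ) :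
    (σ ^ e) h = h := by
  induction e with
  | zero => simp
  | succ n ih => rw [pow_succ, MulAut.mul_apply, hh, ih]

theorem shin_comm {X : Type*} [Group X] (σ : MulAut X) (e : ℕ) (a : X) :
    (σ ^ e) (σ a) = σ ((σ ^ e) a) := by
  rw [← MulAut.mul_apply, ← MulAut.mul_apply, ← pow_succ, ← pow_succ']

theorem shin_mem {X : Type*} [Group X] (σ : MulAut X) (k : X) :
    k ∈ (MulEquiv.toMonoidHom σ).eqLocus (MonoidHom.id X) ↔ σ k = k := Iff.rfl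

theorem shin_x_fixed {X : Type*} [Group X] (σ : MulAut X) (e : ℕ) (a : X)
    (hg : (σ ^ e) (a * (σ a)⁻¹) = a * (σ a)⁻¹) : σ (((σ ^ e) a)⁻¹ * a) = ((σ ^ e) a)⁻¹ * a := by
  rw [map_mul, map_inv, shin_comm] at hg
  rw [map_mul, map_inv]
  calc (σ ((σ ^ e) a))⁻¹ * σ a = ((σ ^ e) a)⁻¹ * ((σ ^ e) a * (σ ((σ ^ e) a))⁻¹) * σ a := by group
    _ = ((σ ^ e) a)⁻¹ * (a * (σ a)⁻¹) * σ a := by rw [hg]
    _ = _ := by group

theorem card_pairs_coset {X : Type*} [Group X] (P Q Y : Subgroup X) (a : X) :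
    Nat.card {t : P × Q // (t.1 : X)⁻¹ * a * t.2 ∈ Y} =
      Nat.card {k : P // ∃ h ∈ Q, (k : X)⁻¹ * a * h ∈ Y} * Nat.card ↥(Y ⊓ Q) := by
  rw [← Nat.card_prod]
  symm
  refine Nat.card_congr (Equiv.ofBijective
    (fun t => ⟨(t.1.1, ⟨t.1.2.choose * t.2.1, Q.mul_mem t.1.2.choose_spec.1 t.2.2.2⟩), ?_⟩) ⟨?_, ?_⟩)
  · have := Y.mul_mem t.1.2.choose_spec.2 t.2.2.1
    simpa [mul_assoc] using this
  · rintro ⟨⟨k, hk⟩, y⟩ ⟨⟨k', hk'⟩, y'⟩ h
    simp only [Subtype.mk.injEq, Prod.mk.injEq] at h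
    obtain ⟨rfl, h⟩ := h
    simp only [Prod.mk.injEq, true_and]
    exact Subtype.ext (mul_left_cancel h)
  · rintro ⟨⟨k, h⟩, hkh⟩
    have hex : ∃ h ∈ Q, (k : X)⁻¹ * a * h ∈ Y := ⟨h, h.2, hkh⟩
    refine ⟨(⟨k, hex⟩, ⟨hex.choose⁻¹ * h, ?_, Q.mul_mem (Q.inv_mem hex.choose_spec.1) h.2⟩), ?_⟩
    · have := Y.mul_mem (Y.inv_mem hex.choose_spec.2) hkh
      convert this using 1
      simp [mul_assoc]
    · simp

end CfsgH8
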