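import Mathlib
import Cfsg.Prelude.Def_Sz

set_option autoImplicit false

namespace CfsgH8

open Matrix

/-- the upper central root elements of the Suzuki group -/
def szUpM {R : Type*} [CommRing R] (b c : R) : Matrix (Fin 4) (Fin 4) R :=
  !![1, 0, b, c; 0, 1, 0, b; 0, 0, 1, 0; 0, 0, 0, 1]

theorem szUpM_add {R : Type*} [CommRing R] (b c b' c' : R) :
    szUpM (b + b') (c + c') = szUpM b c * szUpM b' c' := by
  ext i j
  fin_cases i <;> fin_cases j <;> simp [szUpM, Matrix.mul_apply, Fin.sum_univ_four, add_comm]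

theorem szUpM_zero {R : Type*} [CommRing R] : szUpM (0 : R) 0 = 1 := by
  ext i j
  fin_cases i <;> fin_cases j <;> simp [szUpM]

/-- `szUpM` as an invertible matrix -/
def szUp {R : Type*} [CommRing R] (b c : R) : GL (Fin 4) R :=
  ⟨szUpM b c, szUpM (-b) (-c), by rw [← szUpM_add]; simp [szUpM_zero],
    by rw [← szUpM_add]; simp [szUpM_zero]⟩

/-- the transpose of `szUp` -/
def szLo {R : Type*} [CommRing R] (b c : R) : GL (Fin 4) R :=
  ⟨(szUpM b c)ᵀ, (szUpM (-b) (-c))ᵀ, by rw [← transpose_mul, ← szUpM_add]; simp [szUpM_zero],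
    by rw [← transpose_mul, ← szUpM_add]; simp [szUpM_zero]⟩

theorem szUp_add {R : Type*} [CommRing R] (b c b' c' : R) :
    szUp (b + b') (c + c') = szUp b c * szUp b' c' := Units.ext (szUpM_add b c b' c')

theorem szLo_inv {R : Type*} [CommRing R] (b c : R) : (szLo b c)⁻¹ = szLo (-b) (-c) := Units.ext rfl

theorem map_szUp {R S : Type*} [CommRing R] [CommRing S] (φ : R →+* S) (b c : R) :
    GeneralLinearGroup.map φ (szUp b c) = szUp (φ b) (φ c) := by
  ext i j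
  fin_cases i <;> fin_cases j <;> simp [szUp, szUpM]

theorem map_szLo {R S : Type*} [CommRing R] [CommRing S] (φ : R →+* S) (b c : R) :
    GeneralLinearGroup.map φ (szLo b c) = szLo (φ b) (φ c) := by
  ext i j
  fin_cases i <;> fin_cases j <;> simp [szLo, szUpM]

theorem szUp_mulVec {R : Type*} [CommRing R] (b c : R) (v : Fin 4 → R) :
    szUpM b c *ᵥ v = ![v 0 + b * v 2 + c * v 3, v 1 + b * v 3, v 2, v 3] := by
  ext i
  fin_cases i <;> simp [szUpM, mulVec, dotProduct, Fin.sum_univ_four]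

theorem szLo_mulVec {R : Type*} [CommRing R] (b c : R) (v : Fin 4 → R) :
    (szUpM b c)ᵀ *ᵥ v = ![v 0, v 1, v 2 + b * v 0, v 3 + b * v 1 + c * v 0] := by
  ext i
  fin_cases i <;> simp [szUpM, mulVec, dotProduct, Fin.sum_univ_four] <;> ring

theorem szUp_mem {F : Type*} [Field F] [CharP F 2] {e : ℕ} (he : e ≠ 0) (b : F)
    (hb : (b ^ e) ^ e = b ^ 2) : szUp b (b ^ e) ∈ Cfsg.Lie.Sz F e := by
  have h2 : (2 : F) = 0 := CharP.cast_eq_zero F 2
  apply Subgroup.subset_closure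
  constructor
  · intro u v
    change Cfsg.Lie.altForm4 (szUpM b (b ^ e) *ᵥ u) (szUpM b (b ^ e) *ᵥ v) = _
    simp only [szUp_mulVec, Cfsg.Lie.altForm4]
    simp
    linear_combination (b * u 2 * v 3 + b * u 3 * v 2 + b ^ e * u 3 * v 3) * h2
  · change Cfsg.Lie.star4 (szUpM b (b ^ e)) = (szUpM b (b ^ e)).map _
    ext i j
    fin_cases i <;> fin_cases j <;>
      simp [Cfsg.Lie.star4, Cfsg.Lie.pairOf, szUpM, he, hb, CharTwo.neg_eq, pow_two]

theorem szLo_mem {F : Type*} [Field F] [CharP F 2] {e : ℕ} (he : e ≠ 0) (b : F)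
    (hb : (b ^ e) ^ e = b ^ 2) : szLo b (b ^ e) ∈ Cfsg.Lie.Sz F e := by
  have h2 : (2 : F) = 0 := CharP.cast_eq_zero F 2
  apply Subgroup.subset_closure
  constructor
  · intro u v
    change Cfsg.Lie.altForm4 ((szUpM b (b ^ e))ᵀ *ᵥ u) ((szUpM b (b ^ e))ᵀ *ᵥ v) = _
    simp only [szLo_mulVec, Cfsg.Lie.altForm4]
    simp
    linear_combination (b * u 0 * v 1 + b * u 1 * v 0 + b ^ e * u 0 * v 0) * h2
  · change Cfsg.Lie.star4 (szUpM b (b ^ e))ᵀ = ((szUpM b (b ^ e))ᵀ).map _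
    ext i j
    fin_cases i <;> fin_cases j <;>
      simp [Cfsg.Lie.star4, Cfsg.Lie.pairOf, szUpM, he, hb, CharTwo.neg_eq, pow_two]

theorem sz_pow_pow {F : Type*} [Field F] [Fintype F] {m : ℕ} (hF : Fintype.card F = 2 ^ (2 * m + 1))
    (b : F) : (b ^ 2 ^ (m + 1)) ^ 2 ^ (m + 1) = b ^ 2 := by
  rw [← pow_mul, ← pow_add, show m + 1 + (m + 1) = (2 * m + 1) + 1 by ring, pow_succ, ← hF, pow_mul,
    FiniteField.pow_card]

end CfsgH8
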