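import Cfsg.Agent.H8.TD3
import Cfsg.Agent.S0281

/-! The unitary groups as twisted groups of type `A`. -/

set_option autoImplicit false

namespace CfsgH8

open Finset Matrix CfsgH6 CfsgH6.PreSt CfsgH5 Cfsg Module
open scoped MatrixGroups

theorem hasSt_PSU {F : Type*} [Field F] [Fintype F] (p : ℕ) [hp : Fact p.Prime] [CharP F p] {n q : ℕ} (hn : 2 ≤ n)
    (hF : Fintype.card F = q ^ 2) : HasSt p (PSU n F q) := by
  classical
  obtain rfl | hn := hn.eq_or_lt
  · obtain ⟨m, -, hm⟩ := FiniteField.card F p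
    obtain ⟨k, -, rfl⟩ := (Nat.dvd_prime_pow hp.out).1 (show q ∣ p ^ (m : ℕ) from hm ▸ hF ▸ dvd_pow_self q two_ne_zero)
    have hk : k ≠ 0 := by rintro rfl; exact absurd hF (by simpa using Fintype.one_lt_card.ne')
    have := Fintype.ofFinite (GaloisField p k)
    obtain ⟨e⟩ := Cfsg.Agent.S0281.result (K := GaloisField p k) hF (Nat.card_eq_fintype_card.symm.trans (GaloisField.card p k hk))
    exact (hasSt_PSL (F := GaloisField p k) p le_rfl).equiv (qcCongr e)
  obtain ⟨l, rfl⟩ : ∃ l, n = l + 1 := ⟨n - 1, by omega⟩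
  have hl : 2 ≤ l := by omega
  let φ := frobE hF
  have hφ : ∀ a, φ (φ a) = a := frobQ_invol hF
  let x : Multiplicative (ZMod 2) := .ofAdd 1
  have hx : x ≠ 1 := by decide
  let τ : MulAut (GL (Fin (l + 1)) F) := graphAutGL (φ, x)
  have hτ : ∀ g, τ (τ g) = g := fun g => by
    rw [← MulAut.mul_apply, ← map_mul, Prod.mk_mul_mk, frobE_sq, show x * x = 1 by decide]
    exact DFunLike.congr_fun (map_one graphAutGL) g
  let J : Matrix (Fin (l + 1)) (Fin (l + 1)) F := (1 : Matrix _ _ F).submatrix Fin.revPerm id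
  have hJ : ∀ A : Matrix (Fin (l + 1)) (Fin (l + 1)) F, J * A = A.submatrix Fin.revPerm id := fun A => by
    ext a b; simp [J, mul_apply, one_apply]
  have hJ' : ∀ A : Matrix (Fin (l + 1)) (Fin (l + 1)) F, A * J = A.submatrix id Fin.revPerm := fun A => by
    ext a b; simp [J, mul_apply, one_apply, Fin.rev_eq_iff]
  have hJJ : J * J = 1 := by rw [hJ]; ext a b; simp [J, one_apply]
  obtain ⟨P, hP⟩ := herm_congr (frobE_sq hF) (frobE_ne hF) ⟨J, J, hJJ, hJJ⟩ (by
    ext a b; simp [J, one_apply, Fin.rev_eq_iff, apply_ite (frobE hF)]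
    exact if_congr (by rw [← Fin.rev_eq_iff, eq_comm]) rfl rfl)
  rw [← coe_graphAutGL_ne _ hx, ← Units.val_mul, Units.val_inj] at hP
  let σ : MulAut (GL (Fin (l + 1)) F) := MulAut.conj P * τ * (MulAut.conj P)⁻¹
  have hσ : ∀ g, σ (P * g * P⁻¹) = P * τ g * P⁻¹ := fun g => by simp [σ, mul_assoc]
  have hσ' : ∀ g, (σ g).1 = J * (τ g).1 * J := fun g => by
    have : σ g = ⟨J, J, hJJ, hJJ⟩ * τ g * (⟨J, J, hJJ, hJJ⟩ : GL _ F)⁻¹ := by rw [hP]; simp [σ, τ, φ, mul_assoc]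
    rw [this]; rfl
  let X := (mrA l hl).pre F
  have hX : X.IsSt := (mrA l hl).isSt F
  have h1 : ∀ {a b : Fin (l + 1)} (h : a ≠ b) (t : F), σ (X.x (rA hl h) t) =
      X.x (rA hl (Fin.rev_injective.ne h.symm)) (-φ t) := fun {a b} h t => Units.ext (by
    rw [hσ', ← inv_inv (τ _), ← map_inv, X.x_inv, coe_graphAutGL_ne _ hx, hJ, hJ', MR.coe_x, MR.coe_x, rA_val, rA_val,
      X_rA (hl := hl) h, X_rA (hl := hl) (Fin.rev_injective.ne h.symm)]
    ext i j
    simp [one_apply, single_apply, Fin.rev_eq_iff, eq_comm, and_comm, apply_ite φ]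
    exact if_congr (by rw [← Fin.rev_eq_iff (j := a), ← Fin.rev_eq_iff (j := b), eq_comm, and_comm, eq_comm]) rfl rfl)
  have hs : ∀ i : Fin l, (mrA l hl).cd.sim i = rA hl (Fin.castSucc_lt_succ (i := i)).ne := fun _ => rfl
  have hb : Function.Bijective fun t => -φ t := neg_bijective.comp φ.bijective
  have h2 : ∀ i t, σ (X.x ((mrA l hl).cd.neg ((mrA l hl).cd.sim i)) t) =
      X.x ((mrA l hl).cd.neg ((mrA l hl).cd.sim (Fin.revPerm i))) (-φ t) := fun i t => by
    rw [hs, hs, neg_rA, neg_rA, h1]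
    simp only [Fin.rev_succ, Fin.rev_castSucc, Fin.revPerm_apply]
  obtain ⟨T, e, -⟩ := hX.exists_tw σ.toMonoidHom Fin.revPerm (fun _ t => -φ t) (fun _ t => -φ t) (fun _ => hb) (fun _ => hb)
    (fun i t => by
      rw [hs, hs]; refine (h1 _ t).trans ?_
      simp only [Fin.rev_succ, Fin.rev_castSucc, Fin.revPerm_apply]) h2 (fun i t _ => by simp)
  have hG : (⊤ : Subgroup SL(l + 1, F)).map SpecialLinearGroup.toGL = X.G :=
    preA_G hl F ▸ (preA hl F).map_G X _ (toGL_preA hl F)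
  let ι : SU (l + 1) F q →* GL (Fin (l + 1)) F :=
    (MulAut.conj P).toMonoidHom.comp (SpecialLinearGroup.toGL.comp (Subgroup.subtype _))
  have hd : ∀ g, g ∈ X.G ↔ g.1.det = 1 := fun g => by
    rw [← hG]
    exact ⟨by rintro ⟨g, -, rfl⟩; exact g.2, fun h => ⟨⟨g.1, h⟩, trivial, Units.ext rfl⟩⟩
  have hc : ∀ g, P * g * P⁻¹ ∈ X.G ↔ g ∈ X.G := fun g => by
    rw [hd, hd, Units.val_mul, Units.val_mul, det_units_conj]
  have hr : ι.range = X.G ⊓ T.Fix := by
    ext g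
    obtain ⟨g, rfl⟩ := (MulAut.conj P).surjective g
    rw [Subgroup.mem_inf, Tw.mem_Fix, e, MulAut.conj_apply, hc, hd]
    erw [hσ]
    rw [mul_left_inj, mul_right_inj, ← mem_GU_iff_fixed (frobE_apply hF) hx]
    refine ⟨?_, fun h => ⟨⟨⟨g.1, h.1⟩, h.2⟩, congrArg (fun y => P * y * P⁻¹) (Units.ext rfl)⟩⟩
    rintro ⟨y, hy⟩
    obtain rfl := (MulAut.conj P).injective hy
    exact ⟨y.1.2, y.2⟩
  refine hasSt_tw hX (ne_of_invol hX (fun g => ?_) fun i => ?_) (ι := ι) (fun a b h => Subtype.ext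
    (SpecialLinearGroup.toGL_injective ((MulAut.conj P).injective h))) (hr ▸ le_inf T.M_le_G T.M_le_Fix) hr.le p
  · obtain ⟨g, rfl⟩ := (MulAut.conj P).surjective g
    rw [e]
    exact (congrArg σ (hσ g)).trans ((hσ _).trans (by rw [hτ]; rfl))
  · obtain ⟨t, ht⟩ := frobQ_ne hF
    refine ⟨t, fun h => ht ?_⟩
    have h0 : t ≠ 0 := by rintro rfl; simp at ht
    rw [e] at h
    replace h := h.symm.trans (h2 i t)
    rw [← hX.root_eq h (neg_ne_zero.2 h0)] at h
    exact (neg_injective (X.x_injective hX.sep1 _ h)).symm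

end CfsgH8
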