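import Cfsg.Agent.H8.SB4
import Cfsg.Agent.H8.CRE2
import Cfsg.Agent.H8.CRC3

/-! The graph twist of the type `D` root data. -/

set_option autoImplicit false

namespace CfsgH8

open Finset Matrix CfsgH6 CfsgH6.PreSt CfsgH5 Cfsg

section gen
variable {I R : Type} [Fintype I] [DecidableEq I] {Φ : CD I R} {F : Type*} [Field F] [Finite F] [Finite R]
  {Γ : Type*} [Group Γ] {X : PreSt Φ F Γ} {T : X.Tw}

theorem pUV (hX : X.IsSt) (p : ℕ) [Fact p.Prime] [CharP F p] : IsPGroup p X.U ∧ IsPGroup p X.V :=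
  ⟨(XS_isPGroup hX.sep1 p RS.ht).to_le (X.U_eq ▸ le_rfl), (XS_isPGroup hX.sep1 p (-RS.ht)).to_le (X.V_eq ▸ le_rfl)⟩

theorem M_le_of_p (hX : X.IsSt) (p : ℕ) [Fact p.Prime] [CharP F p] {K : Subgroup Γ}
    (h : ∀ g ∈ X.G, T.σ g = g → ∀ k, g ^ p ^ k = 1 → g ∈ K) : T.M ≤ K := T.M_le.2 fun i =>
  ⟨fun g hg => by
    obtain ⟨k, hk⟩ := (pUV hX p).1 ⟨g, XP_le_U _ (il hg)⟩
    exact h g (T.M_le_G (T.XP_le_M i hg)) (ir hg) k (congrArg Subtype.val hk), fun g hg => by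
    obtain ⟨k, hk⟩ := (pUV hX p).2 ⟨g, XM_le_V _ (il hg)⟩
    exact h g (T.M_le_G (T.XM_le_M i hg)) (ir hg) k (congrArg Subtype.val hk)⟩

end gen

variable {l : ℕ}

/-- swap the last hyperbolic pair -/
def pi0 (l : ℕ) : Equiv.Perm (Fin (l + 1) ⊕ Fin (l + 1)) := Equiv.swap (.inl (Fin.last l)) (.inr (Fin.last l))

/-- negate the last coordinate -/
def rv (v : Fin (l + 1) → ℤ) : Fin (l + 1) → ℤ := fun i => if i = Fin.last l then -v i else v i

theorem pi0_eq (a : Fin (l + 1) ⊕ Fin (l + 1)) : pi0 l a = if ix a = Fin.last l then a.swap else a := by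
  rcases a with a | a <;> by_cases h : a = Fin.last l <;> simp [pi0, h, Equiv.swap_apply_def]

@[simp] theorem pi0_pi0 (a : Fin (l + 1) ⊕ Fin (l + 1)) : pi0 l (pi0 l a) = a := Equiv.swap_apply_self _ _ _

@[simp] theorem ix_pi0 (a : Fin (l + 1) ⊕ Fin (l + 1)) : ix (pi0 l a) = ix a := by
  rw [pi0_eq]; split_ifs <;> simp

theorem pi0_swap (a : Fin (l + 1) ⊕ Fin (l + 1)) : pi0 l a.swap = (pi0 l a).swap := by
  rw [pi0_eq, pi0_eq, ix_swap]; split_ifs <;> simp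

@[simp] theorem rv_rv (v : Fin (l + 1) → ℤ) : rv (rv v) = v := by ext i; simp only [rv]; split_ifs <;> simp
theorem rv_add (v w : Fin (l + 1) → ℤ) : rv (v + w) = rv v + rv w := by
  ext i; simp only [rv, Pi.add_apply]; split_ifs <;> ring
theorem rv_sub (v w : Fin (l + 1) → ℤ) : rv (v - w) = rv v - rv w := by
  ext i; simp only [rv, Pi.sub_apply]; split_ifs <;> ring
theorem rv_neg (v : Fin (l + 1) → ℤ) : rv (-v) = -rv v := by
  ext i; simp only [rv, Pi.neg_apply]; split_ifs <;> ring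
theorem rv_dot (v w : Fin (l + 1) → ℤ) : rv v ⬝ᵥ rv w = v ⬝ᵥ w :=
  sum_congr rfl fun i _ => by simp only [rv]; split_ifs <;> ring
theorem rv_inj {v w : Fin (l + 1) → ℤ} : rv v = rv w ↔ v = w :=
  ⟨fun h => by rw [← rv_rv v, h, rv_rv], fun h => h ▸ rfl⟩

theorem rv_ev (a : Fin (l + 1)) : rv (ev a) = if a = Fin.last l then -ev a else ev a := by
  ext i; by_cases h : a = Fin.last l <;> by_cases h' : i = Fin.last l <;> simp [rv, h, h', Pi.single_apply, eq_comm]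

theorem wb_pi0 (a : Fin (l + 1) ⊕ Fin (l + 1)) : wb (pi0 l a) = rv (wb a) := by
  rw [pi0_eq]
  rcases a with a | a <;> by_cases h : a = Fin.last l <;> simp [h, rv_neg, rv_ev]

variable (hl : 2 ≤ l)

theorem s_pi0 (a b : Fin (l + 1) ⊕ Fin (l + 1)) : (bdD l hl).s (pi0 l a) (pi0 l b) = (bdD l hl).s a b := by
  simp only [bdD, ix_pi0]
  split_ifs with h h'
  · rw [pi0_eq, if_neg (Fin.ne_last_of_lt h)]
  · rw [pi0_eq, if_neg (Fin.ne_last_of_lt h')]
  · rfl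

theorem root_rv {v : Fin (l + 1) → ℤ} (h : (bdD l hl).mr.IsRoot v) : (bdD l hl).mr.IsRoot (rv v) := by
  obtain ⟨⟨a, b, rfl⟩, h1, h2⟩ := h
  refine ⟨⟨pi0 l a, pi0 l b, ?_⟩, fun e => h1 (rv_inj.1 (e.trans ?_)), by rwa [rv_dot]⟩
  · exact (rv_sub _ _).trans (congrArg₂ _ (wb_pi0 a).symm (wb_pi0 b).symm)
  · ext i; simp [rv]

/-- the graph symmetry on roots -/
def rho : Equiv.Perm (bdD l hl).mr.R :=
  Function.Involutive.toPerm (fun r => ⟨rv r.1, root_rv hl r.2⟩) fun r => Subtype.ext (rv_rv r.1)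

theorem rho_val (r : (bdD l hl).mr.R) : (rho hl r).1 = rv r.1 := rfl
@[simp] theorem rho_rho (r : (bdD l hl).mr.R) : rho hl (rho hl r) = r := Subtype.ext (rv_rv r.1)
theorem rho_neg (r : (bdD l hl).mr.R) : rho hl ((bdD l hl).mr.cd.neg r) = (bdD l hl).mr.cd.neg (rho hl r) :=
  Subtype.ext (rv_neg r.1)

theorem X_rv (v : Fin (l + 1) → ℤ) : (bdD l hl).mr.X (rv v) = ((bdD l hl).mr.X v).submatrix (pi0 l) (pi0 l) := by
  ext a b
  change (if wb a - wb b = rv v then (bdD l hl).s a b else 0) =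
    if wb (pi0 l a) - wb (pi0 l b) = v then (bdD l hl).s (pi0 l a) (pi0 l b) else 0
  rw [s_pi0, wb_pi0, wb_pi0, ← rv_sub]
  exact if_congr (by rw [← rv_inj (w := v), rv_rv]) rfl rfl

/-- the graph symmetry on the nodes -/
def piD : Equiv.Perm (Fin (l + 1)) := Equiv.swap (bdD l hl).p (Fin.last l)

theorem p_ne : (bdD l hl).p ≠ Fin.last l := by simp [bdD, Fin.ext_iff]; omega

theorem α_p : (bdD l hl).α (bdD l hl).p = ev (bdD l hl).p - ev (Fin.last l) :=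
  ((bdD l hl).α_cast ⟨l - 1, by omega⟩).trans (by simp [bdD, Fin.last, show l - 1 + 1 = l by omega])

theorem rho_sim (i : Fin (l + 1)) : rho hl ((bdD l hl).mr.cd.sim i) = (bdD l hl).mr.cd.sim (piD hl i) := by
  apply Subtype.ext
  change rv ((bdD l hl).α i) = (bdD l hl).α (piD hl i)
  by_cases h : i = (bdD l hl).p
  · rw [h, piD, Equiv.swap_apply_left, α_p, BD.α_last, rv_sub, rv_ev, rv_ev, if_neg (p_ne hl), if_pos rfl, sub_neg_eq_add]
  by_cases h' : i = Fin.last l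
  · rw [h', piD, Equiv.swap_apply_right, α_p, BD.α_last, rv_add, rv_ev, rv_ev, if_neg (p_ne hl), if_pos rfl, sub_eq_add_neg]
  rw [piD, Equiv.swap_apply_of_ne_of_ne h h']
  obtain ⟨j, rfl⟩ := Fin.exists_castSucc_eq.2 h'
  rw [BD.α_cast, rv_sub, rv_ev, rv_ev, if_neg h', if_neg fun e => h ?_]
  simp only [bdD, Fin.ext_iff, Fin.val_succ, Fin.val_last, Fin.val_castSucc] at e ⊢
  omega

variable {K : Type*} [Field K]

/-- twisting of matrices -/
def twM (l : ℕ) (φ : K →+* K) : Matrix (Fin (l + 1) ⊕ Fin (l + 1)) (Fin (l + 1) ⊕ Fin (l + 1)) K →+*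
    Matrix (Fin (l + 1) ⊕ Fin (l + 1)) (Fin (l + 1) ⊕ Fin (l + 1)) K :=
  (reindexAlgEquiv K K (pi0 l).symm).toRingEquiv.toRingHom.comp φ.mapMatrix

theorem twM_apply (φ : K →+* K) (A) (a b) : twM l φ A a b = φ (A (pi0 l a) (pi0 l b)) := rfl

/-- twisting of invertible matrices -/
def twG (l : ℕ) (φ : K →+* K) : GL (Fin (l + 1) ⊕ Fin (l + 1)) K →* GL (Fin (l + 1) ⊕ Fin (l + 1)) K :=
  Units.map (twM l φ).toMonoidHom

theorem twG_x (φ : K →+* K) (r : (bdD l hl).mr.R) (t : K) :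
    twG l φ (((bdD l hl).mr.pre K).x r t) = ((bdD l hl).mr.pre K).x (rho hl r) (φ t) := by
  apply Units.ext
  change twM l φ _ = _
  rw [MR.coe_x, MR.coe_x, map_add, map_one, rho_val, X_rv]
  congr 1
  ext a b
  simp [twM_apply]

theorem norm_D (r : (bdD l hl).mr.R) : r.1 ⬝ᵥ r.1 = 2 := r.2.norm.resolve_right fun h => by
  have := r.2.2.2
  change _ ≤ (2 : ℤ) at this
  omega

theorem rho_ne_neg (r : (bdD l hl).mr.R) : rho hl r ≠ (bdD l hl).mr.cd.neg r := fun h => by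
  have h1 := norm_D hl r
  rw [dotProduct, sum_eq_single (Fin.last l) (fun i _ hi => by
    have : rv r.1 i = -r.1 i := congrFun (congrArg Subtype.val h) i
    rw [rv, if_neg hi] at this
    rw [show r.1 i = 0 by omega, mul_zero]) (by simp)] at h1
  generalize r.1 (Fin.last l) = c at h1
  have : c ≤ 1 := by nlinarith
  have : -1 ≤ c := by nlinarith
  interval_cases c <;> omega

theorem not_root_add (r : (bdD l hl).mr.R) : ¬ (bdD l hl).mr.IsRoot (r.1 + rv r.1) := fun h => by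
  have h1 := norm_D hl ⟨_, h⟩
  have : (4 : ℤ) ∣ (r.1 + rv r.1) ⬝ᵥ (r.1 + rv r.1) := dvd_sum fun i _ => by
    simp only [rv, Pi.add_apply]
    split_ifs
    · simp
    · exact ⟨r.1 i * r.1 i, by ring⟩
  change (r.1 + rv r.1) ⬝ᵥ (r.1 + rv r.1) = 2 at h1
  omega

variable {Γ : Type*} [Group Γ] {X : PreSt (bdD l hl).mr.cd K Γ}

theorem x_comm_rho (r : (bdD l hl).mr.R) (t u : K) : X.x (rho hl r) u * X.x r t = X.x r t * X.x (rho hl r) u := by
  by_cases h : rho hl r = r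
  · rw [h, X.add, X.add, add_comm u]
  rw [X.comm r _ t u h (rho_ne_neg hl r)]
  change _ * (((bdD l hl).mr.tm r (rho hl r)).map _).prod = _
  rw [MR.tm_two rfl fun e => rho_ne_neg hl r (Subtype.ext e), rho_val, MR.tl_neg (not_root_add hl r), List.map_nil,
    List.prod_nil, mul_one]

variable [Finite K]

theorem exists_twD (hX : X.IsSt) (φ : K →+* K) (σ : Γ →* Γ) (h : ∀ r t, σ (X.x r t) = X.x (rho hl r) (φ t)) :
    ∃ T : X.Tw, T.σ = σ ∧ T.π = piD hl ∧ T.ρ = rho hl ∧ T.Ne := by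
  have hb : Function.Bijective φ := Finite.injective_iff_bijective.1 φ.injective
  obtain ⟨T, h1, h2⟩ := hX.exists_tw σ (piD hl) (fun _ => φ) (fun _ => φ) (fun _ => hb) (fun _ => hb)
    (fun i t => by rw [h, rho_sim]) (fun i t => by rw [h, rho_neg, rho_sim]) (fun i t _ => by simp)
  refine ⟨T, h1, h2, Equiv.ext fun r => hX.root_eq ((T.σ_x r 1).symm.trans (h1 ▸ h r 1)) (T.τ_ne r one_ne_zero), fun i => ?_⟩
  have m : ∀ j ∈ T.orb i, X.x ((bdD l hl).mr.cd.neg ((bdD l hl).mr.cd.sim j)) 1 ∈ X.XM (T.orb i) := fun j hj =>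
    X.x_mem_XS (S := {r | ¬(bdD l hl).mr.cd.Pos r ∧ (bdD l hl).mr.cd.InJ (T.orb i) r})
      ⟨fun h => (RS.pos_neg_iff _ _).1 h (RS.pos_sim _ j), (RS.inJ_neg _).2 ((RS.inJ_sim _).2 hj)⟩ 1
  by_cases e : piD hl i = i
  · exact ⟨_, m i (T.mem_orb_self i), by rw [h1, h, rho_neg, rho_sim, e, map_one], fun e' => one_ne_zero (hX.x_eq_one e')⟩
  refine ⟨_, mul_mem (m i (T.mem_orb_self i)) (m _ (h2 ▸ T.π_mem_orb i (T.mem_orb_self i))), ?_, fun e' => ?_⟩
  · rw [h1, map_mul, h, h, rho_neg, rho_neg, rho_sim, rho_sim, map_one, show piD hl (piD hl i) = i from Equiv.swap_apply_self _ _ _,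
      ← rho_sim, ← rho_neg, x_comm_rho]
  · have := hX.root_eq ((eq_inv_of_mul_eq_one_left e').trans (X.x_inv _ _)) one_ne_zero
    exact e ((bdD l hl).mr.cd.sim_injective ((bdD l hl).mr.cd.neg_injective this)).symm

end CfsgH8
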