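import Cfsg.Agent.H8.TD1
import Cfsg.Agent.H8.AutO2
import Cfsg.Agent.S0306

/-! The odd-dimensional and the minus-type orthogonal groups as twisted groups of type `D`. -/

set_option autoImplicit false

namespace CfsgH8

open Finset Matrix CfsgH6 CfsgH6.PreSt CfsgH5 Cfsg Module

variable {l : ℕ} {K : Type*} [Field K]

/-- the semilinear involution -/
def gam (φ : K →+* K) (x : Fin (l + 1) ⊕ Fin (l + 1) → K) : Fin (l + 1) ⊕ Fin (l + 1) → K := fun a => φ (x (pi0 l a))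

theorem twG_gam (φ : K →+* K) (g : GL (Fin (l + 1) ⊕ Fin (l + 1)) K) (x) :
    (twG l φ g).1 *ᵥ gam φ x = gam φ (g.1 *ᵥ x) := by
  ext a
  change ∑ b, φ (g.1 (pi0 l a) (pi0 l b)) * φ (x (pi0 l b)) = φ (∑ b, g.1 (pi0 l a) b * x b)
  rw [map_sum, ← Equiv.sum_comp (pi0 l)]
  simp

theorem twG_eq_iff {φ : K →+* K} (h : ∀ a, φ (φ a) = a) (g : GL (Fin (l + 1) ⊕ Fin (l + 1)) K) :
    twG l φ g = g ↔ ∀ x, g.1 *ᵥ gam φ x = gam φ (g.1 *ᵥ x) := by
  refine ⟨fun e x => by rw [← twG_gam, e], fun e => (glEquiv _ K).injective (LinearEquiv.ext fun x => ?_)⟩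
  have : x = gam φ (gam φ x) := by ext a; simp [gam, h]
  rw [this, glEquiv_apply, glEquiv_apply, twG_gam, ← e]

theorem mem_G_D [Finite K] (hl : 2 ≤ l) {g : GL (Fin (l + 1) ⊕ Fin (l + 1)) K} :
    g ∈ ((bdD l hl).mr.pre K).G ↔ glEquiv _ K g ∈ (plusForm (l + 1) K).om := by
  rw [(plusForm_nondeg _).om_eq_EG_of_five (by simp; omega), ← (fits_D K hl).map_G]
  exact (Subgroup.mem_map_iff_mem (f := (glEquiv _ K).toMonoidHom) (glEquiv _ K).injective).symm

theorem hasSt_twD [Finite K] (hl : 2 ≤ l) (φ : K →+* K) {Δ : Type*} [Group Δ] [Finite Δ]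
    {ι : Δ →* GL (Fin (l + 1) ⊕ Fin (l + 1)) K} (hι : Function.Injective ι) (p : ℕ) [Fact p.Prime] [CharP K p]
    (h1 : ∀ g, glEquiv _ K g ∈ (plusForm (l + 1) K).om → twG l φ g = g → ∀ k, g ^ p ^ k = 1 → g ∈ ι.range)
    (h2 : ∀ g, glEquiv _ K (ι g) ∈ (plusForm (l + 1) K).om ∧ twG l φ (ι g) = ι g) : HasSt p (Δ ⧸ Subgroup.center Δ) := by
  obtain ⟨T, e, -, -, hne⟩ := exists_twD hl ((bdD l hl).mr.isSt K) φ _ (twG_x hl φ)
  refine hasSt_tw ((bdD l hl).mr.isSt K) hne hι (M_le_of_p ((bdD l hl).mr.isSt K) p fun g hg h =>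
    h1 g ((mem_G_D hl).1 hg) (e ▸ h)) ?_ p
  rintro _ ⟨g, rfl⟩
  exact mi ((mem_G_D hl).2 (h2 g).1) (Tw.mem_Fix.2 (e ▸ (h2 g).2))

section B

/-- coordinates of the embedding of the odd form -/
def kB (l : ℕ) : Fin (l + 1) ⊕ Fin (l + 1) → Unit ⊕ (Fin l ⊕ Fin l) :=
  Sum.elim (Fin.lastCases (.inl ()) fun i => .inr (.inl i)) (Fin.lastCases (.inl ()) fun i => .inr (.inr i))

/-- a section of `kB` -/
def sB (l : ℕ) : Unit ⊕ (Fin l ⊕ Fin l) → Fin (l + 1) ⊕ Fin (l + 1) :=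
  Sum.elim (fun _ => .inl (Fin.last l)) (Sum.map Fin.castSucc Fin.castSucc)

theorem kB_sB (c) : kB l (sB l c) = c := by rcases c with _ | c | c <;> simp [kB, sB]

theorem kB_pi0 (a) : kB l (pi0 l a) = kB l a := by
  rw [pi0_eq]; split_ifs with h
  · rcases a with a | a <;> obtain rfl : a = _ := h <;> simp [kB]
  · rfl

theorem sB_kB (a) : sB l (kB l a) = a ∨ sB l (kB l a) = pi0 l a := by
  rcases a with a | a <;> induction a using Fin.lastCases <;> simp [kB, sB, pi0]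

/-- the embedding of the odd form -/
abbrev jB (l : ℕ) (K : Type*) [Field K] := LinearMap.funLeft K K (kB l)

theorem isom_jB : Form.IsIsom (oddForm l K) (plusForm (l + 1) K) (jB l K) := Form.IsIsom.of_Q fun x => by
  simp [oddForm_Q, plusForm_Q, quadFormOdd, quadFormPlus, Fin.sum_univ_castSucc, kB, add_comm, sq, LinearMap.funLeft_apply]

theorem gam_jB (w) : gam (.id K) (jB l K w) = jB l K w := by ext a; simp [gam, kB_pi0, LinearMap.funLeft_apply]

theorem jB_of_gam {x : Fin (l + 1) ⊕ Fin (l + 1) → K} (h : gam (.id K) x = x) : jB l K (x ∘ sB l) = x := by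
  ext a
  change x (sB l (kB l a)) = x a
  rcases sB_kB a with e | e <;> rw [e]
  exact congrFun h a

theorem B_gam (x y : Fin (l + 1) ⊕ Fin (l + 1) → K) :
    (plusForm (l + 1) K).B (gam (.id K) x) (gam (.id K) y) = (plusForm (l + 1) K).B x y := by
  simp [plusForm_B, Fin.sum_univ_castSucc, gam, pi0_eq, add_comm]

theorem gam_gam (x : Fin (l + 1) ⊕ Fin (l + 1) → K) : gam (.id K) (gam (.id K) x) = x := by ext a; simp [gam]

variable (h2 : (2 : K) ≠ 0)
include h2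

theorem perp_jB {x : Fin (l + 1) ⊕ Fin (l + 1) → K}
    (h : x ∈ (plusForm (l + 1) K).perp (LinearMap.range (jB l K))) : gam (.id K) x = -x := by
  have e : gam (.id K) (x + gam (.id K) x) = x + gam (.id K) x := by ext a; simp [gam, add_comm]
  have := oddForm_nondeg l h2 ((x + gam (.id K) x) ∘ sB l) fun y => by
    rw [← isom_jB.B, jB_of_gam e, Form.orth_B, QuadraticMap.polar_comm, ← Form.orth_B, Form.add_left, ← gam_jB y, B_gam,
      gam_jB, h _ ⟨y, rfl⟩, add_zero]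
  rw [← jB_of_gam e, this, map_zero] at e
  exact eq_neg_of_add_eq_zero_right ((jB_of_gam (by ext a; simp [gam, add_comm])).symm.trans (by rw [this, map_zero]))

theorem eq_of_gam {x : Fin (l + 1) ⊕ Fin (l + 1) → K} (h : gam (.id K) x = -x) :
    x = x (.inl (Fin.last l)) • (Pi.single (.inl (Fin.last l)) 1 - Pi.single (.inr (Fin.last l)) 1) := by
  ext a
  have := congrFun h a
  simp only [gam, pi0_eq, RingHom.id_apply, Pi.neg_apply] at this
  split_ifs at this with e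
  · rcases a with a | a <;> obtain rfl : a = _ := e <;> simp_all
  · have h0 : x a = 0 := (mul_eq_zero.1 (by linear_combination this : 2 * x a = 0)).resolve_left h2
    rcases a with a | a <;> simp_all

theorem exists_iotaB [Finite K] (hl : 2 ≤ l) :
    ∃ ι : Omega K (quadFormOdd l K) →* GL (Fin (l + 1) ⊕ Fin (l + 1)) K, Function.Injective ι ∧ ∀ g, g ∈ ι.range ↔
      glEquiv _ K g ∈ (plusForm (l + 1) K).om ∧ twG l (.id K) g = g ∧
        g.1 *ᵥ (Pi.single (.inl (Fin.last l)) 1 - Pi.single (.inr (Fin.last l)) 1) =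
          Pi.single (.inl (Fin.last l)) 1 - Pi.single (.inr (Fin.last l)) 1 := by
  have hS := oddForm_nondeg (F := K) l h2
  obtain ⟨Ψ, hΨ⟩ := Form.exists_isExt isom_jB hS
  have hv : (Pi.single (.inl (Fin.last l)) 1 - Pi.single (.inr (Fin.last l)) 1 : _ → K) ∈
      (plusForm (l + 1) K).perp (LinearMap.range (jB l K)) := by
    rintro _ ⟨y, rfl⟩
    simp [plusForm_B, Fin.sum_univ_castSucc, kB, LinearMap.funLeft_apply, Pi.single_apply, Fin.castSucc_ne_last]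
  have hi : Function.Injective Ψ := (injective_iff_map_eq_one Ψ).2 fun g hg => LinearEquiv.ext fun w =>
    isom_jB.injective hS (((hΨ g).left w).symm.trans (by rw [hg]; rfl))
  refine ⟨(glEquiv _ K).symm.toMonoidHom.comp (Ψ.comp (omHom _)), fun a b e =>
    omHom_inj _ (hi ((glEquiv _ K).symm.injective e)), fun g => ⟨?_, ?_⟩⟩
  · rintro ⟨g, rfl⟩
    have h := hΨ (omHom _ g)
    refine ⟨by simpa using h.mem_om isom_jB hS ((range_omHom (oddForm_Q l)).le ⟨g, rfl⟩),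
      (twG_eq_iff (fun _ => rfl) _).2 fun x => ?_, (glEquiv_symm_mulVec _ _).trans (h.right _ hv)⟩
    change ((glEquiv _ K).symm _).1 *ᵥ _ = gam _ (((glEquiv _ K).symm _).1 *ᵥ _)
    simp only [glEquiv_symm_mulVec]
    let γ : (Fin (l + 1) ⊕ Fin (l + 1) → K) ≃ₗ[K] _ := LinearEquiv.funCongrLeft K K (pi0 l)
    have hγ : ∀ x, γ x = gam (.id K) x := fun _ => rfl
    have : γ * Ψ (omHom _ g) * γ = Ψ (omHom _ g) := Form.IsExt.unique isom_jB hS ⟨fun w => by
      rw [LinearEquiv.mul_apply, LinearEquiv.mul_apply, hγ, hγ, gam_jB, h.left, gam_jB], fun x hx => by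
      rw [LinearEquiv.mul_apply, LinearEquiv.mul_apply, hγ, hγ, perp_jB h2 hx, map_neg, h.right x hx, ← perp_jB h2 hx, gam_gam]⟩ h
    exact (gam_gam _).symm.trans (congrArg (gam (.id K)) (LinearEquiv.congr_fun this x))
  · rintro ⟨h3, h4, h5⟩
    have k : ∀ g : GL (Fin (l + 1) ⊕ Fin (l + 1)) K, twG l (.id K) g = g → ∀ w,
        jB l K ((g.1 *ᵥ jB l K w) ∘ sB l) = g.1 *ᵥ jB l K w := fun g h w =>
      jB_of_gam (by rw [← (twG_eq_iff (fun _ => rfl) _).1 h, gam_jB])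
    have h4' : twG l (.id K) g⁻¹ = g⁻¹ := by rw [map_inv, h4]
    let f : GL (Fin (l + 1) ⊕ Fin (l + 1)) K → _ →ₗ[K] _ := fun g =>
      LinearMap.funLeft K K (sB l) ∘ₗ Matrix.toLin' g.1 ∘ₗ jB l K
    have kf : ∀ g g' : GL (Fin (l + 1) ⊕ Fin (l + 1)) K, twG l (.id K) g' = g' → g * g' = 1 → f g ∘ₗ f g' = .id :=
      fun g g' h e => LinearMap.ext fun w => by
        change (g.1 *ᵥ jB l K ((g'.1 *ᵥ jB l K w) ∘ sB l)) ∘ sB l = w
        rw [k g' h, mulVec_mulVec, ← Units.val_mul, e, Units.val_one, one_mulVec]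
        ext c
        exact congrArg w (kB_sB c)
    have h : (plusForm (l + 1) K).IsExt (jB l K) (.ofLinearMap (f g) (f g⁻¹) (kf _ _ h4' (by simp)) (kf _ _ h4 (by simp)))
        (glEquiv _ K g) := ⟨fun w => (k g h4 w).symm, fun x hx => by
      rw [eq_of_gam h2 (perp_jB h2 hx), map_smul, glEquiv_apply, h5]⟩
    have hG : ∃ a : K, a ≠ 0 ∧ a ≠ 1 := gen_of_two_ne_zero h2
    obtain ⟨a, ha⟩ := (range_omHom (oddForm_Q l)).ge ((h.mem_om_iff isom_jB hS (plusForm_nondeg _) (.inl hG) (.inl hG)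
      ((Form.orth_mem_isom _).2 fun w => by
        rw [← isom_jB.Q, ← h.left, Form.isom_Q (Form.om_le_isom h3), isom_jB.Q])).1 h3)
    exact ⟨a, (glEquiv _ K).symm_apply_eq.2 (Form.IsExt.unique isom_jB hS (ha ▸ hΨ _) h)⟩

theorem fix_v_of_odd {g : GL (Fin (l + 1) ⊕ Fin (l + 1)) K} (h : glEquiv _ K g ∈ (plusForm (l + 1) K).isom)
    (h' : twG l (.id K) g = g) {n : ℕ} (hn : Odd n) (e : g ^ n = 1) :
    g.1 *ᵥ (Pi.single (.inl (Fin.last l)) 1 - Pi.single (.inr (Fin.last l)) 1) =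
      Pi.single (.inl (Fin.last l)) 1 - Pi.single (.inr (Fin.last l)) 1 := by
  set v : Fin (l + 1) ⊕ Fin (l + 1) → K := Pi.single (.inl (Fin.last l)) 1 - Pi.single (.inr (Fin.last l)) 1 with hv
  have h1 : gam (.id K) v = -v := by
    ext a; rcases a with a | a <;> by_cases h : a = Fin.last l <;> simp [gam, hv, pi0_eq, h]
  have h3 := eq_of_gam h2 (x := g.1 *ᵥ v) (by rw [← (twG_eq_iff (fun _ => rfl) _).1 h', h1, mulVec_neg])
  rw [← hv] at h3
  generalize (g.1 *ᵥ v) (.inl (Fin.last l)) = c at h3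
  have h4 := Form.isom_Q h v
  have h5 : (plusForm (l + 1) K).Q v = -1 := by
    simp [plusForm_Q, quadFormPlus, hv, Fin.sum_univ_castSucc, Pi.single_apply, Fin.castSucc_ne_last]
  rw [glEquiv_apply, h3, Form.Q_smul, h5] at h4
  have h6 : ∀ k : ℕ, (g ^ k).1 *ᵥ v = c ^ k • v := fun k => by
    induction k with
    | zero => simp
    | succ k ih => rw [pow_succ, Units.val_mul, ← mulVec_mulVec, h3, mulVec_smul, ih, smul_smul, pow_succ']
  have h7 := congrFun (h6 n) (.inl (Fin.last l))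
  obtain ⟨k, rfl⟩ := hn
  rw [e, pow_succ, pow_mul, show c ^ 2 = 1 by linear_combination -h4] at h7
  rw [h3, show c = 1 by simpa [hv] using h7.symm, one_smul]

end B

theorem hasSt_POmega_odd {F : Type*} [Field F] [Fintype F] (p : ℕ) [hp : Fact p.Prime] [CharP F p]
    (hodd : Odd (Fintype.card F)) {m : ℕ} (hm : 1 ≤ m) : HasSt p (POmega F (quadFormOdd m F)) := by
  have h1 : p ≠ 2 := by
    rintro rfl
    obtain ⟨n, -, hn⟩ := FiniteField.card F 2
    exact (Nat.not_even_iff_odd.2 hodd) (hn ▸ (Nat.even_pow.2 ⟨even_two, n.ne_zero⟩))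
  have h2 : (2 : F) ≠ 0 := fun h =>
    h1 ((Nat.prime_dvd_prime_iff_eq hp.out Nat.prime_two).1 ((CharP.cast_eq_zero_iff F p 2).1 h))
  obtain rfl | hl := hm.eq_or_lt
  · obtain ⟨e⟩ := exists_omega_three (F := F) h2
    exact (hasSt_PSL p le_rfl).equiv ((pomEquiv (oddForm_Q 1)).trans e)
  obtain ⟨ι, hι, h⟩ := exists_iotaB h2 hl
  exact hasSt_twD hl (.id F) hι p (fun g a b k c => (h g).2 ⟨a, b, fix_v_of_odd h2 (Form.om_le_isom a) b
    (hp.out.odd_of_ne_two h1).pow c⟩) fun g => ⟨((h _).1 ⟨g, rfl⟩).1, ((h _).1 ⟨g, rfl⟩).2.1⟩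

end CfsgH8
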