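import Cfsg.Agent.H8.TD2

/-! The minus-type orthogonal groups as twisted groups of type `D`. -/

set_option autoImplicit false

namespace CfsgH8

open Finset Matrix CfsgH6 CfsgH6.PreSt CfsgH5 Cfsg Module

variable {l : ℕ} {K : Type*} [Field K]

/-- splitting the anisotropic plane over the quadratic extension -/
def eM (l : ℕ) (α β : K) : ((Fin l ⊕ Fin l) ⊕ Fin 2 → K) →ₗ[K] (Fin (l + 1) ⊕ Fin (l + 1) → K) where
  toFun z := Sum.elim (Fin.lastCases (z (.inr 0) - α * z (.inr 1)) fun i => z (.inl (.inl i)))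
    (Fin.lastCases (z (.inr 0) - β * z (.inr 1)) fun i => z (.inl (.inr i)))
  map_add' x y := by
    ext a; rcases a with a | a <;> induction a using Fin.lastCases <;> simp <;> ring
  map_smul' c x := by
    ext a; rcases a with a | a <;> induction a using Fin.lastCases <;> simp <;> ring

theorem isom_eM {α β a b : K} (h1 : α + β = -a) (h2 : α * β = b) :
    Form.IsIsom (minusForm l K a b) (plusForm (l + 1) K) (eM l α β) := Form.IsIsom.of_Q fun x => by
  simp only [minusForm_Q, plusForm_Q, quadFormMinus, quadFormPlus, Fin.sum_univ_castSucc, eM, LinearMap.coe_mk, AddHom.coe_mk,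
    Sum.elim_inl, Sum.elim_inr, Fin.lastCases_castSucc, Fin.lastCases_last]
  linear_combination (-x (.inr 0) * x (.inr 1)) * h1 + x (.inr 1) ^ 2 * h2

theorem gam_eM {φ : K →+* K} {α β : K} (h1 : φ α = β) (h2 : φ β = α) (z) :
    gam φ (eM l α β z) = eM l α β (vmap φ z) := by
  ext a
  rcases a with a | a <;> induction a using Fin.lastCases <;> simp [gam, eM, pi0_eq, vmap, h1, h2]

theorem map_mulVec_vmap {F : Type*} [Field F] {ι : Type*} [Fintype ι] (φ : F →+* K) (A : Matrix ι ι F) (z : ι → F) :
    A.map φ *ᵥ vmap φ z = vmap φ (A *ᵥ z) := by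
  ext a; simp [vmap, mulVec, dotProduct]

theorem exists_root_QE {F : Type*} [Field F] [Finite F] [Finite K] [Algebra F K] (E : QE F K) {a b : F}
    (hab : ∀ z₁ z₂ : F, z₁ ^ 2 + a * z₁ * z₂ + b * z₂ ^ 2 = 0 → z₁ = 0 ∧ z₂ = 0) :
    ∃ α : K, α + E.σ α = -algebraMap F K a ∧ α * E.σ α = algebraMap F K b := by
  let p : Polynomial F := Polynomial.C 1 * Polynomial.X ^ 2 + Polynomial.C a * Polynomial.X + Polynomial.C b
  have hp : p.natDegree = 2 := Polynomial.natDegree_quadratic one_ne_zero
  haveI : Fact (Irreducible p) := ⟨Polynomial.irreducible_of_degree_le_three_of_not_isRoot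
    (by simp [hp]) fun s hs => one_ne_zero (hab s 1 (by simpa [p] using hs)).2⟩
  obtain ⟨φ⟩ := FiniteField.nonempty_algHom_of_finrank_dvd (F := F) (K := AdjoinRoot p) (L := K) (by
    rw [(AdjoinRoot.powerBasis (Fact.out : Irreducible p).ne_zero).finrank, E.rank]; simp [hp])
  have := Polynomial.aeval_algHom_apply φ (AdjoinRoot.root p) p
  rw [AdjoinRoot.aeval_eq, AdjoinRoot.mk_self, map_zero] at this
  generalize φ (AdjoinRoot.root p) = s at this
  have h1 : s ^ 2 + algebraMap F K a * s + algebraMap F K b = 0 := by simpa [p] using this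
  have h2 := congrArg E.σ h1
  simp only [map_add, map_mul, map_pow, E.σ_alg, map_zero] at h2
  have h3 : s - E.σ s ≠ 0 := fun e => one_ne_zero (hab (E.r s) 1 ((algebraMap F K).injective (by
    simp [E.alg_r s (sub_eq_zero.1 e).symm, h1]))).2
  have h4 : s + E.σ s = -algebraMap F K a := mul_left_cancel₀ h3 (by linear_combination h1 - h2)
  exact ⟨s, h4, by linear_combination s * h4 - h1⟩

theorem hasSt_POmega_minus {F : Type*} [Field F] [Fintype F] (p : ℕ) [hp : Fact p.Prime] [CharP F p] (m : ℕ) {a b : F}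
    (hab : ∀ z₁ z₂ : F, z₁ ^ 2 + a * z₁ * z₂ + b * z₂ ^ 2 = 0 → z₁ = 0 ∧ z₂ = 0) :
    HasSt p (POmega F (quadFormMinus m F a b)) := by
  classical
  rcases m with _ | l
  · obtain ⟨e⟩ := Cfsg.Agent.S0306.result (F := F) rfl a b hab
    refine hasSt_of_comm fun a b => (commCongr e).injective ?_
    have key : ∀ x ∈ commutator (DihedralGroup (Fintype.card F + 1)), ∃ i, x = DihedralGroup.r i := fun x hx => by
      let s : DihedralGroup (Fintype.card F + 1) →* ℤˣ := MonoidHom.mk'
        (fun x => match x with | .r _ => 1 | .sr _ => -1) (by rintro (_ | _) (_ | _) <;> simp)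
      have := Abelianization.commutator_subset_ker s hx
      cases x
      · exact ⟨_, rfl⟩
      · simp [s] at this
    rw [map_mul, map_mul]
    obtain ⟨i, hi⟩ := key _ (commCongr e a).2
    obtain ⟨j, hj⟩ := key _ (commCongr e b).2
    apply Subtype.ext
    simp [hi, hj, add_comm]
  obtain ⟨K, _, _, hK⟩ : ∃ (K : Type) (_ : Field K) (_ : Fintype K), Fintype.card K = Fintype.card F ^ 2 := by
    letI := Fintype.ofFinite (FiniteField.Extension F p 2)
    exact ⟨FiniteField.Extension F p 2, inferInstance, inferInstance, by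
      rw [← Nat.card_eq_fintype_card, ← Nat.card_eq_fintype_card, FiniteField.natCard_extension]⟩
  obtain ⟨_, E, -⟩ := exists_QE hK rfl
  have := charP_of_injective_algebraMap (algebraMap F K).injective p
  rcases l with _ | l
  · obtain ⟨e⟩ := exists_omega_four_minus rfl hK hab
    exact (hasSt_PSL p le_rfl).equiv ((pomEquiv (minusForm_Q 1 a b)).trans e)
  have hl : 2 ≤ l + 1 + 1 := by omega
  generalize l + 1 + 1 = l at *
  obtain ⟨α, h1, h2⟩ := exists_root_QE E hab
  have hS := minusForm_nondeg_map (algebraMap F K) l hab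
  have hS₀ := minusForm_nondeg l hab
  have hi := isom_eM (l := l) h1 h2
  let e := (eM l α (E.σ α)).linearEquivOfInjective (hi.injective hS) (by simp; omega)
  have he : ∀ z, e z = eM l α (E.σ α) z := fun _ => rfl
  have hi' : Form.IsIsom _ _ e := hi
  have hG : GenC K ((Fin l ⊕ Fin l) ⊕ Fin 2) := genC_of (by simp; omega)
  have hG₀ : GenC F ((Fin l ⊕ Fin l) ⊕ Fin 2) := genC_of (by simp; omega)
  have hd := descG_dkG hS hG hG₀ (isExt_minus (algebraMap F K) l a b)
  simp only [descG_apply, one_mul, inv_one, mul_one] at hd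
  let θ := (glEquiv _ K).trans ((conjEquiv e).trans (glEquiv _ K).symm)
  have hθ : ∀ g, glEquiv _ K (θ g) = conjEquiv e (glEquiv _ K g) := fun g => (glEquiv _ K).apply_symm_apply _
  have hθ' : ∀ g z, (θ g).1 *ᵥ e z = e (g.1 *ᵥ z) := fun g z => by
    rw [← glEquiv_apply, hθ, conjEquiv_apply, e.symm_apply_apply, glEquiv_apply]
  have hf : ∀ g, twG l E.σ (θ g) = θ g ↔ ∀ z, g.1 *ᵥ vmap E.σ z = vmap E.σ (g.1 *ᵥ z) := fun g => by
    rw [twG_eq_iff E.σσ, e.surjective.forall]
    refine forall_congr' fun z => ?_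
    rw [hθ', he, he, gam_eM rfl (E.σσ α), gam_eM rfl (E.σσ α), ← he, ← he, hθ', e.injective.eq_iff]
  have hj : Function.Injective (GeneralLinearGroup.map (n := (Fin l ⊕ Fin l) ⊕ Fin 2) (algebraMap F K)) := fun a b h =>
    Units.ext (Matrix.map_injective (algebraMap F K).injective (congrArg Units.val h))
  refine hasSt_twD (Δ := Omega F (quadFormMinus l F a b)) hl E.σ (ι := θ.toMonoidHom.comp ((GeneralLinearGroup.map (algebraMap F K)).comp
    ((Subgroup.subtype _).comp (Subgroup.subtype _)))) (fun x y h => Subtype.ext (Subtype.ext (hj (θ.injective h)))) p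
    (fun g h3 h4 k h5 => ?_) fun g => ⟨?_, (hf _).2 fun z => ?_⟩
  · obtain ⟨g, rfl⟩ := θ.surjective g
    rw [hθ, hi'.conj_mem_om] at h3
    have h6 : (g.1.map E.r).map (algebraMap F K) = g.1 := by
      ext i j
      have := congrFun ((hf g).1 h4 (Pi.single j 1)) i
      rw [show vmap E.σ (Pi.single j 1) = Pi.single j 1 from funext fun i => by
        by_cases h : i = j <;> simp [vmap, h]] at this
      exact E.alg_r _ (by simpa [vmap] using this.symm)
    obtain ⟨g, rfl⟩ : ∃ g', GeneralLinearGroup.map (algebraMap F K) g' = g :=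
      ⟨GeneralLinearGroup.mkOfDetNeZero (g.1.map E.r) fun h => g.det_ne_zero (by
        rw [← h6, ← RingHom.mapMatrix_apply, ← RingHom.map_det, h, map_zero]), Units.ext h6⟩
    have h7 : g ∈ OG (minusForm l F a b) := (Form.orth_mem_isom _).2 fun z => (algebraMap F K).injective (by
      have k := (isExt_minus (algebraMap F K) l a b).Q
      simp only [Units.val_one, one_mulVec, one_mul] at k
      rw [← k, ← k, show glRho.toMonoidHom g z = g.1 *ᵥ z from rfl, ← map_mulVec_vmap]
      exact Form.isom_Q (Form.om_le_isom h3) _)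
    rw [← map_pow, ← map_pow, map_eq_one_iff _ θ.injective, map_eq_one_iff _ hj] at h5
    have h8 : glRho g ∈ (minusForm l F a b).om := (mem_om_iffG hS₀ hG₀).2 ⟨h7, (hd g h7).2.symm.trans
      ((mem_om_iffG hS hG).1 h3).2.1, by
        by_cases h : p = 2
        · exact spG_of_two hS₀ hG₀ (by simpa [h] using CharP.cast_eq_zero F p) h7
        have := hS₀.spin_pow h7 (p ^ k)
        rw [← map_pow, h5, map_one, hS₀.spin_one] at this
        obtain ⟨n, hn⟩ := (hp.out.odd_of_ne_two h).pow (n := k)
        rw [hn, pow_succ, pow_mul, Int.units_sq, one_pow, one_mul] at this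
        exact this.symm⟩
    obtain ⟨x, hx⟩ := (range_omHom (minusForm_Q l a b)).ge h8
    exact ⟨x, congrArg (fun y => θ (GeneralLinearGroup.map _ y)) ((glEquiv _ F).injective hx)⟩
  · erw [hθ, hi'.conj_mem_om]
    let f : isometryGroup F (quadFormMinus l F a b) →* _ := (glEquiv _ K).toMonoidHom.comp
      ((GeneralLinearGroup.map (algebraMap F K)).comp (Subgroup.subtype _))
    have : f.range ≤ (minusForm l K (algebraMap F K a) (algebraMap F K b)).isom := by
      rintro _ ⟨x, rfl⟩
      exact (hd x.1 (oHom_mem (minusForm_Q l a b) x)).1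
    refine Subgroup.commutator_mono this this ?_
    rw [MonoidHom.range_eq_map, ← Subgroup.map_commutator]
    exact Subgroup.mem_map_of_mem f g.2
  · rw [← map_mulVec_vmap]
    congr 1
    ext i j
    exact (E.σ_alg _).symm

end CfsgH8
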