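import Cfsg.Agent.H8.CRS6
import Cfsg.Agent.H6.Mul6

/-! The graph twist of the type `D` root data. -/

set_option autoImplicit false

namespace CfsgH8.TE

open Finset Matrix CfsgH6 CfsgH6.PreSt CfsgH5 Cfsg

section gen
variable {I R : Type} [Fintype I] [DecidableEq I] {Φ : CD I R} {F : Type*} [Field F] [Finite F] [Finite R]
  {Γ : Type*} [Group Γ] {X : PreSt Φ F Γ} {T : X.Tw}

theorem pUV (hX : X.IsSt) (p : ℕ) [Fact p.Prime] [CharP F p] : IsPGroup p X.U ∧ IsPGroup p X.V :=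
  ⟨(XS_isPGroup hX.sep1 p RS.ht).to_le (X.U_eq ▸ le_rfl), (XS_isPGroup hX.sep1 p (-RS.ht)).to_le (X.V_eq ▸ le_rfl)⟩

theorem M_le_of_p (hX : X.IsSt) (p : ℕ) [Fact p.Prime] [CharP F p] {K : Subgroup Γ}
    (h : ∀ g ∈ X.G, T.σ g = g → ∀ k, g ^ p ^ k = 1 → g ∈ K) : T.M ≤ K := T.M_le.2 fun i =>
  ⟨fun g hg => by
    obtain ⟨k, hk⟩ := (pUV hX p).1 ⟨g, XP_le_U _ (il hg)⟩
    exact h g (T.M_le_G (T.XP_le_M i hg)) (ir hg) k (congrArg Subtype.val hk), fun g hg => by
    obtain ⟨k, hk⟩ := (pUV hX p).2 ⟨g, XM_le_V _ (il hg)⟩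
    exact h g (T.M_le_G (T.XM_le_M i hg)) (ir hg) k (congrArg Subtype.val hk)⟩

end gen

variable {l : ℕ}

/-- swap the last hyperbolic pair -/
def pi0 (l : ℕ) : Equiv.Perm (Fin (l + 1) ⊕ Fin (l + 1)) := Equiv.swap (.inl (Fin.last l)) (.inr (Fin.last l))

/-- negate the last coordinate -/
def rv (v : Fin (l + 1) → ℤ) : Fin (l + 1) → ℤ := fun i => if i = Fin.last l then -v i else v i

theorem pi0_eq (a : Fin (l + 1) ⊕ Fin (l + 1)) : pi0 l a = if ix a = Fin.last l then a.swap else a := by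
  rcases a with a | a <;> by_cases h : a = Fin.last l <;> simp [pi0, h, Equiv.swap_apply_def]

@[simp] theorem pi0_pi0 (a : Fin (l + 1) ⊕ Fin (l + 1)) : pi0 l (pi0 l a) = a := Equiv.swap_apply_self _ _ _

@[simp] theorem ix_pi0 (a : Fin (l + 1) ⊕ Fin (l + 1)) : ix (pi0 l a) = ix a := by
  rw [pi0_eq]; split_ifs <;> simp

theorem pi0_swap (a : Fin (l + 1) ⊕ Fin (l + 1)) : pi0 l a.swap = (pi0 l a).swap := by
  rw [pi0_eq, pi0_eq, ix_swap]; split_ifs <;> simp

@[simp] theorem rv_rv (v : Fin (l + 1) → ℤ) : rv (rv v) = v := by ext i; simp only [rv]; split_ifs <;> simp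
theorem rv_add (v w : Fin (l + 1) → ℤ) : rv (v + w) = rv v + rv w := by
  ext i; simp only [rv, Pi.add_apply]; split_ifs <;> ring
theorem rv_sub (v w : Fin (l + 1) → ℤ) : rv (v - w) = rv v - rv w := by
  ext i; simp only [rv, Pi.sub_apply]; split_ifs <;> ring
theorem rv_neg (v : Fin (l + 1) → ℤ) : rv (-v) = -rv v := by
  ext i; simp only [rv, Pi.neg_apply]; split_ifs <;> ring
theorem rv_dot (v w : Fin (l + 1) → ℤ) : rv v ⬝ᵥ rv w = v ⬝ᵥ w :=
  sum_congr rfl fun i _ => by simp only [rv]; split_ifs <;> ring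
theorem rv_inj {v w : Fin (l + 1) → ℤ} : rv v = rv w ↔ v = w :=
  ⟨fun h => by rw [← rv_rv v, h, rv_rv], fun h => h ▸ rfl⟩

theorem rv_ev (a : Fin (l + 1)) : rv (ev a) = if a = Fin.last l then -ev a else ev a := by
  ext i; by_cases h : a = Fin.last l <;> by_cases h' : i = Fin.last l <;> simp [rv, h, h', Pi.single_apply, eq_comm]

theorem wb_pi0 (a : Fin (l + 1) ⊕ Fin (l + 1)) : wb (pi0 l a) = rv (wb a) := by
  rw [pi0_eq]
  rcases a with a | a <;> by_cases h : a = Fin.last l <;> simp [h, rv_neg, rv_ev]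

variable (hl : 2 ≤ l)

theorem s_pi0 (a b : Fin (l + 1) ⊕ Fin (l + 1)) : (bdD l hl).s (pi0 l a) (pi0 l b) = (bdD l hl).s a b := by
  simp only [bdD, ix_pi0]
  split_ifs with h h'
  · rw [pi0_eq, if_neg (Fin.ne_last_of_lt h)]
  · rw [pi0_eq, if_neg (Fin.ne_last_of_lt h')]
  · rfl

theorem root_rv {v : Fin (l + 1) → ℤ} (h : (bdD l hl).mr.IsRoot v) : (bdD l hl).mr.IsRoot (rv v) := by
  obtain ⟨⟨a, b, rfl⟩, h1, h2⟩ := h
  refine ⟨⟨pi0 l a, pi0 l b, ?_⟩, fun e => h1 (rv_inj.1 (e.trans ?_)), by rwa [rv_dot]⟩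
  · exact (rv_sub _ _).trans (congrArg₂ _ (wb_pi0 a).symm (wb_pi0 b).symm)
  · ext i; simp [rv]

/-- the graph symmetry on roots -/
def rho : Equiv.Perm (bdD l hl).mr.R :=
  Function.Involutive.toPerm (fun r => ⟨rv r.1, root_rv hl r.2⟩) fun r => Subtype.ext (rv_rv r.1)

theorem rho_val (r : (bdD l hl).mr.R) : (rho hl r).1 = rv r.1 := rfl
@[simp] theorem rho_rho (r : (bdD l hl).mr.R) : rho hl (rho hl r) = r := Subtype.ext (rv_rv r.1)
theorem rho_neg (r : (bdD l hl).mr.R) : rho hl ((bdD l hl).mr.cd.neg r) = (bdD l hl).mr.cd.neg (rho hl r) :=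
  Subtype.ext (rv_neg r.1)

theorem X_rv (v : Fin (l + 1) → ℤ) : (bdD l hl).mr.X (rv v) = ((bdD l hl).mr.X v).submatrix (pi0 l) (pi0 l) := by
  ext a b
  change (if wb a - wb b = rv v then (bdD l hl).s a b else 0) =
    if wb (pi0 l a) - wb (pi0 l b) = v then (bdD l hl).s (pi0 l a) (pi0 l b) else 0
  rw [s_pi0, wb_pi0, wb_pi0, ← rv_sub]
  exact if_congr (by rw [← rv_inj (w := v), rv_rv]) rfl rfl

/-- the graph symmetry on the nodes -/
def piD : Equiv.Perm (Fin (l + 1)) := Equiv.swap (bdD l hl).p (Fin.last l)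

theorem p_ne : (bdD l hl).p ≠ Fin.last l := by simp [bdD, Fin.ext_iff]; omega

theorem α_p : (bdD l hl).α (bdD l hl).p = ev (bdD l hl).p - ev (Fin.last l) :=
  ((bdD l hl).α_cast ⟨l - 1, by omega⟩).trans (by simp [bdD, Fin.last, show l - 1 + 1 = l by omega])

theorem rho_sim (i : Fin (l + 1)) : rho hl ((bdD l hl).mr.cd.sim i) = (bdD l hl).mr.cd.sim (piD hl i) := by
  apply Subtype.ext
  change rv ((bdD l hl).α i) = (bdD l hl).α (piD hl i)
  by_cases h : i = (bdD l hl).p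
  · rw [h, piD, Equiv.swap_apply_left, α_p, BD.α_last, rv_sub, rv_ev, rv_ev, if_neg (p_ne hl), if_pos rfl, sub_neg_eq_add]
  by_cases h' : i = Fin.last l
  · rw [h', piD, Equiv.swap_apply_right, α_p, BD.α_last, rv_add, rv_ev, rv_ev, if_neg (p_ne hl), if_pos rfl, sub_eq_add_neg]
  rw [piD, Equiv.swap_apply_of_ne_of_ne h h']
  obtain ⟨j, rfl⟩ := Fin.exists_castSucc_eq.2 h'
  rw [BD.α_cast, rv_sub, rv_ev, rv_ev, if_neg h', if_neg fun e => h ?_]
  simp only [bdD, Fin.ext_iff, Fin.val_succ, Fin.val_last, Fin.val_castSucc] at e ⊢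
  omega

variable {K : Type*} [Field K]

/-- twisting of matrices -/
def twM (l : ℕ) (φ : K →+* K) : Matrix (Fin (l + 1) ⊕ Fin (l + 1)) (Fin (l + 1) ⊕ Fin (l + 1)) K →+*
    Matrix (Fin (l + 1) ⊕ Fin (l + 1)) (Fin (l + 1) ⊕ Fin (l + 1)) K :=
  (reindexAlgEquiv K K (pi0 l).symm).toRingEquiv.toRingHom.comp φ.mapMatrix

theorem twM_apply (φ : K →+* K) (A) (a b) : twM l φ A a b = φ (A (pi0 l a) (pi0 l b)) := rfl

/-- twisting of invertible matrices -/
def twG (l : ℕ) (φ : K →+* K) : GL (Fin (l + 1) ⊕ Fin (l + 1)) K →* GL (Fin (l + 1) ⊕ Fin (l + 1)) K :=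
  Units.map (twM l φ).toMonoidHom

theorem twG_x (φ : K →+* K) (r : (bdD l hl).mr.R) (t : K) :
    twG l φ (((bdD l hl).mr.pre K).x r t) = ((bdD l hl).mr.pre K).x (rho hl r) (φ t) := by
  apply Units.ext
  change twM l φ _ = _
  rw [MR.coe_x, MR.coe_x, map_add, map_one, rho_val, X_rv]
  congr 1
  ext a b
  simp [twM_apply]

theorem norm_D (r : (bdD l hl).mr.R) : r.1 ⬝ᵥ r.1 = 2 := r.2.norm.resolve_right fun h => by
  have := r.2.2.2
  change _ ≤ (2 : ℤ) at this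
  omega

theorem rho_ne_neg (r : (bdD l hl).mr.R) : rho hl r ≠ (bdD l hl).mr.cd.neg r := fun h => by
  have h1 := norm_D hl r
  rw [dotProduct, sum_eq_single (Fin.last l) (fun i _ hi => by
    have : rv r.1 i = -r.1 i := congrFun (congrArg Subtype.val h) i
    rw [rv, if_neg hi] at this
    rw [show r.1 i = 0 by omega, mul_zero]) (by simp)] at h1
  generalize r.1 (Fin.last l) = c at h1
  have : c ≤ 1 := by nlinarith
  have : -1 ≤ c := by nlinarith
  interval_cases c <;> omega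

theorem not_root_add (r : (bdD l hl).mr.R) : ¬ (bdD l hl).mr.IsRoot (r.1 + rv r.1) := fun h => by
  have h1 := norm_D hl ⟨_, h⟩
  have : (4 : ℤ) ∣ (r.1 + rv r.1) ⬝ᵥ (r.1 + rv r.1) := dvd_sum fun i _ => by
    simp only [rv, Pi.add_apply]
    split_ifs
    · simp
    · exact ⟨r.1 i * r.1 i, by ring⟩
  change (r.1 + rv r.1) ⬝ᵥ (r.1 + rv r.1) = 2 at h1
  omega

variable {Γ : Type*} [Group Γ] {X : PreSt (bdD l hl).mr.cd K Γ}

theorem x_comm_rho (r : (bdD l hl).mr.R) (t u : K) : X.x (rho hl r) u * X.x r t = X.x r t * X.x (rho hl r) u := by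
  by_cases h : rho hl r = r
  · rw [h, X.add, X.add, add_comm u]
  rw [X.comm r _ t u h (rho_ne_neg hl r)]
  change _ * (((bdD l hl).mr.tm r (rho hl r)).map _).prod = _
  rw [MR.tm_two rfl fun e => rho_ne_neg hl r (Subtype.ext e), rho_val, MR.tl_neg (not_root_add hl r), List.map_nil,
    List.prod_nil, mul_one]

variable [Finite K]

theorem exists_twD (hX : X.IsSt) (φ : K →+* K) (σ : Γ →* Γ) (h : ∀ r t, σ (X.x r t) = X.x (rho hl r) (φ t)) :
    ∃ T : X.Tw, T.σ = σ ∧ T.π = piD hl ∧ T.ρ = rho hl ∧ T.Ne := by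
  have hb : Function.Bijective φ := Finite.injective_iff_bijective.1 φ.injective
  obtain ⟨T, h1, h2⟩ := hX.exists_tw σ (piD hl) (fun _ => φ) (fun _ => φ) (fun _ => hb) (fun _ => hb)
    (fun i t => by rw [h, rho_sim]) (fun i t => by rw [h, rho_neg, rho_sim]) (fun i t _ => by simp)
  refine ⟨T, h1, h2, Equiv.ext fun r => hX.root_eq ((T.σ_x r 1).symm.trans (h1 ▸ h r 1)) (T.τ_ne r one_ne_zero), fun i => ?_⟩
  have m : ∀ j ∈ T.orb i, X.x ((bdD l hl).mr.cd.neg ((bdD l hl).mr.cd.sim j)) 1 ∈ X.XM (T.orb i) := fun j hj =>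
    X.x_mem_XS (S := {r | ¬(bdD l hl).mr.cd.Pos r ∧ (bdD l hl).mr.cd.InJ (T.orb i) r})
      ⟨fun h => (RS.pos_neg_iff _ _).1 h (RS.pos_sim _ j), (RS.inJ_neg _).2 ((RS.inJ_sim _).2 hj)⟩ 1
  by_cases e : piD hl i = i
  · exact ⟨_, m i (T.mem_orb_self i), by rw [h1, h, rho_neg, rho_sim, e, map_one], fun e' => one_ne_zero (hX.x_eq_one e')⟩
  refine ⟨_, mul_mem (m i (T.mem_orb_self i)) (m _ (h2 ▸ T.π_mem_orb i (T.mem_orb_self i))), ?_, fun e' => ?_⟩
  · rw [h1, map_mul, h, h, rho_neg, rho_neg, rho_sim, rho_sim, map_one, show piD hl (piD hl i) = i from Equiv.swap_apply_self _ _ _,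
      ← rho_sim, ← rho_neg, x_comm_rho]
  · have := hX.root_eq ((eq_inv_of_mul_eq_one_left e').trans (X.x_inv _ _)) one_ne_zero
    exact e ((bdD l hl).mr.cd.sim_injective ((bdD l hl).mr.cd.neg_injective this)).symm

end CfsgH8.TE

/-! The odd-dimensional and the minus-type orthogonal groups as twisted groups of type `D`. -/

set_option autoImplicit false

namespace CfsgH8.TE

open Finset Matrix CfsgH6 CfsgH6.PreSt CfsgH5 Cfsg Module

variable {l : ℕ} {K : Type*} [Field K]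

/-- the semilinear involution -/
def gam (φ : K →+* K) (x : Fin (l + 1) ⊕ Fin (l + 1) → K) : Fin (l + 1) ⊕ Fin (l + 1) → K := fun a => φ (x (pi0 l a))

theorem twG_gam (φ : K →+* K) (g : GL (Fin (l + 1) ⊕ Fin (l + 1)) K) (x) :
    (twG l φ g).1 *ᵥ gam φ x = gam φ (g.1 *ᵥ x) := by
  ext a
  change ∑ b, φ (g.1 (pi0 l a) (pi0 l b)) * φ (x (pi0 l b)) = φ (∑ b, g.1 (pi0 l a) b * x b)
  rw [map_sum, ← Equiv.sum_comp (pi0 l)]
  simp

theorem twG_eq_iff {φ : K →+* K} (h : ∀ a, φ (φ a) = a) (g : GL (Fin (l + 1) ⊕ Fin (l + 1)) K) :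
    twG l φ g = g ↔ ∀ x, g.1 *ᵥ gam φ x = gam φ (g.1 *ᵥ x) := by
  refine ⟨fun e x => by rw [← twG_gam, e], fun e => (glEquiv _ K).injective (LinearEquiv.ext fun x => ?_)⟩
  have : x = gam φ (gam φ x) := by ext a; simp [gam, h]
  rw [this, glEquiv_apply, glEquiv_apply, twG_gam, ← e]

theorem mem_G_D [Finite K] (hl : 2 ≤ l) {g : GL (Fin (l + 1) ⊕ Fin (l + 1)) K} :
    g ∈ ((bdD l hl).mr.pre K).G ↔ glEquiv _ K g ∈ (plusForm (l + 1) K).om := by
  rw [(plusForm_nondeg _).om_eq_EG_of_five (by simp; omega), ← (fits_D K hl).map_G]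
  exact (Subgroup.mem_map_iff_mem (f := (glEquiv _ K).toMonoidHom) (glEquiv _ K).injective).symm

section B

/-- coordinates of the embedding of the odd form -/
def kB (l : ℕ) : Fin (l + 1) ⊕ Fin (l + 1) → Unit ⊕ (Fin l ⊕ Fin l) :=
  Sum.elim (Fin.lastCases (.inl ()) fun i => .inr (.inl i)) (Fin.lastCases (.inl ()) fun i => .inr (.inr i))

/-- a section of `kB` -/
def sB (l : ℕ) : Unit ⊕ (Fin l ⊕ Fin l) → Fin (l + 1) ⊕ Fin (l + 1) :=
  Sum.elim (fun _ => .inl (Fin.last l)) (Sum.map Fin.castSucc Fin.castSucc)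

theorem kB_sB (c) : kB l (sB l c) = c := by rcases c with _ | c | c <;> simp [kB, sB]

theorem kB_pi0 (a) : kB l (pi0 l a) = kB l a := by
  rw [pi0_eq]; split_ifs with h
  · rcases a with a | a <;> obtain rfl : a = _ := h <;> simp [kB]
  · rfl

theorem sB_kB (a) : sB l (kB l a) = a ∨ sB l (kB l a) = pi0 l a := by
  rcases a with a | a <;> induction a using Fin.lastCases <;> simp [kB, sB, pi0]

/-- the embedding of the odd form -/
abbrev jB (l : ℕ) (K : Type*) [Field K] := LinearMap.funLeft K K (kB l)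

theorem isom_jB : Form.IsIsom (oddForm l K) (plusForm (l + 1) K) (jB l K) := Form.IsIsom.of_Q fun x => by
  simp [oddForm_Q, plusForm_Q, quadFormOdd, quadFormPlus, Fin.sum_univ_castSucc, kB, add_comm, sq, LinearMap.funLeft_apply]

theorem gam_jB (w) : gam (.id K) (jB l K w) = jB l K w := by ext a; simp [gam, kB_pi0, LinearMap.funLeft_apply]

theorem jB_of_gam {x : Fin (l + 1) ⊕ Fin (l + 1) → K} (h : gam (.id K) x = x) : jB l K (x ∘ sB l) = x := by
  ext a
  change x (sB l (kB l a)) = x a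
  rcases sB_kB a with e | e <;> rw [e]
  exact congrFun h a

theorem B_gam (x y : Fin (l + 1) ⊕ Fin (l + 1) → K) :
    (plusForm (l + 1) K).B (gam (.id K) x) (gam (.id K) y) = (plusForm (l + 1) K).B x y := by
  simp [plusForm_B, Fin.sum_univ_castSucc, gam, pi0_eq, add_comm]

theorem gam_gam (x : Fin (l + 1) ⊕ Fin (l + 1) → K) : gam (.id K) (gam (.id K) x) = x := by ext a; simp [gam]

variable (h2 : (2 : K) ≠ 0)
include h2

theorem perp_jB {x : Fin (l + 1) ⊕ Fin (l + 1) → K}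
    (h : x ∈ (plusForm (l + 1) K).perp (LinearMap.range (jB l K))) : gam (.id K) x = -x := by
  have e : gam (.id K) (x + gam (.id K) x) = x + gam (.id K) x := by ext a; simp [gam, add_comm]
  have := oddForm_nondeg l h2 ((x + gam (.id K) x) ∘ sB l) fun y => by
    rw [← isom_jB.B, jB_of_gam e, Form.orth_B, QuadraticMap.polar_comm, ← Form.orth_B, Form.add_left, ← gam_jB y, B_gam,
      gam_jB, h _ ⟨y, rfl⟩, add_zero]
  rw [← jB_of_gam e, this, map_zero] at e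
  exact eq_neg_of_add_eq_zero_right ((jB_of_gam (by ext a; simp [gam, add_comm])).symm.trans (by rw [this, map_zero]))

theorem eq_of_gam {x : Fin (l + 1) ⊕ Fin (l + 1) → K} (h : gam (.id K) x = -x) :
    x = x (.inl (Fin.last l)) • (Pi.single (.inl (Fin.last l)) 1 - Pi.single (.inr (Fin.last l)) 1) := by
  ext a
  have := congrFun h a
  simp only [gam, pi0_eq, RingHom.id_apply, Pi.neg_apply] at this
  split_ifs at this with e
  · rcases a with a | a <;> obtain rfl : a = _ := e <;> simp_all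
  · have h0 : x a = 0 := (mul_eq_zero.1 (by linear_combination this : 2 * x a = 0)).resolve_left h2
    rcases a with a | a <;> simp_all

theorem exists_iotaB [Finite K] (hl : 2 ≤ l) :
    ∃ ι : Omega K (quadFormOdd l K) →* GL (Fin (l + 1) ⊕ Fin (l + 1)) K, Function.Injective ι ∧ ∀ g, g ∈ ι.range ↔
      glEquiv _ K g ∈ (plusForm (l + 1) K).om ∧ twG l (.id K) g = g ∧
        g.1 *ᵥ (Pi.single (.inl (Fin.last l)) 1 - Pi.single (.inr (Fin.last l)) 1) =
          Pi.single (.inl (Fin.last l)) 1 - Pi.single (.inr (Fin.last l)) 1 := by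
  have hS := oddForm_nondeg (F := K) l h2
  obtain ⟨Ψ, hΨ⟩ := Form.exists_isExt isom_jB hS
  have hv : (Pi.single (.inl (Fin.last l)) 1 - Pi.single (.inr (Fin.last l)) 1 : _ → K) ∈
      (plusForm (l + 1) K).perp (LinearMap.range (jB l K)) := by
    rintro _ ⟨y, rfl⟩
    simp [plusForm_B, Fin.sum_univ_castSucc, kB, LinearMap.funLeft_apply, Pi.single_apply, Fin.castSucc_ne_last]
  have hi : Function.Injective Ψ := (injective_iff_map_eq_one Ψ).2 fun g hg => LinearEquiv.ext fun w =>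
    isom_jB.injective hS (((hΨ g).left w).symm.trans (by rw [hg]; rfl))
  refine ⟨(glEquiv _ K).symm.toMonoidHom.comp (Ψ.comp (omHom _)), fun a b e =>
    omHom_inj _ (hi ((glEquiv _ K).symm.injective e)), fun g => ⟨?_, ?_⟩⟩
  · rintro ⟨g, rfl⟩
    have h := hΨ (omHom _ g)
    refine ⟨by simpa using h.mem_om isom_jB hS ((range_omHom (oddForm_Q l)).le ⟨g, rfl⟩),
      (twG_eq_iff (fun _ => rfl) _).2 fun x => ?_, (glEquiv_symm_mulVec _ _).trans (h.right _ hv)⟩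
    change ((glEquiv _ K).symm _).1 *ᵥ _ = gam _ (((glEquiv _ K).symm _).1 *ᵥ _)
    simp only [glEquiv_symm_mulVec]
    let γ : (Fin (l + 1) ⊕ Fin (l + 1) → K) ≃ₗ[K] _ := LinearEquiv.funCongrLeft K K (pi0 l)
    have hγ : ∀ x, γ x = gam (.id K) x := fun _ => rfl
    have : γ * Ψ (omHom _ g) * γ = Ψ (omHom _ g) := Form.IsExt.unique isom_jB hS ⟨fun w => by
      rw [LinearEquiv.mul_apply, LinearEquiv.mul_apply, hγ, hγ, gam_jB, h.left, gam_jB], fun x hx => by
      rw [LinearEquiv.mul_apply, LinearEquiv.mul_apply, hγ, hγ, perp_jB h2 hx, map_neg, h.right x hx, ← perp_jB h2 hx, gam_gam]⟩ h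
    exact (gam_gam _).symm.trans (congrArg (gam (.id K)) (LinearEquiv.congr_fun this x))
  · rintro ⟨h3, h4, h5⟩
    have k : ∀ g : GL (Fin (l + 1) ⊕ Fin (l + 1)) K, twG l (.id K) g = g → ∀ w,
        jB l K ((g.1 *ᵥ jB l K w) ∘ sB l) = g.1 *ᵥ jB l K w := fun g h w =>
      jB_of_gam (by rw [← (twG_eq_iff (fun _ => rfl) _).1 h, gam_jB])
    have h4' : twG l (.id K) g⁻¹ = g⁻¹ := by rw [map_inv, h4]
    let f : GL (Fin (l + 1) ⊕ Fin (l + 1)) K → _ →ₗ[K] _ := fun g =>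
      LinearMap.funLeft K K (sB l) ∘ₗ Matrix.toLin' g.1 ∘ₗ jB l K
    have kf : ∀ g g' : GL (Fin (l + 1) ⊕ Fin (l + 1)) K, twG l (.id K) g' = g' → g * g' = 1 → f g ∘ₗ f g' = .id :=
      fun g g' h e => LinearMap.ext fun w => by
        change (g.1 *ᵥ jB l K ((g'.1 *ᵥ jB l K w) ∘ sB l)) ∘ sB l = w
        rw [k g' h, mulVec_mulVec, ← Units.val_mul, e, Units.val_one, one_mulVec]
        ext c
        exact congrArg w (kB_sB c)
    have h : (plusForm (l + 1) K).IsExt (jB l K) (.ofLinearMap (f g) (f g⁻¹) (kf _ _ h4' (by simp)) (kf _ _ h4 (by simp)))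
        (glEquiv _ K g) := ⟨fun w => (k g h4 w).symm, fun x hx => by
      rw [eq_of_gam h2 (perp_jB h2 hx), map_smul, glEquiv_apply, h5]⟩
    have hG : ∃ a : K, a ≠ 0 ∧ a ≠ 1 := gen_of_two_ne_zero h2
    obtain ⟨a, ha⟩ := (range_omHom (oddForm_Q l)).ge ((h.mem_om_iff isom_jB hS (plusForm_nondeg _) (.inl hG) (.inl hG)
      ((Form.orth_mem_isom _).2 fun w => by
        rw [← isom_jB.Q, ← h.left, Form.isom_Q (Form.om_le_isom h3), isom_jB.Q])).1 h3)
    exact ⟨a, (glEquiv _ K).symm_apply_eq.2 (Form.IsExt.unique isom_jB hS (ha ▸ hΨ _) h)⟩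

theorem fix_v_of_odd {g : GL (Fin (l + 1) ⊕ Fin (l + 1)) K} (h : glEquiv _ K g ∈ (plusForm (l + 1) K).isom)
    (h' : twG l (.id K) g = g) {n : ℕ} (hn : Odd n) (e : g ^ n = 1) :
    g.1 *ᵥ (Pi.single (.inl (Fin.last l)) 1 - Pi.single (.inr (Fin.last l)) 1) =
      Pi.single (.inl (Fin.last l)) 1 - Pi.single (.inr (Fin.last l)) 1 := by
  set v : Fin (l + 1) ⊕ Fin (l + 1) → K := Pi.single (.inl (Fin.last l)) 1 - Pi.single (.inr (Fin.last l)) 1 with hv
  have h1 : gam (.id K) v = -v := by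
    ext a; rcases a with a | a <;> by_cases h : a = Fin.last l <;> simp [gam, hv, pi0_eq, h]
  have h3 := eq_of_gam h2 (x := g.1 *ᵥ v) (by rw [← (twG_eq_iff (fun _ => rfl) _).1 h', h1, mulVec_neg])
  rw [← hv] at h3
  generalize (g.1 *ᵥ v) (.inl (Fin.last l)) = c at h3
  have h4 := Form.isom_Q h v
  have h5 : (plusForm (l + 1) K).Q v = -1 := by
    simp [plusForm_Q, quadFormPlus, hv, Fin.sum_univ_castSucc, Pi.single_apply, Fin.castSucc_ne_last]
  rw [glEquiv_apply, h3, Form.Q_smul, h5] at h4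
  have h6 : ∀ k : ℕ, (g ^ k).1 *ᵥ v = c ^ k • v := fun k => by
    induction k with
    | zero => simp
    | succ k ih => rw [pow_succ, Units.val_mul, ← mulVec_mulVec, h3, mulVec_smul, ih, smul_smul, pow_succ']
  have h7 := congrFun (h6 n) (.inl (Fin.last l))
  obtain ⟨k, rfl⟩ := hn
  rw [e, pow_succ, pow_mul, show c ^ 2 = 1 by linear_combination -h4] at h7
  rw [h3, show c = 1 by simpa [hv] using h7.symm, one_smul]

end B

end CfsgH8.TE
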