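import Cfsg.Agent.H8.TE1

/-! Vanishing of invariant pairings in covers of twisted groups. -/

set_option autoImplicit false

namespace CfsgH8.TE

open Finset Matrix CfsgH6 CfsgH6.PreSt CfsgH5 Cfsg Module Subgroup
open scoped commutatorElement

universe u

section grp
variable {E Γ : Type*} [Group E] [Group Γ] {ρ : E →* Γ} (hc : ρ.ker ≤ center E)
include hc

theorem comm_congr {x x' y y' : E} (h : ρ x = ρ x') (h' : ρ y = ρ y') : ⁅x, y⁆ = ⁅x', y'⁆ := by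
  have k : ∀ {x x' : E}, ρ x = ρ x' → ∀ y, ⁅x, y⁆ = ⁅x', y⁆ := fun {x x'} h y => by
    have := mem_center_iff.1 (hc (show x'⁻¹ * x ∈ ρ.ker by simp [MonoidHom.mem_ker, h])) y
    rw [commutatorElement_def, commutatorElement_def, show x = x' * (x'⁻¹ * x) by simp, mul_assoc x', ← this]
    group
  rw [k h, ← commutatorElement_inv, k h', commutatorElement_inv]

theorem commute_congr {x x' y y' : E} (h : ρ x = ρ x') (h' : ρ y = ρ y') (e : Commute x y) : Commute x' y' := by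
  rwa [← commutatorElement_eq_one_iff_commute, ← comm_congr hc h h', commutatorElement_eq_one_iff_commute]

theorem commute_of_swap {x y n : E} (h : Commute (ρ x) (ρ y)) (h3 : ρ x ^ 3 = 1)
    (hn : (ρ n * ρ x * (ρ n)⁻¹ = ρ y ∧ ρ n * ρ y * (ρ n)⁻¹ = ρ x) ∨
      (ρ n * ρ x * (ρ n)⁻¹ = (ρ y)⁻¹ ∧ ρ n * ρ y * (ρ n)⁻¹ = (ρ x)⁻¹)) : Commute x y := by
  have hz := mem_center_iff.1 (hc (show ⁅x, y⁆ ∈ ρ.ker by
    rwa [MonoidHom.mem_ker, map_commutatorElement, commutatorElement_eq_one_iff_commute]))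
  have e1 : ⁅n * x * n⁻¹, n * y * n⁻¹⁆ = ⁅x, y⁆ := by
    rw [← conjugate_commutatorElement, hz n, mul_inv_cancel_right]
  have e2 : ⁅x⁻¹, y⁻¹⁆ = ⁅x, y⁆ := by
    have := hz (y * x)⁻¹
    rw [← mul_inv_eq_iff_eq_mul] at this
    rw [← this, commutatorElement_def, commutatorElement_def]; group
  have e3 : ⁅x, y⁆⁻¹ = ⁅x, y⁆ := by
    rcases hn with h | h
    · rw [commutatorElement_inv, ← e1]; exact comm_congr hc (by simp [h]) (by simp [h])
    · rw [← e2, commutatorElement_inv, e2, ← e1]; exact comm_congr hc (by simp [h]) (by simp [h])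
  have e4 : ⁅x ^ 3, y⁆ = 1 := (comm_congr hc (x' := 1) (by simp [h3]) rfl).trans (commutatorElement_one_left y)
  have e5 : ∀ a, ⁅x * a, y⁆ = x * ⁅a, y⁆ * x⁻¹ * ⁅x, y⁆ := fun a => by simp only [commutatorElement_def]; group
  rw [pow_succ', pow_two, e5, e5, hz x, mul_inv_cancel_right, ← mul_assoc, hz x, mul_assoc _ x, hz x, ← mul_assoc,
    mul_inv_cancel_right] at e4
  rw [← commutatorElement_eq_one_iff_commute, ← e4]
  nth_rewrite 2 [← e3]
  rw [inv_mul_cancel, one_mul]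

omit hc in
theorem comm_mul_mul {a a' b b' : E} (h1 : Commute b' a) (h2 : Commute a' b) (h3 : Commute b' b) (h4 : Commute a' a) :
    ⁅b * b', a * a'⁆ = ⁅b, a⁆ * ⁅b', a'⁆ := by
  have k : ∀ {g}, Commute b' g → Commute a' g → Commute ⁅b', a'⁆ g := fun h h' =>
    ((h.mul_left h').mul_left h.inv_left).mul_left h'.inv_left
  calc _ = b * (b' * a) * a' * b'⁻¹ * (b⁻¹ * a'⁻¹) * a⁻¹ := by simp only [commutatorElement_def]; group
    _ = b * a * (⁅b', a'⁆ * (b⁻¹ * a⁻¹)) := by rw [h1.eq, ← h2.inv_inv.eq, commutatorElement_def]; group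
    _ = _ := by rw [((k h3 h2).inv_right.mul_right (k h1 h4).inv_right).eq, commutatorElement_def b]; group

end grp

section van
variable {I R : Type} [Fintype I] [DecidableEq I] {Φ : CD I R} {F : Type*} [Field F] [Finite F] [Finite R]
  {Γ : Type*} [Group Γ] {X : PreSt Φ F Γ} {T : X.Tw} {E : Type u} [Group E] {ρ : E →* Γ} {p : ℕ} (C : Cov T ρ p)
  {φ : (I → ℤ) →+ ℤ} (G : Grd T φ)
include C

omit [Finite F] in
theorem h_mem_M {a : R} (ha : ∀ t, T.σ (X.x a t) = X.x a t) (ha' : ∀ t, T.σ (X.x (Φ.neg a) t) = X.x (Φ.neg a) t) (t : F) :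
    X.n a t ∈ T.M ∧ X.h a t ∈ T.M := by
  have k : ∀ t, X.n a t ∈ T.M := fun t => mul_mem (mul_mem (Tw.x_mem_M C.st C.ne (ha _)) (Tw.x_mem_M C.st C.ne (ha' _)))
    (Tw.x_mem_M C.st C.ne (ha _))
  exact ⟨k t, mul_mem (k _) (k _)⟩

include G

omit [Finite F] [Finite R] in
theorem scl_h {a : R} {t : F} (ht : t ≠ 0) (h : X.h a t ∈ T.M) : ∃ b ∈ X.TA ρ, ∀ r, Φ.Pos r →
    Scl (X.LV ρ φ (φ (Φ.rt r))) (X.co ρ φ r) b (t ^ Φ.A a r) := by
  obtain ⟨g, e⟩ := C.rg.ge h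
  have : ρ g ∈ X.H := e ▸ X.h_mem_H a ht
  exact ⟨_, mem_map_of_mem _ this, fun r hr => G.scl hr C.st this fun u => by rw [e, C.st.hconj _ _ _ ht]⟩

omit [Finite R] in
theorem van_h {r s a : R} (hr : Φ.Pos r) (hs : Φ.Pos s) {t : F} (ht : t ≠ 0) (h : X.h a t ∈ T.M)
    (h1 : t ^ Φ.A a r = 1) (h2 : t ^ Φ.A a s ≠ 1) : X.Van ρ φ r s := fun _ _ _ hβ => by
  obtain ⟨b, hb, h⟩ := scl_h C G ht h
  exact hβ.kill (G.lev hr C.st) (G.lev hs C.st) hb (h1 ▸ h r hr) (h s hs) h2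

omit [Finite R] in
theorem van_self {r a : R} (hr : Φ.Pos r) (h : ∀ t, X.h a t ∈ T.M) (h1 : Φ.A a r = 1) (hF : 4 < Nat.card F) :
    X.Van ρ φ r r := fun _ _ _ hβ =>
  hβ.deg (G.lev hr C.st) (G.lev hr C.st) (.id F) (j := 1) (.inl rfl) (fun v hv => by
    obtain ⟨b, hb, h⟩ := scl_h C G hv (h v)
    exact ⟨b, hb, by simpa [h1] using h r hr, by simpa [h1] using h r hr⟩) (by simpa using hF)

omit [Finite R] [Finite F] in
theorem van_three {r : R} (hr : Φ.Pos r) (h : ∀ t : F, t = 0 ∨ t = 1 ∨ t = -1) : X.Van ρ φ r r := fun _ _ β hβ x hx y hy => by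
  have L := G.lev (ρ := ρ) hr C.st
  by_cases h0 : X.co ρ φ r x = 0
  · exact hβ.ll x (L.ker x hx h0) y hy
  by_cases h1 : X.co ρ φ r y = 0
  · exact hβ.lr x hx y (L.ker y hy h1)
  by_cases h2 : X.co ρ φ r x = X.co ρ φ r y
  · rw [hβ.congr L hx hy hy h2]; exact hβ.ex _ hy _ hy (Commute.refl y)
  rw [hβ.congr L hx (inv_mem hy) hy (by
    rw [L.inv hy]
    rcases h (X.co ρ φ r x) with a | a | a <;> rcases h (X.co ρ φ r y) with b | b | b <;> simp_all)]
  exact hβ.ex _ (inv_mem hy) _ hy (Commute.refl y).inv_left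

omit [Finite F] in
theorem van_comm {r s : R} (hr : Φ.Pos r) (hs : Φ.Pos s) (h : T.ρ r = r) (h' : T.ρ s = s)
    (H : ∀ t u x y, ρ x = X.x r t → ρ y = X.x s u → Commute x y) : X.Van ρ φ r s := fun _ _ _ hβ x hx y hy => by
  obtain ⟨x', hx'⟩ := C.rg.ge (Tw.x_mem_M C.st C.ne ((G.fix_co hr C.st (C.fix x) hx).2 h))
  obtain ⟨y', hy'⟩ := C.rg.ge (Tw.x_mem_M C.st C.ne ((G.fix_co hs C.st (C.fix y) hy).2 h'))
  have k1 := G.co_eq hr C.st (g := x') (t := X.co ρ φ r x) (ρ := ρ) (by simp [hx'])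
  have k2 := G.co_eq hs C.st (g := y') (t := X.co ρ φ s y) (ρ := ρ) (by simp [hy'])
  rw [hβ.congr (G.lev hr C.st) hx k1.1 hy k1.2.symm, hβ.flip.congr (G.lev hs C.st) hy k2.1 k1.1 k2.2.symm]
  exact hβ.ex _ k1.1 _ k2.1 (H _ _ _ _ hx' hy')

end van

section grd
variable {l : ℕ} (hl : 2 ≤ l)

/-- a generic linear form on the weights -/
def psi (l : ℕ) : (Fin l → ℤ) →+ ℤ := AddMonoidHom.mk' (fun v => ∑ a, 3 ^ (a.rev : ℕ) * v a) fun v w => by
  simp [mul_add, sum_add_distrib]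

theorem psi_succ (v : Fin (l + 1) → ℤ) : psi (l + 1) v = 3 * psi l (fun a => v a.castSucc) + v (Fin.last l) := by
  simp only [psi, AddMonoidHom.mk'_apply, Fin.sum_univ_castSucc, Fin.rev_castSucc, Fin.val_succ, pow_succ', mul_sum, mul_assoc,
    Fin.rev_last, Fin.val_zero, pow_zero, one_mul]

theorem psi_inj : ∀ {l : ℕ} {v : Fin l → ℤ}, (∀ a, -2 ≤ v a ∧ v a ≤ 2) → psi l v = 0 → v = 0
  | 0, _, _, _ => Subsingleton.elim _ _
  | l + 1, v, h, e => by
    rw [psi_succ] at e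
    have h1 := h (Fin.last l)
    have := psi_inj (v := fun a => v a.castSucc) (fun a => h _) (by omega)
    ext a
    induction a using Fin.lastCases
    · change _ = 0; omega
    · exact congrFun this _

theorem psi_ev (a : Fin l) : psi l (ev a) = 3 ^ (a.rev : ℕ) := by simp [psi, Pi.single_apply]

theorem psi_α (i : Fin (l + 1)) : 0 < psi (l + 1) ((bdD l hl).α i) := by
  induction i using Fin.lastCases
  · rw [BD.α_last, map_add, psi_ev, psi_ev]; positivity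
  · rw [BD.α_cast, map_sub, psi_ev, psi_ev, sub_pos, Fin.rev_castSucc, Fin.rev_succ]
    exact pow_lt_pow_right₀ (by norm_num) (by simp)

/-- the grading on the root lattice -/
def phiD : (Fin (l + 1) → ℤ) →+ ℤ := AddMonoidHom.mk' (fun c => ∑ i, c i * psi (l + 1) ((bdD l hl).α i)) fun v w => by
  simp [add_mul, sum_add_distrib]

theorem phiD_rt (r : (bdD l hl).mr.R) : phiD hl ((bdD l hl).mr.cd.rt r) = psi (l + 1) r.1 := by
  rw [(bdD l hl).mr.val_eq r, map_sum]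
  rw [phiD, AddMonoidHom.mk'_apply]
  exact sum_congr rfl fun i _ => (map_zsmul (psi (l + 1)) _ _).symm

theorem pos_iff_psi (r : (bdD l hl).mr.R) : (bdD l hl).mr.cd.Pos r ↔ 0 < psi (l + 1) r.1 := by
  rw [← phiD_rt]
  rw [phiD, AddMonoidHom.mk'_apply]
  refine ⟨fun h => sum_pos' (fun i _ => mul_nonneg (h i) (psi_α hl i).le) ?_, fun h => ?_⟩
  · obtain ⟨i, hi⟩ := Function.ne_iff.1 ((bdD l hl).mr.cd.rt_ne r)
    exact ⟨i, mem_univ _, mul_pos ((h i).lt_of_ne' hi) (psi_α hl i)⟩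
  · exact (((bdD l hl).mr.cd.sign r).resolve_right fun h' => h.not_ge
      (sum_nonpos fun i _ => mul_nonpos_of_nonpos_of_nonneg (h'.1 i) (psi_α hl i).le)).1

theorem coord_le (r : (bdD l hl).mr.R) (a : Fin (l + 1)) : -1 ≤ r.1 a ∧ r.1 a ≤ 1 := by
  have := (single_le_sum (f := fun a => r.1 a * r.1 a) (fun a _ => mul_self_nonneg _) (mem_univ a)).trans (norm_D hl r).le
  constructor <;> nlinarith

theorem rv_nsmul (n : ℕ) (v : Fin (l + 1) → ℤ) : rv (n • v) = n • rv v := by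
  ext i; simp only [rv, Pi.smul_apply]; split_ifs <;> simp

theorem grdD {F : Type*} [Field F] {Γ : Type*} [Group Γ] {X : PreSt (bdD l hl).mr.cd F Γ} {T : X.Tw} (hρ : T.ρ = rho hl) :
    Grd T (phiD hl) where
  pos r := by rw [phiD_rt, pos_iff_psi]
  inj r s e := Subtype.ext (sub_eq_zero.1 (psi_inj (fun a => by
    have := coord_le hl r a
    have := coord_le hl s a
    simp only [Pi.sub_apply]; omega) (by rw [map_sub, ← phiD_rt, ← phiD_rt, e, sub_self])))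
  cl m hm := by
    rintro _ ⟨a, ha, rfl⟩ _ ⟨b, hb, rfl⟩ c hc
    obtain ⟨h1, h2, h3⟩ := (bdD l hl).mr.cd.tm_add _ _ c hc
    refine ⟨rho hl c.1, ?_, by rw [hρ, rho_rho]⟩
    have h4 := (bdD l hl).mr.val_eq_of_rt (i := c.2.2.1) (j := c.2.2.2) (h3.trans (by simp only [natCast_zsmul]; rfl))
    simp only [Set.mem_ofPred_eq, phiD_rt, natCast_zsmul] at ha hb h4 ⊢
    rw [rho_val, h4, hρ, rv_add, rv_nsmul, rv_nsmul, rho_val, rho_val, rv_rv, rv_rv, map_add, map_nsmul, map_nsmul,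
      nsmul_eq_mul, nsmul_eq_mul]
    have : (1 : ℤ) ≤ c.2.2.1 := by exact_mod_cast h1
    have : (1 : ℤ) ≤ c.2.2.2 := by exact_mod_cast h2
    nlinarith

theorem psi_rv (v : Fin (l + 1) → ℤ) : psi (l + 1) (rv v) = psi (l + 1) v - 2 * v (Fin.last l) := by
  rw [psi_succ, psi_succ]; simp [rv, Fin.castSucc_ne_last]; ring

end grd

end CfsgH8.TE
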