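import Cfsg.Agent.H8.TE2

/-! Covers of the odd-dimensional spin groups have no `p`-torsion in the kernel. -/

set_option autoImplicit false

namespace CfsgH8.TE

open Finset Matrix CfsgH6 CfsgH6.PreSt CfsgH5 Cfsg Module Subgroup MR BD
open scoped commutatorElement

universe u

variable {l : ℕ} {hl : 2 ≤ l} {F : Type*} [Field F] {Γ : Type*} [Group Γ] {X : PreSt (bdD l hl).mr.cd F Γ} {T : X.Tw}

theorem wb_last {x : Fin (l + 1) ⊕ Fin (l + 1)} (h : ix x ≠ Fin.last l) : wb x (Fin.last l) = 0 := by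
  rcases x with x | x <;> simp_all [Pi.single_apply, eq_comm]

theorem rv_of_last {v : Fin (l + 1) → ℤ} (h : v (Fin.last l) = 0) : rv v = v := by
  ext i; simp only [rv]; split_ifs with e <;> simp [*]

theorem rv_wb {x : Fin (l + 1) ⊕ Fin (l + 1)} (h : ix x ≠ Fin.last l) : rv (wb x) = wb x := rv_of_last (wb_last h)

theorem rv_wb' {x : Fin (l + 1) ⊕ Fin (l + 1)} (h : ix x = Fin.last l) : rv (wb x) = -wb x := by
  rw [← wb_pi0, pi0_eq, if_pos h, wb_swap]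

theorem rho_fix {r : (bdD l hl).mr.R} (h : r.1 (Fin.last l) = 0) : rho hl r = r := Subtype.ext (rv_of_last h)

theorem shD (r : (bdD l hl).mr.R) : Sh r := sh_of_two rfl r

theorem cmD {a b : (bdD l hl).mr.R} (h : 0 ≤ a.1 ⬝ᵥ b.1) (t u : F) : Commute (X.x a t) (X.x b u) := cm_of_two (.inl rfl) h t u

variable (hσ : ∀ r t, T.σ (X.x r t) = X.x (rho hl r) t) (hρ : T.ρ = rho hl)
include hσ hρ

theorem pair_mem (hX : X.IsSt) (hne : T.Ne) (a : (bdD l hl).mr.R) (t : F) : X.x a t * X.x (rho hl a) t ∈ T.M := by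
  have : T.σ (X.x a t * X.x (rho hl a) t) = X.x a t * X.x (rho hl a) t := by rw [map_mul, hσ, hσ, rho_rho, x_comm_rho]
  by_cases h : (bdD l hl).mr.cd.Pos a
  · exact Tw.U_le_M hX hne (mi (mul_mem (X.x_mem_U h t) (X.x_mem_U (hρ ▸ T.ρ_pos.2 h) t)) this)
  · exact Tw.V_le_M hX hne (mi (mul_mem (X.x_mem_V h t) (X.x_mem_V (hρ ▸ T.ρ_pos.not.2 h) t)) this)

variable {E : Type u} [Group E] {ρ : E →* Γ} {p : ℕ} (C : Cov T ρ p)
include C

omit hρ in
theorem hMD {a : (bdD l hl).mr.R} (h : a.1 (Fin.last l) = 0) (t : F) : X.n a t ∈ T.M ∧ X.h a t ∈ T.M :=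
  h_mem_M C (fun t => by rw [hσ, rho_fix h]) (fun t => by rw [hσ, rho_neg, rho_fix h]) t

theorem comm_disj (h2 : (2 : F) ≠ 0) {r s : (bdD l hl).mr.R} {z u x y : Fin (l + 1) ⊕ Fin (l + 1)} (e1 : r.1 = wb z + wb u)
    (e2 : s.1 = wb x + wb y) (h3 : ix z ≠ ix x) (h4 : ix z ≠ ix y) (h5 : ix u ≠ ix x) (h6 : ix u ≠ ix y) (h1 : ix z ≠ ix u)
    (hz : ix z ≠ ix (.inl (Fin.last l))) (hu : ix u ≠ ix (.inr (Fin.last l))) (hx : ix x ≠ Fin.last l) (hy : ix y ≠ Fin.last l)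
    (t w : F) (f g : E) (hf : ρ f = X.x r t) (hg : ρ g = X.x s w) : Commute f g := by
  let a := (bdD l hl).sh hz
  let b := (bdD l hl).sh hu
  have ea : a.1 = wb z + ev (Fin.last l) := rfl
  have eb : b.1 = wb u - ev (Fin.last l) := by rw [sub_eq_add_neg]; rfl
  have ea' : (rho hl a).1 = wb z - ev (Fin.last l) := by rw [rho_val, ea, rv_add, rv_wb hz, rv_ev, if_pos rfl, sub_eq_add_neg]
  have eb' : (rho hl b).1 = wb u + ev (Fin.last l) := by rw [rho_val, eb, rv_sub, rv_wb hu, rv_ev, if_pos rfl, sub_neg_eq_add]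
  have k1 := wb_last hz
  have k2 := wb_last hu
  have k3 := wb_last hx
  have k4 := wb_last hy
  have hab : a.1 ⬝ᵥ b.1 = -1 := by simp [ea, eb, wb_ne h1, k1, k2]
  obtain ⟨c, hc, ht⟩ := tm_dec (r := r) (shD a) hab (by simp [e1, ea, eb])
  have hd := X.dec_of_tm (ne_of_dot (by rw [hab, shD a]; decide)) (ne_neg_of_dot (by rw [hab, shD a]; decide)) ht 1 (-c * t / 2)
  have hd' := congrArg T.σ hd
  rw [map_commutatorElement, hσ, hσ, hσ, rho_fix (r := r) (by simp [e1, k1, k2])] at hd'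
  obtain ⟨a', ha'⟩ := C.rg.ge (pair_mem hσ hρ C.st C.ne a 1)
  obtain ⟨b', hb'⟩ := C.rg.ge (pair_mem hσ hρ C.st C.ne b (-c * t / 2))
  refine (commute_congr C.c rfl ?_ (commute_comm C.c (y := g) (a := b') (b := a') ?_ ?_)).symm
  · rw [map_commutatorElement, ha', hb', comm_mul_mul (cmD (by simp [ea, eb', wb_ne' h1, k1, k2]) _ _)
      (cmD (by simp [ea', eb, wb_ne h1, k1, k2]) _ _) (x_comm_rho hl _ _ _) (x_comm_rho hl _ _ _), hd, hd', X.add, hf]
    congr 1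
    rcases hc with rfl | rfl <;> push_cast <;> field_simp <;> ring
  · rw [hg, hb']
    exact (cmD (by simp [e2, eb, wb_ne' h5, wb_ne' h6, k3, k4]) _ _).mul_right
      (cmD (by simp [e2, eb', wb_ne' h5, wb_ne' h6, k3, k4]) _ _)
  · rw [hg, ha']
    exact (cmD (by simp [e2, ea, wb_ne' h3, wb_ne' h4, k3, k4]) _ _).mul_right
      (cmD (by simp [e2, ea', wb_ne' h3, wb_ne' h4, k3, k4]) _ _)

omit hρ in
theorem comm_same (h3 : 3 ≤ l) (h2 : (2 : F) ≠ 0) (hF : ∀ t : F, t = 0 ∨ t = 1 ∨ t = -1) {r s : (bdD l hl).mr.R}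
    {x y : Fin (l + 1) ⊕ Fin (l + 1)} (e1 : r.1 = wb x + wb y) (e2 : s.1 = wb x - wb y) (h1 : ix x ≠ ix y)
    (hx : ix x ≠ Fin.last l) (hy : ix y ≠ Fin.last l)
    (t w : F) (f g : E) (hf : ρ f = X.x r t) (hg : ρ g = X.x s w) : Commute f g := by
  obtain ⟨v, hv⟩ := fresh [x, y, .inl (Fin.last l)] h3
  simp only [List.mem_cons, List.not_mem_nil, or_false, forall_eq_or_imp, forall_eq] at hv
  obtain ⟨v1, v2, v3⟩ := hv
  let a := (bdD l hl).sh v2.symm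
  let b := (bdD l hl).sh (a := y) (b := v.swap) (by simpa using v2.symm)
  have ea : a.1 = wb y + wb v := rfl
  have eb : b.1 = wb y - wb v := by simp [b, sub_eq_add_neg]
  have k1 := wb_last hx
  have k2 := wb_last hy
  have k3 := wb_last v3
  have hn : ∀ r, ∃ η : F, (η = 1 ∨ η = -1) ∧ ∀ u, X.n a 1 * X.n b 1 * X.x r u * (X.n a 1 * X.n b 1)⁻¹ =
      X.x ((bdD l hl).mr.cd.refl a ((bdD l hl).mr.cd.refl b r)) (η * u) := fun r => by
    obtain ⟨η, h, e⟩ := C.st.nconj b r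
    obtain ⟨η', h', e'⟩ := C.st.nconj a ((bdD l hl).mr.cd.refl b r)
    refine ⟨η' * η, by rcases h with rfl | rfl <;> rcases h' with rfl | rfl <;> simp, fun u => ?_⟩
    rw [show X.n a 1 * X.n b 1 * X.x r u * (X.n a 1 * X.n b 1)⁻¹ = X.n a 1 * (X.n b 1 * X.x r u * (X.n b 1)⁻¹) * (X.n a 1)⁻¹ by
      group, (e 1 one_ne_zero u).1, (e' 1 one_ne_zero _).1]
    simp [mul_assoc]
  obtain ⟨η, hη, n1⟩ := hn r
  obtain ⟨η', hη', n2⟩ := hn s
  rw [show (bdD l hl).mr.cd.refl a ((bdD l hl).mr.cd.refl b r) = s from Subtype.ext (by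
    rw [refl_val, refl_val, WD.rf, WD.rf, cv_sh (shD a), cv_sh (shD b)]
    simp [-zsmul_eq_mul, ea, eb, e1, e2, wb_ne h1, wb_ne' h1, wb_ne v1, wb_ne v2, wb_ne' v1, wb_ne' v2]
    abel)] at n1
  rw [show (bdD l hl).mr.cd.refl a ((bdD l hl).mr.cd.refl b s) = r from Subtype.ext (by
    rw [refl_val, refl_val, WD.rf, WD.rf, cv_sh (shD a), cv_sh (shD b)]
    simp [-zsmul_eq_mul, ea, eb, e1, e2, wb_ne h1, wb_ne' h1, wb_ne v1, wb_ne v2, wb_ne' v1, wb_ne' v2]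
    abel)] at n2
  have hab : a.1 ⬝ᵥ b.1 = 0 := by simp [ea, eb, wb_ne v2, wb_ne' v2]
  have hc : Commute (X.n a 1) (X.n b 1) := by
    have k : ∀ c : (bdD l hl).mr.R, c.1 ⬝ᵥ b.1 = 0 → ∀ t, Commute (X.x c t) (X.n b 1) := fun c h t =>
      ((cmD h.ge _ _).mul_right (cmD (by simp [neg_val, h]) _ _)).mul_right (cmD h.ge _ _)
    exact ((k a hab _).mul_left (k _ (by simp [neg_val, hab]) _)).mul_left (k a hab _)
  have hh : ∀ c : (bdD l hl).mr.R, c.1 ⬝ᵥ r.1 = 1 → ∀ u, (X.h c (-1))⁻¹ * X.x r u * X.h c (-1) = X.x r (-u) := fun c h u => by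
    have := C.st.hconj c r (-1) (by simp) (-u)
    rw [A_sh (shD c), h, zpow_one, neg_one_mul, neg_neg] at this
    rw [← this]; group
  have he : η' * η = 1 := by
    have := n2 (η * 1)
    rw [← n1, show X.n a 1 * X.n b 1 * (X.n a 1 * X.n b 1 * X.x r 1 * (X.n a 1 * X.n b 1)⁻¹) * (X.n a 1 * X.n b 1)⁻¹ =
      (X.n a 1 * X.n b 1) ^ 2 * X.x r 1 * ((X.n a 1 * X.n b 1) ^ 2)⁻¹ by simp only [pow_two]; group, hc.mul_pow, pow_two, pow_two,
      X.n_mul_n, X.n_mul_n, _root_.mul_inv_rev, inv_inv, inv_inv, mul_assoc (X.h a (-1))⁻¹, ← mul_assoc, mul_assoc (X.h a (-1))⁻¹,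
      hh b (by simp [eb, e1, wb_ne' h1, wb_ne v1, wb_ne v2]), hh a (by simp [ea, e1, wb_ne' h1, wb_ne v1, wb_ne v2]),
      neg_neg] at this
    simpa using (X.x_injective C.st.sep1 _ this).symm
  obtain ⟨f1, hf1⟩ := C.rg.ge (Tw.x_mem_M C.st C.ne (by rw [hσ, rho_fix (by simp [e1, k1, k2])] : T.σ (X.x r 1) = _))
  obtain ⟨g1, hg1⟩ := C.rg.ge (Tw.x_mem_M C.st C.ne (by rw [hσ, rho_fix (by simp [e2, k1, k2])] : T.σ (X.x s 1) = _))
  obtain ⟨n, hn⟩ := C.rg.ge (mul_mem (hMD hσ C (a := a) (by simp [ea, k2, k3]) 1).1 (hMD hσ C (a := b) (by simp [eb, k2, k3]) 1).1)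
  have h0 : (1 + 1 + 1 : F) = 0 := by
    rcases hF 2 with h | h | h
    · exact absurd h h2
    · exact absurd (by linear_combination h) (one_ne_zero' F)
    · linear_combination h
  have := commute_of_swap C.c (x := f1) (y := g1) (n := n)
    (by rw [hf1, hg1]; exact cmD (by simp [e1, e2, wb_ne h1, wb_ne' h1]) _ _)
    (by rw [hf1, pow_succ, pow_two, X.add, X.add, h0, X.x_zero]) (by
      rw [hf1, hg1, hn, n1, n2, X.x_inv, X.x_inv]
      rcases hη with rfl | rfl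
      · exact .inl (by simp [show η' = 1 by simpa using he])
      · exact .inr (by simp [show η' = -1 by linear_combination -he]))
  have k : ∀ r t, ∃ k : ℤ, X.x r t = X.x r 1 ^ k := fun r t => by
    rcases hF t with rfl | rfl | rfl
    exacts [⟨0, by simp⟩, ⟨1, by simp⟩, ⟨-1, by simp [X.x_inv]⟩]
  obtain ⟨i, hi⟩ := k r t
  obtain ⟨j, hj⟩ := k s w
  exact commute_congr C.c (by rw [map_zpow, hf1, hf, hi]) (by rw [map_zpow, hg1, hg, hj]) (this.zpow_zpow i j)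

variable [Finite F]

theorem killD {r s : (bdD l hl).mr.R} (hr : (bdD l hl).mr.cd.Pos r) (hs : (bdD l hl).mr.cd.Pos s) (a : (bdD l hl).mr.R)
    (h : a.1 (Fin.last l) = 0) {t : F} (ht : t ≠ 0) (h1 : t ^ (a.1 ⬝ᵥ r.1) = 1) (h2 : t ^ (a.1 ⬝ᵥ s.1) ≠ 1) :
    X.Van ρ (phiD hl) r s :=
  van_h C (grdD hl hρ) hr hs ht (hMD hσ C h t).2 (by rwa [A_sh (shD a)]) (by rwa [A_sh (shD a)])

theorem vanD (h3 : 3 ≤ l) (h2 : (2 : F) ≠ 0)
    (hq : ((∃ t : F, t ≠ 0 ∧ t ^ 2 ≠ 1) ∧ 4 < Nat.card F) ∨ ((∀ t : F, t = 0 ∨ t = 1 ∨ t = -1) ∧ 4 ≤ l))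
    (r s : (bdD l hl).mr.R) (hr : (bdD l hl).mr.cd.Pos r) (hs : (bdD l hl).mr.cd.Pos s) : X.Van ρ (phiD hl) r s := by
  have G := grdD hl hρ
  have m1 : (-1 : F) ≠ 1 := fun h => h2 (by linear_combination -h)
  have m0 : (-1 : F) ≠ 0 := by simp
  by_cases e : r = s
  · subst e
    rcases hq with ⟨-, hq⟩ | hq
    · obtain ⟨x, y, h, hx, e⟩ : ∃ x y, ix x ≠ ix y ∧ ix x ≠ Fin.last l ∧ r.1 = wb x + wb y := by
        obtain ⟨x, y, h, e⟩ := sh_cases (shD r)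
        by_cases hx : ix x = Fin.last l
        · exact ⟨y, x, h.symm, hx ▸ h.symm, e.trans (add_comm _ _)⟩
        · exact ⟨x, y, h, hx, e⟩
      obtain ⟨v, hv⟩ := fresh [x, y, .inl (Fin.last l)] h3
      simp only [List.mem_cons, List.not_mem_nil, or_false, forall_eq_or_imp, forall_eq] at hv
      exact van_self C G hr (a := (bdD l hl).sh hv.1) (fun t => (hMD hσ C (by simp [wb_last hx, wb_last hv.2.2]) t).2)
        (by rw [A_sh (shD _)]; simp [e, wb_ne h, wb_ne hv.1, wb_ne hv.2.1]) hq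
    · exact van_three C G hr hq.1
  have low : ∀ {r s : (bdD l hl).mr.R}, (bdD l hl).mr.cd.Pos r → 0 < r.1 (Fin.last l) → X.Van ρ (phiD hl) r s :=
    fun hr h => C.van_low G hr (by rw [phiD_rt, phiD_rt, hρ, rho_val, psi_rv]; omega)
  have orth : ∀ {r s : (bdD l hl).mr.R}, (bdD l hl).mr.cd.Pos r → (bdD l hl).mr.cd.Pos s → s.1 (Fin.last l) = 0 →
      s.1 ⬝ᵥ r.1 = 0 → (∃ t : F, t ≠ 0 ∧ t ^ 2 ≠ 1) → X.Van ρ (phiD hl) r s := fun {r s} hr hs h h' ⟨t, h1, h2⟩ =>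
    killD hσ hρ C hr hs s h h1 (by rw [h', zpow_zero]) (by rw [shD s]; exact_mod_cast h2)
  rcases pair_cases (shD r) (shD s) with ⟨z, u, x, y, e1, e2, h1, h2', h3', h4, h5, h6⟩ | ⟨x, y, z, h1, h2', e1, e2⟩
  · have h0 : r.1 ⬝ᵥ s.1 = 0 := by simp [e1, e2, wb_ne h3', wb_ne h4, wb_ne h5, wb_ne h6]
    rcases hq with ⟨hq, -⟩ | ⟨hq, h7⟩
    · by_cases h : ix x ≠ Fin.last l ∧ ix y ≠ Fin.last l
      · exact orth hr hs (by simp [e2, wb_last h.1, wb_last h.2]) ((dotProduct_comm _ _).trans h0) hq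
      · exact (orth hs hr (by simp [e1, wb_last (x := z) (by grind), wb_last (x := u) (by grind)]) h0 hq).symm
    by_cases h : (ix x ≠ Fin.last l ∧ ix y ≠ Fin.last l) ∧ ix z ≠ Fin.last l ∧ ix u ≠ Fin.last l
    · exact van_comm C G hr hs (hρ ▸ rho_fix (by simp [e1, wb_last h.2.1, wb_last h.2.2]))
        (hρ ▸ rho_fix (by simp [e2, wb_last h.1.1, wb_last h.1.2]))
        (comm_disj hσ hρ C h2 e1 e2 h3' h4 h5 h6 h1 h.2.1 h.2.2 h.1.1 h.1.2)
    obtain ⟨v, hv⟩ := fresh [z, u, x, y] h7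
    simp only [List.mem_cons, List.not_mem_nil, or_false, forall_eq_or_imp, forall_eq] at hv
    obtain ⟨v1, v2, v3, v4⟩ := hv
    have v5 : ix v ≠ Fin.last l := by grind
    by_cases hx : ix x = Fin.last l
    · exact killD hσ hρ C hr hs ((bdD l hl).sh v4) (by simp [wb_last v5, wb_last (x := y) (by grind)]) m0
        (by simp [e1, wb_ne v1, wb_ne v2, wb_ne' h4, wb_ne' h6]) (by simpa [e2, wb_ne v3, wb_ne v4, wb_ne' h2'] using m1)
    · exact killD hσ hρ C hr hs ((bdD l hl).sh v3) (by simp [wb_last v5, wb_last hx]) m0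
        (by simp [e1, wb_ne v1, wb_ne v2, wb_ne' h3', wb_ne' h5]) (by simpa [e2, wb_ne v3, wb_ne v4, wb_ne h2'] using m1)
  by_cases hyz : ix z = ix y
  · rcases e2 with e2 | ⟨e2, h4⟩
    · obtain rfl : z = y.swap := (ix_eq hyz).resolve_left fun h => e (Subtype.ext (by rw [e1, e2, h]))
      rw [wb_swap, ← sub_eq_add_neg] at e2
      by_cases hx : ix x = Fin.last l
      · refine absurd (hρ ▸ T.ρ_pos.2 hr) (((bdD l hl).mr.cd.pos_neg_iff _).1 ?_)
        rwa [show (bdD l hl).mr.cd.neg (rho hl r) = s from Subtype.ext (by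
          rw [neg_val, rho_val, e1, e2, rv_add, rv_wb' hx, rv_wb (hx ▸ h1.symm)]; abel)]
      by_cases hy : ix y = Fin.last l
      · rcases y with y | y <;> obtain rfl : y = _ := hy
        · exact low hr (by simp [e1, wb_last hx])
        · exact (low hs (by simp [e2, wb_last hx])).symm
      rcases hq with ⟨hq, -⟩ | ⟨hq, -⟩
      · exact orth hr hs (by simp [e2, wb_last hx, wb_last hy]) (by simp [e1, e2, wb_ne h1, wb_ne' h1]) hq
      · exact van_comm C G hr hs (hρ ▸ rho_fix (by simp [e1, wb_last hx, wb_last hy]))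
          (hρ ▸ rho_fix (by simp [e2, wb_last hx, wb_last hy])) (comm_same hσ C h3 h2 hq e1 e2 h1 hx hy)
    · obtain rfl : z = y.swap := (ix_eq hyz).resolve_left h4
      refine absurd hr (((bdD l hl).mr.cd.pos_neg_iff _).1 ?_)
      rwa [show (bdD l hl).mr.cd.neg r = s from Subtype.ext (by rw [neg_val, e1, e2, wb_swap]; abel)]
  have h0 : (-1 : F) ^ (r.1 ⬝ᵥ s.1) ≠ 1 := by
    rcases e2 with e2 | ⟨e2, -⟩ <;> simpa [e1, e2, wb_ne h2', wb_ne' h1, wb_ne' hyz] using m1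
  by_cases hx : ix x = Fin.last l
  · obtain ⟨v, hv⟩ := fresh [x, y, z] h3
    simp only [List.mem_cons, List.not_mem_nil, or_false, forall_eq_or_imp, forall_eq] at hv
    obtain ⟨v1, v2, v3⟩ := hv
    exact killD hσ hρ C hr hs ((bdD l hl).sh v3) (by simp [wb_last (hx ▸ v1), wb_last (hx ▸ h2'.symm)]) m0
      (by simp [e1, wb_ne v1, wb_ne v2, wb_ne' h2', wb_ne hyz]) (by
        rcases e2 with e2 | ⟨e2, -⟩ <;> simpa [e2, wb_ne v1, wb_ne v3, wb_ne' h2'] using m1)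
  by_cases hy : ix y = Fin.last l
  · exact (killD hσ hρ C hs hr s (by
      rcases e2 with e2 | ⟨e2, -⟩ <;> simp [e2, wb_last hx, wb_last (hy ▸ hyz)]) m0 (by rw [shD s]; simp [zpow_two])
      (dotProduct_comm r.1 _ ▸ h0)).symm
  · exact killD hσ hρ C hr hs r (by simp [e1, wb_last hx, wb_last hy]) m0 (by rw [shD r]; simp [zpow_two]) h0

end CfsgH8.TE
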