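import Cfsg.Agent.H8.TE3

/-! The Schur multiplier of the odd-dimensional orthogonal groups. -/

set_option autoImplicit false

namespace CfsgH8.TE

open Finset Matrix CfsgH6 CfsgH6.PreSt CfsgH5 Cfsg Module Subgroup MR BD
open scoped commutatorElement

universe u

variable {l : ℕ} {hl : 2 ≤ l} {F : Type*} [Field F] {Γ : Type*} [Group Γ] {X : PreSt (bdD l hl).mr.cd F Γ} {T : X.Tw}

theorem α_orth : (bdD l hl).α (bdD l hl).p ⬝ᵥ (bdD l hl).α (Fin.last l) = 0 := by
  simp [α_p, α_last, Pi.single_apply, p_ne hl, (p_ne hl).symm]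

theorem C_orth : (bdD l hl).mr.cd.C (bdD l hl).p (Fin.last l) = 0 :=
  (congrArg (· ⬝ᵥ _) (cv_sh (shD ((bdD l hl).mr.cd.sim (bdD l hl).p)))).trans α_orth

theorem inJ_pair {r : (bdD l hl).mr.R} (h : (bdD l hl).mr.cd.InJ {(bdD l hl).p, Fin.last l} r) (hr : (bdD l hl).mr.cd.Pos r) :
    r = (bdD l hl).mr.cd.sim (bdD l hl).p ∨ r = (bdD l hl).mr.cd.sim (Fin.last l) := by
  have e := (bdD l hl).mr.val_eq r
  rw [← sum_subset (subset_univ {(bdD l hl).p, Fin.last l}) fun i _ hi => by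
    rw [show (bdD l hl).mr.rt r i = 0 from h i (by simpa using hi), zero_smul], sum_pair (p_ne hl)] at e
  have h1 : 0 ≤ (bdD l hl).mr.rt r (bdD l hl).p := hr _
  have h2 : 0 ≤ (bdD l hl).mr.rt r (Fin.last l) := hr _
  generalize (bdD l hl).mr.rt r (bdD l hl).p = a at *
  generalize (bdD l hl).mr.rt r (Fin.last l) = b at *
  have h3 := norm_D hl r
  have h4 : (bdD l hl).mr.α (bdD l hl).p ⬝ᵥ (bdD l hl).mr.α (bdD l hl).p = 2 := shD ((bdD l hl).mr.cd.sim _)
  have h5 : (bdD l hl).mr.α (Fin.last l) ⬝ᵥ (bdD l hl).mr.α (Fin.last l) = 2 := shD ((bdD l hl).mr.cd.sim _)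
  have h6 : (bdD l hl).mr.α (bdD l hl).p ⬝ᵥ (bdD l hl).mr.α (Fin.last l) = 0 := α_orth
  rw [e, norm_add] at h3
  simp only [smul_dotProduct, dotProduct_smul, h4, h5, h6, smul_eq_mul] at h3
  have : a ≤ 1 := by nlinarith
  have : b ≤ 1 := by nlinarith
  interval_cases a <;> interval_cases b <;> first | omega | skip
  · exact .inr (Subtype.ext (e.trans (by simp; rfl)))
  · exact .inl (Subtype.ext (e.trans (by simp; rfl)))

theorem orb_D (hπ : T.π = piD hl) (i : Fin (l + 1)) :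
    T.orb i = if i = (bdD l hl).p ∨ i = Fin.last l then {(bdD l hl).p, Fin.last l} else {i} := by
  split_ifs with h
  · refine T.orb_eq_of h (fun j hj => ?_) fun j hj => ?_
    · rcases hj with rfl | rfl <;> simp [hπ, piD]
    · rcases hj with rfl | rfl <;> rcases h with rfl | rfl
      exacts [⟨0, rfl⟩, ⟨1, by simp [hπ, piD]⟩, ⟨1, by simp [hπ, piD]⟩, ⟨0, rfl⟩]
  · push Not at h
    exact T.orb_eq_of rfl (fun j hj => by rw [hj, hπ, piD, Equiv.swap_apply_of_ne_of_ne h.1 h.2]; rfl) fun j hj => ⟨0, hj.symm⟩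

variable (hσ : ∀ r t, T.σ (X.x r t) = X.x (rho hl r) t)
include hσ

theorem mem_single {a : (bdD l hl).mr.R} (h : rho hl a = a) (y : Γ) : y ∈ X.XS {a} ⊓ T.Fix ↔ ∃ t, y = X.x a t :=
  ⟨fun h => X.mem_XS_singleton.1 (il h), fun ⟨t, e⟩ => mi (X.mem_XS_singleton.2 ⟨t, e⟩) (by rw [Tw.mem_Fix, e, hσ, h])⟩

theorem mem_pair (hX : X.IsSt) {a : (bdD l hl).mr.R} (h : rho hl a ≠ a) (y : Γ) :
    y ∈ X.XS {a, rho hl a} ⊓ T.Fix ↔ ∃ t, y = X.x a t * X.x (rho hl a) t := by
  refine ⟨fun hy => ?_, ?_⟩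
  · obtain ⟨t, u, rfl⟩ : ∃ t u, y = X.x a t * X.x (rho hl a) u := by
      refine X.XS_induction (p := fun y => ∃ t u, y = X.x a t * X.x (rho hl a) u) ⟨0, 0, by simp⟩ ?_ (il hy)
      rintro r (rfl | rfl) w _ - ⟨t, u, rfl⟩
      · exact ⟨w + t, u, by rw [← mul_assoc, X.add]⟩
      · exact ⟨t, w + u, by rw [← mul_assoc, x_comm_rho, mul_assoc, X.add]⟩
    have := Tw.mem_Fix.1 (ir hy)
    rw [map_mul, hσ, hσ, rho_rho, x_comm_rho, ← eq_inv_mul_iff_mul_eq, ← mul_assoc, ← mul_inv_eq_iff_eq_mul, X.x_inv, X.x_inv,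
      X.add, X.add] at this
    exact ⟨t, by rw [show u = t from (by_contra fun e => h (hX.root_eq this (by rwa [← sub_eq_add_neg, sub_ne_zero, ne_comm])))]⟩
  · rintro ⟨t, rfl⟩
    exact mi (mul_mem (X.x_mem_XS (by simp) _) (X.x_mem_XS (by simp) _))
      (by rw [Tw.mem_Fix, map_mul, hσ, hσ, rho_rho, x_comm_rho])

variable (hρ : T.ρ = rho hl) (hπ : T.π = piD hl)
include hρ hπ

omit hπ in
theorem hpl_mem (hX : X.IsSt) (hne : T.Ne) (t : F) :
    X.h ((bdD l hl).mr.cd.sim (bdD l hl).p) t * X.h ((bdD l hl).mr.cd.sim (Fin.last l)) t ∈ T.M := by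
  have e : rho hl ((bdD l hl).mr.cd.sim (bdD l hl).p) = (bdD l hl).mr.cd.sim (Fin.last l) := by rw [rho_sim, piD, Equiv.swap_apply_left]
  have k : ∀ t, X.n ((bdD l hl).mr.cd.sim (bdD l hl).p) t * X.n ((bdD l hl).mr.cd.sim (Fin.last l)) t ∈ T.M := fun t =>
    n_mul_n_mem C_orth (e ▸ pair_mem hσ hρ hX hne _ _) (by rw [← e, ← rho_neg]; exact pair_mem hσ hρ hX hne _ _)
  exact h_mul_h_mem C_orth (k _) (k _)

variable [Finite F] {E : Type u} [Group E] [Finite E] {ρ : E →* Γ} {p : ℕ} [Fact p.Prime] (C : Cov T ρ p)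
include C

theorem card_leD (tf : ∀ z, ρ z = 1 → z ^ p = 1 → z = 1) :
    Nat.card ρ.ker * Nat.card (X.H ⊓ T.M : Subgroup Γ) ≤ (Nat.card F - 1) ^ l := by
  refine (C.card_le tf Fin.castSucc fun i => ?_).trans (le_of_le_of_eq (prod_le_prod' fun k _ => ?_)
    ((prod_const (Nat.card F - 1)).trans (by simp)))
  · induction i using Fin.lastCases
    · exact ⟨⟨l - 1, by omega⟩, by rw [orb_D hπ, if_pos (.inl rfl)]; simp⟩
    · exact ⟨_, T.mem_orb_self _⟩
  by_cases h : k.castSucc = (bdD l hl).p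
  · have e : rho hl ((bdD l hl).mr.cd.sim (bdD l hl).p) = (bdD l hl).mr.cd.sim (Fin.last l) := by
      rw [rho_sim, piD, Equiv.swap_apply_left]
    have ne : rho hl ((bdD l hl).mr.cd.sim (bdD l hl).p) ≠ (bdD l hl).mr.cd.sim (bdD l hl).p :=
      e ▸ (bdD l hl).mr.cd.sim_injective.ne (p_ne hl).symm
    refine C.card_HH tf (C.st.st2 C_orth (.id F) (.id F)) (fun y => ?_) fun y => ?_ <;> rw [orb_D hπ, if_pos (.inl h)]
    · refine Iff.trans ?_ ((mem_pair hσ C.st ne y).trans (by rw [e]; rfl))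
      refine iff_of_eq (congrArg (fun S => y ∈ X.XS S ⊓ T.Fix) (Set.ext fun r => ⟨fun h => e ▸ inJ_pair h.2 h.1, ?_⟩))
      rintro (rfl | rfl)
      · exact ⟨RS.pos_sim _ _, (RS.inJ_sim _).2 (by simp)⟩
      · exact e ▸ ⟨RS.pos_sim _ _, (RS.inJ_sim _).2 (by simp)⟩
    · refine Iff.trans ?_ ((mem_pair hσ C.st (a := (bdD l hl).mr.cd.neg ((bdD l hl).mr.cd.sim (bdD l hl).p))
        (by rw [rho_neg]; exact (bdD l hl).mr.cd.neg_injective.ne ne) y).trans (by rw [rho_neg, e]; rfl))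
      refine iff_of_eq (congrArg (fun S => y ∈ X.XS S ⊓ T.Fix) (Set.ext fun r => ⟨fun h => ?_, ?_⟩))
      · rw [rho_neg, e]
        exact (inJ_pair ((RS.inJ_neg _).2 h.2) ((RS.pos_neg_iff _ _).2 h.1)).imp (fun h => by rw [← h, RS.neg_neg])
          fun h => by rw [← h, RS.neg_neg]; rfl
      rw [rho_neg, e]
      rintro (rfl | rfl) <;>
        exact ⟨fun h => (RS.pos_neg_iff _ _).1 h (RS.pos_sim _ _), (RS.inJ_neg _).2 ((RS.inJ_sim _).2 (by simp))⟩
  · have e : rho hl ((bdD l hl).mr.cd.sim k.castSucc) = (bdD l hl).mr.cd.sim k.castSucc := by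
      rw [rho_sim, piD, Equiv.swap_apply_of_ne_of_ne h (Fin.castSucc_ne_last k)]
    refine C.card_HH tf (C.st.st1 ((bdD l hl).mr.cd.sim k.castSucc) (.id F)) (fun y => ?_) fun y => ?_ <;>
      rw [orb_D hπ, if_neg (not_or.2 ⟨h, Fin.castSucc_ne_last k⟩)]
    · rw [XP_singleton]; exact mem_single hσ e y
    · rw [XM_singleton]; exact mem_single hσ (by rw [rho_neg, e]) y

omit hπ [Finite E] [Fact p.Prime] in
theorem le_cardD [Finite Γ] (hi : Function.Injective (C.st.hh (mult_fin C.st))) :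
    (Nat.card F - 1) ^ l ≤ Nat.card (X.H ⊓ T.M : Subgroup Γ) := by
  let κ : Fin (l + 1) → Fin l := Fin.lastCases ⟨l - 1, by omega⟩ id
  have k : ∀ d : Fin l → Fˣ, C.st.hh (mult_fin C.st) (d ∘ κ) ∈ T.M := fun d => by
    induction d using Pi.mulSingle_induction with
    | one => exact (map_one (C.st.hh _)).symm ▸ one_mem _
    | mul a b ha hb => exact (map_mul (C.st.hh _) (a ∘ κ) (b ∘ κ)).symm ▸ mul_mem ha hb
    | mulSingle k t =>
      by_cases h : k.castSucc = (bdD l hl).p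
      · rw [show Pi.mulSingle k t ∘ κ = Pi.mulSingle (bdD l hl).p t * Pi.mulSingle (Fin.last l) t from funext fun i => by
          have : (⟨l - 1, by omega⟩ : Fin l) = k := Fin.ext (congrArg Fin.val h :).symm
          induction i using Fin.lastCases <;>
            simp [κ, ← h, this, Pi.mulSingle_apply, Fin.castSucc_ne_last, (Fin.castSucc_ne_last _).symm],
          map_mul, IsSt.hh_single, IsSt.hh_single]
        exact hpl_mem hσ hρ C.st C.ne _
      · rw [show Pi.mulSingle k t ∘ κ = Pi.mulSingle k.castSucc t from funext fun i => by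
          have : (⟨l - 1, by omega⟩ : Fin l) ≠ k := fun e => h (e ▸ rfl)
          induction i using Fin.lastCases <;>
            simp [κ, this, Pi.mulSingle_apply, (Fin.castSucc_ne_last _).symm], IsSt.hh_single]
        refine (hMD hσ C ?_ _).2
        change (bdD l hl).α _ _ = 0
        have : Fin.last l ≠ k.succ := fun e => h (Fin.ext (by
          have := congrArg Fin.val e; simp [bdD] at this ⊢; omega))
        simp [α_cast, this, (Fin.castSucc_ne_last _).symm]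
  rw [← Nat.card_units, show Nat.card Fˣ ^ l = Nat.card (Fin l → Fˣ) by rw [Nat.card_fun, Nat.card_fin]]
  exact Nat.card_le_card_of_injective (fun d => ⟨_, mi (C.st.hh_mem_H _ _) (k d)⟩) fun a b e => funext fun i => by
    simpa [κ] using congrFun (hi (congrArg Subtype.val e)) i.castSucc

omit hσ hρ hπ C [Finite F] [Finite E] [Fact p.Prime]

theorem tm_rho {r s : (bdD l hl).mr.R} (h : s ≠ (bdD l hl).mr.cd.neg r) :
    (bdD l hl).mr.cd.tm (rho hl r) (rho hl s) = ((bdD l hl).mr.cd.tm r s).map fun c => (rho hl c.1, c.2) := by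
  change (bdD l hl).mr.tm _ _ = ((bdD l hl).mr.tm _ _).map _
  rw [tm_two rfl fun e => h (Subtype.ext e), tm_two rfl fun e => h ((rho hl).injective (Subtype.ext (e.trans (rv_neg _).symm))),
    rho_val, rho_val, ← rv_add]
  by_cases k : (bdD l hl).mr.IsRoot (r.1 + s.1)
  · rw [tl_pos k, tl_pos (root_rv hl k), cf_eq (root_rv hl k) (c := (bdD l hl).mr.cf _ (r.1 + s.1)) (by
      rw [X_rv, X_rv, X_rv, submatrix_mul_equiv, submatrix_mul_equiv]
      exact congrArg (fun A => Matrix.submatrix A (pi0 l) (pi0 l)) (cf_smul ((L_X' r.2).br (L_X' s.2)) (wt_br _ _) k))]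
    rfl
  · rw [tl_neg k, tl_neg fun h => k (rv_rv (r.1 + s.1) ▸ root_rv hl h)]; rfl

/-- the twisted system -/
def twP (X : PreSt (bdD l hl).mr.cd F Γ) : PreSt (bdD l hl).mr.cd F Γ where
  x r := X.x (rho hl r)
  add r := X.add _
  comm r s t u h1 h2 := by
    rw [X.comm _ _ t u ((rho hl).injective.ne h1) (rho_neg hl r ▸ (rho hl).injective.ne h2), tm_rho h2, List.map_map]; rfl

theorem commutator_le_M (hX : X.IsSt) (hne : T.Ne) (hM : X.Mult) {a b : Γ} (ha : a ∈ X.G ⊓ T.Fix) (hb : b ∈ X.G ⊓ T.Fix) :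
    ⁅a, b⁆ ∈ T.M := by
  obtain ⟨h, hh, m, hm, rfl⟩ := Tw.mem_M_mul hX hne (il ha) (ir ha)
  obtain ⟨h', hh', m', hm', rfl⟩ := Tw.mem_M_mul hX hne (il hb) (ir hb)
  have e := hX.H_comm hM (il hh) (il hh')
  have := mul_mem (mul_mem (Tw.H_conj_M hX hh hm) (Tw.H_conj_M hX (mul_mem hh hh') (mul_mem hm' (inv_mem hm))))
    (Tw.H_conj_M hX hh' (inv_mem hm'))
  nth_rewrite 2 [e] at this
  convert this using 1
  rw [commutatorElement_def]; group

theorem schur_B {F : Type u} [Field F] [Fintype F] (hq : Odd (Fintype.card F)) (h3 : 3 ≤ l) (h : ¬ (l = 3 ∧ Fintype.card F = 3)) :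
    HasCyclicSchurMultiplier (POmega F (quadFormOdd l F)) 2 := by
  classical
  have hl : 2 ≤ l := by omega
  obtain ⟨p, _⟩ := CharP.exists F
  have hp := Fact.mk (CharP.char_is_prime F p)
  have h1 : p ≠ 2 := by
    rintro rfl
    obtain ⟨n, -, hn⟩ := FiniteField.card F 2
    exact (Nat.not_even_iff_odd.2 hq) (hn ▸ (Nat.even_pow.2 ⟨even_two, n.ne_zero⟩))
  have h2 : (2 : F) ≠ 0 := fun h =>
    h1 ((Nat.prime_dvd_prime_iff_eq hp.out Nat.prime_two).1 ((CharP.cast_eq_zero_iff F p 2).1 h))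
  have hq' : ((∃ t : F, t ≠ 0 ∧ t ^ 2 ≠ 1) ∧ 4 < Nat.card F) ∨ ((∀ t : F, t = 0 ∨ t = 1 ∨ t = -1) ∧ 4 ≤ l) := by
    have h0 := Fintype.one_lt_card (α := F)
    obtain ⟨k, hk⟩ := hq
    have hc : #({0, 1, -1} : Finset F) = 3 := card_eq_three.2 ⟨0, 1, -1, by simp, by simp,
      fun h => h2 (by linear_combination h), rfl⟩
    by_cases e : Fintype.card F = 3
    · refine .inr ⟨fun t => ?_, by omega⟩
      simpa using (eq_univ_of_card _ (hc.trans e.symm)).ge (mem_univ t)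
    · refine .inl ⟨?_, by rw [Nat.card_eq_fintype_card]; omega⟩
      obtain ⟨t, -, ht⟩ := exists_mem_notMem_of_card_lt_card (s := ({0, 1, -1} : Finset F)) (t := univ) (by
        rw [hc, card_univ]; omega)
      simp only [mem_insert, mem_singleton, not_or] at ht
      exact ⟨t, ht.1, fun e => (sq_eq_one_iff.1 e).elim ht.2.1 ht.2.2⟩
  obtain ⟨Γ, _, P, hP, hi, hG⟩ := exists_sc_D hl F
  have := finite_of_st hP hG
  have hX := (bdD l hl).mr.isSt F
  obtain ⟨θ, hθ⟩ := exists_hom_sc hP hi hG ((bdD l hl).mr.pre F)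
  obtain ⟨σ, hσ⟩ := exists_hom_sc hP hi hG (twP P)
  obtain ⟨T, e1, hπ, hρ, hne⟩ := exists_twD hl hP (.id F) σ hσ
  obtain ⟨T0, e0, hπ0, -, hne0⟩ := exists_twD hl hX (.id F) _ (twG_x hl (.id F))
  subst e1
  have hc : (twG l (.id F)).comp θ = θ.comp T.σ := P.hom_ext' hG fun r t => by
    simp only [MonoidHom.comp_apply, hθ, hσ, twG_x]; exact (hθ _ _).symm
  obtain ⟨ι, hι, hr⟩ := exists_iotaB h2 hl
  have k1 : T.M ≤ ι.range.comap θ := M_le_of_p hP p fun g hg a k c => by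
    have a' : twG l (.id F) (θ g) = θ g := (DFunLike.congr_fun hc g).trans (congrArg θ a)
    have b := (mem_G_D hl).1 (P.map_G _ θ hθ ▸ mem_map_of_mem θ hg)
    exact (hr _).2 ⟨b, a', fix_v_of_odd h2 (Form.om_le_isom b) a' (hp.out.odd_of_ne_two h1).pow (by rw [← map_pow, c, map_one])⟩
  have hS := oddForm_nondeg (F := F) l h2
  have hperf := commutator_Omega (oddForm_Q l) hS (by simp; omega)
  have k2 : ι.range ≤ T.M.map θ := by
    refine le_trans ?_ (T.M_le_map hX T0 θ hθ (hπ0.trans hπ.symm) fun g => e0 ▸ DFunLike.congr_fun hc g)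
    have k : ∀ g, ι g ∈ ((bdD l hl).mr.pre F).G ⊓ T0.Fix := fun g =>
      mi ((mem_G_D hl).2 ((hr _).1 ⟨g, rfl⟩).1) (Tw.mem_Fix.2 (e0 ▸ ((hr _).1 ⟨g, rfl⟩).2.1))
    rw [MonoidHom.range_eq_map, ← hperf, map_le_iff_le_comap, _root_.commutator_def, commutator_le]
    exact fun a _ b _ => by
      rw [mem_comap, map_commutatorElement]; exact commutator_le_M hX hne0 (mult_fin hX) (k a) (k b)
  let τ : T.M →* Omega F (quadFormOdd l F) := (MonoidHom.ofInjective hι).symm.toMonoidHom.comp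
    ((θ.comp T.M.subtype).codRestrict _ fun g => k1 g.2)
  have hτ : ∀ g, ι (τ g) = θ g := fun g => MonoidHom.apply_ofInjective_symm hι _
  have hs : Function.Surjective τ := fun y => by
    obtain ⟨g, hg, e⟩ := k2 ⟨y, rfl⟩
    exact ⟨⟨g, hg⟩, hι ((hτ _).trans e)⟩
  let π := (QuotientGroup.mk' (center _)).comp τ
  have hk : ∀ g, g ∈ π.ker ↔ θ g = 1 := fun g => by
    rw [MonoidHom.mem_ker, MonoidHom.comp_apply, QuotientGroup.mk'_apply, QuotientGroup.eq_one_iff,
      card_center_Omega_one (oddForm_Q l) hS (by simp; omega) (.inl (gen_of_two_ne_zero h2)) (.inr fun h => by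
        have := ((hS.neg_mem_om_iff h2).1 h).1
        rw [finrank_odd] at this
        exact Nat.not_even_two_mul_add_one l this), mem_bot, ← hτ, map_eq_one_iff _ hι]
  have hh := hh_map hP (mult_fin hP) hX ((bdD l hl).mr.mult F) θ hθ
  have k3 : ∀ g, θ g = 1 → ∃ c, g = hP.hh (mult_fin hP) c ∧ hX.hh ((bdD l hl).mr.mult F) c = 1 := fun g hg => by
    obtain ⟨c, rfl⟩ := (hP.range_hh (mult_fin hP)).ge (P.ker_mem_H _ θ hθ hX (hG ▸ mem_top g) hg)
    exact ⟨c, rfl, (hh c).symm.trans hg⟩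
  have hz : π.ker ≤ center _ := fun g hg => mem_center_iff.2 fun y => Subtype.ext (by
    obtain ⟨c, e, e'⟩ := k3 g ((hk g).1 hg)
    refine (P.comm_of_comm_x (fun r t => ?_) (hG ▸ mem_top _)).symm
    have := hX.hh_conj ((bdD l hl).mr.mult F) c r t
    rw [e', one_mul, inv_one, mul_one] at this
    rw [e, ← mul_inv_eq_iff_eq_mul, hP.hh_conj, ← ((bdD l hl).mr.pre F).x_injective hX.sep1 r this])
  let c0 : Fin (l + 1) → Fˣ := Pi.mulSingle (bdD l hl).p (-1) * Pi.mulSingle (Fin.last l) (-1)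
  have m1 : (-1 : Fˣ) ≠ 1 := fun h => h2 (by have := congrArg Units.val h; simp at this; linear_combination -this)
  have hcard : Nat.card π.ker = 2 := by
    have hm : hP.hh (mult_fin hP) c0 ∈ T.M := by
      rw [map_mul, IsSt.hh_single, IsSt.hh_single]; exact hpl_mem hσ hρ hP hne _
    have hv : ∀ i, cv ((bdD l hl).mr.α i) = (bdD l hl).α i := fun i => cv_sh (shD ((bdD l hl).mr.cd.sim i))
    refine Nat.card_eq_two_iff.2 ⟨1, ⟨⟨_, hm⟩, (hk _).2 ((hh _).trans ?_)⟩, fun e => m1 ?_, Set.eq_univ_of_forall fun g => ?_⟩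
    · rw [hh_eq, ← map_one (dgG F)]
      congr 1
      ext1 a
      simp only [c0, Pi.mul_apply, mul_zpow, prod_mul_distrib, hv]
      rw [prod_eq_single (bdD l hl).p (fun j _ hj => by simp [Pi.mulSingle_eq_of_ne hj]) (by simp),
        prod_eq_single (Fin.last l) (fun j _ hj => by simp [Pi.mulSingle_eq_of_ne hj]) (by simp), Pi.mulSingle_eq_same,
        Pi.mulSingle_eq_same, ← _root_.zpow_add, ← add_dotProduct, α_p, α_last, sub_add_add_cancel, add_dotProduct, ← two_mul,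
        _root_.zpow_mul]
      simp [zpow_two]
    · have := congrFun (hi ((map_one _).trans (congrArg (fun x => x.1.1) e))) (Fin.last l)
      simpa [c0, Pi.mulSingle_eq_of_ne (p_ne hl).symm] using this.symm
    · obtain ⟨c, e, e'⟩ := k3 g.1 ((hk _).1 g.2)
      rw [hh_eq] at e'
      have h4 : ∀ a, chD hl c (ev a) = 1 := fun a => by
        have := congrArg (fun g : GL _ F => g.1 (.inl a) (.inl a)) e'
        simp only [coe_dgG, diagonal_apply_eq, Units.val_one, one_apply_eq, Units.val_eq_one, hv] at this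
        exact this
      have h5 := chD_last (hl := hl) c
      rw [chD_ker h4] at e
      simp only [h4, prod_const_one] at h5
      generalize c (Fin.last l) = ν at *
      rcases sq_eq_one_iff.1 (show (ν : F) ^ 2 = 1 by simpa using congrArg Units.val h5) with h6 | h6
      · exact .inl (Subtype.ext (Subtype.ext (by simpa [show ν = 1 from Units.ext h6] using e)))
      · exact .inr (Subtype.ext (Subtype.ext (by rw [e, show ν = -1 from Units.ext h6])))
  have hd : π.ker ≤ commutator _ := fun z hz => mem_comm_of_gen (p := p) (n := 2) (fun L hL => map_injective T.M.subtype_injective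
    (le_antisymm (map_mono le_top) ((map_subtype_le _).trans (T.M_le.2 fun i => ⟨fun a ha => ⟨⟨a, T.XP_le_M i ha⟩, hL _
      (((pUV hP p).1 ⟨a, XP_le_U _ (il ha)⟩).imp fun k e => Subtype.ext (congrArg (fun x : P.U => x.1) e)), rfl⟩,
      fun a ha => ⟨⟨a, T.XM_le_M i ha⟩, hL _ (((pUV hP p).2 ⟨a, XM_le_V _ (il ha)⟩).imp fun k e =>
        Subtype.ext (congrArg (fun x : P.V => x.1) e)), rfl⟩⟩))))
    ((Nat.coprime_primes hp.out Nat.prime_two).2 h1) (congrArg Subtype.val (hcard ▸ pow_card_eq_one' (x := (⟨z, hz⟩ : π.ker))))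
  have hM : commutator T.M = ⊤ := eq_top_iff.2 fun g _ => by
    obtain ⟨y, hy, e⟩ : τ g ∈ (commutator T.M).map τ := by
      rw [_root_.commutator_def, map_commutator, map_top_of_surjective _ hs, ← _root_.commutator_def, hperf]; trivial
    simpa using mul_mem hy (hd (show y⁻¹ * g ∈ π.ker by simp [π, MonoidHom.mem_ker, e]))
  have : Subsingleton (CfsgH1.SM T.M) := CfsgH1.subsingleton_SM_iff.2 fun E _ _ ρ hρ' => by
    have e : (T.M.subtype.comp ρ).ker = ρ.ker := MonoidHom.ker_comp_of_injective _ _ T.M.subtype_injective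
    obtain ⟨S, hS⟩ := Tw.exists_sylow hP hne T.M.subtype_injective T.M.range_subtype (mult_fin hP) p
    have C : Cov T (T.M.subtype.comp ρ) p := ⟨hP, hne, by
      rw [MonoidHom.range_comp, MonoidHom.range_eq_top.2 hρ'.1, ← MonoidHom.range_eq_map, T.M.range_subtype],
      e ▸ hρ'.2.1, e ▸ hρ'.2.2, (pUV hP p).1, (pUV hP p).2⟩
    have tf := C.tf (mult_fin hP) (grdD hl hρ) (by
      rw [← comap_comap, index_comap_of_surjective _ hρ'.1, ← hS]; exact S.not_dvd_index) (vanD hσ hρ C h3 h2 hq')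
    have := (card_leD hσ hρ hπ C tf).trans (le_cardD hσ hρ C hi)
    rw [← e, ← card_le_one_iff_eq_bot]
    exact Nat.le_of_mul_le_mul_right (this.trans (one_mul _).ge) Nat.card_pos
  obtain ⟨e⟩ := equiv_zmod hcard (.inr Nat.prime_two)
  exact hasSM_of_cover hM ⟨(QuotientGroup.mk'_surjective _).comp hs, hz⟩ e

end CfsgH8.TE
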