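import Cfsg.Agent.H8.TE1

/-! Sylow `2`-subgroups of `O⁺(2m,2)` intersect. -/

set_option autoImplicit false

namespace CfsgH8.TE

open Finset Matrix CfsgH6 CfsgH6.PreSt CfsgH5 Cfsg Module Subgroup

theorem sylow_meet {F : Type*} [Field F] [Fintype F] (hF : Fintype.card F = 2) {l : ℕ} (hl : 2 ≤ l) :
    ∃ S : Subgroup (GL (Fin (l + 1) ⊕ Fin (l + 1)) F), IsPGroup 2 S ∧ S ≤ isometryGroup F (quadFormPlus (l + 1) F) ∧
      ∀ h ∈ isometryGroup F (quadFormPlus (l + 1) F), ∃ y ∈ S, y ≠ 1 ∧ h⁻¹ * y * h ∈ S := by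
  classical
  have := Fact.mk Nat.prime_two
  have h2 : (2 : F) = 0 := by simpa [hF] using FiniteField.cast_card_eq_zero F
  have : CharP F 2 := CharTwo.of_one_ne_zero_of_two_eq_zero one_ne_zero h2
  let X := (bdD l hl).mr.pre F
  have hX : X.IsSt := (bdD l hl).mr.isSt F
  obtain ⟨T, e, -, -, -⟩ := exists_twD hl hX (.id F) _ (twG_x hl (.id F))
  have hS := plusForm_nondeg (F := F) (l + 1)
  have hG : (∃ a : F, a ≠ 0 ∧ a ≠ 1) ∨ finrank F (Fin (l + 1) ⊕ Fin (l + 1) → F) ≠ 4 := .inr (by simp; omega)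
  let v : Fin (l + 1) ⊕ Fin (l + 1) → F := Pi.single (.inl (Fin.last l)) 1 - Pi.single (.inr (Fin.last l)) 1
  have hv : (plusForm (l + 1) F).Q v = -1 := by
    simp [plusForm_Q, quadFormPlus, v, Fin.sum_univ_castSucc, Pi.single_apply, Fin.castSucc_ne_last]
  let τ := (glEquiv _ F).symm ((plusForm (l + 1) F).rf v)
  have h0 : glEquiv _ F τ = (plusForm (l + 1) F).rf v := (glEquiv _ F).apply_symm_apply _
  have h1 : ∀ x, τ.1 *ᵥ x = gam (.id F) x := fun x => by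
    rw [← glEquiv_apply, h0, Form.rf_apply, hv, Form.sub_right, plusForm_B_inl, plusForm_B_inr]
    ext a
    rcases a with a | a <;> by_cases h : a = Fin.last l <;> simp [gam, v, pi0_eq, h]
  have h3 : τ * τ = 1 := (glEquiv _ F).injective (by rw [map_mul, h0, Form.rf_mul_self, map_one])
  have h3' : τ⁻¹ = τ := inv_eq_of_mul_eq_one_left h3
  have h4 : ∀ g, T.σ g = τ * g * τ := fun g => (glEquiv _ F).injective (LinearEquiv.ext fun x => by
    rw [e, glEquiv_apply, glEquiv_apply, Units.val_mul, Units.val_mul, ← mulVec_mulVec, ← mulVec_mulVec, h1, h1,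
      ← twG_gam, gam_gam])
  have hO : ∀ g, g ∈ isometryGroup F (quadFormPlus (l + 1) F) ↔ glEquiv _ F g ∈ (plusForm (l + 1) F).isom := fun g =>
    ⟨fun h => oHom_mem (plusForm_Q _) ⟨g, h⟩, fun h => by
      obtain ⟨A, hA⟩ := exists_oHom (plusForm_Q _) h
      exact (glEquiv _ F).injective hA ▸ A.2⟩
  have hH : X.H ≤ ⊥ := X.H_le.2 fun r t ht => by
    rw [show t = 1 by simpa [hF] using FiniteField.pow_card_sub_one_eq_one t ht, X.h_one]; exact one_mem _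
  have hB : X.B ≤ zpowers τ ⊔ X.U := sup_le le_sup_right (hH.trans bot_le)
  have hτ : τ ∈ zpowers τ ⊔ X.U := mem_sup_left (mem_zpowers τ)
  refine ⟨zpowers τ ⊔ X.U, (IsPGroup.of_card_dvd_pow (p := 2) (n := 1) (by
    rw [Nat.card_zpowers]; exact orderOf_dvd_of_pow_eq_one (by simpa [pow_two] using h3))).to_sup_of_normal_right' (pUV hX 2).1
    (zpowers_le.2 (mem_normalizer_iff.2 fun g => ⟨fun h => by rw [h3', ← h4]; exact T.σ_U h, fun h => by
      simpa [h4, h3', ← mul_assoc, h3, mul_assoc g] using T.σ_U h⟩)),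
    sup_le (zpowers_le.2 ((hO _).2 (h0 ▸ Form.rf_mem v))) fun g hg =>
      (hO _).2 (Form.om_le_isom ((mem_G_D hl).1 (X.XS_le_G _ hg))), fun h hh => ?_⟩
  have k : ∀ g ∈ X.G, ∃ y ∈ zpowers τ ⊔ X.U, y ≠ 1 ∧ g⁻¹ * y * g ∈ zpowers τ ⊔ X.U := fun g hg => by
    obtain ⟨w, hw, n, hn, ha, b, hb, b', hb', rfl⟩ := hX.exists_cell hg
    obtain ⟨y, h5, h6, h7⟩ : ∃ y ∈ zpowers τ ⊔ X.U, y ≠ 1 ∧ n⁻¹ * y * n ∈ zpowers τ ⊔ X.U := by
      by_cases h : ∃ i, (bdD l hl).mr.cd.Pos (w ((bdD l hl).mr.cd.sim i))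
      · obtain ⟨i, hi⟩ := h
        obtain ⟨c, hc, h5, -⟩ := ha ((bdD l hl).mr.cd.sim i)
        refine ⟨_, mem_sup_right (X.x_mem_U hi (c * 1)), fun e => hc (by simpa using hX.x_eq_one e), ?_⟩
        rw [← h5]
        simpa [mul_assoc] using mem_sup_right (S := zpowers τ) (X.x_mem_U (RS.pos_sim _ i) 1)
      · obtain rfl := RS.eq_lg _ hw fun j _ e => h ⟨j, e⟩
        have := hH (hX.mul_inv_mem_H (T.σ_N hX hn) hn (T.cj_lg (J := Set.univ) (fun _ _ => trivial) ▸ T.act hX hn ha) ha)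
        rw [mem_bot, mul_inv_eq_one, h4] at this
        refine ⟨τ, hτ, fun e => ?_, by
          rwa [show n⁻¹ * τ * n = τ by rw [mul_assoc, inv_mul_eq_iff_eq_mul, ← mul_left_inj τ, this, mul_assoc, h3, mul_one]]⟩
        have := hS.dk_rf (v := v) (by simp [hv])
        rw [← h0, e, map_one, dk_one] at this
        exact absurd this (by decide)
    refine ⟨b * y * b⁻¹, mul_mem (mul_mem (hB hb) h5) (inv_mem (hB hb)), by simpa using h6, ?_⟩
    simpa [mul_assoc] using mul_mem (mul_mem (inv_mem (hB hb')) h7) (hB hb')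
  rcases Int.units_eq_one_or (dk (glEquiv _ F h)) with h5 | h5
  · exact k h ((mem_G_D hl).2 ((hS.mem_om_iff_of_two h2 hG).2 ⟨(hO h).1 hh, h5⟩))
  · obtain ⟨y, h6, h7, h8⟩ := k (τ * h) ((mem_G_D hl).2 ((hS.mem_om_iff_of_two h2 hG).2 ⟨map_mul (glEquiv _ F) τ h ▸
      mul_mem (h0 ▸ Form.rf_mem v) ((hO h).1 hh), by rw [map_mul, h0, hS.dk_rf_mul (by simp [hv]) ((hO h).1 hh), h5, neg_neg]⟩))
    exact ⟨τ⁻¹ * y * τ, mul_mem (mul_mem (inv_mem hτ) h6) hτ, fun e => h7 (by rwa [mul_assoc, inv_mul_eq_one, eq_comm, mul_eq_right] at e), by simpa [mul_assoc] using h8⟩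

end CfsgH8.TE
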