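import Mathlib

/-! Groups with elementary abelian abelianisation; wreath products and their monomial representations. -/

set_option autoImplicit false

namespace CfsgH8

open Subgroup Matrix

/-- squares lie in the derived group -/
def SqA (W : Type*) [Group W] : Prop := ∀ x : W, x ^ 2 ∈ commutator W

variable {W W' G H N : Type*} [Group W] [Group W'] [Group G] [Group H] [Group N]

theorem sq_mem_iff (x : W) : x ^ 2 ∈ commutator W ↔ Abelianization.of x ^ 2 = 1 := by
  rw [← map_pow, ← MonoidHom.mem_ker, Abelianization.ker_of]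

theorem SqA.hom (h : SqA W) {A : Type*} [CommGroup A] (f : W →* A) (x : W) : f x ^ 2 = 1 := by
  rw [← map_pow]; exact Abelianization.commutator_subset_ker f (h x)

theorem SqA.surj (h : SqA W) (π : W →* W') (hπ : Function.Surjective π) : SqA W' := fun x => by
  obtain ⟨x, rfl⟩ := hπ x
  exact (sq_mem_iff _).2 (h.hom (Abelianization.of.comp π) x)

theorem SqA.pi {X : Type*} [Finite X] (h : SqA H) : SqA (X → H) := fun x => by
  rw [commutator_def, ← Subgroup.pi_top Set.univ, commutator_pi_pi_of_finite]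
  exact fun i _ => h (x i)

theorem SqA.sd {φ : G →* MulAut N} (hN : SqA N) (hG : SqA G) : SqA (N ⋊[φ] G) := fun x => by
  rw [sq_mem_iff, ← SemidirectProduct.inl_left_mul_inr_right x, map_mul, mul_pow]
  exact (congrArg₂ (· * ·) (hN.hom (Abelianization.of.comp SemidirectProduct.inl) _)
    (hG.hom (Abelianization.of.comp SemidirectProduct.inr) _)).trans (one_mul _)

theorem SqA.sylow [Finite G] (h : SqA W) {f : W →* G} (hf : Function.Injective f)
    (hc : Nat.card W = 2 ^ padicValNat 2 (Nat.card G)) (P : Sylow 2 G) : SqA P := by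
  let U : Sylow 2 G := Sylow.ofCard f.range (by
    rw [← Nat.card_congr (MonoidHom.ofInjective hf).toEquiv, hc, Nat.factorization_def _ Nat.prime_two])
  exact (h.surj f.rangeRestrict f.rangeRestrict_surjective).surj (Sylow.equiv U P).toMonoidHom (Sylow.equiv U P).surjective

theorem sqA_quat {k : ℕ} (hk : 1 ≤ k) : SqA (QuaternionGroup (2 ^ k)) := by
  have h : ∀ i, Abelianization.of (QuaternionGroup.a i : QuaternionGroup (2 ^ k)) ^ 2 = 1 := fun i => by
    have := mul_comm (Abelianization.of (QuaternionGroup.a i : QuaternionGroup (2 ^ k)))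
      (Abelianization.of (QuaternionGroup.xa 0))
    rw [← map_mul, ← map_mul, QuaternionGroup.a_mul_xa, QuaternionGroup.xa_mul_a,
      show QuaternionGroup.xa (0 + i) = QuaternionGroup.xa (0 - i) * QuaternionGroup.a i ^ 2 by simp [pow_two],
      map_mul, map_pow] at this
    exact mul_eq_left.1 this.symm
  rintro (i | i)
  · exact (sq_mem_iff _).2 (h i)
  · obtain ⟨k, rfl⟩ := Nat.exists_eq_add_of_le' hk
    rw [QuaternionGroup.xa_sq]
    convert (sq_mem_iff _).2 (h (2 ^ k)) using 1
    rw [pow_two, QuaternionGroup.a_mul_a]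
    congr 1
    push_cast; ring

theorem sqA_qd [Finite W] {n : ℕ} (hn : 3 ≤ n) (hc : Nat.card W = 2 ^ (n + 1)) {x y : W} (hx : orderOf x = 2 ^ n)
    (hy : orderOf y = 2) (h : y * x * y⁻¹ = x ^ (2 ^ (n - 1) - 1)) : SqA W := by
  obtain ⟨n, rfl⟩ := Nat.exists_eq_add_of_le' hn
  have key : ∀ {A : Type _} [Group A] (z : A), z ^ 2 ^ (n + 3) = 1 → z = z ^ (2 ^ (n + 3 - 1) - 1) → z ^ 2 = 1 := by
    intro A _ z h1 h2
    have e : 2 ^ (n + 3 - 1) - 1 = 2 * (2 ^ (n + 1) - 1) + 1 := by
      have := Nat.one_le_two_pow (n := n + 1)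
      rw [show n + 3 - 1 = n + 1 + 1 from rfl, pow_succ]; omega
    rw [e, pow_succ, pow_mul] at h2
    have h3 : (z ^ 2) ^ (2 ^ (n + 1) - 1) = 1 := mul_eq_right.1 h2.symm
    have h4 : (z ^ 2) ^ 2 ^ (n + 3) = 1 := by rw [← pow_mul, mul_comm, pow_mul, h1, one_pow]
    have h5 : Nat.Coprime (2 ^ (n + 1) - 1) (2 ^ (n + 3)) := Nat.Coprime.pow_right _ (Nat.coprime_two_right.2 (by
      refine Nat.Even.sub_odd Nat.one_le_two_pow ?_ odd_one
      exact (Nat.even_pow.2 ⟨even_two, by omega⟩)))
    exact orderOf_eq_one_iff.1 (Nat.eq_one_of_dvd_coprimes h5 (orderOf_dvd_of_pow_eq_one h3) (orderOf_dvd_of_pow_eq_one h4))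
  have hi : (zpowers x).index = 2 := by
    have := (zpowers x).index_mul_card
    rw [Nat.card_zpowers, hx, hc, pow_succ' 2 (n + 3)] at this
    exact Nat.eq_of_mul_eq_mul_right (by positivity) this
  have hy' : y ∉ zpowers x := by
    rintro ⟨m, rfl⟩
    have := key x (hx ▸ pow_orderOf_eq_one x) (by rw [← h]; group)
    have := Nat.le_of_dvd two_pos (orderOf_dvd_of_pow_eq_one this)
    have := Nat.one_le_two_pow (n := n)
    rw [pow_add] at hx
    omega
  have hx2 : Abelianization.of x ^ 2 = 1 := key _ (by rw [← map_pow, ← hx, pow_orderOf_eq_one, map_one])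
    (by rw [← map_pow, ← h, map_mul, map_mul, map_inv, mul_comm (Abelianization.of y), mul_inv_cancel_right])
  have hz : ∀ g ∈ zpowers x, Abelianization.of g ^ 2 = 1 := by
    rintro _ ⟨m, rfl⟩
    rw [map_zpow, ← zpow_natCast, ← _root_.zpow_mul, mul_comm, _root_.zpow_mul, zpow_natCast, hx2, _root_.one_zpow]
  intro g
  rw [sq_mem_iff]
  by_cases hg : g ∈ zpowers x
  · exact hz g hg
  · have := hz _ ((mul_mem_iff_of_index_two hi).2 (iff_of_false hg hy'))
    rwa [map_mul, mul_pow, ← map_pow _ y, show y ^ 2 = 1 from hy ▸ pow_orderOf_eq_one y, map_one, mul_one] at this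

theorem exists_wr.{u} {H : Type u} [Group H] {X : Type} [Fintype X] [DecidableEq X] (T : Subgroup (Equiv.Perm X)) (hT : SqA T) (hH : SqA H)
    {F ι : Type*} [Field F] [Fintype ι] [DecidableEq ι]
    [Nonempty ι] (ρ : H →* Matrix ι ι F) (hρ : Function.Injective ρ) (J : Matrix ι ι F)
    (hJ : ∀ x, ρ x * J * (ρ x)ᵀ = J) : ∃ (W : Type u) (_ : Group W), SqA W ∧
    Nat.card W = Nat.card H ^ Fintype.card X * Nat.card T ∧
    ∃ f : W →* Matrix (ι × X) (ι × X) F, Function.Injective f ∧
      ∀ w, f w * blockDiagonal (fun _ => J) * (f w)ᵀ = blockDiagonal fun _ => J := by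
  let W := (X → H) ⋊[mulAutArrow] T
  let σ : W →* Equiv.Perm X := T.subtype.comp SemidirectProduct.rightHom
  let c : W → X → H := fun w i => w.left (σ w i)
  have h3 : ∀ x y i, c (x * y) i = c x (σ y i) * c y i := fun x y i => by
    change x.left (σ (x * y) i) * y.left ((σ x)⁻¹ (σ (x * y) i)) = _
    simp [c]
  have h4 : ∀ w, σ w = 1 → (∀ i, c w i = 1) → w = 1 := fun w a b =>
    SemidirectProduct.ext (funext fun i => by simpa [c, a] using b i) (Subtype.ext a)
  have c1 : ∀ i, c 1 i = 1 := fun i => by simpa using h3 1 1 i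
  let M : W → Matrix (ι × X) (ι × X) F := fun w => of fun a b => if a.2 = σ w b.2 then ρ (c w b.2) a.1 b.1 else 0
  refine ⟨W, inferInstance, hH.pi.sd hT, ?_, ⟨⟨M, ?_⟩, fun x y => ?_⟩, (injective_iff_map_eq_one _).2 fun w a => ?_,
    fun w => ?_⟩
  · rw [Nat.card_congr SemidirectProduct.equivProd, Nat.card_prod, Nat.card_fun, Nat.card_eq_fintype_card (α := X)]
  · ext ⟨a, i⟩ ⟨b, k⟩
    simp [M, c1, one_apply, and_comm, ite_and]
  · ext ⟨a, i⟩ ⟨b, k⟩
    simp [M, mul_apply, Fintype.sum_prod_type, h3, Finset.sum_ite_irrel]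
  · have e : ∀ i s t, ρ (c w i) s t = if (s, σ w i) = (t, i) then 1 else 0 := fun i s t => by
      have := congrFun (congrFun a (s, σ w i)) (t, i)
      simpa [M, one_apply] using this
    have e1 : ∀ i, σ w i = i := fun i => by
      by_contra hn
      have : ρ (c w i) = 0 := by ext s t; simp [e, hn]
      have h5 := congrArg (· * ρ (c w i)⁻¹) this
      simp [← map_mul] at h5
    exact h4 w (Equiv.ext e1) fun i => hρ (by ext s t; simp [e, e1, one_apply])
  · ext ⟨a, i⟩ ⟨b, k⟩
    obtain ⟨i, rfl⟩ := (σ w).surjective i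
    obtain ⟨k, rfl⟩ := (σ w).surjective k
    have := congrFun (congrFun (hJ (c w i)) a) b
    simp only [mul_apply, transpose_apply] at this
    by_cases hik : i = k
    · subst hik
      simp [M, mul_apply, Fintype.sum_prod_type, blockDiagonal_apply, ← this]
    · simp [M, mul_apply, Fintype.sum_prod_type, blockDiagonal_apply, hik]

theorem lte_two {q : ℕ} (h1 : 1 < q) (hq : Odd q) (i : ℕ) :
    padicValNat 2 (q ^ (2 * (i + 1)) - 1) = padicValNat 2 (q ^ 2 - 1) + padicValNat 2 (i + 1) := by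
  have h2 : ¬ 2 ∣ q := hq.not_two_dvd_nat
  have a := padicValNat.pow_two_sub_one h1 h2 (n := 2 * (i + 1)) (by omega) (even_two_mul _)
  have b := padicValNat.pow_two_sub_one h1 h2 (n := 2) (by omega) even_two
  rw [padicValNat.mul (by omega) (by omega)] at a
  omega

theorem pow_sub_ne {q : ℕ} (h1 : 1 < q) {i : ℕ} (hi : i ≠ 0) : q ^ i - 1 ≠ 0 :=
  Nat.sub_ne_zero_of_lt (Nat.one_lt_pow hi h1)

theorem val_prod {q : ℕ} (h1 : 1 < q) (hq : Odd q) (n : ℕ) :
    padicValNat 2 (∏ i ∈ Finset.range n, (q ^ (2 * (i + 1)) - 1)) =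
      padicValNat 2 (q ^ 2 - 1) * n + padicValNat 2 n.factorial := by
  induction n with
  | zero => simp
  | succ n ih =>
    rw [Finset.prod_range_succ, padicValNat.mul (Finset.prod_ne_zero_iff.2 fun i _ => pow_sub_ne h1 (by omega))
      (pow_sub_ne h1 (by omega)), ih, lte_two h1 hq, Nat.factorial_succ, padicValNat.mul (by omega) n.factorial_ne_zero]
    ring

theorem val_odd_pow {q : ℕ} (hq : Odd q) (k : ℕ) : padicValNat 2 (q ^ k) = 0 :=
  padicValNat.eq_zero_of_not_dvd hq.pow.not_two_dvd_nat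

theorem card_GL_succ' {F : Type*} [Field F] [Fintype F] (n : ℕ) : Nat.card (GL (Fin (n + 1)) F) =
    (Fintype.card F ^ (n + 1) - 1) * Fintype.card F ^ n * Nat.card (GL (Fin n) F) := by
  have h : ∀ i : Fin n, Fintype.card F ^ (n + 1) - Fintype.card F ^ (i.succ : ℕ) =
      Fintype.card F * (Fintype.card F ^ n - Fintype.card F ^ (i : ℕ)) := fun i => by
    rw [Nat.mul_sub, Fin.val_succ, pow_succ', pow_succ']
  rw [card_GL_field, card_GL_field, Fin.prod_univ_succ, mul_assoc]
  simp only [h, Finset.prod_mul_distrib]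
  simp

theorem val_odd {q : ℕ} (hq : q % 4 = 3) (i : ℕ) : padicValNat 2 (q ^ (2 * i + 1) - 1) = 1 := by
  have h : q ^ (2 * i + 1) % 4 = 3 := by
    induction i with
    | zero => simpa using hq
    | succ i ih => rw [show 2 * (i + 1) + 1 = 2 * i + 1 + 1 + 1 by ring, pow_succ, pow_succ]; simp [Nat.mul_mod, ih, hq]
  obtain ⟨k, hk⟩ : ∃ k, q ^ (2 * i + 1) - 1 = 2 * (2 * k + 1) := ⟨q ^ (2 * i + 1) / 4, by omega⟩
  rw [hk, padicValNat.mul (by omega) (by omega), padicValNat.eq_zero_of_not_dvd (n := 2 * k + 1) (by omega)]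
  simp

theorem val_GL {F : Type*} [Field F] [Fintype F] (hq : Fintype.card F % 4 = 3) (m : ℕ) :
    padicValNat 2 (Nat.card (GL (Fin (2 * m)) F)) =
      (padicValNat 2 (Fintype.card F ^ 2 - 1) + 1) * m + padicValNat 2 m.factorial ∧
    padicValNat 2 (Nat.card (GL (Fin (2 * m + 1)) F)) =
      (padicValNat 2 (Fintype.card F ^ 2 - 1) + 1) * m + padicValNat 2 m.factorial + 1 := by
  have h1 : 1 < Fintype.card F := Fintype.one_lt_card
  have ho : Odd (Fintype.card F) := Nat.odd_iff.2 (by omega)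
  have st : ∀ n, padicValNat 2 (Nat.card (GL (Fin (n + 1)) F)) =
      padicValNat 2 (Fintype.card F ^ (n + 1) - 1) + padicValNat 2 (Nat.card (GL (Fin n) F)) := fun n => by
    rw [card_GL_succ', padicValNat.mul (mul_ne_zero (pow_sub_ne h1 (by omega)) (by positivity)) Nat.card_pos.ne',
      padicValNat.mul (pow_sub_ne h1 (by omega)) (by positivity), val_odd_pow ho, add_zero]
  suffices h : padicValNat 2 (Nat.card (GL (Fin (2 * m)) F)) =
      (padicValNat 2 (Fintype.card F ^ 2 - 1) + 1) * m + padicValNat 2 m.factorial from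
    ⟨h, by rw [st, val_odd hq, h, add_comm]⟩
  induction m with
  | zero => simp [card_GL_field]
  | succ m ih =>
    change padicValNat 2 (Nat.card (GL (Fin (2 * m + 1 + 1)) F)) = _
    rw [st, st, val_odd hq, ih, show 2 * m + 1 + 1 = 2 * (m + 1) from rfl, lte_two h1 ho, Nat.factorial_succ,
      padicValNat.mul (by omega) m.factorial_ne_zero]
    ring

theorem card_syl {G : Type*} [Group G] [Finite G] (P : Sylow 2 G) : Nat.card P = 2 ^ padicValNat 2 (Nat.card G) := by
  rw [P.card_eq_multiplicity, Nat.factorization_def _ Nat.prime_two]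

end CfsgH8

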