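import Cfsg.Agent.H8.WQ1
import Cfsg.Agent.H2.SylowIn
import Cfsg.Agent.H5.LinMat

/-! Monomial wreath products and their determinant-one subgroups. -/

set_option autoImplicit false

namespace CfsgH8

open Subgroup Matrix SemidirectProduct CfsgH2

variable {W G H : Type*} [Group W] [Group G] [Group H]

/-- elements of `U` whose square is in the derived group -/
def sqL (U : Subgroup G) : Subgroup G where
  carrier := {x | x ∈ U ∧ x * x ∈ ⁅U, U⁆}
  mul_mem' := fun {a b} ha hb => ⟨mul_mem ha.1 hb.1, by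
    convert mul_mem (mul_mem ha.2 (commutator_mem_commutator (inv_mem ha.1) hb.1)) hb.2 using 1
    rw [commutatorElement_def]; group⟩
  one_mem' := ⟨one_mem _, by simp⟩
  inv_mem' := fun {a} ha => ⟨inv_mem ha.1, by simpa using inv_mem ha.2⟩

instance (U : Subgroup G) [h : U.Normal] : (sqL U).Normal := ⟨fun x hx g => ⟨h.conj_mem x hx.1 g, by
  convert (inferInstance : (⁅U, U⁆).Normal).conj_mem _ hx.2 g using 1; group⟩⟩

theorem mem_sqL_of {U : Subgroup G} {x : G} (h : x ∈ U) (h1 : x * x = 1) : x ∈ sqL U := ⟨h, h1 ▸ one_mem _⟩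

theorem mem_sqL_iff {U : Subgroup G} (x : U) : x.1 ∈ sqL U ↔ x ^ 2 ∈ commutator U := by
  rw [← mem_map_iff_mem U.subtype_injective, map_subtype_commutator, pow_two]
  exact and_iff_right x.2

theorem SqA.mem_sqL (h : SqA H) {U : Subgroup G} (f : H →* G) (hf : ∀ x, f x ∈ U) (x : H) : f x ∈ sqL U :=
  (mem_sqL_iff (f.codRestrict U hf x)).2 ((sq_mem_iff _).2 (h.hom (Abelianization.of.comp (f.codRestrict U hf)) x))

theorem sqA_of_sup {K A : Subgroup G} [K.Normal] (h1 : ∀ a ∈ A, a ∈ K → a ∈ sqL K) (h2 : ∀ x, x ∈ sqL K ⊔ A) :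
    SqA K := fun x => by
  obtain ⟨s, hs, a, ha, e⟩ := mem_sup_of_normal_left.1 (h2 x)
  rw [← mem_sqL_iff, ← e]
  exact mul_mem hs (h1 a ha ((mul_mem_cancel_left hs.1).1 (e ▸ x.2)))

variable {X : Type} [Fintype X] [DecidableEq X] {F ι : Type*} [Field F] [Fintype ι] [DecidableEq ι]

/-- wreath product -/
abbrev WrP (H : Type*) [Group H] (T : Subgroup (Equiv.Perm X)) := (X → H) ⋊[mulAutArrow] T

/-- monomial representation -/
def wrM (T : Subgroup (Equiv.Perm X)) (ρ : H →* Matrix ι ι F) : WrP H T →* Matrix (ι × X) (ι × X) F where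
  toFun w := of fun a b => if a.2 = w.right.1 b.2 then ρ (w.left a.2) a.1 b.1 else 0
  map_one' := by
    ext ⟨a, i⟩ ⟨b, k⟩
    simp [one_apply, and_comm, ite_and]
  map_mul' x y := by
    ext ⟨a, i⟩ ⟨b, k⟩
    have : (x * y).left i = x.left i * y.left ((x.right.1)⁻¹ i) := rfl
    by_cases h : i = x.right.1 (y.right.1 k)
    · subst h
      simp only [of_apply, this]
      simp [mul_apply, Fintype.sum_prod_type, Finset.sum_ite_irrel]
    · simp [mul_apply, Fintype.sum_prod_type, h, Finset.sum_ite_irrel]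

variable {T : Subgroup (Equiv.Perm X)} {ρ : H →* Matrix ι ι F}

theorem wrM_apply (w : WrP H T) (a b : ι × X) :
    wrM T ρ w a b = if a.2 = w.right.1 b.2 then ρ (w.left a.2) a.1 b.1 else 0 := rfl

theorem wrM_inj [Nonempty ι] (hρ : Function.Injective ρ) : Function.Injective (wrM T ρ) := by
  refine (injective_iff_map_eq_one _).2 fun w a => ?_
  have e : ∀ i s t, ρ (w.left (w.right.1 i)) s t = if (s, w.right.1 i) = (t, i) then 1 else 0 := fun i s t => by
    have := congrFun (congrFun a (s, w.right.1 i)) (t, i)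
    simpa [wrM_apply, one_apply] using this
  have e1 : ∀ i, w.right.1 i = i := fun i => by
    by_contra hn
    have : ρ (w.left (w.right.1 i)) = 0 := by ext s t; simp [e, hn]
    have h5 := congrArg (· * ρ (w.left (w.right.1 i))⁻¹) this
    simp [← map_mul] at h5
  refine SemidirectProduct.ext (funext fun i => hρ ?_) (Subtype.ext (Equiv.ext e1))
  ext s t
  simpa [e1, one_apply] using e i s t

theorem det_inl (c : X → H) : (wrM T ρ (inl c)).det = ∏ i, (ρ (c i)).det := by
  rw [← det_blockDiagonal]; congr 1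

theorem det_inr (σ : T) : (wrM T ρ (inr σ : WrP H T)).det = ((Equiv.Perm.sign σ.1 ^ Fintype.card ι : ℤˣ) : ℤ) := by
  have : wrM T ρ (inr σ : WrP H T) = Equiv.Perm.permMatrix F (Equiv.prodCongrRight fun _ : ι => (σ.1⁻¹ : Equiv.Perm X)) := by
    ext ⟨a, i⟩ ⟨b, k⟩
    by_cases h : a = b <;> simp [wrM_apply, PEquiv.toMatrix_apply, one_apply, Equiv.symm_apply_eq, h]
  rw [this, det_permutation, Equiv.Perm.sign_prodCongrRight]
  simp

theorem det_single (i : X) (h : H) : (wrM T ρ (inl (Pi.mulSingle i h))).det = (ρ h).det := by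
  rw [det_inl, Finset.prod_eq_single i (fun j _ hj => by simp [hj]) (by simp), Pi.mulSingle_eq_same]

omit [Fintype X] [DecidableEq X] in
theorem card_wr [Fintype X] : Nat.card (WrP H T) = Nat.card H ^ Fintype.card X * Nat.card T := by
  rw [Nat.card_congr SemidirectProduct.equivProd, Nat.card_prod, Nat.card_fun, Nat.card_eq_fintype_card (α := X)]

theorem mem_of_gen {S : Subgroup (WrP H T)} (h1 : ∀ i h, inl (Pi.mulSingle i h) ∈ S) (h2 : ∀ σ, inr σ ∈ S) (w) : w ∈ S :=
  inl_left_mul_inr_right w ▸ mul_mem (pi_mem_of_mulSingle_mem (H := S.comap inl) _ fun i => h1 i _) (h2 _)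

theorem sl_sylow [Fintype F] {N : ℕ} {f : W →* Matrix ι ι F} (hf : Function.Injective f) (e : ι ≃ Fin N)
    (hc : Nat.card W = 2 ^ padicValNat 2 (Nat.card (GL (Fin N) F))) (h : SqA (detMonoidHom.comp f).ker)
    (P : Sylow 2 (SpecialLinearGroup (Fin N) F)) : SqA P := by
  let f' : W →* GL (Fin N) F := ((reindexAlgEquiv F F e).toMonoidHom.comp f).toHomUnits
  have hf' : Function.Injective f' := fun a b h => hf ((reindexAlgEquiv F F e).injective (congrArg Units.val h))
  have hd : ∀ w, (f' w).1.det = (f w).det := fun w => det_reindexAlgEquiv F F e (f w)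
  let U : Sylow 2 (GL (Fin N) F) := Sylow.ofCard f'.range (by
    rw [← Nat.card_congr (MonoidHom.ofInjective hf').toEquiv, hc, Nat.factorization_def _ Nat.prime_two])
  have h1 := (IsSylowIn.of_sylow_top U).inf_of_normalizer' (N := (GeneralLinearGroup.det : GL (Fin N) F →* Fˣ).ker)
    le_top (by simp [normalizer_eq_top])
  have h2 : (detMonoidHom.comp f).ker = (GeneralLinearGroup.det : GL (Fin N) F →* Fˣ).ker.comap f' := by
    ext w
    simp only [MonoidHom.mem_ker, mem_comap, Units.ext_iff]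
    exact (hd w ▸ Iff.rfl : (f w).det = 1 ↔ (f' w).1.det = 1)
  let φ : (detMonoidHom.comp f).ker →* SpecialLinearGroup (Fin N) F :=
    { toFun := fun w => ⟨(f' w).1, (hd w).trans w.2⟩
      map_one' := Subtype.ext (by simp)
      map_mul' := fun a b => Subtype.ext (congrArg Units.val (map_mul f' a.1 b.1)) }
  refine h.sylow (f := φ) (fun a b h => Subtype.ext (hf' (Units.ext (congrArg Subtype.val h)))) ?_ P
  rw [← card_map_of_injective hf', h2, map_comap_eq, Nat.card_congr
    (MonoidHom.ofInjective (SpecialLinearGroup.toGL_injective (n := Fin N) (R := F))).toEquiv, CfsgH5.range_toGL,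
    ← Nat.factorization_def _ Nat.prime_two]
  exact h1.card_eq

theorem sqA_ker_A (hT : SqA T) (he : Even (Fintype.card ι)) (hQ : SqA (detMonoidHom.comp ρ).ker) {y : H}
    (hy : y * y = 1) (hd : ∀ h, (ρ h).det = 1 ∨ (ρ (h * y)).det = 1) (o : X) :
    SqA (detMonoidHom.comp (wrM T ρ)).ker := by
  have s1 : ∀ i h, (ρ h).det = 1 → inl (Pi.mulSingle i h) ∈ sqL (detMonoidHom.comp (wrM T ρ)).ker := fun i h hh =>
    hQ.mem_sqL (inl.comp ((MonoidHom.mulSingle (fun _ => H) i).comp (Subgroup.subtype _)))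
      (fun x => (det_single i x.1).trans x.2) ⟨h, hh⟩
  have sq : ∀ i, (Pi.mulSingle i y : X → H) * Pi.mulSingle i y = 1 := fun i => by
    rw [← Pi.mulSingle_mul, hy, Pi.mulSingle_one]
  refine sqA_of_sup (A := zpowers (inl (Pi.mulSingle o y))) ?_ (mem_of_gen (fun i h => ?_) fun σ => mem_sup_left ?_)
  · rintro _ ⟨n, rfl⟩ ha
    refine mem_sqL_of ha ?_
    rw [← Commute.mul_zpow rfl, ← map_mul, sq, map_one, _root_.one_zpow]
  · rcases hd h with h1 | h1
    · exact mem_sup_left (s1 i h h1)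
    have s2 : inl (Pi.mulSingle i y * Pi.mulSingle o y) ∈ sqL (detMonoidHom.comp (wrM T ρ)).ker := by
      refine mem_sqL_of ?_ ?_
      · change (wrM T ρ _).det = 1
        rw [map_mul, map_mul, det_mul, det_single, det_single, ← det_mul, ← map_mul, hy, map_one, det_one]
      · have : Commute (Pi.mulSingle i y : X → H) (Pi.mulSingle o y) := by
          by_cases e : i = o
          · exact e ▸ rfl
          · exact Pi.mulSingle_commute (f := fun _ => H) e y y
        rw [← map_mul, this.symm.mul_mul_mul_comm, sq, sq, one_mul, map_one]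
    convert mul_mem (mem_sup_left (mul_mem (s1 i _ h1) s2)) (mem_sup_right (mem_zpowers _)) using 1
    rw [← map_mul, ← map_mul, mul_assoc, mul_assoc, sq, mul_one, ← Pi.mulSingle_mul, mul_assoc, hy, mul_one]
  · refine hT.mem_sqL inr (fun τ => ?_) σ
    change (wrM T ρ _).det = 1
    rcases Int.units_eq_one_or (Equiv.Perm.sign τ.1) with e | e <;> simp [det_inr, e, he.neg_one_pow]

theorem sqA_ker_B {C : Type*} [CommGroup C] {ρ : C →* Matrix Unit Unit F} (hρ : Function.Injective ρ) (hT : SqA T)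
    (tr : ∀ i j, ∃ σ : T, σ.1 i = j)
    (gen : T ≤ closure {t | t ∈ T ∧ t ^ 2 = 1 ∧ (t.IsSwap ∨ Equiv.Perm.sign t = 1)}) {r : C}
    (hr : (ρ (r * r)).det = -1) (o : X) : SqA (detMonoidHom.comp (wrM T ρ)).ker := by
  set K := (detMonoidHom.comp (wrM T ρ)).ker with hK
  have mk : ∀ w, w ∈ K ↔ (wrM T ρ w).det = 1 := fun w => Iff.rfl
  have inj : ∀ h, (ρ h).det = 1 → h = 1 := fun h e => hρ (by ext; simpa using e)
  have r4 : r * r * (r * r) = 1 := inj _ (by rw [map_mul, det_mul, hr]; simp)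
  let s : X → C → X → C := fun i h => Pi.mulSingle i h
  have dm : ∀ i j h, inl (s i h * s j h⁻¹) ∈ K := fun i j h => by
    rw [mk, map_mul, map_mul, det_mul, det_single, det_single, ← det_mul, ← map_mul, mul_inv_cancel, map_one, det_one]
  let D : X → X → C → K := fun i j h => ⟨_, dm i j h⟩
  have act : ∀ (σ : T) i h, (mulAutArrow σ : MulAut (X → C)) (s i h) = s (σ.1 i) h := fun σ i h => funext fun j => by
    change s i h (σ.1⁻¹ j) = _
    simp [s, Pi.mulSingle_apply, Equiv.symm_apply_eq]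
  have lift : ∀ σ : T, ∃ c, inl c * inr σ ∈ K := fun σ => by
    rcases Int.units_eq_one_or (Equiv.Perm.sign σ.1) with e | e
    · exact ⟨1, by simp [mk, det_inr, e]⟩
    · exact ⟨s o (r * r), by rw [mk, map_mul, det_mul, det_single, hr, det_inr, e]; simp⟩
  have cj : ∀ (σ : T) i j h, Abelianization.of (D (σ.1 i) (σ.1 j) h) = Abelianization.of (D i j h) := fun σ i j h => by
    obtain ⟨c, hc⟩ := lift σ
    have : D (σ.1 i) (σ.1 j) h * ⟨_, hc⟩ = ⟨_, hc⟩ * D i j h := Subtype.ext (by
      change inl _ * (inl c * inr σ) = inl c * inr σ * inl _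
      rw [← act, ← act, ← map_mul, inl_aut, mul_assoc (inl c), ← mul_assoc, ← inl_aut, ← map_mul, mul_comm, map_mul,
        inl_aut, map_inv]
      group)
    have := congrArg Abelianization.of this
    rwa [map_mul, map_mul, mul_comm, mul_right_inj] at this
  have tri : ∀ i j k h, D i j h * D j k h = D i k h := fun i j k h => Subtype.ext (by
    change inl _ * inl _ = inl _
    rw [← map_mul, mul_assoc, ← mul_assoc (s j h⁻¹), ← Pi.mulSingle_mul, inv_mul_cancel, Pi.mulSingle_one, one_mul])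
  have dS : ∀ i j h, inl (s i h * s j h⁻¹) ∈ sqL K := fun i j h => by
    obtain ⟨σ, rfl⟩ := tr i j
    let φ : T →* Abelianization K := MonoidHom.mk' (fun τ => Abelianization.of (D i (τ.1 i) h)) fun a b => by
      rw [← cj a i (b.1 i), ← map_mul, tri]; rfl
    exact (mem_sqL_iff (D i _ h)).2 ((sq_mem_iff _).2 (hT.hom φ σ))
  have sS : ∀ i h, inl (s i h) ∈ sqL K ⊔ (inl.comp (MonoidHom.mulSingle (fun _ => C) o)).range := fun i h => by
    convert mul_mem (mem_sup_left (dS i o h)) (mem_sup_right (show inl (s o h) ∈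
      (inl.comp (MonoidHom.mulSingle (fun _ => C) o)).range from ⟨h, rfl⟩)) using 1
    rw [← map_mul, mul_assoc, ← Pi.mulSingle_mul, inv_mul_cancel, Pi.mulSingle_one, mul_one]
  refine sqA_of_sup ?_ (mem_of_gen sS fun σ => ?_)
  · rintro _ ⟨h, rfl⟩ ha
    obtain rfl := inj h ((det_single o h).symm.trans ha)
    rw [map_one]; exact one_mem _
  have key : closure {t | t ∈ T ∧ t ^ 2 = 1 ∧ (t.IsSwap ∨ Equiv.Perm.sign t = 1)} ≤
      ((sqL K ⊔ (inl.comp (MonoidHom.mulSingle (fun _ => C) o)).range).comap inr).map T.subtype := by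
    rw [closure_le]
    rintro t ⟨h1, h2, ⟨a, b, hab, rfl⟩ | h3⟩ <;> refine ⟨⟨_, h1⟩, ?_, rfl⟩
    · have p1 : inl (s a (r * r)) * inr ⟨_, h1⟩ ∈ sqL K := by
        refine ⟨by rw [mk, map_mul, det_mul, det_single, hr, det_inr, Equiv.Perm.sign_swap hab]; simp, ?_⟩
        convert (dS a b r).2 using 1
        have t2 : (⟨_, h1⟩ : T)⁻¹ = ⟨_, h1⟩ := Subtype.ext (Equiv.swap_inv a b)
        nth_rewrite 2 [← t2]
        rw [mul_assoc, ← mul_assoc (inr _), ← inl_aut, act, ← map_mul, ← map_mul, mul_mul_mul_comm, ← Pi.mulSingle_mul,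
          ← Pi.mulSingle_mul, ← _root_.mul_inv_rev, inv_eq_of_mul_eq_one_left r4, Equiv.swap_apply_left]
      exact (mul_mem_cancel_left (sS a (r * r))).1 (mem_sup_left p1)
    · refine mem_sup_left (mem_sqL_of (by simp [mk, det_inr, h3]) ?_)
      rw [← map_mul, show (⟨t, h1⟩ * ⟨t, h1⟩ : T) = 1 from Subtype.ext (by simpa [pow_two] using h2), map_one]
  obtain ⟨τ, h, e⟩ := key (gen σ.2)
  exact Subtype.ext e ▸ h

theorem val_odd1 {q : ℕ} (h1 : 1 < q) (hq : Odd q) (i : ℕ) : padicValNat 2 (q ^ (2 * i + 1) - 1) = padicValNat 2 (q - 1) := by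
  obtain ⟨b, rfl⟩ := hq
  have h : ∃ k, (2 * b + 1) ^ (2 * i + 1) = 2 * b * (2 * k + 1) + 1 := by
    induction i with
    | zero => exact ⟨0, by ring⟩
    | succ i ih =>
      obtain ⟨k, hk⟩ := ih
      exact ⟨(2 * k + 1) * (2 * b ^ 2 + 2 * b) + k + b + 1, by
        rw [show 2 * (i + 1) + 1 = 2 * i + 1 + 2 by ring, pow_add, hk]; ring⟩
  obtain ⟨k, hk⟩ := h
  rw [hk, Nat.add_sub_cancel, Nat.add_sub_cancel, padicValNat.mul (by omega) (by omega),
    padicValNat.eq_zero_of_not_dvd (n := 2 * k + 1) (by omega), add_zero]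

theorem val_GL1 [Fintype F] (hq : Fintype.card F % 4 = 1) (n : ℕ) :
    padicValNat 2 (Nat.card (GL (Fin n) F)) = padicValNat 2 (Fintype.card F - 1) * n + padicValNat 2 n.factorial := by
  have h1 : 1 < Fintype.card F := Fintype.one_lt_card
  have ho : Odd (Fintype.card F) := Nat.odd_iff.2 (by omega)
  have lt : ∀ n, padicValNat 2 (Fintype.card F ^ (n + 1) - 1) = padicValNat 2 (Fintype.card F - 1) +
      padicValNat 2 (n + 1) := fun n => by
    obtain ⟨k, rfl | rfl⟩ := n.even_or_odd'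
    · rw [val_odd1 h1 ho, padicValNat.eq_zero_of_not_dvd (n := 2 * k + 1) (by omega), add_zero]
    · have a := padicValNat.pow_two_sub_one h1 ho.not_two_dvd_nat (n := 2 * k + 1 + 1) (by omega) ⟨k + 1, by ring⟩
      obtain ⟨j, hj⟩ : ∃ j, Fintype.card F + 1 = 2 * (2 * j + 1) := ⟨Fintype.card F / 4, by omega⟩
      rw [hj, padicValNat.mul (by omega) (by omega), padicValNat.eq_zero_of_not_dvd (n := 2 * j + 1) (by omega),
        padicValNat_self] at a
      omega
  induction n with
  | zero => simp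
  | succ n ih =>
    rw [card_GL_succ', padicValNat.mul (mul_ne_zero (pow_sub_ne h1 (by omega)) (by positivity)) Nat.card_pos.ne',
      padicValNat.mul (pow_sub_ne h1 (by omega)) (by positivity), val_odd_pow ho, add_zero, lt, ih, Nat.factorial_succ,
      padicValNat.mul (by omega) n.factorial_ne_zero]
    ring

end CfsgH8
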