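import Cfsg.Agent.H8.WQ2

/-! Wreath products of dihedral groups inside orthogonal groups. -/

set_option autoImplicit false

namespace CfsgH8

open Subgroup Matrix SemidirectProduct CfsgH2

variable {F : Type*} [Field F] {κ : Type*} [Fintype κ] [DecidableEq κ]

/-- matrices preserving a Gram matrix -/
def OJ (J : Matrix κ κ F) : Subgroup (GL κ F) where
  carrier := {g | g.1ᵀ * J * g.1 = J}
  mul_mem' := fun {a b} ha hb => by
    change (a.1 * b.1)ᵀ * J * (a.1 * b.1) = J
    rw [transpose_mul, show b.1ᵀ * a.1ᵀ * J * (a.1 * b.1) = b.1ᵀ * (a.1ᵀ * J * a.1) * b.1 by simp only [mul_assoc],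
      ha, hb]
  one_mem' := by simp
  inv_mem' := fun {a} ha => by
    change (a⁻¹).1ᵀ * J * (a⁻¹).1 = J
    nth_rewrite 1 [← ha]
    rw [show (a⁻¹).1ᵀ * (a.1ᵀ * J * a.1) * (a⁻¹).1 = (a.1 * (a⁻¹).1)ᵀ * J * (a.1 * (a⁻¹).1) by
      simp only [transpose_mul, mul_assoc], Units.mul_inv]
    simp

variable {X Y : Type} [Fintype X] [DecidableEq X] [Fintype Y] [DecidableEq Y] {H : Type*} [Group H]
  {ι : Type*} [Fintype ι] [DecidableEq ι] {ρ : H →* Matrix ι ι F}

theorem wrM_tr {T : Subgroup (Equiv.Perm X)} (ht : ∀ h, ρ h⁻¹ = (ρ h)ᵀ) (w : WrP H T) :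
    (wrM T ρ w)ᵀ * wrM T ρ w = 1 := by
  have : (wrM T ρ w)ᵀ = wrM T ρ w⁻¹ := by
    ext ⟨a, i⟩ ⟨b, k⟩
    have e : (w⁻¹).left i = (w.left (w.right.1 i))⁻¹ := by
      change (w.left (((w.right⁻¹)⁻¹).1 i))⁻¹ = _
      rw [inv_inv]
    rw [transpose_apply, wrM_apply, wrM_apply, e, ht]
    by_cases h : k = w.right.1 i
    · subst h; simp
    · rw [if_neg h, if_neg]
      rintro rfl
      simp at h
  rw [this, ← map_mul, inv_mul_cancel, map_one]

/-- block matrices -/
def blM (T : Subgroup (Equiv.Perm X)) (ρ : H →* Matrix ι ι F) (Y : Type) [Fintype Y] [DecidableEq Y] :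
    WrP H T × (Y → ℤˣ) →* Matrix ((ι × X) ⊕ Y) ((ι × X) ⊕ Y) F where
  toFun w := fromBlocks (wrM T ρ w.1) 0 0 (diagonal fun y => ((w.2 y : ℤ) : F))
  map_one' := by simp
  map_mul' a b := by simp [fromBlocks_multiply]

/-- the embedding into the orthogonal group -/
noncomputable def blO (T : Subgroup (Equiv.Perm X)) (ht : ∀ h, ρ h⁻¹ = (ρ h)ᵀ) (d : Y → F) :
    WrP H T × (Y → ℤˣ) →* OJ (fromBlocks (1 : Matrix (ι × X) (ι × X) F) 0 0 (diagonal d)) :=
  (blM T ρ Y).toHomUnits.codRestrict _ fun w => by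
    change (fromBlocks _ 0 0 _)ᵀ * _ * fromBlocks _ 0 0 _ = _
    simp only [fromBlocks_transpose, fromBlocks_multiply, transpose_zero, Matrix.mul_zero, Matrix.zero_mul, add_zero,
      zero_add, mul_one, wrM_tr ht, diagonal_transpose, diagonal_mul_diagonal]
    congr 2
    funext y
    rcases Int.units_eq_one_or (w.2 y) with e | e <;> simp [e]

theorem blO_inj [Nonempty ι] (h2 : (2 : F) ≠ 0) {T : Subgroup (Equiv.Perm X)} (ht : ∀ h, ρ h⁻¹ = (ρ h)ᵀ) (d : Y → F)
    (hρ : Function.Injective ρ) : Function.Injective (blO T ht d) := by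
  refine (injective_iff_map_eq_one _).2 fun w e => ?_
  have e1 : fromBlocks (wrM T ρ w.1) 0 0 (diagonal fun y => ((w.2 y : ℤ) : F)) = fromBlocks 1 0 0 1 :=
    (congrArg (fun x => x.1.1) e).trans fromBlocks_one.symm
  obtain ⟨a, -, -, b⟩ := fromBlocks_inj.1 e1
  refine Prod.ext (wrM_inj hρ (a.trans (map_one _).symm)) (funext fun y => ?_)
  have := congrFun (congrFun b y) y
  rcases Int.units_eq_one_or (w.2 y) with e | e
  · exact e
  · simp [e] at this
    exact absurd (by linear_combination -this) h2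

theorem perm_even {A : Type*} [CommGroup A] (φ : Equiv.Perm (Fin 2 × X) →* A) (σ : Equiv.Perm X) :
    φ (Equiv.prodCongrRight fun _ => σ) = 1 := by
  induction σ using Equiv.Perm.swap_induction_on with
  | one => exact map_one φ
  | swap_mul f x y h ih =>
    have e : (Equiv.prodCongrRight fun _ : Fin 2 => Equiv.swap x y * f) =
        Equiv.swap (0, x) (0, y) * Equiv.swap (1, x) (1, y) * Equiv.prodCongrRight fun _ : Fin 2 => f := by
      ext1 ⟨a, i⟩
      fin_cases a <;> simp [Equiv.swap_apply_def] <;> split_ifs <;> simp_all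
    have c := isConj_iff_eq.1 (φ.map_isConj (Equiv.Perm.isConj_swap (w := ((0 : Fin 2), x)) (x := (0, y)) (y := (1, x))
      (z := (1, y)) (by simpa) (by simpa)))
    rw [e, map_mul, map_mul, ih, c, ← map_mul, Equiv.swap_mul_self, map_one, one_mul]

theorem sqA_ker_O {ρ : H →* Matrix (Fin 2) (Fin 2) F} {T : Subgroup (Equiv.Perm X)} (hT : SqA T)
    (ht : ∀ h, ρ h⁻¹ = (ρ h)ᵀ) (d : Y → F) {a : H} (ha : a * a = 1) (hd : ∀ h, h * h = 1 ∨ h * a * (h * a) = 1)
    {o o' : X} (ho : o ≠ o') {A : Type*} [CommGroup A]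
    (χ : OJ (fromBlocks (1 : Matrix (Fin 2 × X) (Fin 2 × X) F) 0 0 (diagonal d)) →* A) :
    SqA (χ.comp (blO T ht d)).ker := by
  set K := (χ.comp (blO T ht d)).ker with hK
  let s : X → H → X → H := fun i h => Pi.mulSingle i h
  let π0 : Equiv.Perm (Fin 2 × X) →* Matrix ((Fin 2 × X) ⊕ Y) ((Fin 2 × X) ⊕ Y) F :=
    { toFun := fun τ => fromBlocks (permMatrixHom τ) 0 0 1
      map_one' := by simp
      map_mul' := fun a b => by simp [fromBlocks_multiply] }
  let π : Equiv.Perm (Fin 2 × X) →* OJ (fromBlocks (1 : Matrix (Fin 2 × X) (Fin 2 × X) F) 0 0 (diagonal d)) :=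
    π0.toHomUnits.codRestrict _ fun τ => by
      change (fromBlocks _ 0 0 _)ᵀ * _ * fromBlocks _ 0 0 _ = _
      simp [fromBlocks_transpose, fromBlocks_multiply, ← permMatrix_mul]
  have k1 : ∀ σ : T, (inr σ, 1) ∈ K := fun σ => by
    refine (congrArg χ (Subtype.ext (Units.ext ?_))).trans (perm_even (χ.comp π) σ.1)
    change fromBlocks _ 0 0 _ = fromBlocks _ 0 0 _
    congr 1
    · ext ⟨a, i⟩ ⟨b, k⟩
      by_cases h : a = b <;> simp [wrM_apply, PEquiv.toMatrix_apply, one_apply, Equiv.symm_apply_eq, h]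
    · simp
  have k2 : ∀ i j h, h * h = 1 → (inl (s i h * s j h), 1) ∈ K := fun i j h hh => by
    have e : ∀ c, blO T ht d (inl c, 1) = blO ⊤ ht d (inl c, 1) := fun c => rfl
    let φ : WrP H (⊤ : Subgroup (Equiv.Perm X)) →* A := χ.comp ((blO ⊤ ht d).comp (MonoidHom.inl _ _))
    change φ (inl _) = 1
    have : s j h = (mulAutArrow (⟨Equiv.swap i j, trivial⟩ : (⊤ : Subgroup (Equiv.Perm X))) : MulAut (X → H)) (s i h) :=
      funext fun k => by
        change _ = s i h ((Equiv.swap i j)⁻¹ k)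
        simp [s, Pi.mulSingle_apply, Equiv.swap_apply_eq_iff]
    rw [map_mul, map_mul, this, inl_aut, map_mul, map_mul, map_inv, map_inv, mul_inv_cancel_comm, ← map_mul, ← map_mul,
      ← Pi.mulSingle_mul, hh, Pi.mulSingle_one, map_one, map_one]
  let α : H × (Y → ℤˣ) →* WrP H T × (Y → ℤˣ) :=
    (inl.comp (MonoidHom.mulSingle (fun _ => H) o)).prodMap (MonoidHom.id _)
  have u2 : ∀ e : Y → ℤˣ, e * e = 1 := fun e => funext fun y => Int.units_mul_self _
  have s1 : ∀ i h, h * h = 1 → (inl (s i h), 1) ∈ sqL K ⊔ α.range := fun i h hh => by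
    have sq : ∀ i, s i h * s i h = 1 := fun i => by rw [← Pi.mulSingle_mul, hh, Pi.mulSingle_one]
    have c : Commute (s i h) (s o h) := by
      by_cases e : i = o
      · exact e ▸ rfl
      · exact Pi.mulSingle_commute (f := fun _ => H) e h h
    convert mul_mem (mem_sup_left (mem_sqL_of (k2 i o h hh) (by
      rw [Prod.mk_mul_mk, ← map_mul, c.symm.mul_mul_mul_comm, sq, sq, one_mul, map_one, one_mul]; rfl)))
      (mem_sup_right (show (inl (s o h), 1) ∈ α.range from ⟨(h, 1), rfl⟩)) using 1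
    rw [Prod.mk_mul_mk, ← map_mul, mul_assoc, sq, mul_one, mul_one]
  refine sqA_of_sup (A := α.range) ?_ fun x => ?_
  · rintro _ ⟨⟨h, e⟩, rfl⟩ hm
    rcases hd h with h1 | h1
    · exact mem_sqL_of hm (by rw [← map_mul, Prod.mk_mul_mk, h1, u2]; exact map_one α)
    refine ⟨hm, ?_⟩
    convert commutator_mem_commutator hm (k2 o o' a ha) using 1
    have a1 : a⁻¹ = a := inv_eq_of_mul_eq_one_left ha
    have a2 : h⁻¹ = a * (h * a) := inv_eq_of_mul_eq_one_right (by rw [← mul_assoc, h1])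
    change ((inl (s o h) * inl (s o h), e * e) : WrP H T × (Y → ℤˣ)) =
      (inl (s o h) * inl _ * (inl (s o h))⁻¹ * (inl _)⁻¹, e * 1 * e⁻¹ * 1⁻¹)
    simp only [← map_inv, ← map_mul]
    refine Prod.ext (congrArg inl (funext fun k => ?_)) (by simp [u2])
    by_cases e1 : k = o
    · subst e1
      simp only [s, Pi.mul_apply, Pi.inv_apply, Pi.mulSingle_eq_same, Pi.mulSingle_eq_of_ne ho, mul_one, a1, a2]
      rw [mul_assoc, mul_assoc, mul_assoc, mul_assoc, ha, mul_one, ← mul_assoc a, ha, one_mul]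
    · simp [s, Pi.mulSingle_eq_of_ne e1]
  · rw [← Prod.fst_mul_snd x]
    refine mul_mem (mem_comap.1 (mem_of_gen (S := (sqL K ⊔ α.range).comap (MonoidHom.inl (WrP H T) (Y → ℤˣ)))
      (fun i h => mem_comap.2 ?_)
      (fun σ => mem_comap.2 (mem_sup_left (hT.mem_sqL ((MonoidHom.inl (WrP H T) (Y → ℤˣ)).comp inr) k1 σ :))) x.1))
      (mem_sup_right ⟨(1, x.2), Prod.ext (map_one (inl.comp (MonoidHom.mulSingle (fun _ => H) o))) rfl⟩)
    rcases hd h with h1 | h1
    · exact s1 i h h1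
    · have := mul_mem (s1 i _ h1) (s1 i a ha)
      rwa [Prod.mk_mul_mk, ← map_mul, ← Pi.mulSingle_mul, mul_assoc, ha, mul_one, mul_one] at this

theorem comm_sylow {W G : Type*} [Group W] [Group G] [Finite G] {f : W →* G} (hf : Function.Injective f)
    (hc : Nat.card W = 2 ^ padicValNat 2 (Nat.card G)) (h : SqA (Abelianization.of.comp f).ker)
    (P : Sylow 2 (commutator G)) : SqA P := by
  let U : Sylow 2 G := Sylow.ofCard f.range (by
    rw [← Nat.card_congr (MonoidHom.ofInjective hf).toEquiv, hc, Nat.factorization_def _ Nat.prime_two])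
  have h1 := (IsSylowIn.of_sylow_top U).inf_of_normalizer' (N := commutator G) le_top (by simp [normalizer_eq_top])
  have h2 : (Abelianization.of.comp f).ker = (commutator G).comap f := by
    rw [← MonoidHom.comap_ker, Abelianization.ker_of]
  refine h.sylow (f := (f.comp (Subgroup.subtype _)).codRestrict _ fun x => (h2.le x.2 :))
    (fun a b h => Subtype.ext (hf (congrArg Subtype.val h))) ?_ P
  rw [← card_map_of_injective hf, h2, map_comap_eq, ← Nat.factorization_def _ Nat.prime_two]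
  exact h1.card_eq

end CfsgH8
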