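import Cfsg.Agent.H8.WQ3
import Cfsg.Agent.H5.OrthMat
import Cfsg.Agent.S4623

/-! Sylow 2-subgroups of `Ω` in odd characteristic have elementary abelian abelianisation. -/

set_option autoImplicit false

namespace CfsgH8

open Subgroup Matrix CfsgH2 CfsgH5 CfsgH5.Form Module Cfsg

variable {F : Type*} [Field F] {V : Type*} [AddCommGroup V] [Module F V] {S : Form (orthParam F) V}

theorem exists_theta (h2 : (2 : F) ≠ 0) {κ : Type} [Fintype κ] [DecidableEq κ] (b : Basis κ F V)
    (h1 : ∀ i j, i ≠ j → S.B (b i) (b j) = 0) : Nonempty (OJ (diagonal fun i => S.Q (b i)) ≃* S.isom) := by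
  have hB : ∀ x y : κ → F, S.B (b.equivFun.symm x) (b.equivFun.symm y) =
      2 * (x ⬝ᵥ (diagonal fun i => S.Q (b i)) *ᵥ y) := fun x y => by
    simp only [Basis.equivFun_symm_apply, S.sum_left, S.sum_right, S.smul_left, orth_smul_right, dotProduct,
      mulVec_diagonal, Finset.mul_sum]
    refine Finset.sum_congr rfl fun i _ => ?_
    rw [Finset.sum_eq_single i (fun j _ hj => by simp [h1 _ _ hj, h1 _ _ hj.symm]) (by simp), orth_self]
    ring
  let θ := (glEquiv κ F).trans (conjEquiv b.equivFun.symm)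
  have key : ∀ (g : GL κ F) x y, S.B (θ g (b.equivFun.symm x)) (θ g (b.equivFun.symm y)) =
      2 * (x ⬝ᵥ (g.1ᵀ * (diagonal fun i => S.Q (b i)) * g.1) *ᵥ y) := fun g x y => by
    simp only [θ, MulEquiv.trans_apply, conjEquiv_apply, LinearEquiv.symm_symm, LinearEquiv.apply_symm_apply,
      glEquiv_apply, hB]
    rw [← mulVec_mulVec, ← mulVec_mulVec, dotProduct_mulVec x, vecMul_transpose]
  have : OJ (diagonal fun i => S.Q (b i)) = S.isom.comap θ.toMonoidHom := by
    ext g
    refine ⟨fun h => (orth_mem_isom S).2 fun x => mul_left_cancel₀ h2 ?_, fun h => ?_⟩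
    · obtain ⟨x, rfl⟩ := b.equivFun.symm.surjective x
      rw [← orth_self, ← orth_self, hB]
      exact (key g x x).trans (by rw [h])
    · ext i j
      have := (key g (Pi.single i 1) (Pi.single j 1)).symm.trans ((isom_B h _ _).trans (hB _ _))
      simpa only [single_dotProduct, mulVec_single_one, one_mul, col_apply] using mul_left_cancel₀ h2 this
  exact ⟨(MulEquiv.subgroupCongr this).trans (comapEquiv θ S.isom)⟩

variable [Fintype F] [FiniteDimensional F V]

theorem onb (hS : S.Nondeg) (h2 : (2 : F) ≠ 0) {m : ℕ} (hd : finrank F V = 2 * m)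
    (h : S.IsPlus ↔ Fintype.card F ^ m % 4 = 1) :
    ∃ b : Basis (Fin (2 * m)) F V, (∀ i j, i ≠ j → S.B (b i) (b j) = 0) ∧ ∀ i, S.Q (b i) = 1 := by
  obtain ⟨b, h1, h3, h4⟩ := hS.orth_exists_basis h2 hd (fun _ => 1) fun _ => one_ne_zero
  have h5 := ((hS.neg_mem_om_iff h2).1 ((hS.neg_mem_om_iff_even h2 hd).2 h)).2
  rw [disc_of_orth h2 b h1 h3, Fintype.card_fin, pow_mul, Int.units_sq, one_pow, one_mul] at h5
  have h6 : ∀ i, IsSquare (S.Q (b i)) := fun i => by
    by_cases e : i.1 + 1 < 2 * m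
    · exact h4 i e ▸ IsSquare.one
    rwa [Finset.prod_eq_single i (fun j _ hj => by
      rw [h4 j (by have := j.2; have := i.2; have := Fin.val_ne_of_ne hj; omega), chi_one]) (by simp),
      chi_eq_one_iff] at h5
  choose r hr using h6
  have r0 : ∀ i, r i ≠ 0 := fun i e => h3 i (by rw [hr, e, mul_zero])
  refine ⟨b.unitsSMul fun i => (Units.mk0 (r i) (r0 i))⁻¹, fun i j e => ?_, fun i => ?_⟩
  · simp [Basis.unitsSMul_apply, Units.smul_def, h1 i j e]
  · rw [Basis.unitsSMul_apply, Units.smul_def, Q_smul, hr]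
    have := r0 i
    simp only [Units.val_inv_eq_inv_val, Units.val_mk0]
    field_simp

theorem val_two_mul_odd (k : ℕ) : padicValNat 2 (2 * (2 * k + 1)) = 1 := by
  rw [padicValNat.mul (by omega) (by omega), padicValNat.eq_zero_of_not_dvd (n := 2 * k + 1) (by omega)]
  simp

theorem val_even (hS : S.Nondeg) (hq : Odd (Fintype.card F)) {m : ℕ} (hd : finrank F V = 2 * (m + 1)) :
    ((S.IsPlus ↔ Fintype.card F ^ (m + 1) % 4 = 1) → padicValNat 2 (Nat.card S.isom) =
      padicValNat 2 (Fintype.card F ^ 2 - 1) * (m + 1) + padicValNat 2 (m + 1).factorial + 0) ∧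
    (¬ (S.IsPlus ↔ Fintype.card F ^ (m + 1) % 4 = 1) → padicValNat 2 (Nat.card S.isom) =
      padicValNat 2 (Fintype.card F ^ 2 - 1) * m + padicValNat 2 m.factorial + 2) := by
  have h1 : 1 < Fintype.card F := Fintype.one_lt_card
  have a := lte_two h1 hq m
  have n0 := pow_sub_ne h1 (i := m + 1) (by omega)
  rw [show Fintype.card F ^ (2 * (m + 1)) - 1 = (Fintype.card F ^ (m + 1) + 1) * (Fintype.card F ^ (m + 1) - 1) by
    rw [← Nat.sq_sub_sq, mul_comm, pow_mul, one_pow], padicValNat.mul (by omega) n0] at a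
  have o := Nat.odd_iff.1 (hq.pow (n := m + 1))
  have b1 : Fintype.card F ^ (m + 1) % 4 = 1 → padicValNat 2 (Fintype.card F ^ (m + 1) + 1) = 1 := fun e =>
    (congrArg _ (by omega)).trans (val_two_mul_odd (Fintype.card F ^ (m + 1) / 4))
  have b3 : ¬ Fintype.card F ^ (m + 1) % 4 = 1 → padicValNat 2 (Fintype.card F ^ (m + 1) - 1) = 1 := fun e =>
    (congrArg _ (by omega)).trans (val_two_mul_odd (Fintype.card F ^ (m + 1) / 4))
  have c : ∀ t, t ≠ 0 → padicValNat 2 (2 * Fintype.card F ^ ((m + 1) * (m + 1 - 1)) * t *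
      ∏ i ∈ Finset.range (m + 1 - 1), (Fintype.card F ^ (2 * (i + 1)) - 1)) =
      1 + padicValNat 2 t + (padicValNat 2 (Fintype.card F ^ 2 - 1) * m + padicValNat 2 m.factorial) := fun t ht => by
    rw [padicValNat.mul (by positivity) (Finset.prod_ne_zero_iff.2 fun i _ => pow_sub_ne h1 (by omega)),
      padicValNat.mul (by positivity) ht, padicValNat.mul (by omega) (by positivity), val_odd_pow hq, val_prod h1 hq]
    simp
  rw [Nat.factorial_succ, padicValNat.mul (by omega) m.factorial_ne_zero, mul_add, mul_one]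
  by_cases hp : S.IsPlus
  · rw [hS.orth_card_plus hp (by omega) hd, Nat.card_eq_fintype_card, c _ n0]
    simp only [hp, true_iff]
    exact ⟨fun e => by have := b1 e; omega, fun e => by have := b3 e; omega⟩
  · rw [hS.orth_card_minus hp (by omega) hd, Nat.card_eq_fintype_card, c _ (by omega)]
    simp only [hp, false_iff, not_not]
    exact ⟨fun e => by have := b3 e; omega, fun e => by have := b1 e; omega⟩

theorem val_O2 (hq : Odd (Fintype.card F)) :
    padicValNat 2 (Nat.card (OJ (1 : Matrix (Fin 2) (Fin 2) F))) = padicValNat 2 (Fintype.card F ^ 2 - 1) := by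
  have h2 := two_ne_zero_of_odd hq
  have key : ∀ {V : Type _} [AddCommGroup V] [Module F V] [FiniteDimensional F V] {S : Form (orthParam F) V},
      S.Nondeg → finrank F V = 2 * (0 + 1) → (S.IsPlus ↔ Fintype.card F ^ (0 + 1) % 4 = 1) →
      padicValNat 2 (Nat.card (OJ (1 : Matrix (Fin 2) (Fin 2) F))) = padicValNat 2 (Fintype.card F ^ 2 - 1) := by
    intro V _ _ _ S hS hd h
    obtain ⟨b, b1, b2⟩ := onb hS h2 hd h
    obtain ⟨e⟩ := exists_theta h2 b b1
    rw [show (diagonal fun i => S.Q (b i)) = 1 by simp only [b2, diagonal_one]] at e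
    exact (congrArg _ (Nat.card_congr e.toEquiv)).trans (by simpa using (val_even hS hq hd).1 h)
  by_cases h : Fintype.card F % 4 = 1
  · exact key (plusForm_nondeg 1) (finrank_sp 1) (by simp [h, plusForm_isPlus])
  have hab : ∀ z₁ z₂ : F, z₁ ^ 2 + 0 * z₁ * z₂ + 1 * z₂ ^ 2 = 0 → z₁ = 0 ∧ z₂ = 0 := fun x y e => by
    have hy : y = 0 := by
      by_contra hy
      exact FiniteField.isSquare_neg_one_iff.1 ⟨x / y, by field_simp; linear_combination -e⟩
        (by have := Nat.odd_iff.1 hq; omega)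
    exact ⟨by simpa [hy] using e, hy⟩
  exact key (minusForm_nondeg 0 hab) (finrank_minus 0) (by simp [h, minusForm_not_isPlus 0 hab])

theorem omega_sq {ι : Type} [Fintype ι] [DecidableEq ι] {S : Form (orthParam F) (ι → F)} {Q : (ι → F) → F}
    (h : ∀ v, S.Q v = Q v) (hq : Odd (Fintype.card F)) {k r : ℕ} (hk : 2 ≤ k) (b : Basis (Fin (2 * k + r)) F (ι → F))
    (h1 : ∀ i j, i ≠ j → S.B (b i) (b j) = 0) (h3 : ∀ i : Fin (2 * k + r), i.1 < 2 * k → S.Q (b i) = 1)
    (hc : padicValNat 2 (Nat.card S.isom) = padicValNat 2 (Fintype.card F ^ 2 - 1) * k + padicValNat 2 k.factorial + r)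
    (P : Sylow 2 (Omega F Q)) : SqA P := by
  classical
  have h2 := two_ne_zero_of_odd hq
  let ε : (Fin 2 × Fin k) ⊕ Fin r ≃ Fin (2 * k + r) := (finProdFinEquiv.sumCongr (Equiv.refl _)).trans finSumFinEquiv
  obtain ⟨θ⟩ := exists_theta (S := S) h2 (b.reindex ε.symm) fun i j e => by
    simpa using h1 _ _ (ε.injective.ne e)
  have hJ : (diagonal fun i => S.Q (b.reindex ε.symm i)) = fromBlocks 1 0 0 (diagonal fun y => S.Q (b (ε (.inr y)))) := by
    rw [← diagonal_one, fromBlocks_diagonal]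
    congr 1
    ext (i | i)
    · simpa using h3 (ε (.inl i)) (finProdFinEquiv i).2
    · simp
  rw [hJ] at θ
  let a0 : OJ (1 : Matrix (Fin 2) (Fin 2) F) :=
    ⟨⟨!![1, 0; 0, -1], !![1, 0; 0, -1], by simp [← one_fin_two], by simp [← one_fin_two]⟩, by
      change _ * _ * _ = _
      ext i j; fin_cases i <;> fin_cases j <;> simp [mul_apply, Fin.sum_univ_two]⟩
  have y2 : a0 * a0 = 1 := Subtype.ext (Units.ext a0.1.3)
  obtain ⟨D, hD⟩ := (show IsPGroup 2 (zpowers a0) from IsPGroup.of_card_dvd_pow (n := 1) (by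
    rw [Nat.card_zpowers]; exact orderOf_dvd_of_pow_eq_one (by simpa [pow_two] using y2))).exists_le_sylow
  obtain ⟨T⟩ : Nonempty (Sylow 2 (Equiv.Perm (Fin k))) := inferInstance
  obtain ⟨T'⟩ : Nonempty (Sylow 2 (alternatingGroup (Fin k))) := inferInstance
  let ρ : D →* Matrix (Fin 2) (Fin 2) F := (Units.coeHom _).comp ((Subgroup.subtype _).comp (Subgroup.subtype _))
  have hρ : Function.Injective ρ := Units.val_injective.comp (Subtype.val_injective.comp Subtype.val_injective)
  have ho : ∀ x, (ρ x)ᵀ * ρ x = 1 := fun x =>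
    (congrArg (· * ρ x) (mul_one _).symm).trans (show x.1.1.1ᵀ * 1 * x.1.1.1 = 1 from x.1.2)
  have ht : ∀ x, ρ x⁻¹ = (ρ x)ᵀ := fun x => by
    have := congrArg (· * ρ x⁻¹) (ho x)
    simp only [mul_assoc, ← map_mul, mul_inv_cancel, map_one, mul_one, one_mul] at this
    exact this.symm
  have inv : ∀ x, (ρ x).det = -1 → x * x = 1 := fun x e => by
    have e1 : ρ x⁻¹ = ρ x := by
      have a1 : ρ x⁻¹ = (ρ x)⁻¹ := (inv_eq_left_inv (by rw [← map_mul, inv_mul_cancel, map_one])).symm
      have a2 := (ht x).symm.trans a1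
      rw [inv_def, e, adjugate_fin_two] at a2
      have a3 := congrFun (congrFun a2 1) 0
      rw [ht]
      ext i j
      fin_cases i <;> fin_cases j <;> simp at a3 ⊢ <;> simp [a3]
    exact mul_eq_one_iff_inv_eq.2 (hρ e1)
  haveI : Finite (isometryGroup F Q) := inferInstance
  refine comm_sylow (f := (oEquiv h).symm.toMonoidHom.comp (θ.toMonoidHom.comp (blO T.1 ht _)))
    ((oEquiv h).symm.injective.comp (θ.injective.comp (blO_inj h2 ht _ hρ))) ?_
    (sqA_ker_O (Cfsg.Agent.S4623.result 2 k T T').1 ht _ (a := ⟨a0, hD (mem_zpowers _)⟩) (Subtype.ext y2) (fun x => ?_)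
      (o := ⟨0, by omega⟩) (o' := ⟨1, by omega⟩) (by simp)
      (Abelianization.of.comp ((oEquiv h).symm.toMonoidHom.comp θ.toMonoidHom))) P
  · rw [card_isometryGroup h, hc, Nat.card_prod, card_wr, card_syl, card_syl, val_O2 hq, Nat.card_perm]
    simp [pow_add, pow_mul]
  · have e := congrArg det (ho x)
    rw [det_mul, det_transpose, det_one] at e
    refine (mul_self_eq_one_iff.1 e).symm.imp (inv x) fun e => inv _ ?_
    rw [map_mul, det_mul, e]
    change 1 * det !![(1 : F), 0; 0, -1] = -1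
    simp

theorem omega_even {ι : Type} [Fintype ι] [DecidableEq ι] {S : Form (orthParam F) (ι → F)} {Q : (ι → F) → F}
    (h : ∀ v, S.Q v = Q v) (hS : S.Nondeg) (hq : Odd (Fintype.card F)) {m : ℕ} (hd : finrank F (ι → F) = 2 * m)
    (hm : 2 ≤ m) (hm' : (S.IsPlus ↔ Fintype.card F ^ m % 4 = 1) ∨ 3 ≤ m) (P : Sylow 2 (Omega F Q)) : SqA P := by
  have h2 := two_ne_zero_of_odd hq
  obtain ⟨m, rfl⟩ : ∃ k, m = k + 1 := ⟨m - 1, by omega⟩
  by_cases hp : S.IsPlus ↔ Fintype.card F ^ (m + 1) % 4 = 1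
  · obtain ⟨b, b1, b2⟩ := onb hS h2 hd hp
    exact omega_sq (r := 0) h hq hm b b1 (fun i _ => b2 i) ((val_even hS hq hd).1 hp) P
  obtain ⟨b, b1, -, b2⟩ := hS.orth_exists_basis h2 (n := 2 * m + 2) hd (fun _ => 1) fun _ => one_ne_zero
  exact omega_sq h hq (by have := hm'.resolve_left hp; omega) b b1 (fun i e => b2 i (by omega))
    ((val_even hS hq hd).2 hp) P

theorem omega_odd {ι : Type} [Fintype ι] [DecidableEq ι] {S : Form (orthParam F) (ι → F)} {Q : (ι → F) → F}
    (h : ∀ v, S.Q v = Q v) (hS : S.Nondeg) (hq : Odd (Fintype.card F)) {m : ℕ} (hd : finrank F (ι → F) = 2 * m + 1)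
    (hm : 2 ≤ m) (P : Sylow 2 (Omega F Q)) : SqA P := by
  have h2 := two_ne_zero_of_odd hq
  have h1 : 1 < Fintype.card F := Fintype.one_lt_card
  obtain ⟨b, b1, -, b2⟩ := hS.orth_exists_basis h2 hd (fun _ => 1) fun _ => one_ne_zero
  refine omega_sq h hq hm b b1 (fun i e => b2 i (by omega)) ?_ P
  rw [orth_card_odd m hS hd, Nat.card_eq_fintype_card,
    padicValNat.mul (by positivity) (Finset.prod_ne_zero_iff.2 fun i _ => pow_sub_ne h1 (by omega)),
    padicValNat.mul (by omega) (by positivity), val_odd_pow hq, val_prod h1 hq]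
  simp [add_comm]

end CfsgH8
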