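import Cfsg.Agent.H8.WQ3
import Cfsg.Agent.H2.MC

/-! Normal elementary abelian subgroups of wreath products. -/

set_option autoImplicit false

namespace CfsgH8

open Subgroup Matrix SemidirectProduct Cfsg

/-- the normal 2-rank is `k` -/
def NRk (W : Type*) [Group W] (k : ℕ) : Prop :=
  (∃ E : Subgroup W, E.Normal ∧ (IsMulCommutative E ∧ ∀ a ∈ E, a ^ 2 = 1) ∧ 2 ^ k ≤ Nat.card E) ∧
    ∀ E : Subgroup W, E.Normal → (IsMulCommutative E ∧ ∀ a ∈ E, a ^ 2 = 1) → Nat.card E ≤ 2 ^ k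

variable {W W' G H : Type*} [Group W] [Group W'] [Group G] [Group H]

theorem ea_map (e : W ≃* W') {E : Subgroup W} (h1 : E.Normal) (h2 : IsMulCommutative E ∧ ∀ a ∈ E, a ^ 2 = 1) :
    (E.map e.toMonoidHom).Normal ∧ (IsMulCommutative (E.map e.toMonoidHom) ∧ ∀ a ∈ E.map e.toMonoidHom, a ^ 2 = 1) ∧
      Nat.card (E.map e.toMonoidHom) = Nat.card E := by
  haveI := h2.1
  refine ⟨h1.map _ e.surjective, ⟨inferInstance, ?_⟩, card_map_of_injective e.injective⟩
  rintro _ ⟨a, ha, rfl⟩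
  rw [← map_pow, h2.2 a ha, map_one]

theorem NRk.equiv {k : ℕ} (h : NRk W k) (e : W ≃* W') : NRk W' k := by
  obtain ⟨⟨E, a, b, c⟩, h⟩ := h
  refine ⟨⟨_, (ea_map e a b).1, (ea_map e a b).2.1, (ea_map e a b).2.2 ▸ c⟩, fun E a b => ?_⟩
  exact (ea_map e.symm a b).2.2 ▸ h _ (ea_map e.symm a b).1 (ea_map e.symm a b).2.1

theorem NRk.sylow [Finite G] {k : ℕ} (h : NRk W k) {f : W →* G} (hf : Function.Injective f)
    (hc : Nat.card W = 2 ^ padicValNat 2 (Nat.card G)) (P : Sylow 2 G) : NRk P k := by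
  let U : Sylow 2 G := Sylow.ofCard f.range (by
    rw [← Nat.card_congr (MonoidHom.ofInjective hf).toEquiv, hc, Nat.factorization_def _ Nat.prime_two])
  exact h.equiv ((MonoidHom.ofInjective hf).trans (Sylow.equiv U P))

variable {X Y : Type} [Fintype X] [DecidableEq X] [Fintype Y] [DecidableEq Y] {T : Subgroup (Equiv.Perm X)}

theorem nrk_wr [Finite H] {z : H} (z1 : z ≠ 1) (z2 : z * z = 1) (zc : ∀ h, h * z = z * h) {u : H} (hu : u * u ≠ 1)
    (hz : ∀ a : H, a * a = 1 → (∀ h, Commute a (h * a * h⁻¹)) → a = 1 ∨ a = z) :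
    NRk (WrP H T × (Y → ℤˣ)) (Fintype.card X + Fintype.card Y) := by
  classical
  let E0 : Subgroup (WrP H T × (Y → ℤˣ)) :=
    { carrier := {w | w.1.right = 1 ∧ ∀ i, w.1.left i = 1 ∨ w.1.left i = z}
      mul_mem' := fun {a b} ha hb => ⟨by simp [ha.1, hb.1], fun i => by
        rcases ha.2 i with e | e <;> rcases hb.2 i with e' | e' <;> simp [ha.1, e, e', z2]⟩
      one_mem' := by simp
      inv_mem' := fun {a} ha => ⟨by simp [ha.1], fun i => by
        rcases ha.2 i with e | e <;> simp [ha.1, e, inv_eq_of_mul_eq_one_left z2]⟩ }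
  haveI : Finite (WrP H T) := Finite.of_equiv _ SemidirectProduct.equivProd.symm
  have u2 : ∀ e : Y → ℤˣ, e * e = 1 := fun e => funext fun y => Int.units_mul_self _
  have cz : ∀ a, a = 1 ∨ a = z → ∀ h, h * a = a * h := by
    rintro _ (rfl | rfl) h
    · simp
    · exact zc h
  have hc : Nat.card E0 = 2 ^ (Fintype.card X + Fintype.card Y) := by
    have : Nat.card E0 = Nat.card ((X → Bool) × (Y → ℤˣ)) := (Nat.card_congr (Equiv.ofBijective
      (fun p : (X → Bool) × (Y → ℤˣ) => (⟨(inl fun i => if p.1 i then z else 1, p.2), rfl, fun i => by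
        cases h : p.1 i <;> simp [h]⟩ : E0)) ⟨fun p q e => ?_, fun w => ?_⟩)).symm
    · rw [this]; simp [pow_add]
    · have e1 := congrArg (fun w : E0 => w.1.1.left) e
      refine Prod.ext (funext fun i => ?_) (congrArg (fun w : E0 => w.1.2) e)
      have := congrFun e1 i
      revert this
      cases h : p.1 i <;> cases h' : q.1 i <;> simp [h, h', z1, z1.symm]
    · refine ⟨(fun i => decide (w.1.1.left i = z), w.1.2), Subtype.ext (Prod.ext (SemidirectProduct.ext
        (funext fun i => ?_) w.2.1.symm) rfl)⟩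
      rcases w.2.2 i with e | e <;> simp [e, z1.symm]
  refine ⟨⟨E0, ⟨fun a ha g => ⟨by simp [ha.1], fun i => ?_⟩⟩, ⟨⟨⟨fun a b => Subtype.ext (Prod.ext (SemidirectProduct.ext
    (funext fun i => ?_) ?_) (mul_comm _ _))⟩⟩, fun a ha => ?_⟩, hc.ge⟩, fun E hE h => hc ▸ card_le_of_le fun w hw => ?_⟩
  · have : (g * a * g⁻¹).1.left i = g.1.left i * a.1.left (g.1.right.1⁻¹ i) * (g.1.left i)⁻¹ := by
      change g.1.left i * a.1.left (g.1.right.1⁻¹ i) * (g.1.left ((g.1.right⁻¹⁻¹).1 ((g.1.right * a.1.right).1⁻¹ i)))⁻¹ = _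
      simp [ha.1]
    rw [this, cz _ (ha.2 _), mul_inv_cancel_right]
    exact ha.2 _
  · simp [a.2.1, b.2.1, cz _ (a.2.2 i)]
  · simp [a.2.1, b.2.1]
  · rw [pow_two]
    refine Prod.ext (SemidirectProduct.ext (funext fun i => ?_) (by simp [ha.1])) (u2 _)
    rcases ha.2 i with e | e <;> simp [ha.1, e, z2]
  · have r1 : w.1.right = 1 := by
      refine Subtype.ext (Equiv.ext fun i => ?_)
      by_contra hi
      let t : WrP H T × (Y → ℤˣ) := (inl (Pi.mulSingle i u), 1)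
      have m := h.2 _ (mul_mem (hE.conj_mem w hw t) (inv_mem hw))
      have e : (t * w * t⁻¹ * w⁻¹).1.right = 1 := by simp [t]
      have e2 : (t * w * t⁻¹ * w⁻¹).1.left i = u := by
        have : t * w * t⁻¹ * w⁻¹ = t * (w * t⁻¹ * w⁻¹) := by group
        rw [this]
        change (Pi.mulSingle i u : X → H) i * (w.1.left i * ((Pi.mulSingle i u : X → H)⁻¹ (w.1.right.1⁻¹ i)) *
          (w.1.left ((w.1.right⁻¹⁻¹).1 ((w.1.right * 1).1⁻¹ i)))⁻¹) = u
        have : w.1.right.1⁻¹ i ≠ i := fun e => hi (Equiv.Perm.inv_eq_iff_eq.1 e).symm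
        simpa using Pi.mulSingle_eq_of_ne (M := fun _ => H) this u
      have m2 := congrArg (fun w : WrP H T × (Y → ℤˣ) => w.1.left i) m
      simp only [pow_two, Prod.fst_mul (t * w * t⁻¹ * w⁻¹), mul_left, e, map_one, MulAut.one_apply, Pi.mul_apply,
        e2] at m2
      exact hu m2
    refine ⟨r1, fun i => hz _ ?_ fun g => ?_⟩
    · have := congrArg (fun w : WrP H T × (Y → ℤˣ) => w.1.left i) (h.2 w hw)
      simpa [pow_two, r1] using this
    · have := congrArg (fun w : E => w.1.1.left i)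
        (h.1.is_comm.comm ⟨w, hw⟩ ⟨_, hE.conj_mem w hw (inl (Pi.mulSingle i g), 1)⟩)
      simpa [r1, Commute, SemiconjBy] using this

theorem nrk_qd [Finite H] (h : IsQuasiDihedral H) : NRk (WrP H T × (Y → ℤˣ)) (Fintype.card X + Fintype.card Y) := by
  obtain ⟨a, b, r, hr, h⟩ := CfsgH2.mc_top_of_qd h
  refine nrk_wr (z := a ^ (2 : ℤ) ^ (r + 1)) (fun e => by simpa [e] using h.orderOf_z) h.z_mul_self
    (fun g => h.z_central g trivial) (u := a ^ (2 : ℤ) ^ r) (fun e => by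
      simpa [h.c_mul_self.symm.trans e] using h.orderOf_z) fun x h1 h2 => ?_
  obtain ⟨i, rfl | rfl⟩ := (h.mem x).1 trivial
  · by_cases e : a ^ i = 1
    · exact .inl e
    · exact .inr (h.invol_eq_z ⟨i, rfl⟩ (orderOf_eq_prime (by rwa [pow_two]) e))
  have h3 := h2 (a ^ (1 : ℤ))
  rw [h.toIdx2.conj_b] at h3
  have h4 := h3.mul_right (Commute.refl (a ^ i * b)).inv_right
  rw [_root_.mul_inv_rev, mul_assoc, mul_inv_cancel_left, ← _root_.zpow_sub, h.commute_out_iff,
    show i + 1 - (2 ^ (r + 1) - 1) * 1 - i = 2 - (2 : ℤ) ^ (r + 1) by ring, dvd_sub_left dvd_rfl] at h4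
  have h5 := Int.le_of_dvd two_pos h4
  have : (2 : ℤ) ^ 2 ≤ 2 ^ (r + 1) := pow_le_pow_right₀ one_le_two (by omega)
  omega

theorem nrk_GL {F ι : Type*} [Field F] [Fintype F] [Fintype ι] [DecidableEq ι] [Nonempty ι] (h2 : (2 : F) ≠ 0)
    {ρ : H →* Matrix ι ι F} (hρ : Function.Injective ρ) {k n : ℕ} (h : NRk (WrP H T × (Y → ℤˣ)) k)
    (hn : Fintype.card ι * Fintype.card X + Fintype.card Y = n)
    (hc : Nat.card H ^ Fintype.card X * Nat.card T * 2 ^ Fintype.card Y = 2 ^ padicValNat 2 (Nat.card (GL (Fin n) F)))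
    (P : Sylow 2 (GL (Fin n) F)) : NRk P k := by
  let ε : (ι × X) ⊕ Y ≃ Fin n := Fintype.equivFinOfCardEq (by simpa using hn)
  refine h.sylow (f := ((reindexAlgEquiv F F ε).toMonoidHom.comp (blM T ρ Y)).toHomUnits)
    ((injective_iff_map_eq_one _).2 fun w e => ?_) (by rw [Nat.card_prod, card_wr, ← hc]; simp) P
  have e1 : fromBlocks (wrM T ρ w.1) 0 0 (diagonal fun y => ((w.2 y : ℤ) : F)) = fromBlocks 1 0 0 1 :=
    ((reindexAlgEquiv F F ε).injective ((congrArg Units.val e).trans (map_one _).symm)).trans fromBlocks_one.symm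
  obtain ⟨a, -, -, b⟩ := fromBlocks_inj.1 e1
  refine Prod.ext (wrM_inj hρ (a.trans (map_one _).symm)) (funext fun y => ?_)
  have := congrFun (congrFun b y) y
  rcases Int.units_eq_one_or (w.2 y) with e | e
  · exact e
  · simp [e] at this
    exact absurd (by linear_combination -this) h2

end CfsgH8
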