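import Cfsg.Agent.H8.WQ5
import Cfsg.Agent.H5.SpMat

/-! The normal 2-rank of a Sylow 2-subgroup of the symplectic group in odd characteristic. -/

set_option autoImplicit false

namespace CfsgH8

open Subgroup Matrix CfsgH5

theorem wrM_J {X : Type} [Fintype X] [DecidableEq X] {H F ι : Type*} [Group H] [Field F] [Fintype ι] [DecidableEq ι]
    {T : Subgroup (Equiv.Perm X)} {ρ : H →* Matrix ι ι F} {J : Matrix ι ι F} (hJ : ∀ x, ρ x * J * (ρ x)ᵀ = J)
    (w : WrP H T) : wrM T ρ w * blockDiagonal (fun _ => J) * (wrM T ρ w)ᵀ = blockDiagonal fun _ => J := by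
  ext ⟨a, i⟩ ⟨b, k⟩
  obtain ⟨i, rfl⟩ := w.right.1.surjective i
  obtain ⟨k, rfl⟩ := w.right.1.surjective k
  have := congrFun (congrFun (hJ (w.left (w.right.1 i))) a) b
  simp only [mul_apply, transpose_apply] at this
  by_cases hik : i = k
  · subst hik
    simp [wrM_apply, mul_apply, Fintype.sum_prod_type, blockDiagonal_apply, ← this]
  · simp [wrM_apply, mul_apply, Fintype.sum_prod_type, blockDiagonal_apply, hik]

theorem nrk_Sp {F : Type*} [Field F] [Fintype F] (hF : Odd (Fintype.card F)) (n : ℕ)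
    (P : Sylow 2 (symplecticGroup (Fin n) F)) : NRk P n := by
  classical
  have h1 : 1 < Fintype.card F := Fintype.one_lt_card
  have h2 : (2 : F) ≠ 0 := fun e => by
    have := FiniteField.even_card_of_char_two (CharP.ringChar_of_prime_eq_zero Nat.prime_two e)
    rw [Nat.odd_iff] at hF; omega
  let i : SpecialLinearGroup (Fin 2) F := ⟨!![0, -1; 1, 0], by simp [det_fin_two]⟩
  have i2 : i * i = -1 := by
    apply Subtype.ext; show i.1 * i.1 = -1
    ext s t; fin_cases s <;> fin_cases t <;> simp [i, mul_apply, Fin.sum_univ_two]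
  obtain ⟨Q, hQ⟩ := (show IsPGroup 2 (zpowers i) from IsPGroup.of_card_dvd_pow (n := 2) (by
    rw [Nat.card_zpowers]
    exact orderOf_dvd_of_pow_eq_one (by rw [show i ^ 2 ^ 2 = i * i * (i * i) by simp [pow_succ, mul_assoc], i2]; simp))
    ).exists_le_sylow
  obtain ⟨T⟩ : Nonempty (Sylow 2 (Equiv.Perm (Fin n))) := inferInstance
  let u : Q.1 := ⟨i, hQ (mem_zpowers _)⟩
  have hu : (u * u).1 = -1 := i2
  have u1 : u * u ≠ 1 := fun e => h2 (by
    have : (1 : F) = -1 := congrArg (fun x : SpecialLinearGroup (Fin 2) F => x.1 0 0) ((congrArg Subtype.val e).symm.trans hu)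
    linear_combination this)
  have key := nrk_wr (X := Fin n) (Y := Fin 0) (T := T.1) (z := u * u) u1
    (Subtype.ext (show (u * u).1 * (u * u).1 = 1 by rw [hu]; simp))
    (fun h => Subtype.ext (show h.1 * (u * u).1 = (u * u).1 * h.1 by rw [hu]; simp)) u1 fun a ha _ => by
      have e : a.1⁻¹ = a.1 := inv_eq_of_mul_eq_one_left (congrArg Subtype.val ha)
      have e' : adjugate a.1.1 = a.1.1 := congrArg Subtype.val e
      rw [adjugate_fin_two] at e'
      have a0 : a.1.1 1 1 = a.1.1 0 0 := congrFun (congrFun e' 0) 0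
      have a1 : a.1.1 0 1 = 0 := mul_left_cancel₀ h2 (by
        have : -a.1.1 0 1 = a.1.1 0 1 := congrFun (congrFun e' 0) 1
        linear_combination -this)
      have a2 : a.1.1 1 0 = 0 := mul_left_cancel₀ h2 (by
        have : -a.1.1 1 0 = a.1.1 1 0 := congrFun (congrFun e' 1) 0
        linear_combination -this)
      have hd := a.1.2
      rw [det_fin_two, a0, a1, zero_mul, sub_zero] at hd
      refine (mul_self_eq_one_iff.1 hd).imp (fun c => Subtype.ext (Subtype.ext ?_))
        fun c => Subtype.ext ((Subtype.ext ?_ : a.1 = -1).trans hu.symm)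
      · ext s t; fin_cases s <;> fin_cases t <;> simp [a0, a1, a2, c]
      · ext s t; fin_cases s <;> fin_cases t <;> simp [a0, a1, a2, c]
  simp only [Fintype.card_fin, add_zero] at key
  let ρ : SpecialLinearGroup (Fin 2) F →* Matrix (Fin 2) (Fin 2) F := ⟨⟨Subtype.val, rfl⟩, fun _ _ => rfl⟩
  have hJ := wrM_J (T := T.1) (ρ := ρ.comp Q.1.subtype) (J := !![0, -1; 1, 0]) fun x => by
    have hd := x.1.2
    rw [det_fin_two] at hd
    show x.1.1 * _ * x.1.1ᵀ = _
    ext a b
    fin_cases a <;> fin_cases b <;> simp [mul_apply, Fin.sum_univ_two] <;>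
      first | ring1 | linear_combination hd | linear_combination -hd
  let ε : Fin 2 × Fin n ≃ Fin n ⊕ Fin n :=
    { toFun := fun x => if x.1 = 0 then .inl x.2 else .inr x.2
      invFun := Sum.elim (fun a => (0, a)) fun a => (1, a)
      left_inv := fun ⟨a, b⟩ => by fin_cases a <;> simp
      right_inv := fun x => by rcases x with x | x <;> simp }
  have hε : reindexAlgEquiv F F ε (blockDiagonal fun _ => !![0, -1; 1, 0]) = J (Fin n) F := by
    ext a b
    rcases a with a | a <;> rcases b with b | b <;> simp [ε, J, blockDiagonal_apply, one_apply] <;>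
      split_ifs <;> simp
  let φ : WrP Q.1 T.1 →* symplecticGroup (Fin n) F :=
    ((reindexAlgEquiv F F ε).toMonoidHom.comp (wrM T.1 (ρ.comp Q.1.subtype))).codRestrict _ fun w => by
      have := congrArg (reindexAlgEquiv F F ε) (hJ w)
      rw [map_mul, map_mul, hε] at this
      exact SymplecticGroup.mem_iff.2 this
  refine (key.equiv MulEquiv.prodUnique).sylow (f := φ) (fun a b h => wrM_inj
    (Subtype.val_injective.comp Subtype.val_injective) ((reindexAlgEquiv F F ε).injective (congrArg Subtype.val h))) ?_ P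
  rw [card_wr, card_syl, card_syl, card_sp, card_SL_two, Nat.card_eq_fintype_card (α := F), Nat.card_perm,
    padicValNat.mul (by positivity) (pow_sub_ne h1 two_ne_zero),
    padicValNat.mul (by positivity) (Finset.prod_ne_zero_iff.2 fun i _ => pow_sub_ne h1 (by omega)), val_prod h1 hF,
    val_odd_pow hF, padicValNat.eq_zero_of_not_dvd hF.not_two_dvd_nat]
  simp [pow_add, pow_mul]

end CfsgH8
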